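import Groth.Agent.FunFld.Weil
import Mathlib.FieldTheory.IsAlgClosed.Basic
import Mathlib.Data.Set.Card

/-! Applications: rational function fields, gaps. -/

namespace Groth.Agent.FunFld

open _root_.FunFld WithZero IsLocalRing Finset

variable {k K : Type*} [Field k] [Field K] [Algebra k K] (hK : IsFunctionField k K)
include hK

theorem zeros_sum {x : K} (hx : Transcendental k x) :
    (∑ P ∈ (div k x).support with 0 < div k x P, div k x P * (P.deg : ℤ)) =
      Module.finrank (IntermediateField.adjoin k ({x} : Set K)) K := by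
  have hx' : Transcendental k x⁻¹ := fun h => hx (inv_inv x ▸ h.inv)
  rw [← finrank_adjoin_inv hK x, ← deg_poles hK hx']
  have hp : ∀ P, poles k x⁻¹ P = max (div k x P) 0 := fun P => by
    rw [poles_apply hK, ord_inv, neg_neg, div_apply hK]
  rw [Divisor.deg, Finsupp.sum_of_support_subset (s := (div k x).support) _ ?_ _ (by simp)]
  · rw [sum_filter]
    refine sum_congr rfl fun P _ => ?_
    rw [hp]
    split_ifs with h
    · rw [max_eq_left h.le]
    · rw [max_eq_right (not_lt.1 h), zero_mul]
  · intro P hP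
    rw [Finsupp.mem_support_iff, hp] at hP
    rw [Finsupp.mem_support_iff]
    intro e; rw [e] at hP; exact hP (max_self 0)

theorem adjoin_eq_top_of_deg_poles {x : K} (hx : Transcendental k x) (h : (poles k x).deg ≤ 1) :
    IntermediateField.adjoin k ({x} : Set K) = ⊤ := by
  have := finite_adjoin hK hx
  rw [deg_poles hK hx] at h
  have h0 : 0 < Module.finrank (IntermediateField.adjoin k ({x} : Set K)) K := Module.finrank_pos
  have h1 : Module.finrank (IntermediateField.adjoin k ({x} : Set K)) K = 1 := by omega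
  rw [eq_top_iff]
  intro z _
  obtain ⟨c, hc⟩ := (finrank_eq_one_iff_of_nonzero' (K := IntermediateField.adjoin k ({x} : Set K))
    (1 : K) one_ne_zero).1 h1 z
  rw [← hc]
  exact mul_mem c.2 (one_mem _)

theorem rational_props {x : K} (h : IntermediateField.adjoin k ({x} : Set K) = ⊤) :
    Transcendental k x ∧ genus k K = 0 ∧ ∃ P : Place k K, P.deg = 1 ∧ P.ord x = -1 ∧
      ∀ Q, Q ≠ P → 0 ≤ Q.ord x := by
  classical
  have htr : Transcendental k x := by
    obtain ⟨y, hy, -⟩ := hK.1
    refine transcendental_of_not_mem hK fun hx => hy ?_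
    obtain ⟨c, rfl⟩ := hx
    have hm : y ∈ IntermediateField.adjoin k ({algebraMap k K c} : Set K) := h ▸ trivial
    rw [IntermediateField.adjoin_simple_eq_bot_iff.2 (IntermediateField.algebraMap_mem _ c),
      IntermediateField.mem_bot] at hm
    obtain ⟨d, rfl⟩ := hm
    exact isAlgebraic_algebraMap d
  have hn : Module.finrank (IntermediateField.adjoin k ({x} : Set K)) K = 1 := by
    rw [h, IntermediateField.finrank_top]
  have hdeg := deg_poles hK htr
  rw [hn] at hdeg
  obtain ⟨P, hP⟩ := exists_pole hK htr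
  have hle : Finsupp.single P 1 ≤ poles k x := fun Q => by
    rcases eq_or_ne Q P with rfl | hQ
    · rw [Finsupp.single_eq_same, poles_apply hK]; omega
    · rw [Finsupp.single_eq_of_ne hQ, poles_apply hK]; omega
  have hdP : (1 : ℤ) ≤ P.deg := by exact_mod_cast deg_pos hK P
  have e : Finsupp.single P 1 = poles k x :=
    eq_of_le_of_deg hK hle (by rw [deg_single, hdeg]; simpa using hdP)
  have hP1 : P.deg = 1 := by
    rw [← e, deg_single, one_mul] at hdeg
    exact_mod_cast hdeg
  refine ⟨htr, ?_, P, hP1, ?_, fun Q hQ => ?_⟩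
  · obtain ⟨D, -, hD⟩ := exists_delta_eq_genus hK
    obtain ⟨u, hu, l, hl⟩ := exists_le_nsmul_poles hK htr D
    have h1 := delta_mono hK hl
    rw [delta_add_div hK D hu, hD] at h1
    have h2 : (l + 1 : ℤ) ≤ ell (l • poles k x) := by
      have hli : LinearIndependent k fun j : Fin (l + 1) => x ^ (j : ℕ) := by
        rw [Fintype.linearIndependent_iff]
        intro c hc j
        by_contra hne
        refine htr ⟨∑ i : Fin (l + 1), Polynomial.monomial (i : ℕ) (c i), fun hp => hne ?_, ?_⟩
        · have := congrArg (fun p => Polynomial.coeff p (j : ℕ)) hp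
          simpa [Polynomial.finsetSum_coeff, Polynomial.coeff_monomial, Fin.val_inj] using this
        · simpa [Algebra.smul_def, Polynomial.aeval_monomial] using hc
      have := card_le_ell hK hli (D := l • poles k x) fun j => by
        have := pow_mul_mem hK (C := 0) (z := 1) (fun Q => by simp) l (j : ℕ) (x := x) (by omega)
        rwa [mul_one, add_zero] at this
      rw [Fintype.card_fin] at this
      exact_mod_cast this
    rw [delta, deg_nsmul, ← e, deg_single, hP1] at h1
    rw [← e] at h2
    push_cast at h1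
    omega
  · have := DFunLike.congr_fun e P
    rw [Finsupp.single_eq_same, poles_apply hK] at this
    omega
  · have := DFunLike.congr_fun e Q
    rw [Finsupp.single_eq_of_ne hQ, poles_apply hK] at this
    omega

theorem adjoin_eq_top_of_simple_pole {x : K} {P : Place k K} (hP : P.deg = 1) (hord : P.ord x = -1)
    (h : ∀ Q, Q ≠ P → 0 ≤ Q.ord x) : IntermediateField.adjoin k ({x} : Set K) = ⊤ := by
  have hx : Transcendental k x := mem_range_of_ord hK (by rw [hord]; decide)
  refine adjoin_eq_top_of_deg_poles hK hx (le_of_eq ?_)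
  rw [show poles k x = Finsupp.single P (1 : ℤ) from Finsupp.ext fun Q => by
    rw [poles_apply hK]
    rcases eq_or_ne Q P with rfl | hQ
    · rw [Finsupp.single_eq_same, hord]; decide
    · rw [Finsupp.single_eq_of_ne hQ]; have := h Q hQ; omega, deg_single, hP]
  norm_num

theorem genus_zero_exists_generator (hg : genus k K = 0) (P : Place k K) (hP : P.deg = 1) :
    ∃ x : K, IntermediateField.adjoin k ({x} : Set K) = ⊤ := by
  set D : Divisor k K := Finsupp.single P 1
  have hd : D.deg = 1 := by simp [D, deg_single, hP]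
  have hl := ell_eq_of_deg_ge hK (D := D) (by omega)
  have : ¬ L D ≤ L 0 := fun hle => by
    have := L_finite hK (0 : Divisor k K)
    have h1 : ell D ≤ ell (0 : Divisor k K) := Submodule.finrank_mono hle
    rw [ell_zero hK] at h1
    omega
  obtain ⟨x, hxD, hx0⟩ := SetLike.not_le_iff_exists.1 this
  refine ⟨x, adjoin_eq_top_of_deg_poles hK (transcendental_of_not_mem hK fun hx => hx0 ?_) ?_⟩
  · obtain ⟨c, rfl⟩ := hx
    intro Q; simpa using Q.2.1 c
  · refine le_trans (le_of_eq_of_le rfl ?_) hd.le
    have h2 : 0 ≤ D - poles k x := by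
      intro Q
      have hx00 : x ≠ 0 := fun e => hx0 (e ▸ zero_mem _)
      have := hxD Q
      rw [le_exp_iff Q hx00] at this
      have hDQ : 0 ≤ D Q := Finsupp.single_nonneg.2 zero_le_one Q
      rw [Finsupp.sub_apply, poles_apply hK, Finsupp.coe_zero, Pi.zero_apply]; omega
    have := deg_nonneg h2
    rw [deg_sub] at this
    omega

theorem place_eq_of_single_sub (hg : 0 < genus k K) {P P' : Place k K} (hP : P.deg = 1)
    (hP' : P'.deg = 1) {x : K} (h : Finsupp.single P 1 - Finsupp.single P' 1 = div k x) : P = P' := by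
  by_contra hne
  have hord : ∀ Q : Place k K, Q.ord x = (Finsupp.single P (1 : ℤ) - Finsupp.single P' 1 : Divisor k K) Q := fun Q => by
    rw [h, div_apply hK]
  have htop := adjoin_eq_top_of_simple_pole hK hP' (x := x) (by
    rw [hord, Finsupp.sub_apply, Finsupp.single_eq_same, Finsupp.single_eq_of_ne (Ne.symm hne)]; norm_num)
    fun Q hQ => by
      rw [hord, Finsupp.sub_apply, Finsupp.single_eq_of_ne hQ, sub_zero]
      exact Finsupp.single_nonneg.2 zero_le_one Q
  have := (rational_props hK htop).2.1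
  omega

theorem deg_eq_one [IsAlgClosed k] (P : Place k K) : P.deg = 1 := by
  refine finrank_eq_one (1 : ResidueField P.O) one_ne_zero fun w => ?_
  have hfin := residue_finite hK P
  have hint : IsIntegral k w := @IsIntegral.of_finite k (ResidueField P.O) _ _ _ hfin _
  obtain ⟨c, hc⟩ := minpoly.mem_range_of_degree_eq_one k w
    (IsAlgClosed.degree_eq_one_of_irreducible k (minpoly.irreducible hint))
  refine ⟨c, ?_⟩
  rw [← hc]
  exact (Algebra.algebraMap_eq_smul_one c).symm

theorem ell_add_single_le (D : Divisor k K) (P : Place k K) :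
    ell D ≤ ell (D + Finsupp.single P 1) ∧ ell (D + Finsupp.single P 1) ≤ ell D + P.deg := by
  have h : D ≤ D + Finsupp.single P 1 := le_add_of_nonneg_right (Finsupp.single_nonneg.2 zero_le_one)
  refine ⟨ell_mono hK h, ?_⟩
  have := ell_sub_le hK h
  rw [deg_add, deg_single] at this
  omega

theorem L_eq_iff {D E : Divisor k K} (h : D ≤ E) : L E = L D ↔ ell E = ell D := by
  refine ⟨fun e => by rw [ell, ell, e], fun e => ?_⟩
  have := L_finite hK E
  exact (Submodule.eq_of_le_of_finrank_eq (L_mono h) e.symm).symm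

/-- The gaps at a point in `[1, n]`. -/
noncomputable def gaps (P : Place k K) (n : ℕ) : Finset ℕ :=
  open scoped Classical in
  (Finset.Icc 1 n).filter fun m : ℕ =>
    L (Finsupp.single P (m : ℤ)) = L (Finsupp.single P ((m : ℤ) - 1))

theorem ell_add_gaps [IsAlgClosed k] (P : Place k K) (n : ℕ) :
    ell (Finsupp.single P (n : ℤ)) + (gaps P n).card = n + 1 := by
  classical
  induction n with
  | zero => simp [gaps, ell_zero hK]
  | succ n ih =>
    have e : (Finsupp.single P ((n + 1 : ℕ) : ℤ) : Divisor k K) = Finsupp.single P (n : ℤ) + Finsupp.single P 1 := by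
      rw [Nat.cast_succ, Finsupp.single_add]
    have hb := ell_add_single_le hK (Finsupp.single P (n : ℤ)) P
    rw [← e, deg_eq_one hK P] at hb
    have hm : (((n + 1 : ℕ) : ℤ) - 1) = (n : ℤ) := by push_cast; ring
    have hle : (Finsupp.single P (n : ℤ) : Divisor k K) ≤ Finsupp.single P ((n + 1 : ℕ) : ℤ) :=
      e ▸ le_add_of_nonneg_right (Finsupp.single_nonneg.2 zero_le_one)
    have hIcc : Finset.Icc 1 (n + 1) = insert (n + 1) (Finset.Icc 1 n) := by ext; simp; omega
    have hg : gaps P (n + 1) = if L (Finsupp.single P ((n + 1 : ℕ) : ℤ)) = L (Finsupp.single P (n : ℤ))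
        then insert (n + 1) (gaps P n) else gaps P n := by
      simp only [gaps, hIcc, filter_insert, hm]
    rw [hg]
    split_ifs with hL
    · rw [card_insert_of_notMem (by simp [gaps])]
      have := (L_eq_iff hK hle).1 hL
      omega
    · have : ell (Finsupp.single P ((n + 1 : ℕ) : ℤ)) ≠ ell (Finsupp.single P (n : ℤ)) :=
        fun e' => hL ((L_eq_iff hK hle).2 e')
      omega

theorem nongap_of_add [IsAlgClosed k] {P : Place k K} {a b : ℕ}
    (ha : L (Finsupp.single P (a : ℤ)) ≠ L (Finsupp.single P ((a : ℤ) - 1)))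
    (hb : L (Finsupp.single P (b : ℤ)) ≠ L (Finsupp.single P ((b : ℤ) - 1))) :
    L (Finsupp.single P ((a + b : ℕ) : ℤ)) ≠ L (Finsupp.single P (((a + b : ℕ) : ℤ) - 1)) := by
  classical
  have key : ∀ m : ℕ, L (Finsupp.single P (m : ℤ)) ≠ L (Finsupp.single P ((m : ℤ) - 1)) →
      ∃ x : K, x ∈ L (Finsupp.single P (m : ℤ)) ∧ P.1 x = exp (m : ℤ) := by
    intro m hm
    have hle : (Finsupp.single P ((m : ℤ) - 1) : Divisor k K) ≤ Finsupp.single P (m : ℤ) :=
      Finsupp.single_le_single.2 (by omega)
    obtain ⟨x, hx, hx'⟩ := SetLike.exists_of_lt (lt_of_le_of_ne (L_mono hle) hm.symm)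
    refine ⟨x, hx, le_antisymm (by simpa using hx P) (not_lt.1 fun hlt => hx' fun Q => ?_)⟩
    rcases eq_or_ne Q P with rfl | hQ
    · rw [Finsupp.single_eq_same]
      rcases eq_or_ne x 0 with rfl | hx0
      · simp
      · rw [val_eq_exp Q hx0, exp_lt_exp] at hlt
        rw [le_exp_iff Q hx0]; omega
    · have := hx Q
      rwa [Finsupp.single_eq_of_ne hQ] at this ⊢
  obtain ⟨x, hx, hxv⟩ := key a ha
  obtain ⟨y, hy, hyv⟩ := key b hb
  intro e
  have hmem : x * y ∈ L (Finsupp.single P ((a + b : ℕ) : ℤ)) := fun Q => by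
    rw [map_mul, Nat.cast_add, Finsupp.single_add, Finsupp.add_apply, exp_add]
    exact mul_le_mul' (hx Q) (hy Q)
  rw [e] at hmem
  have := hmem P
  rw [map_mul, hxv, hyv, ← exp_add, Finsupp.single_eq_same, exp_le_exp] at this
  omega

theorem sub_one_le_two_mul_gaps [IsAlgClosed k] (P : Place k K) {G : ℕ}
    (hG : L (Finsupp.single P (G : ℤ)) = L (Finsupp.single P ((G : ℤ) - 1))) :
    G - 1 ≤ 2 * (gaps P (G - 1)).card := by
  classical
  set A := gaps P (G - 1)
  set B := Finset.Icc 1 (G - 1) \ A
  have hsub : A ⊆ Finset.Icc 1 (G - 1) := filter_subset _ _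
  have hcard : B.card + A.card = G - 1 := by
    rw [card_sdiff_of_subset hsub, Nat.card_Icc]
    have := card_le_card hsub
    rw [Nat.card_Icc] at this
    omega
  have hle : B.card ≤ A.card := by
    refine card_le_card_of_injOn (fun m => G - m) (fun m hm => ?_) fun a ha b hb e => ?_
    · simp only [B, A, gaps, Finset.mem_coe, Finset.mem_sdiff, Finset.mem_filter, Finset.mem_Icc, not_and] at hm ⊢
      refine ⟨by omega, by_contra fun hng => ?_⟩
      have hm' := hm.2 ⟨hm.1.1, hm.1.2⟩
      have := nongap_of_add hK hm' hng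
      rw [show m + (G - m) = G by omega] at this
      exact this hG
    · simp only [B, Finset.mem_coe, Finset.mem_sdiff, Finset.mem_Icc] at ha hb
      simp only at e
      omega
  omega

theorem exists_gap_gt_of_lt [IsAlgClosed k] (P : Place k K) {n : ℕ}
    (h : (gaps P n).card < genus k K) :
    ∃ G, n < G ∧ L (Finsupp.single P (G : ℤ)) = L (Finsupp.single P ((G : ℤ) - 1)) ∧
      (gaps P (G - 1)).card = (gaps P n).card := by
  classical
  have hex : ∃ G, n < G ∧ L (Finsupp.single P (G : ℤ)) = L (Finsupp.single P ((G : ℤ) - 1)) := by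
    by_contra hc
    push Not at hc
    set N := n + 2 * genus k K
    have h1 := ell_add_gaps hK P N
    have h2 : gaps P N = gaps P n := by
      ext m
      simp only [gaps, Finset.mem_filter, Finset.mem_Icc]
      refine ⟨fun hm => ⟨⟨hm.1.1, ?_⟩, hm.2⟩, fun hm => ⟨⟨hm.1.1, by omega⟩, hm.2⟩⟩
      by_contra hlt
      exact hc m (not_le.1 hlt) hm.2
    rw [h2] at h1
    have h3 := ell_eq_of_deg_ge hK (D := Finsupp.single P (N : ℤ))
      (by rw [deg_single, deg_eq_one hK P]; push_cast; omega)
    rw [deg_single, deg_eq_one hK P] at h3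
    push_cast at h3
    omega
  refine ⟨Nat.find hex, (Nat.find_spec hex).1, (Nat.find_spec hex).2, congrArg Finset.card ?_⟩
  have := (Nat.find_spec hex).1
  ext m
  simp only [gaps, Finset.mem_filter, Finset.mem_Icc]
  refine ⟨fun hm => ⟨⟨hm.1.1, ?_⟩, hm.2⟩, fun hm => ⟨⟨hm.1.1, by omega⟩, hm.2⟩⟩
  by_contra hlt
  exact Nat.find_min hex (show m < _ by omega) ⟨not_le.1 hlt, hm.2⟩

omit hK in
theorem coe_gaps (P : Place k K) (n : ℕ) :
    Set.ncard {m : ℕ | 1 ≤ m ∧ m ≤ n ∧
      L (Finsupp.single P (m : ℤ)) = L (Finsupp.single P ((m : ℤ) - 1))} = (gaps P n).card := by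
  classical
  rw [← Set.ncard_coe_finset]
  congr 1
  ext m
  simp only [gaps, Finset.coe_filter, Finset.mem_Icc, Set.mem_ofPred_eq]
  tauto

end Groth.Agent.FunFld
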