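import Groth.Prelude.Def_W4bk4goldsch23FF
import Mathlib.RingTheory.Valuation.LocalSubring
import Mathlib.RingTheory.Valuation.ValuationRing
import Mathlib.RingTheory.DiscreteValuationRing.Basic
import Mathlib.RingTheory.DedekindDomain.AdicValuation
import Mathlib.RingTheory.Valuation.Discrete.IsDiscreteValuationRing
import Mathlib.RingTheory.Localization.Module
import Mathlib.FieldTheory.IntermediateField.Adjoin.Algebra
import Mathlib.Tactic.LinearCombination

/-! Places of a function field: valuations, approximation, residue fields, existence. -/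

namespace Groth.Agent.FunFld

open _root_.FunFld WithZero IsLocalRing Polynomial Finset

variable {k K : Type*} [Field k] [Field K] [Algebra k K]

/-! ### Valuation arithmetic -/

theorem val_eq_exp (P : Place k K) {x : K} (hx : x ≠ 0) : P.1 x = exp (-P.ord x) := by
  rw [Place.ord, neg_neg, exp_log (P.1.ne_zero_iff.2 hx)]

theorem ord_eq_of_val (P : Place k K) {x : K} {n : ℤ} (h : P.1 x = exp n) : P.ord x = -n := by
  rw [Place.ord, h, log_exp]

theorem ord_zero (P : Place k K) : P.ord 0 = 0 := by simp [Place.ord]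

theorem ne_zero_of_val (P : Place k K) {x : K} {n : ℤ} (h : P.1 x = exp n) : x ≠ 0 :=
  P.1.ne_zero_iff.1 (h ▸ exp_ne_zero)

theorem exists_val (P : Place k K) (n : ℤ) : ∃ x : K, P.1 x = exp n := P.2.2 _

theorem val_algebraMap (P : Place k K) {c : k} (hc : c ≠ 0) : P.1 (algebraMap k K c) = 1 := by
  refine le_antisymm (P.2.1 c) ?_
  have h := mul_le_mul' (P.2.1 c⁻¹) (le_refl (P.1 (algebraMap k K c)))
  rwa [← map_mul, ← map_mul, inv_mul_cancel₀ hc, map_one, map_one, one_mul] at h

theorem val_smul (P : Place k K) {c : k} (hc : c ≠ 0) (x : K) : P.1 (c • x) = P.1 x := by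
  rw [Algebra.smul_def, map_mul, val_algebraMap P hc, one_mul]

theorem val_smul_le (P : Place k K) (c : k) (x : K) : P.1 (c • x) ≤ P.1 x := by
  rw [Algebra.smul_def, map_mul]
  exact (mul_le_mul' (P.2.1 c) le_rfl).trans_eq (one_mul _)

theorem le_exp_iff (P : Place k K) {x : K} (hx : x ≠ 0) {n : ℤ} :
    P.1 x ≤ exp n ↔ -n ≤ P.ord x := by
  rw [val_eq_exp P hx, exp_le_exp]; omega

theorem ord_mul (P : Place k K) {x y : K} (hx : x ≠ 0) (hy : y ≠ 0) :
    P.ord (x * y) = P.ord x + P.ord y := by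
  simp only [Place.ord, map_mul]
  rw [log_mul (P.1.ne_zero_iff.2 hx) (P.1.ne_zero_iff.2 hy)]; ring

theorem ord_inv (P : Place k K) (x : K) : P.ord x⁻¹ = -P.ord x := by
  simp [Place.ord, log_inv]

theorem ord_pow (P : Place k K) (x : K) (n : ℕ) : P.ord (x ^ n) = n * P.ord x := by
  simp [Place.ord, log_pow]

theorem ord_algebraMap (P : Place k K) (c : k) : P.ord (algebraMap k K c) = 0 := by
  rcases eq_or_ne c 0 with rfl | hc
  · rw [map_zero, ord_zero]
  · rw [Place.ord, val_algebraMap P hc, log_one, neg_zero]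

theorem ord_pos_iff (P : Place k K) {x : K} (hx : x ≠ 0) : 0 < P.ord x ↔ P.1 x < 1 := by
  rw [val_eq_exp P hx, ← exp_zero, exp_lt_exp]; omega

theorem ord_nonneg_iff (P : Place k K) {x : K} (hx : x ≠ 0) : 0 ≤ P.ord x ↔ P.1 x ≤ 1 := by
  rw [val_eq_exp P hx, ← exp_zero, exp_le_exp]; omega

theorem lt_one_iff_le (P : Place k K) {x : K} : P.1 x < 1 ↔ P.1 x ≤ exp (-1) := by
  rcases eq_or_ne x 0 with rfl | hx
  · simp
  · rw [val_eq_exp P hx, ← exp_zero, exp_lt_exp, exp_le_exp]; omega

theorem val_pow_eq (P : Place k K) {x : K} (hx : x ≠ 0) (r : ℕ) :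
    P.1 (x ^ r) = exp (-(r * P.ord x)) := by
  rw [val_eq_exp P (pow_ne_zero r hx), ord_pow]

theorem val_aeval_le (P : Place k K) {x : K} (hx : P.1 x ≤ 1) (p : k[X]) :
    P.1 (aeval x p) ≤ 1 := by
  induction p using Polynomial.induction_on' with
  | add a b ha hb => rw [map_add]; exact (P.1.map_add _ _).trans (max_le ha hb)
  | monomial n c =>
    rw [aeval_monomial, map_mul, map_pow]
    exact mul_le_one' (P.2.1 c) (pow_le_one' hx n)

theorem val_algebraMap_sum_le (P : Place k K) {ι : Type*} (s : Finset ι) (f : ι → K)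
    {g : WithZero (Multiplicative ℤ)} (h : ∀ i ∈ s, P.1 (f i) ≤ g) : P.1 (∑ i ∈ s, f i) ≤ g :=
  P.1.map_sum_le h

/-- A place is determined by its valuation ring, which is maximal. -/
theorem eq_of_le {P Q : Place k K} (h : ∀ x, P.1 x ≤ 1 → Q.1 x ≤ 1) : P = Q := by
  have hiff : ∀ x, P.1 x ≤ 1 ↔ Q.1 x ≤ 1 := by
    refine fun x => ⟨h x, fun hQ => ?_⟩
    by_contra hP
    push Not at hP
    have hx : x ≠ 0 := fun e => by simp [e] at hP
    obtain ⟨z, hz⟩ := exists_val Q 1
    have hz0 := ne_zero_of_val Q hz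
    have hox : P.ord x < 0 := by
      by_contra hc; exact absurd ((ord_nonneg_iff P hx).1 (not_lt.1 hc)) (not_le.2 hP)
    have hr : P.1 (z * (x ^ (P.ord z).natAbs)⁻¹) ≤ 1 := by
      rw [← ord_nonneg_iff P (mul_ne_zero hz0 (inv_ne_zero (pow_ne_zero _ hx))),
        ord_mul P hz0 (inv_ne_zero (pow_ne_zero _ hx)), ord_inv, ord_pow]
      have : ((P.ord z).natAbs : ℤ) * P.ord x ≤ -((P.ord z).natAbs : ℤ) := by nlinarith
      omega
    have h1 := h _ hr
    rw [← ord_nonneg_iff Q (mul_ne_zero hz0 (inv_ne_zero (pow_ne_zero _ hx))),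
      ord_mul Q hz0 (inv_ne_zero (pow_ne_zero _ hx)), ord_inv, ord_pow, ord_eq_of_val Q hz] at h1
    have := (ord_nonneg_iff Q hx).2 hQ
    nlinarith
  obtain ⟨π, hπ⟩ := exists_val P (-1)
  have hπ0 := ne_zero_of_val P hπ
  have key : ∀ z, z ≠ 0 → Q.ord z = P.ord z * Q.ord π := by
    intro z hz
    have hu : z * (π ^ P.ord z)⁻¹ ≠ 0 := mul_ne_zero hz (inv_ne_zero (zpow_ne_zero _ hπ0))
    have hP0 : P.1 (z * (π ^ P.ord z)⁻¹) = 1 := by
      rw [map_mul, map_inv₀, map_zpow₀, hπ, val_eq_exp P hz, ← exp_zsmul, ← exp_neg, ← exp_add]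
      simp
    have hQ0 : Q.1 (z * (π ^ P.ord z)⁻¹) = 1 := by
      refine le_antisymm ((hiff _).1 hP0.le) ?_
      have := (hiff (z * (π ^ P.ord z)⁻¹)⁻¹).1 (by rw [map_inv₀, hP0, inv_one])
      rwa [map_inv₀, inv_le_one₀ (zero_lt_iff.2 (Q.1.ne_zero_iff.2 hu))] at this
    rw [map_mul, map_inv₀, map_zpow₀, mul_inv_eq_one₀ (zpow_ne_zero _ (Q.1.ne_zero_iff.2 hπ0))] at hQ0
    rw [Place.ord, hQ0, log_zpow, smul_eq_mul]; simp only [Place.ord]; ring
  have hone : Q.ord π = 1 := by
    obtain ⟨z, hz⟩ := exists_val Q (-1)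
    have := key z (ne_zero_of_val Q hz)
    rw [ord_eq_of_val Q hz, neg_neg] at this
    have hnn : 0 ≤ Q.ord π := (ord_nonneg_iff Q hπ0).2
      ((hiff π).1 (by rw [hπ, ← exp_zero, exp_le_exp]; omega))
    exact Int.eq_one_of_mul_eq_one_left hnn this.symm
  refine Subtype.ext (Valuation.ext fun z => ?_)
  rcases eq_or_ne z 0 with rfl | hz
  · simp
  · rw [val_eq_exp P hz, val_eq_exp Q hz, key z hz, hone, mul_one]

/-! ### Approximation -/

theorem exists_sep (P : Place k K) (s : Finset (Place k K)) (hs : P ∉ s) :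
    ∃ z : K, P.1 z < 1 ∧ ∀ Q ∈ s, 1 < Q.1 z := by
  classical
  have two : ∀ P Q : Place k K, P ≠ Q → ∃ z : K, P.1 z < 1 ∧ 1 < Q.1 z := by
    intro P Q hPQ
    obtain ⟨a, ha, ha'⟩ : ∃ a, P.1 a ≤ 1 ∧ 1 < Q.1 a := by
      by_contra hc; push Not at hc; exact hPQ (eq_of_le hc)
    obtain ⟨b, hb, hb'⟩ : ∃ b, Q.1 b ≤ 1 ∧ 1 < P.1 b := by
      by_contra hc; push Not at hc; exact hPQ (eq_of_le hc).symm
    have hb0 : b ≠ 0 := fun e => by simp [e] at hb'
    refine ⟨a / b, ?_, ?_⟩
    · rw [map_div₀, div_lt_one₀ (zero_lt_one.trans hb')]; exact ha.trans_lt hb'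
    · rw [map_div₀, one_lt_div₀ (zero_lt_iff.2 (Q.1.ne_zero_iff.2 hb0))]; exact hb.trans_lt ha'
  induction s using Finset.induction_on with
  | empty => exact ⟨0, by simp, by simp⟩
  | @insert R s hR ih =>
    rw [Finset.mem_insert, not_or] at hs
    obtain ⟨z, hz, hzs⟩ := ih hs.2
    by_cases hzR : 1 < R.1 z
    · exact ⟨z, hz, (Finset.forall_mem_insert _ _ _).2 ⟨hzR, hzs⟩⟩
    obtain ⟨w, hw, hwR⟩ := two P R hs.1
    have hw0 : w ≠ 0 := fun e => by simp [e] at hwR
    obtain ⟨r, hr⟩ := (s.image fun Q : Place k K => (Q.ord z).natAbs).bddAbove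
    refine ⟨z + w ^ (r + 1), ?_, (Finset.forall_mem_insert _ _ _).2 ⟨?_, fun Q hQ => ?_⟩⟩
    · refine lt_of_le_of_lt (P.1.map_add _ _) (max_lt hz ?_)
      rw [map_pow]; exact pow_lt_one' hw r.succ_ne_zero
    · have h1 : 1 < R.1 (w ^ (r + 1)) := by rw [map_pow]; exact one_lt_pow' hwR r.succ_ne_zero
      rw [R.1.map_add_eq_of_lt_right ((not_lt.1 hzR).trans_lt h1)]; exact h1
    · have hzQ := hzs Q hQ
      have hz0 : z ≠ 0 := fun e => by simp [e] at hzQ
      have hoz : Q.ord z < 0 := by
        by_contra hc; exact absurd ((ord_nonneg_iff Q hz0).1 (not_lt.1 hc)) (not_le.2 hzQ)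
      have hrQ : (Q.ord z).natAbs ≤ r := hr (Finset.mem_image_of_mem _ hQ)
      rcases le_or_gt (Q.1 w) 1 with h1 | h1
      · rw [Q.1.map_add_eq_of_lt_left]
        · exact hzQ
        · rw [map_pow]; exact (pow_le_one' h1 _).trans_lt hzQ
      · have how : Q.ord w < 0 := by
          by_contra hc; exact absurd ((ord_nonneg_iff Q hw0).1 (not_lt.1 hc)) (not_le.2 h1)
        rw [Q.1.map_add_eq_of_lt_right]
        · rw [map_pow]; exact one_lt_pow' h1 r.succ_ne_zero
        · rw [val_eq_exp Q hz0, val_pow_eq Q hw0, exp_lt_exp]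
          push_cast
          nlinarith [(show -Q.ord z ≤ (r : ℤ) by omega)]

theorem exists_approx_one (P : Place k K) (s : Finset (Place k K)) (hs : P ∉ s) (M : ℕ) :
    ∃ e : K, P.1 (e - 1) ≤ exp (-(M : ℤ)) ∧ ∀ Q ∈ s, Q.1 e ≤ exp (-(M : ℤ)) := by
  obtain ⟨z, hz, hzs⟩ := exists_sep P s hs
  have hpow : P.1 (z ^ (M + 1)) < 1 := by rw [map_pow]; exact pow_lt_one' hz M.succ_ne_zero
  have h1 : P.1 (1 + z ^ (M + 1)) = 1 := by
    rw [P.1.map_add_eq_of_lt_left (by rw [map_one]; exact hpow), map_one]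
  have hne : 1 + z ^ (M + 1) ≠ 0 := fun e => by simp [e] at h1
  refine ⟨(1 + z ^ (M + 1))⁻¹, ?_, fun Q hQ => ?_⟩
  · rw [show (1 + z ^ (M + 1))⁻¹ - 1 = -(z ^ (M + 1)) * (1 + z ^ (M + 1))⁻¹ by field_simp; ring,
      map_mul, map_inv₀, h1, inv_one, mul_one, Valuation.map_neg]
    rcases eq_or_ne z 0 with rfl | hz0
    · simp
    · rw [val_pow_eq P hz0, exp_le_exp]
      have := (ord_pos_iff P hz0).2 hz
      push_cast
      nlinarith
  · have hzQ := hzs Q hQ
    have hz0 : z ≠ 0 := fun e => by simp [e] at hzQ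
    have hoz : Q.ord z < 0 := by
      by_contra hc; exact absurd ((ord_nonneg_iff Q hz0).1 (not_lt.1 hc)) (not_le.2 hzQ)
    have h2 : 1 < Q.1 (z ^ (M + 1)) := by rw [map_pow]; exact one_lt_pow' hzQ M.succ_ne_zero
    rw [map_inv₀, Q.1.map_add_eq_of_lt_right (by rw [map_one]; exact h2), val_pow_eq Q hz0,
      ← exp_neg, exp_le_exp]
    push_cast
    nlinarith

/-- Weak approximation. -/
theorem exists_approx (s : Finset (Place k K)) (x : Place k K → K) (M : ℤ) :
    ∃ y : K, ∀ P ∈ s, P.1 (y - x P) ≤ exp M := by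
  classical
  obtain ⟨B, hB⟩ := ((s ×ˢ s).image fun p => (p.1.ord (x p.2)).natAbs).bddAbove
  set N : ℕ := B + M.natAbs
  choose e he1 he2 using fun P : s =>
    exists_approx_one (P : Place k K) (s.erase P) (Finset.notMem_erase _ _) N
  refine ⟨∑ P : s, x P * e P, fun Q hQ => ?_⟩
  have hQ' : (⟨Q, hQ⟩ : s) ∈ (univ : Finset s) := mem_univ _
  rw [← add_sum_erase _ _ hQ', add_sub_right_comm, ← mul_sub_one]
  have hb : ∀ (R : s) (w : K), Q.1 w ≤ exp (-(N : ℤ)) → Q.1 (x R * w) ≤ exp M := by
    intro R w hw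
    rw [map_mul]
    rcases eq_or_ne (x R) 0 with h0 | h0
    · simp [h0]
    refine (mul_le_mul' le_rfl hw).trans ?_
    rw [val_eq_exp Q h0, ← exp_add, exp_le_exp]
    have : (Q.ord (x R)).natAbs ≤ B :=
      hB (Finset.mem_image.2 ⟨(Q, R), mem_product.2 ⟨hQ, R.2⟩, rfl⟩)
    omega
  refine (Q.1.map_add _ _).trans (max_le (hb ⟨Q, hQ⟩ _ (he1 ⟨Q, hQ⟩)) ?_)
  refine Q.1.map_sum_le fun R hR => hb R _ (he2 R Q (mem_erase.2 ⟨fun e => ?_, hQ⟩))
  exact (mem_erase.1 hR).1 (Subtype.ext e.symm)

/-! ### Residues -/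

/-- The integral elements. -/
def intK (P : Place k K) : Submodule k K where
  carrier := {x | P.1 x ≤ 1}
  add_mem' ha hb := (P.1.map_add _ _).trans (max_le ha hb)
  zero_mem' := by simp
  smul_mem' c x hx := (val_smul_le P c x).trans hx

/-- The residue map. -/
noncomputable def resL (P : Place k K) : intK P →ₗ[k] ResidueField P.O where
  toFun x := residue P.O ⟨x, x.2⟩
  map_add' x y := by rw [← map_add]; rfl
  map_smul' c x := by
    show residue P.O _ = residue P.O (algebraMap k P.O c) * residue P.O _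
    rw [← map_mul]
    exact congrArg _ (Subtype.ext (Algebra.smul_def c (x : K)))

theorem resL_surjective (P : Place k K) : Function.Surjective (resL P) := fun r => by
  obtain ⟨a, rfl⟩ := residue_surjective r
  exact ⟨⟨a, a.2⟩, rfl⟩

theorem resL_eq_zero (P : Place k K) (x : intK P) : resL P x = 0 ↔ P.1 x < 1 := by
  show residue P.O ⟨x, x.2⟩ = 0 ↔ _
  rw [residue_eq_zero_iff, mem_maximalIdeal, mem_nonunits_iff]
  exact Valuation.Integer.not_isUnit_iff_valuation_lt_one (v := P.1) (x := ⟨x, x.2⟩)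

/-! ### The basic inequality -/

theorem linearIndependent_adjoin {ι : Type*} [Fintype ι] {y : K} (hy : Transcendental k y)
    (z : ι → K) (h : ∀ c : ι → k, ∀ g : ι → k[X],
      (∑ a, c a • z a) + y * (∑ a, aeval y (g a) * z a) = 0 → c = 0) :
    LinearIndependent (IntermediateField.adjoin k ({y} : Set K)) z := by
  open scoped IntermediateField.algebraAdjoinAdjoin in
  rw [← LinearIndependent.iff_fractionRing (Algebra.adjoin k ({y} : Set K))
    (IntermediateField.adjoin k ({y} : Set K))]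
  rw [Fintype.linearIndependent_iff]
  intro g hg
  choose p hp using fun a => show ∃ p : k[X], aeval y p = ((g a : Algebra.adjoin k ({y} : Set K)) : K) by
    exact (Algebra.adjoin_singleton_eq_range_aeval k y).le (g a).2
  have key : ∀ (m : ℕ) (q : ι → k[X]), ∑ a, aeval y (q a) * z a = 0 → ∀ a, (q a).coeff m = 0 := by
    intro m
    induction m with
    | zero =>
      intro q hq a
      refine congrFun (h (fun a => (q a).coeff 0) (fun a => (q a).divX) ?_) a
      rw [← hq, mul_sum, ← sum_add_distrib]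
      refine sum_congr rfl fun a _ => ?_
      conv_rhs => rw [← X_mul_divX_add (q a)]
      simp only [map_add, map_mul, aeval_X, aeval_C, Algebra.smul_def]; ring
    | succ m ih =>
      intro q hq a
      have h0 := h (fun a => (q a).coeff 0) (fun a => (q a).divX) (by
        rw [← hq, mul_sum, ← sum_add_distrib]
        refine sum_congr rfl fun a _ => ?_
        conv_rhs => rw [← X_mul_divX_add (q a)]
        simp only [map_add, map_mul, aeval_X, aeval_C, Algebra.smul_def]; ring)
      rw [← coeff_divX]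
      refine ih (fun a => (q a).divX) ?_ a
      have : ∀ a, aeval y (q a) = y * aeval y (q a).divX := fun a => by
        conv_lhs => rw [← X_mul_divX_add (q a), show (q a).coeff 0 = 0 from congrFun h0 a]
        simp
      simp only [this, mul_assoc, ← mul_sum] at hq
      exact (mul_eq_zero.1 hq).resolve_left fun e => hy (e ▸ isAlgebraic_zero)
  intro a
  have hq : ∑ a, aeval y (p a) * z a = 0 := by
    rw [← hg]; exact sum_congr rfl fun a _ => congrArg (· * z a) (hp a)
  have : p a = 0 := Polynomial.ext fun m => by rw [key m p hq a, coeff_zero]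
  apply Subtype.ext
  rw [← hp a, this, map_zero]; rfl

theorem sum_le_finrank {y : K} (hy : Transcendental k y)
    [FiniteDimensional (IntermediateField.adjoin k ({y} : Set K)) K]
    (s : Finset (Place k K)) (hs : ∀ P ∈ s, P.1 y < 1) (f : Place k K → ℕ)
    (t : ∀ P : Place k K, Fin (f P) → ResidueField P.O)
    (ht : ∀ P ∈ s, LinearIndependent k (t P)) :
    ∑ P ∈ s, (P.ord y).toNat * f P ≤ Module.finrank (IntermediateField.adjoin k ({y} : Set K)) K := by
  classical
  have hy0 : y ≠ 0 := fun e => hy (e ▸ isAlgebraic_zero)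
  obtain ⟨E, hE⟩ := (s.image fun P : Place k K => (P.ord y).toNat).bddAbove
  let ι := Σ P : s, Fin ((P : Place k K).ord y).toNat × Fin (f P)
  choose π hπ using fun P : Place k K => exists_val P (-1)
  choose u hu using fun (P : Place k K) (i : Fin (f P)) => resL_surjective P (t P i)
  have hz : ∀ a : ι, ∃ z : K, ∀ Q ∈ s, Q.1 (z - (if Q = a.1 then
      π a.1 ^ (a.2.1 : ℕ) * (u a.1 a.2.2 : K) else 0)) ≤ exp (-(E : ℤ)) := fun a =>
    exists_approx s _ _
  choose z hz using hz
  have hint : ∀ (a : ι), ∀ Q ∈ s, Q.1 (z a) ≤ 1 := by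
    intro a Q hQ
    have h1 := hz a Q hQ
    have h2 : exp (-(E : ℤ)) ≤ (1 : WithZero (Multiplicative ℤ)) := by
      rw [← exp_zero, exp_le_exp]; omega
    rw [← sub_add_cancel (z a) (if Q = a.1 then π a.1 ^ (a.2.1 : ℕ) * (u a.1 a.2.2 : K) else 0)]
    refine (Q.1.map_add _ _).trans (max_le (h1.trans h2) ?_)
    split_ifs with e
    · subst e
      rw [map_mul, map_pow, hπ]
      refine mul_le_one' (pow_le_one' ?_ _) (u _ a.2.2).2
      rw [← exp_zero, exp_le_exp]; omega
    · simp
  have hli : LinearIndependent (IntermediateField.adjoin k ({y} : Set K)) z := by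
    refine linearIndependent_adjoin hy z fun c g hcg => ?_
    by_contra hc
    obtain ⟨⟨⟨P, hP⟩, jc, ic⟩, hne⟩ := Function.ne_iff.1 hc
    set e := (P.ord y).toNat
    have heE : e ≤ E := hE (mem_image_of_mem _ hP)
    have hoy : 0 < P.ord y := (ord_pos_iff P hy0).2 (hs P hP)
    -- the sum is divisible by `y` at `P`
    have h1 : P.1 (∑ a, c a • z a) ≤ exp (-(e : ℤ)) := by
      rw [eq_neg_of_add_eq_zero_left hcg, Valuation.map_neg, map_mul, val_eq_exp P hy0]
      refine (mul_le_mul' le_rfl (P.1.map_sum_le fun a _ => ?_)).trans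
        (b := exp (-P.ord y) * 1) ?_
      · rw [map_mul]
        exact mul_le_one' (val_aeval_le P (hs P hP).le _) (hint a P hP)
      · rw [mul_one, exp_le_exp]; omega
    -- the main part at `P`
    let w : Fin e → K := fun j => ∑ i, c ⟨⟨P, hP⟩, (j, i)⟩ • (u P i : K)
    have h2 : P.1 (∑ j : Fin e, π P ^ (j : ℕ) * w j) ≤ exp (-(e : ℤ)) := by
      have e1 : ∑ j : Fin e, π P ^ (j : ℕ) * w j
          = ∑ a : ι, c a • (if P = a.1 then π a.1 ^ (a.2.1 : ℕ) * (u a.1 a.2.2 : K) else 0) := by
        rw [Fintype.sum_sigma, Finset.sum_eq_single (⟨P, hP⟩ : s)]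
        · simp only [↓reduceIte, Fintype.sum_prod_type, w, mul_sum]
          exact sum_congr rfl fun j _ => sum_congr rfl fun i _ => by
            rw [Algebra.smul_def, Algebra.smul_def]; ring
        · intro R _ hR
          refine sum_eq_zero fun x _ => ?_
          rw [if_neg fun e => hR (Subtype.ext e.symm), smul_zero]
        · simp
      rw [e1, ← sub_sub_cancel (∑ a, c a • z a) (∑ a, c a • _), ← sum_sub_distrib]
      refine (P.1.map_sub _ _).trans (max_le h1 (P.1.map_sum_le fun a _ => ?_))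
      rw [← smul_sub]
      exact (val_smul_le P _ _).trans ((hz a P hP).trans (exp_le_exp.2 (by omega)))
    -- first non-vanishing coefficient
    have hnz : (univ.filter fun j : Fin e => ∃ i, c ⟨⟨P, hP⟩, (j, i)⟩ ≠ 0).Nonempty :=
      ⟨_, mem_filter.2 ⟨mem_univ _, _, hne⟩⟩
    obtain ⟨J, hJ, hmin⟩ := Finset.exists_minimal hnz
    obtain ⟨-, i₀, hi₀⟩ := mem_filter.1 hJ
    have hwi : ∀ j, P.1 (w j) ≤ 1 := fun j =>
      P.1.map_sum_le fun i _ => (val_smul_le P _ _).trans (u P i).2
    have hwJ : P.1 (w J) = 1 := by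
      refine le_antisymm (hwi J) (not_lt.1 fun hlt => hi₀ ?_)
      have : resL P ⟨w J, hwi J⟩ = ∑ i, c ⟨⟨P, hP⟩, (J, i)⟩ • t P i := by
        rw [show (⟨w J, hwi J⟩ : intK P) = ∑ i, c ⟨⟨P, hP⟩, (J, i)⟩ • u P i from
          Subtype.ext (by simp [w]), map_sum]
        exact sum_congr rfl fun x _ => by rw [map_smul]; exact congrArg _ (hu P x)
      exact Fintype.linearIndependent_iff.1 (ht P hP) _
        (this ▸ (resL_eq_zero P ⟨w J, hwi J⟩).2 hlt) i₀
    have hval : P.1 (∑ j : Fin e, π P ^ (j : ℕ) * w j) = exp (-((J : ℕ) : ℤ)) := by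
      have hJv : P.1 (π P ^ (J : ℕ) * w J) = exp (-((J : ℕ) : ℤ)) := by
        rw [map_mul, map_pow, hπ, hwJ, mul_one, ← exp_nsmul]; simp
      rw [← add_sum_erase _ _ (mem_univ J), P.1.map_add_eq_of_lt_left, hJv]
      rw [hJv]
      refine lt_of_le_of_lt (b := exp (-((J : ℕ) : ℤ) - 1)) (P.1.map_sum_le fun j hj => ?_)
        (exp_lt_exp.2 (by omega))
      by_cases hj' : ∃ i, c ⟨⟨P, hP⟩, (j, i)⟩ ≠ 0
      · have h3 : J < j := by
          rcases lt_trichotomy J j with h | h | h
          · exact h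
          · exact absurd h.symm (mem_erase.1 hj).1
          · exact absurd (hmin (mem_filter.2 ⟨mem_univ _, hj'⟩) h.le) (not_le.2 h)
        rw [map_mul, map_pow, hπ, ← exp_nsmul]
        refine (mul_le_mul' le_rfl (hwi j)).trans ?_
        rw [mul_one, exp_le_exp, nsmul_eq_mul, mul_neg, mul_one]
        have : (J : ℕ) < j := h3
        omega
      · push Not at hj'
        simp [w, hj']
    rw [hval, exp_le_exp] at h2
    have := J.2
    omega
  calc ∑ P ∈ s, (P.ord y).toNat * f P = Fintype.card ι := by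
        simp only [ι, Fintype.card_sigma, Fintype.card_prod, Fintype.card_fin]
        exact (Finset.sum_coe_sort s fun P => (P.ord y).toNat * f P).symm
    _ ≤ _ := hli.fintype_card_le_finrank

/-! ### Existence of zeros -/

theorem exists_place {y : K} (hy : Transcendental k y)
    [FiniteDimensional (IntermediateField.adjoin k ({y} : Set K)) K] :
    ∃ P : Place k K, P.1 y < 1 := by
  classical
  set n := Module.finrank (IntermediateField.adjoin k ({y} : Set K)) K
  let A : Subring K := (Algebra.adjoin k ({y} : Set K)).toSubring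
  have hyA : y ∈ A := Algebra.subset_adjoin (Set.mem_singleton y)
  let I : Ideal A := Ideal.span {⟨y, hyA⟩}
  have hI : I ≠ ⊤ := by
    rw [Ne, Ideal.eq_top_iff_one, Ideal.mem_span_singleton']
    rintro ⟨⟨a, ha⟩, h⟩
    have h' : a * y = 1 := congrArg Subtype.val h
    change a ∈ Algebra.adjoin k ({y} : Set K) at ha
    rw [Algebra.adjoin_singleton_eq_range_aeval] at ha
    obtain ⟨p, rfl⟩ := ha
    have h0 : aeval y (p * X - 1) = 0 := by
      rw [map_sub, map_mul, aeval_X, map_one, sub_eq_zero]; exact h'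
    by_cases hp : p * X - 1 = 0
    · have := congrArg (fun q => coeff q 0) hp
      simp at this
    · exact hy ⟨_, hp, h0⟩
  obtain ⟨V, hAV, hIV⟩ := I.image_subset_nonunits_valuationSubring hI
  have hkV : ∀ c : k, algebraMap k K c ∈ V := fun c => hAV (Subalgebra.algebraMap_mem _ c)
  let _ : Algebra k V := ((algebraMap k K).codRestrict V hkV).toAlgebra
  have hyV : y ∈ V := hAV hyA
  set yV : V := ⟨y, hyV⟩
  have hy0 : y ≠ 0 := fun e => hy (e ▸ isAlgebraic_zero)
  have hyV0 : yV ≠ 0 := fun e => hy0 (congrArg Subtype.val e)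
  have hymax : yV ∈ maximalIdeal V :=
    (ValuationSubring.coe_mem_nonunits_iff (a := yV)).1 (hIV ⟨_, Ideal.subset_span rfl, rfl⟩)
  let Q := V ⧸ Ideal.span {yV}
  have hcard : ∀ (m : ℕ) (t : Fin m → V),
      LinearIndependent k (fun a => Ideal.Quotient.mk (Ideal.span {yV}) (t a)) → m ≤ n := by
    intro m t ht
    have : LinearIndependent (IntermediateField.adjoin k ({y} : Set K)) fun a => (t a : K) := by
      refine linearIndependent_adjoin hy _ fun c g h => ?_
      have hg : ∀ a, aeval y (g a) ∈ V := fun a => hAV (by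
        show aeval y (g a) ∈ Algebra.adjoin k ({y} : Set K)
        rw [Algebra.adjoin_singleton_eq_range_aeval]; exact ⟨_, rfl⟩)
      have h' : (∑ a, c a • t a) + yV * ∑ a, (⟨_, hg a⟩ : V) * t a = 0 := Subtype.ext (by
        refine Eq.trans ?_ h
        push_cast
        congr 1
        exact sum_congr rfl fun a _ => (Algebra.smul_def (c a) (t a : K)).symm)
      refine funext fun a => Fintype.linearIndependent_iff.1 ht c ?_ a
      have h'' := congrArg (Ideal.Quotient.mkₐ k (Ideal.span {yV})) h'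
      rw [map_add, map_mul, map_zero, map_sum,
        show (Ideal.Quotient.mkₐ k (Ideal.span {yV})) yV = 0 from
          (Ideal.Quotient.eq_zero_iff_mem).2 (Ideal.mem_span_singleton_self _), zero_mul, add_zero] at h''
      simpa only [map_smul, Ideal.Quotient.mkₐ_eq_mk] using h''
    simpa using this.fintype_card_le_finrank
  have : Module.Finite k Q := by
    refine Module.rank_lt_aleph0_iff.1 ((rank_le fun s hs => ?_).trans_lt (Cardinal.nat_lt_aleph0 n))
    let e := s.equivFin.symm
    refine hcard s.card (fun a => (Ideal.Quotient.mk_surjective (e a : Q)).choose) ?_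
    convert hs.comp e e.injective using 1
    funext a
    exact (Ideal.Quotient.mk_surjective (e a : Q)).choose_spec
  -- the maximal ideal is principal
  have hprin : (maximalIdeal V).IsPrincipal := by
    let N : Submodule k (V ⧸ Ideal.span {yV}) :=
      ((maximalIdeal V).map (Ideal.Quotient.mk (Ideal.span {yV}))).restrictScalars k
    have : Module.Finite k N := inferInstance
    obtain ⟨s, hs⟩ := (this.fg_top : (⊤ : Submodule k N).FG)
    choose g hg hg' using fun b : ((maximalIdeal V).map (Ideal.Quotient.mk (Ideal.span {yV}))).restrictScalars k =>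
      (Ideal.mem_map_iff_of_surjective _ Ideal.Quotient.mk_surjective).1 b.2
    have hfg : (maximalIdeal V).FG := by
      refine ⟨insert yV (s.image g), le_antisymm ?_ fun x hx => ?_⟩
      · rw [Submodule.span_le]
        intro x hx
        simp only [Finset.coe_insert, Set.mem_insert_iff, Finset.coe_image, Set.mem_image] at hx
        rcases hx with rfl | ⟨b, -, rfl⟩
        · exact hymax
        · exact hg b
      · have hmem : Ideal.Quotient.mk (Ideal.span {yV}) x ∈
            ((maximalIdeal V).map (Ideal.Quotient.mk (Ideal.span {yV}))).restrictScalars k :=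
          Ideal.mem_map_of_mem _ hx
        have : (⟨_, hmem⟩ : N) ∈ (⊤ : Submodule k N) := Submodule.mem_top
        rw [← hs, Submodule.mem_span_finset] at this
        obtain ⟨c, -, hc⟩ := this
        have hc' : Ideal.Quotient.mkₐ k (Ideal.span {yV}) (∑ b ∈ s, c b • g b)
            = Ideal.Quotient.mk (Ideal.span {yV}) x := by
          simp only [map_sum, map_smul, Ideal.Quotient.mkₐ_eq_mk, hg']
          simpa using congrArg Subtype.val hc
        rw [Ideal.Quotient.mkₐ_eq_mk, Ideal.Quotient.eq, Ideal.mem_span_singleton'] at hc'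
        obtain ⟨a, ha⟩ := hc'
        have hx' : x = (∑ b ∈ s, c b • g b) - a • yV := by rw [smul_eq_mul, ha]; ring
        rw [hx']
        refine sub_mem (sum_mem fun b hb => ?_) (Submodule.smul_mem _ a (Submodule.subset_span (by simp)))
        rw [Algebra.smul_def]
        exact Ideal.mul_mem_left _ _ (Submodule.subset_span (by
          simp only [Finset.coe_insert, Finset.coe_image, Set.mem_insert_iff, Set.mem_image]
          exact Or.inr ⟨b, hb, rfl⟩))
    exact IsBezout.isPrincipal_of_FG _ hfg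
  obtain ⟨π, hπ⟩ := hprin.1
  rw [Ideal.submodule_span_eq] at hπ
  have hπ0 : π ≠ 0 := by
    rintro rfl
    rw [hπ, Ideal.span_singleton_eq_bot.2 rfl, Ideal.mem_bot] at hymax
    exact hyV0 hymax
  have hπu : ¬ IsUnit π := fun h =>
    (maximalIdeal.isMaximal V).ne_top (hπ ▸ Ideal.span_singleton_eq_top.2 h)
  -- some power of `π` is divisible by `y`
  obtain ⟨j, hj⟩ : ∃ j, yV ∣ π ^ j := by
    by_contra hc
    push Not at hc
    have hlt : ∀ j, π ^ (j + 1) ∣ yV := fun j =>
      ((ValuationRing.dvd_total _ _).resolve_right (hc (j + 1)))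
    have := hcard (n + 1) (fun a => π ^ (a : ℕ)) (by
      rw [Fintype.linearIndependent_iff]
      intro c hc0
      by_contra hne
      push Not at hne
      obtain ⟨J, hJ, hmin⟩ := (univ.filter fun a => c a ≠ 0).exists_minimal
        ⟨hne.choose, mem_filter.2 ⟨mem_univ _, hne.choose_spec⟩⟩
      have h1 : yV ∣ ∑ a : Fin (n + 1), c a • π ^ (a : ℕ) := by
        rw [← Ideal.mem_span_singleton, ← Ideal.Quotient.eq_zero_iff_mem,
          ← Ideal.Quotient.mkₐ_eq_mk k, map_sum]
        simpa only [map_smul, Ideal.Quotient.mkₐ_eq_mk] using hc0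
      have h2 : π ^ ((J : ℕ) + 1) ∣ c J • π ^ (J : ℕ) := by
        have h3 := (hlt J).trans h1
        rw [← add_sum_erase _ _ (mem_univ J)] at h3
        refine (dvd_add_left (Finset.dvd_sum fun a ha => ?_)).1 h3
        by_cases hca : c a = 0
        · simp [hca]
        rw [Algebra.smul_def]
        refine Dvd.dvd.mul_left (pow_dvd_pow π ?_) _
        rcases lt_trichotomy J a with h | h | h
        · exact h
        · exact absurd h.symm (mem_erase.1 ha).1
        · exact absurd (hmin (mem_filter.2 ⟨mem_univ _, hca⟩) h.le) (not_le.2 h)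
      rw [Algebra.smul_def, pow_succ, mul_comm (algebraMap k V (c J))] at h2
      have h4 := (mul_dvd_mul_iff_left (pow_ne_zero _ hπ0)).1 h2
      exact hπu (isUnit_of_dvd_unit h4 ((Ne.isUnit (mem_filter.1 hJ).2).map _)))
    omega
  -- every non-zero element is a power of `π` up to units
  have hdvd : ∀ x : V, x ≠ 0 → ∃ i, x ∣ π ^ i := by
    intro x hx
    have halg : IsAlgebraic (IntermediateField.adjoin k ({y} : Set K)) (x : K) :=
      Algebra.IsAlgebraic.isAlgebraic _
    open scoped IntermediateField.algebraAdjoinAdjoin in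
    rw [← IsFractionRing.isAlgebraic_iff (Algebra.adjoin k ({y} : Set K))] at halg
    obtain ⟨r, hr, hxr⟩ := halg.exists_nonzero_coeff_and_aeval_eq_zero
      (mem_nonZeroDivisors_of_ne_zero fun e => hx (Subtype.ext e))
    set f₀ := r.coeff 0
    obtain ⟨p, hp⟩ : ∃ p : k[X], aeval y p = (f₀ : K) := by
      obtain ⟨z, hz⟩ := f₀
      have h := hz
      rw [Algebra.adjoin_singleton_eq_range_aeval] at h; exact h
    have hp0 : p ≠ 0 := fun e => hr (Subtype.ext (by rw [← hp, e, map_zero]; rfl))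
    obtain ⟨q, hq, hq0⟩ := Polynomial.exists_eq_pow_rootMultiplicity_mul_and_not_dvd p hp0 0
    set m := rootMultiplicity 0 p
    have hf : (∑ i ∈ range r.natDegree, (r.coeff (i + 1) : K) * (x : K) ^ i) * x + f₀ = 0 := by
      rw [sum_mul, ← hxr, Polynomial.aeval_eq_sum_range, sum_range_succ']
      simp only [pow_zero, mul_assoc, ← pow_succ, Algebra.smul_def, mul_one]
      rfl
    have hq' : aeval y q ∈ V := hAV (by
      show aeval y q ∈ Algebra.adjoin k ({y} : Set K)
      rw [Algebra.adjoin_singleton_eq_range_aeval]; exact ⟨_, rfl⟩)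
    let S : V := ∑ i ∈ range r.natDegree, (⟨_, hAV (r.coeff (i + 1)).2⟩ : V) * x ^ i
    have hxd : x ∣ yV ^ m * ⟨_, hq'⟩ := ⟨-S, Subtype.ext (by
      have hS : (S : K) = ∑ i ∈ range r.natDegree, (r.coeff (i + 1) : K) * (x : K) ^ i := by
        simp [S]
      show y ^ m * aeval y q = (x : K) * -(S : K)
      rw [hS]
      have : aeval y p = y ^ m * aeval y q := by rw [hq]; simp
      rw [← this, hp]
      linear_combination hf)⟩
    have hunit : IsUnit (⟨_, hq'⟩ : V) := by
      by_contra hnu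
      rw [C_0, sub_zero] at hq0
      rw [X_dvd_iff] at hq0
      have hd : q = X * q.divX + C (q.coeff 0) := (X_mul_divX_add q).symm
      have hdV : aeval y q.divX ∈ V := hAV (by
        show aeval y q.divX ∈ Algebra.adjoin k ({y} : Set K)
        rw [Algebra.adjoin_singleton_eq_range_aeval]; exact ⟨_, rfl⟩)
      have e : (⟨_, hq'⟩ : V) - yV * ⟨_, hdV⟩ = algebraMap k V (q.coeff 0) := Subtype.ext (by
        show aeval y q - y * aeval y q.divX = algebraMap k K (q.coeff 0)
        have := congrArg (aeval y) hd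
        simp only [map_add, map_mul, aeval_X, aeval_C] at this
        linear_combination this)
      exact (maximalIdeal.isMaximal V).ne_top (Ideal.eq_top_of_isUnit_mem _
        (e ▸ sub_mem ((mem_maximalIdeal _).2 hnu) (Ideal.mul_mem_right _ _ hymax))
        ((Ne.isUnit hq0).map _))
    exact ⟨j * m, ((hunit.dvd_mul_right).1 hxd).trans (by rw [pow_mul]; exact pow_dvd_pow_of_dvd hj m)⟩
  have hfac : IsDiscreteValuationRing.HasUnitMulPowIrreducibleFactorization V := by
    refine ⟨π, ((Ideal.span_singleton_prime hπ0).1 (hπ ▸ (maximalIdeal.isMaximal V).isPrime)).irreducible,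
      fun {x} hx => ?_⟩
    obtain ⟨c, hc⟩ := Nat.find_spec (hdvd x hx)
    refine ⟨Nat.find (hdvd x hx), ?_⟩
    have hcu : IsUnit c := by
      by_contra hcu
      have : c ∈ maximalIdeal V := hcu
      rw [hπ, Ideal.mem_span_singleton] at this
      obtain ⟨c', rfl⟩ := this
      rcases Nat.eq_zero_or_pos (Nat.find (hdvd x hx)) with h0 | h0
      · rw [h0, pow_zero] at hc
        exact hπu (isUnit_of_mul_isUnit_left (isUnit_of_mul_isUnit_right (hc ▸ isUnit_one)))
      · refine Nat.find_min (hdvd x hx) (Nat.pred_lt h0.ne') ⟨c', mul_left_cancel₀ hπ0 ?_⟩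
        rw [← pow_succ', show (Nat.find (hdvd x hx)).pred + 1 = Nat.find (hdvd x hx) by
          simp only [Nat.pred_eq_sub_one]; omega, hc]
        ring
    rw [hc]
    exact associated_mul_unit_left x c hcu
  have hdvr : IsDiscreteValuationRing V :=
    IsDiscreteValuationRing.ofHasUnitMulPowIrreducibleFactorization hfac
  let v := (IsDiscreteValuationRing.maximalIdeal V).valuation K
  refine ⟨⟨v, fun c => ?_, IsDedekindDomain.HeightOneSpectrum.valuation_surjective _ _⟩, ?_⟩
  · exact IsDedekindDomain.HeightOneSpectrum.valuation_le_one (K := K)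
      (IsDiscreteValuationRing.maximalIdeal V) (algebraMap k V c)
  · exact (IsDedekindDomain.HeightOneSpectrum.valuation_lt_one_iff_mem
      (IsDiscreteValuationRing.maximalIdeal V) yV).2 hymax

end Groth.Agent.FunFld
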