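import Groth.Agent.FunFld.Place
import Mathlib.RingTheory.AlgebraicIndependent.TranscendenceBasis
import Mathlib.RingTheory.AlgebraicIndependent.Transcendental
import Mathlib.FieldTheory.IntermediateField.Adjoin.Basic

/-! Divisors of zeros and poles: finiteness, existence. -/

namespace Groth.Agent.FunFld

open _root_.FunFld WithZero IsLocalRing Polynomial Finset Cardinal

variable {k K : Type*} [Field k] [Field K] [Algebra k K] (hK : IsFunctionField k K)

theorem mem_range_of_ord (hK : IsFunctionField k K) {x : K} {P : Place k K} (h : P.ord x ≠ 0) :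
    Transcendental k x := fun halg => by
  obtain ⟨c, rfl⟩ := hK.2 x halg
  exact h (ord_algebraMap P c)

include hK

theorem finite_adjoin {y : K} (hy : Transcendental k y) :
    FiniteDimensional (IntermediateField.adjoin k ({y} : Set K)) K := by
  classical
  obtain ⟨⟨x₀, hx₀, hfin⟩, -⟩ := hK
  have hb : IsTranscendenceBasis k (fun _ : Unit => x₀) := by
    have hi : AlgebraicIndependent k (fun _ : Unit => x₀) :=
      (algebraicIndependent_singleton_iff Unit.unit).2 hx₀
    rw [hi.isTranscendenceBasis_iff_isAlgebraic, Set.range_const]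
    open scoped IntermediateField.algebraAdjoinAdjoin in
    exact (Algebra.IsAlgebraic.trans (Algebra.adjoin k ({x₀} : Set K))
      (IntermediateField.adjoin k ({x₀} : Set K)) K :)
  have hy' : AlgebraicIndependent k (fun _ : Unit => y) :=
    (algebraicIndependent_singleton_iff Unit.unit).2 hy
  have htr := hb.lift_cardinalMk_eq_trdeg
  simp only [Cardinal.mk_fintype, Fintype.card_unit, Nat.cast_one, Cardinal.lift_one,
    Cardinal.lift_id'] at htr
  have hB : IsTranscendenceBasis k (fun _ : Unit => y) :=
    hy'.isTranscendenceBasis_of_lift_trdeg_le_of_finite (by simp [← htr])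
  have halg : Algebra.IsAlgebraic (IntermediateField.adjoin k ({y} : Set K)) K := by
    have := hB.isAlgebraic_field
    rwa [Set.range_const] at this
  let b := Module.finBasis (IntermediateField.adjoin k ({x₀} : Set K)) K
  set L := IntermediateField.adjoin k ({y} : Set K)
  let S : Set K := insert x₀ (Set.range b)
  have : Finite S := by
    rw [Set.finite_coe_iff]; exact (Set.finite_range b).insert x₀
  have hfd : FiniteDimensional L (IntermediateField.adjoin L S) :=
    IntermediateField.finiteDimensional_adjoin fun s _ => (halg.isAlgebraic s).isIntegral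
  have htop : IntermediateField.adjoin L S = ⊤ := by
    rw [eq_top_iff]
    intro z _
    have hsub : IntermediateField.adjoin k ({x₀} : Set K)
        ≤ (IntermediateField.adjoin L S).restrictScalars k := by
      rw [IntermediateField.adjoin_simple_le_iff]
      exact IntermediateField.subset_adjoin L S (Set.mem_insert _ _)
    rw [← b.sum_repr z]
    refine sum_mem fun i _ => ?_
    rw [Algebra.smul_def]
    exact mul_mem (hsub (b.repr z i).2)
      (IntermediateField.subset_adjoin L S (Set.mem_insert_of_mem _ ⟨i, rfl⟩))
  rw [htop] at hfd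
  exact IntermediateField.topEquiv.toLinearEquiv.finiteDimensional

theorem residue_finite (P : Place k K) : FiniteDimensional k (ResidueField P.O) := by
  classical
  obtain ⟨y, hy⟩ := exists_val P (-1)
  have hy0 : P.1 y < 1 := by rw [hy, ← exp_zero, exp_lt_exp]; omega
  have ho : P.ord y = 1 := by rw [ord_eq_of_val P hy, neg_neg]
  have htr : Transcendental k y := mem_range_of_ord hK (by rw [ho]; exact one_ne_zero)
  have := finite_adjoin hK htr
  refine Module.rank_lt_aleph0_iff.1 ((rank_le fun s hs => ?_).trans_lt
    (Cardinal.natCast_lt_aleph0 (n := Module.finrank (IntermediateField.adjoin k ({y} : Set K)) K)))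
  let f : Place k K → ℕ := fun Q => if Q = P then s.card else 0
  have key : ∀ t : ∀ Q : Place k K, Fin (f Q) → ResidueField Q.O, LinearIndependent k (t P) →
      s.card ≤ Module.finrank (IntermediateField.adjoin k ({y} : Set K)) K := by
    intro t ht
    have := sum_le_finrank htr {P} (by simpa using hy0) f t (by simpa using ht)
    simpa [f, ho] using this
  have hfP : f P = s.card := if_pos rfl
  let e : Fin (f P) ≃ s := (finCongr hfP).trans s.equivFin.symm
  refine key (fun Q i => if h : Q = P then h ▸ (e (h ▸ i) : ResidueField P.O) else 0) ?_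
  have h' := hs.comp e e.injective
  simp only [↓reduceDIte]
  exact h'

theorem deg_pos (P : Place k K) : 0 < P.deg := by
  have := residue_finite hK P
  exact Module.finrank_pos

/-- The basic inequality with full residue degrees. -/
theorem sum_ord_mul_deg_le {y : K} (hy : Transcendental k y) (s : Finset (Place k K))
    (hs : ∀ P ∈ s, P.1 y < 1) :
    ∑ P ∈ s, (P.ord y).toNat * P.deg ≤ Module.finrank (IntermediateField.adjoin k ({y} : Set K)) K := by
  have := finite_adjoin hK hy
  exact sum_le_finrank hy s hs (fun P => P.deg)
    (fun P => haveI := residue_finite hK P; Module.finBasis k (ResidueField P.O))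
    (fun P _ => haveI := residue_finite hK P; (Module.finBasis k (ResidueField P.O)).linearIndependent)

theorem finite_zeros (x : K) : {P : Place k K | 0 < P.ord x}.Finite := by
  by_contra hinf
  obtain ⟨P, hP⟩ := (Set.Infinite.nonempty hinf)
  have htr : Transcendental k x := mem_range_of_ord hK (ne_of_gt hP)
  have hx : x ≠ 0 := fun e => htr (e ▸ isAlgebraic_zero)
  obtain ⟨s, hs, hcard⟩ := (Set.not_finite.1 hinf).exists_subset_card_eq
    (Module.finrank (IntermediateField.adjoin k ({x} : Set K)) K + 1)
  have h := sum_ord_mul_deg_le hK htr s fun Q hQ => (ord_pos_iff Q hx).1 (hs hQ)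
  have h1 : s.card ≤ ∑ Q ∈ s, (Q.ord x).toNat * Q.deg := by
    rw [Finset.card_eq_sum_ones]
    refine sum_le_sum fun Q hQ => Nat.one_le_iff_ne_zero.2 (Nat.mul_ne_zero ?_ (deg_pos hK Q).ne')
    have : 0 < Q.ord x := hs hQ
    omega
  omega

theorem finite_support (x : K) : (Function.support fun P : Place k K => P.ord x).Finite := by
  refine ((finite_zeros hK x).union (finite_zeros hK x⁻¹)).subset fun P hP => ?_
  simp only [Function.mem_support] at hP
  simp only [Set.mem_union, Set.mem_ofPred_eq, ord_inv]
  omega

theorem div_apply (x : K) (P : Place k K) : div k x P = P.ord x := by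
  rw [_root_.FunFld.div, dif_pos (finite_support hK x)]; rfl

theorem exists_zero {x : K} (hx : Transcendental k x) : ∃ P : Place k K, 0 < P.ord x := by
  have := finite_adjoin hK hx
  obtain ⟨P, hP⟩ := exists_place hx
  have hx0 : x ≠ 0 := fun e => hx (e ▸ isAlgebraic_zero)
  exact ⟨P, (ord_pos_iff P hx0).2 hP⟩

theorem exists_pole {x : K} (hx : Transcendental k x) : ∃ P : Place k K, P.ord x < 0 := by
  obtain ⟨P, hP⟩ := exists_zero hK (x := x⁻¹) fun h => hx (inv_inv x ▸ h.inv)
  exact ⟨P, by rw [ord_inv] at hP; omega⟩

theorem transcendental_of_not_mem {x : K} (hx : x ∉ Set.range (algebraMap k K)) :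
    Transcendental k x := fun h => hx (hK.2 x h)

theorem val_le_one_of_all {x : K} (h : ∀ P : Place k K, P.1 x ≤ 1) :
    x ∈ Set.range (algebraMap k K) := by
  by_contra hx
  obtain ⟨P, hP⟩ := exists_pole hK (transcendental_of_not_mem hK hx)
  have hx0 : x ≠ 0 := fun e => hx ⟨0, by rw [map_zero, e]⟩
  exact absurd ((ord_nonneg_iff P hx0).2 (h P)) (not_le.2 hP)

theorem exists_place_any : Nonempty (Place k K) := by
  obtain ⟨x₀, hx₀, -⟩ := hK.1
  exact ⟨(exists_zero hK hx₀).choose⟩

end Groth.Agent.FunFld
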