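import Groth.Agent.FunFld.Riemann
import Mathlib.LinearAlgebra.Dual.Lemmas

/-! Repartitions, Weil differentials and the Riemann–Roch theorem. -/

namespace Groth.Agent.FunFld

open _root_.FunFld WithZero IsLocalRing Finset

variable {k K : Type*} [Field k] [Field K] [Algebra k K]

theorem AD_le_adele (D : Divisor k K) : AD D ≤ adele k K := by
  intro a ha
  refine Filter.eventually_cofinite.2 (D.support.finite_toSet.subset fun P hP => ?_)
  simp only [Finset.mem_coe, Finsupp.mem_support_iff]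
  intro h0
  exact hP (by simpa [h0] using ha P)

theorem exists_mem_AD (D : Divisor k K) {a : Place k K → K} (ha : a ∈ adele k K) :
    ∃ E : Divisor k K, D ≤ E ∧ a ∈ AD E := by
  classical
  let c : Place k K → ℤ := fun P => max (D P) (if P.1 (a P) ≤ exp (D P) then D P else (P.1 (a P)).log)
  have hfin : (Function.support fun P => c P - D P).Finite := by
    refine ((Filter.eventually_cofinite.1 ha).union D.support.finite_toSet).subset fun P hP => ?_
    simp only [Set.mem_union, Set.mem_ofPred_eq, Finset.mem_coe, Finsupp.mem_support_iff]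
    by_contra hc
    rw [not_or, not_not, not_not] at hc
    refine hP ?_
    simp only [c]
    rw [if_pos (by rw [hc.2, exp_zero]; exact hc.1), max_self, sub_self]
  refine ⟨D + Finsupp.ofSupportFinite _ hfin, fun P => ?_, fun P => ?_⟩
  · show D P ≤ D P + (c P - D P)
    have : D P ≤ c P := le_max_left _ _
    omega
  · show P.1 (a P) ≤ exp (D P + (c P - D P))
    rw [add_sub_cancel]
    by_cases h : P.1 (a P) ≤ exp (D P)
    · exact h.trans (exp_le_exp.2 (le_max_left _ _))
    · refine le_trans ?_ (exp_le_exp.2 (le_max_right _ _))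
      rw [if_neg h, exp_log (fun e => h (by rw [e]; exact zero_le))]

theorem AD_sup (D₁ D₂ : Divisor k K) : AD (D₁ ⊔ D₂) = AD D₁ ⊔ AD D₂ := by
  classical
  refine le_antisymm (fun a ha => ?_) (sup_le (AD_mono le_sup_left) (AD_mono le_sup_right))
  refine Submodule.mem_sup.2 ⟨fun P => if D₂ P ≤ D₁ P then a P else 0, fun P => ?_,
    fun P => if D₂ P ≤ D₁ P then 0 else a P, fun P => ?_, ?_⟩
  · dsimp only
    split_ifs with h
    · exact (ha P).trans (exp_le_exp.2 (by rw [Finsupp.sup_apply]; omega))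
    · simp
  · dsimp only
    split_ifs with h
    · simp
    · exact (ha P).trans (exp_le_exp.2 (by rw [Finsupp.sup_apply]; omega))
  · funext P
    simp only [Pi.add_apply]
    split_ifs <;> simp

theorem WD_mono {D E : Divisor k K} (h : D ≤ E) : WD E ≤ WD D :=
  Submodule.dualAnnihilator_anti (Submodule.comap_mono (sup_le_sup_right (AD_mono h) _))

theorem mem_WD_iff {D : Divisor k K} {ω : Module.Dual k (adele k K)} :
    ω ∈ WD D ↔ ∀ a : adele k K, (a : Place k K → K) ∈ AD D ⊔ LinearMap.range (diag k K) → ω a = 0 :=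
  Submodule.mem_dualAnnihilator _

theorem WD_sup {D E : Divisor k K} {ω : Module.Dual k (adele k K)} (h₁ : ω ∈ WD D) (h₂ : ω ∈ WD E) :
    ω ∈ WD (D ⊔ E) := by
  rw [mem_WD_iff] at h₁ h₂ ⊢
  intro a ha
  rw [AD_sup, sup_assoc] at ha
  obtain ⟨x, hx, y, hy, hxy⟩ := Submodule.mem_sup.1 ha
  have hxA : x ∈ adele k K := AD_le_adele D hx
  have hyA : y ∈ adele k K := by
    rw [show y = (a : Place k K → K) - x by rw [← hxy, add_sub_cancel_left]]
    exact sub_mem a.2 hxA
  have e : a = ⟨x, hxA⟩ + ⟨y, hyA⟩ := Subtype.ext hxy.symm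
  rw [e, map_add, h₁ ⟨x, hxA⟩ (Submodule.mem_sup_left hx), h₂ ⟨y, hyA⟩ hy, add_zero]

section

variable (hK : IsFunctionField k K)
include hK

theorem smul_mem_adele (x : K) {a : Place k K → K} (ha : a ∈ adele k K) : x • a ∈ adele k K := by
  refine Filter.eventually_cofinite.2 (((Filter.eventually_cofinite.1 ha).union (finite_support hK x)).subset
    fun P hP => ?_)
  simp only [Set.mem_union, Set.mem_ofPred_eq, Function.mem_support]
  by_contra hc
  rw [not_or, not_not, not_not] at hc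
  refine hP ?_
  show P.1 (x * a P) ≤ 1
  rw [map_mul]
  refine mul_le_one' ?_ hc.1
  rcases eq_or_ne x 0 with rfl | hx
  · simp
  · exact ((ord_nonneg_iff P hx).1 hc.2.ge)

theorem diag_mem_adele (x : K) : diag k K x ∈ adele k K := by
  have h1 : (1 : Place k K → K) ∈ adele k K := by
    show ∀ᶠ P : Place k K in Filter.cofinite, P.1 ((1 : Place k K → K) P) ≤ 1
    exact Filter.Eventually.of_forall fun P => (map_one P.1).le
  have := smul_mem_adele hK x h1
  rwa [show x • (1 : Place k K → K) = diag k K x from funext fun P => mul_one x] at this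

/-- Finiteness of the adeles modulo `A(D) + K`. -/
theorem adele_idx (D : Divisor k K) :
    FiniteDimensional k (↥(adele k K) ⧸ ADK D) ∧
    (Module.finrank k (↥(adele k K) ⧸ ADK D) : ℤ) = (genus k K : ℤ) - delta D := by
  obtain ⟨D₀, -, hD₀⟩ := exists_delta_eq_genus hK
  set E := D ⊔ D₀
  have hE : delta E = genus k K :=
    le_antisymm (delta_le_genus hK _) (hD₀ ▸ delta_mono hK le_sup_right)
  have htop : AD E ⊔ LinearMap.range (diag k K) = adele k K := by
    refine le_antisymm (sup_le (AD_le_adele E) ?_) fun a ha => ?_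
    · rintro _ ⟨x, rfl⟩; exact diag_mem_adele hK x
    obtain ⟨E', hle, ha'⟩ := exists_mem_AD E ha
    have h := sup_idx hK hle
    have hz : (E'.deg - E.deg) - ((ell E' : ℤ) - ell E) = 0 := by
      have h1 := delta_le_genus hK E'
      have h2 := delta_mono hK hle
      rw [delta] at h1 h2 hE
      rw [delta] at h2
      omega
    have := h.fin
    have h0 := h.eq
    rw [hz] at h0
    have hsub : Subsingleton (↥(AD E' ⊔ LinearMap.range (diag k K)) ⧸
        (AD E ⊔ LinearMap.range (diag k K)).submoduleOf (AD E' ⊔ LinearMap.range (diag k K))) :=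
      Module.finrank_zero_iff.1 (by exact_mod_cast h0)
    rw [Submodule.Quotient.subsingleton_iff] at hsub
    have hmem : (⟨a, Submodule.mem_sup_left ha'⟩ : ↥(AD E' ⊔ LinearMap.range (diag k K))) ∈
        (AD E ⊔ LinearMap.range (diag k K)).submoduleOf (AD E' ⊔ LinearMap.range (diag k K)) :=
      hsub ▸ Submodule.mem_top
    exact hmem
  have h := sup_idx hK (le_sup_left : D ≤ E)
  rw [htop] at h
  refine ⟨h.fin, ?_⟩
  have := h.eq
  rw [delta] at hE ⊢
  simp only [E] at this hE
  show (Module.finrank k (↥(adele k K) ⧸ (AD D ⊔ LinearMap.range (diag k K)).submoduleOf (adele k K)) : ℤ) = _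
  omega

theorem WD_finrank (D : Divisor k K) :
    FiniteDimensional k (WD D) ∧ (Module.finrank k (WD D) : ℤ) = (genus k K : ℤ) - delta D := by
  obtain ⟨hf, he⟩ := adele_idx hK D
  let e := (ADK D).dualQuotEquivDualAnnihilator
  refine ⟨Module.Finite.equiv e, ?_⟩
  show (Module.finrank k ↥(ADK D).dualAnnihilator : ℤ) = _
  rw [← e.finrank_eq, Subspace.dual_finrank_eq, he]

theorem mulW_mem_WD {C D : Divisor k K} {x : K} (hxD : x ∈ L D)
    (hx : ∀ a ∈ adele k K, x • a ∈ adele k K) {ω : Module.Dual k (adele k K)} (hω : ω ∈ WD C) :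
    mulW x hx ω ∈ WD (C - D) := by
  rw [mem_WD_iff] at hω ⊢
  intro a ha
  refine hω _ ?_
  obtain ⟨b, hb, c, ⟨z, rfl⟩, hbc⟩ := Submodule.mem_sup.1 ha
  refine Submodule.mem_sup.2 ⟨x • b, fun P => ?_, diag k K (x * z), ⟨_, rfl⟩, ?_⟩
  · show P.1 (x * b P) ≤ _
    rw [map_mul, show C P = D P + (C - D) P by simp, exp_add]
    exact mul_le_mul' (hxD P) (hb P)
  · show x • b + diag k K (x * z) = x • (a : Place k K → K)
    rw [← hbc]; funext P; exact (mul_add x (b P) z).symm

theorem mem_L_neg_div {x : K} (hx : x ≠ 0) : x ∈ L (-(div k x) : Divisor k K) := fun P => by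
  rw [Finsupp.neg_apply, val_le_exp_div hK hx]

theorem mulW_mulW (h : ∀ (x : K), ∀ a ∈ adele k K, x • a ∈ adele k K) (x y : K)
    (ω : Module.Dual k (adele k K)) : mulW x (h x) (mulW y (h y) ω) = mulW (y * x) (h _) ω := by
  refine LinearMap.ext fun a => congrArg ω (Subtype.ext ?_)
  exact (mul_smul y x (a : Place k K → K)).symm

theorem mulW_one (h : ∀ a ∈ adele k K, (1 : K) • a ∈ adele k K) (ω : Module.Dual k (adele k K)) :
    mulW 1 h ω = ω :=
  LinearMap.ext fun a => congrArg ω (Subtype.ext (one_smul K (a : Place k K → K)))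

theorem isDivOf_mulW {x : K} (h0 : x ≠ 0) (hx : ∀ a ∈ adele k K, x • a ∈ adele k K)
    {ω : Module.Dual k (adele k K)} {C : Divisor k K} (hω : IsDivOf ω C) :
    IsDivOf (mulW x hx ω) (C + div k x) := by
  have h : ∀ (y : K), ∀ a ∈ adele k K, y • a ∈ adele k K := fun y a ha => smul_mem_adele hK y ha
  intro E
  constructor
  · intro hE
    have := mulW_mem_WD hK (mem_L_neg_div hK (inv_ne_zero h0)) (h x⁻¹) hE
    rw [show mulW x⁻¹ (h _) (mulW x hx ω) = ω from by
      rw [mulW_mulW hK h]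
      refine LinearMap.ext fun a => congrArg ω (Subtype.ext ?_)
      show (x * x⁻¹) • (a : Place k K → K) = a
      rw [mul_inv_cancel₀ h0, one_smul], hω] at this
    rw [div_inv hK, neg_neg] at this
    exact sub_le_iff_le_add.1 this
  · intro hE
    have := mulW_mem_WD hK (mem_L_neg_div hK h0) hx ((hω C).2 le_rfl)
    rw [sub_neg_eq_add] at this
    exact WD_mono hE this

theorem exists_isDivOf {ω : Module.Dual k (adele k K)} (hω : IsWeil ω) (h0 : ω ≠ 0) :
    ∃ C : Divisor k K, IsDivOf ω C := by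
  obtain ⟨N, hN⟩ := exists_deg_bound hK
  let S : Set ℤ := {d | ∃ D : Divisor k K, ω ∈ WD D ∧ D.deg = d}
  have hbdd : ∀ d ∈ S, d < N := by
    rintro _ ⟨D, hD, rfl⟩
    by_contra hlt
    obtain ⟨hf, hr⟩ := WD_finrank hK D
    rw [hN D (not_lt.1 hlt), sub_self] at hr
    have : Subsingleton (WD D) := Module.finrank_zero_iff.1 (by exact_mod_cast hr)
    exact h0 (congrArg Subtype.val (Subsingleton.elim (⟨ω, hD⟩ : WD D) 0))
  obtain ⟨D, hD⟩ := hω
  obtain ⟨_, ⟨C, hC, rfl⟩, hmax⟩ := Int.exists_greatest_of_bdd (P := fun d => d ∈ S)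
    ⟨N, fun z hz => (hbdd z hz).le⟩ ⟨_, D, hD, rfl⟩
  refine ⟨C, fun E => ⟨fun hE => ?_, fun hE => WD_mono hE hC⟩⟩
  have h1 := hmax _ ⟨_, WD_sup hC hE, rfl⟩
  have := eq_of_le_of_deg hK (le_sup_left : C ≤ C ⊔ E) h1
  exact this.symm ▸ le_sup_right

/-- The map `x ↦ x ω` on `L(C - D)`. -/
noncomputable def mulHom (h : ∀ (x : K), ∀ a ∈ adele k K, x • a ∈ adele k K)
    {ω : Module.Dual k (adele k K)} {C : Divisor k K} (hC : ω ∈ WD C) (D : Divisor k K) :
    L (C - D) →ₗ[k] WD D where
  toFun x := ⟨mulW (x : K) (h _) ω, by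
    have := mulW_mem_WD hK x.2 (h _) hC
    rwa [sub_sub_cancel] at this⟩
  map_add' x y := Subtype.ext (LinearMap.ext fun a => by
    show ω _ = ω _ + ω _
    rw [← map_add]
    exact congrArg ω (Subtype.ext (add_smul (x : K) (y : K) (a : Place k K → K))))
  map_smul' c x := Subtype.ext (LinearMap.ext fun a => by
    show ω _ = c • ω _
    rw [← map_smul]
    exact congrArg ω (Subtype.ext (smul_assoc c (x : K) (a : Place k K → K))))

theorem mulW_injective (h : ∀ (x : K), ∀ a ∈ adele k K, x • a ∈ adele k K)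
    {ω : Module.Dual k (adele k K)} (h0 : ω ≠ 0) {x : K} (hx : mulW x (h x) ω = 0) : x = 0 := by
  by_contra hne
  refine h0 ?_
  rw [← mulW_one hK (fun a ha => h 1 a ha) ω]
  refine LinearMap.ext fun a => ?_
  have := LinearMap.congr_fun hx ⟨x⁻¹ • (a : Place k K → K), h _ _ a.2⟩
  refine Eq.trans (congrArg ω (Subtype.ext ?_)) this
  show (1 : K) • (a : Place k K → K) = x • x⁻¹ • (a : Place k K → K)
  rw [smul_smul, mul_inv_cancel₀ hne]

theorem mulHom_injective (h : ∀ (x : K), ∀ a ∈ adele k K, x • a ∈ adele k K)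
    {ω : Module.Dual k (adele k K)} {C : Divisor k K} (hC : ω ∈ WD C) (h0 : ω ≠ 0) (D : Divisor k K) :
    Function.Injective (mulHom hK h hC D) := by
  refine (injective_iff_map_eq_zero _).2 fun x hx => ?_
  exact Subtype.ext (mulW_injective hK h h0 (congrArg Subtype.val hx))

theorem exists_mulW_eq (h : ∀ (x : K), ∀ a ∈ adele k K, x • a ∈ adele k K)
    {ω₁ ω₂ : Module.Dual k (adele k K)} (h₁ : IsWeil ω₁) (h0 : ω₁ ≠ 0) (h₂ : IsWeil ω₂) :
    ∃ x : K, mulW x (h x) ω₁ = ω₂ := by
  by_cases h20 : ω₂ = 0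
  · refine ⟨0, h20 ▸ LinearMap.ext fun a => ?_⟩
    show ω₁ _ = 0
    refine (congrArg ω₁ (Subtype.ext ?_)).trans (map_zero ω₁)
    exact zero_smul K (a : Place k K → K)
  obtain ⟨C₁, hC₁⟩ := h₁
  obtain ⟨C₂, hC₂⟩ := h₂
  obtain ⟨P⟩ := exists_place_any hK
  set m : ℕ := (3 * (genus k K : ℤ) + 1 + |C₁.deg| + |C₂.deg|).toNat + 1
  set B : Divisor k K := Finsupp.single P (m : ℤ)
  have hB : (3 * (genus k K : ℤ) + 1 + |C₁.deg| + |C₂.deg|) < B.deg := by
    rw [deg_single]
    have h1 : (1 : ℤ) ≤ P.deg := by exact_mod_cast deg_pos hK P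
    have h2 := Int.self_le_toNat (3 * (genus k K : ℤ) + 1 + |C₁.deg| + |C₂.deg|)
    calc _ < (m : ℤ) := by simp only [m]; push_cast; omega
      _ ≤ _ := le_mul_of_one_le_right (Int.natCast_nonneg _) h1
  obtain ⟨hf, hr⟩ := WD_finrank hK (-B)
  have hlt : (Module.finrank k (WD (-B)) : ℤ) ≤ genus k K + B.deg - 1 := by
    have hl : ell (-B) = 0 := by
      by_contra hne
      have : L (-B) ≠ ⊥ := fun e => hne (by rw [ell, e, finrank_bot])
      obtain ⟨u, hu, hu0⟩ := Submodule.exists_mem_ne_zero_of_ne_bot this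
      have h2 : 0 ≤ -B + div k u := fun Q => by
        have := hu Q
        rw [le_exp_iff Q hu0] at this
        rw [Finsupp.add_apply, div_apply hK, Finsupp.coe_zero, Pi.zero_apply]; omega
      have := deg_nonneg h2
      rw [deg_add, deg_neg, deg_div hK] at this
      have := abs_nonneg C₁.deg; have := abs_nonneg C₂.deg
      omega
    rw [hr, delta, hl, deg_neg]; omega
  have hell : ∀ C : Divisor k K, B.deg + C.deg + 1 - genus k K ≤ ell (C - -B) := fun C => by
    have := delta_le_genus hK (C - -B)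
    rw [delta, deg_sub, deg_neg] at this
    omega
  let f₁ := mulHom hK h hC₁ (-B)
  let f₂ := mulHom hK h hC₂ (-B)
  have i₁ := mulHom_injective hK h hC₁ h0 (-B)
  have i₂ := mulHom_injective hK h hC₂ h20 (-B)
  have := L_finite hK (C₁ - -B); have := L_finite hK (C₂ - -B)
  obtain ⟨x₁, x₂, hsum, hne⟩ : ∃ x₁ x₂, f₁ x₁ = f₂ x₂ ∧ x₂ ≠ 0 := by
    by_contra hc
    push Not at hc
    have hinj : Function.Injective (LinearMap.coprod f₁ f₂) := by
      refine (injective_iff_map_eq_zero _).2 ?_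
      rintro ⟨a, b⟩ hab
      rw [LinearMap.coprod_apply] at hab
      have hb : -b = 0 := hc a (-b) (by rw [map_neg]; exact eq_neg_of_add_eq_zero_left hab)
      rw [neg_eq_zero] at hb
      subst hb
      rw [map_zero, add_zero] at hab
      have ha : a = 0 := i₁ (hab.trans (map_zero f₁).symm)
      exact Prod.ext ha rfl
    have h' := LinearMap.finrank_le_finrank_of_injective hinj
    rw [Module.finrank_prod] at h'
    have a1 := hell C₁; have a2 := hell C₂
    have := neg_abs_le C₁.deg; have := neg_abs_le C₂.deg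
    simp only [ell] at a1 a2
    omega
  have hx20 : (x₂ : K) ≠ 0 := fun e => hne (Subtype.ext e)
  have heq : mulW (x₁ : K) (h _) ω₁ = mulW (x₂ : K) (h _) ω₂ :=
    congrArg Subtype.val hsum
  refine ⟨(x₁ : K) * (x₂ : K)⁻¹, ?_⟩
  rw [← mulW_mulW hK h, heq, mulW_mulW hK h]
  refine LinearMap.ext fun a => congrArg ω₂ (Subtype.ext ?_)
  show ((x₂ : K) * (x₂ : K)⁻¹) • (a : Place k K → K) = a
  rw [mul_inv_cancel₀ hx20, one_smul]

theorem WD_eq (h : ∀ (x : K), ∀ a ∈ adele k K, x • a ∈ adele k K)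
    {ω : Module.Dual k (adele k K)} {C : Divisor k K} (hω : IsDivOf ω C) (h0 : ω ≠ 0)
    {D : Divisor k K} {ω' : Module.Dual k (adele k K)} (hω' : ω' ∈ WD D) :
    ∃ x : K, x ∈ L (C - D) ∧ mulW x (h x) ω = ω' := by
  obtain ⟨x, hx⟩ := exists_mulW_eq hK h ⟨C, (hω C).2 le_rfl⟩ h0 ⟨D, hω'⟩
  rcases eq_or_ne x 0 with rfl | hx0
  · exact ⟨0, zero_mem _, hx⟩
  refine ⟨x, fun P => ?_, hx⟩
  have h1 := (isDivOf_mulW hK hx0 (h x) hω D).1 (hx ▸ hω') P
  rw [le_exp_iff P hx0, Finsupp.sub_apply]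
  rw [Finsupp.add_apply, div_apply hK] at h1
  omega

theorem riemann_roch {C : Divisor k K} (hC : IsCanonical k K C) (D : Divisor k K) :
    (ell D : ℤ) = D.deg + 1 - genus k K + ell (C - D) := by
  obtain ⟨ω, h0, hω⟩ := hC
  have h : ∀ (x : K), ∀ a ∈ adele k K, x • a ∈ adele k K := fun x a ha => smul_mem_adele hK x ha
  have hbij : Function.Bijective (mulHom hK h ((hω C).2 le_rfl) D) := by
    refine ⟨mulHom_injective hK h _ h0 D, fun w => ?_⟩
    obtain ⟨x, hx, e⟩ := WD_eq hK h hω h0 w.2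
    exact ⟨⟨x, hx⟩, Subtype.ext e⟩
  have e := (LinearEquiv.ofBijective _ hbij).finrank_eq
  have := (WD_finrank hK D).2
  rw [← e, delta] at this
  rw [ell, ell] at *
  omega

theorem exists_canonical : ∃ C : Divisor k K, IsCanonical k K C := by
  obtain ⟨P⟩ := exists_place_any hK
  set D : Divisor k K := Finsupp.single P (-2)
  obtain ⟨hf, hr⟩ := WD_finrank hK D
  have hpos : 0 < Module.finrank k (WD D) := by
    have : (1 : ℤ) ≤ P.deg := by exact_mod_cast deg_pos hK P
    have h1 : delta D ≤ D.deg + 1 := by rw [delta]; omega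
    rw [deg_single] at h1
    omega
  have : Nontrivial (WD D) := Module.nontrivial_of_finrank_pos hpos
  obtain ⟨ω, hω⟩ := exists_ne (0 : WD D)
  obtain ⟨C, hC⟩ := exists_isDivOf hK ⟨D, ω.2⟩ fun e => hω (Subtype.ext e)
  exact ⟨C, ω, fun e => hω (Subtype.ext e), hC⟩

theorem ell_canonical {C : Divisor k K} (hC : IsCanonical k K C) :
    ell C = genus k K ∧ C.deg = 2 * genus k K - 2 := by
  have h1 := riemann_roch hK hC 0
  rw [sub_zero, deg_zero, ell_zero hK] at h1
  have h2 := riemann_roch hK hC C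
  rw [sub_self, ell_zero hK] at h2
  constructor <;> omega

theorem exists_effective {D : Divisor k K} (h : L D ≠ ⊥) :
    ∃ x : K, x ≠ 0 ∧ 0 ≤ D + div k x := by
  obtain ⟨u, hu, hu0⟩ := Submodule.exists_mem_ne_zero_of_ne_bot h
  refine ⟨u, hu0, fun Q => ?_⟩
  have := hu Q
  rw [le_exp_iff Q hu0] at this
  rw [Finsupp.add_apply, div_apply hK, Finsupp.coe_zero, Pi.zero_apply]; omega

theorem ell_eq_zero_of_deg_neg {D : Divisor k K} (h : D.deg < 0) : L D = ⊥ := by
  by_contra hne
  obtain ⟨x, -, hx⟩ := exists_effective hK hne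
  have := deg_nonneg hx
  rw [deg_add, deg_div hK] at this
  omega

theorem ell_eq_of_deg_ge {D : Divisor k K} (h : 2 * (genus k K : ℤ) - 1 ≤ D.deg) :
    (ell D : ℤ) = D.deg + 1 - genus k K := by
  obtain ⟨C, hC⟩ := exists_canonical hK
  have hneg : (C - D).deg < 0 := by rw [deg_sub, (ell_canonical hK hC).2]; omega
  rw [riemann_roch hK hC D]
  have : ell (C - D) = 0 := by rw [ell, ell_eq_zero_of_deg_neg hK hneg, finrank_bot]
  omega

theorem exists_pos_of_ell {D : Divisor k K} (h : 0 < ell D) : ∃ x : K, x ≠ 0 ∧ 0 ≤ D + div k x :=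
  exists_effective hK fun e => by rw [ell, e, finrank_bot] at h; omega

end

end Groth.Agent.FunFld
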