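import Groth.Agent.FunFld.Extra
import Groth.Prelude.Def_W4bk4goldsch45
import Mathlib.FieldTheory.Finiteness
import Mathlib.RingTheory.PowerSeries.Basic

/-! Places of bounded degree, effective divisors and divisor classes over a finite field. -/

namespace Groth.Agent.FunFld

open _root_.FunFld WithZero IsLocalRing Finset

variable {k K : Type*} [Field k] [Field K] [Algebra k K] (hK : IsFunctionField k K)
include hK

theorem eq_smul_of_div_eq {x y : K} (hx : x ≠ 0) (hy : y ≠ 0) (h : div k x = div k y) :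
    ∃ u : kˣ, x = (u : k) • y := by
  have hxy : x * y⁻¹ ≠ 0 := mul_ne_zero hx (inv_ne_zero hy)
  obtain ⟨c, hc⟩ := val_le_one_of_all hK (x := x * y⁻¹) fun P => by
    refine (ord_nonneg_iff P hxy).1 (le_of_eq ?_)
    rw [ord_mul P hx (inv_ne_zero hy), ord_inv, ← div_apply hK x P, h, div_apply hK, add_neg_cancel]
  have hc0 : c ≠ 0 := fun e => hxy (by rw [← hc, e, map_zero])
  exact ⟨Units.mk0 c hc0, by rw [Units.val_mk0, Algebra.smul_def, hc, inv_mul_cancel_right₀ hy]⟩

theorem div_smul_eq {c : k} (hc : c ≠ 0) {x : K} (hx : x ≠ 0) : div k (c • x) = (div k x : Divisor k K) := by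
  refine Finsupp.ext fun P => ?_
  rw [div_apply hK, div_apply hK, Algebra.smul_def, ord_mul P ((map_ne_zero _).2 hc) hx, ord_algebraMap,
    zero_add]

theorem mem_prinDivs_iff {D : Divisor k K} : D ∈ prinDivs k K ↔ ∃ x : K, x ≠ 0 ∧ D = div k x := by
  constructor
  · intro h
    induction h using AddSubgroup.closure_induction with
    | mem D hD =>
      obtain ⟨x, rfl⟩ := hD
      rcases eq_or_ne x 0 with rfl | hx
      · refine ⟨1, one_ne_zero, Finsupp.ext fun P => ?_⟩
        rw [div_apply hK, div_apply hK, ord_zero, ← map_one (algebraMap k K), ord_algebraMap]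
      · exact ⟨x, hx, rfl⟩
    | zero =>
      refine ⟨1, one_ne_zero, Finsupp.ext fun P => ?_⟩
      rw [div_apply hK, ← map_one (algebraMap k K), ord_algebraMap, Finsupp.coe_zero, Pi.zero_apply]
    | add D E _ _ hD hE =>
      obtain ⟨x, hx, rfl⟩ := hD
      obtain ⟨y, hy, rfl⟩ := hE
      exact ⟨x * y, mul_ne_zero hx hy, (div_mul hK hx hy).symm⟩
    | neg D _ hD =>
      obtain ⟨x, hx, rfl⟩ := hD
      exact ⟨x⁻¹, inv_ne_zero hx, (div_inv hK x).symm⟩
  · rintro ⟨x, -, rfl⟩
    exact AddSubgroup.subset_closure ⟨x, rfl⟩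

omit hK in
theorem degHom_apply (D : Divisor k K) : degHom k K D = D.deg := by
  rw [degHom, Divisor.deg, Finsupp.liftAddHom_apply]
  rfl

theorem exists_deg_place : ∃ P : Place k K, 0 < P.deg := by
  obtain ⟨P⟩ := exists_place_any hK
  exact ⟨P, deg_pos hK P⟩

variable [Finite k]

theorem finite_places_deg_le (n : ℕ) : {P : Place k K | P.deg ≤ n}.Finite := by
  classical
  obtain ⟨x, hx, -⟩ := hK.1
  have hpoly : {p : Polynomial k | p.natDegree ≤ n}.Finite := by
    refine Set.Finite.of_finite_image (f := fun p (i : Fin (n + 1)) => p.coeff i) (Set.toFinite _) ?_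
    intro p hp q hq h
    refine Polynomial.ext fun i => ?_
    rcases lt_or_ge i (n + 1) with hi | hi
    · exact congrFun h ⟨i, hi⟩
    · rw [Polynomial.coeff_eq_zero_of_natDegree_lt (by simp at hp; omega),
        Polynomial.coeff_eq_zero_of_natDegree_lt (by simp at hq; omega)]
  refine Set.Finite.subset ((finite_zeros hK x⁻¹).union
    (hpoly.biUnion (fun p _ => finite_zeros hK (Polynomial.aeval x p)))) fun P (hP : P.deg ≤ n) => ?_
  rcases lt_or_ge (P.ord x) 0 with h | h
  · left; show 0 < P.ord x⁻¹; rw [ord_inv]; omega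
  right
  have hx0 : x ≠ 0 := fun e => hx (e ▸ isAlgebraic_zero)
  have hfin := residue_finite hK P
  let xO : P.O := ⟨x, (ord_nonneg_iff P hx0).1 h⟩
  let r : ResidueField P.O := residue P.O xO
  have hr : IsIntegral k r := @IsIntegral.of_finite k (ResidueField P.O) _ _ _ hfin r
  refine Set.mem_biUnion (x := minpoly k r)
    (show (minpoly k r).natDegree ≤ n from (@minpoly.natDegree_le k (ResidueField P.O) _ _ _ hfin r _).trans hP) ?_
  have h0 : residue P.O (Polynomial.eval₂ (algebraMap k P.O) xO (minpoly k r)) = 0 := by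
    rw [Polynomial.hom_eval₂]
    exact minpoly.aeval k r
  have hsub : Polynomial.aeval x (minpoly k r) =
      ((Polynomial.eval₂ (algebraMap k P.O) xO (minpoly k r) : P.O) : K) := by
    rw [show ((Polynomial.eval₂ (algebraMap k P.O) xO (minpoly k r) : P.O) : K) =
      P.O.subtype (Polynomial.eval₂ (algebraMap k P.O) xO (minpoly k r)) from rfl, Polynomial.hom_eval₂]
    rfl
  have hne : Polynomial.aeval x (minpoly k r) ≠ 0 := fun e => hx ⟨_, minpoly.ne_zero hr, e⟩
  show 0 < P.ord _
  rw [ord_pos_iff P hne, hsub]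
  rw [residue_eq_zero_iff, mem_maximalIdeal, mem_nonunits_iff] at h0
  exact lt_of_le_of_ne (Polynomial.eval₂ (algebraMap k P.O) xO (minpoly k r)).2 fun e => h0
    ((Valuation.integer.integers P.1).isUnit_iff_valuation_eq_one.2 e)

theorem finite_effective (n : ℕ) : Finite {D : Divisor k K // 0 ≤ D ∧ D.deg = n} := by
  classical
  set S := (finite_places_deg_le hK n).toFinset
  have key : ∀ D : Divisor k K, 0 ≤ D → D.deg = n → ∀ P, D P ≤ n ∧ (P ∉ S → D P = 0) := by
    intro D h0 hd P
    have h1 : 0 ≤ D - Finsupp.single P (D P) := fun Q => by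
      rcases eq_or_ne Q P with rfl | hne
      · simp
      · have := h0 Q; simpa [Finsupp.single_eq_of_ne hne] using this
    have h2 := deg_nonneg h1
    rw [deg_sub, deg_single, hd] at h2
    have h3 : (1 : ℤ) ≤ P.deg := by exact_mod_cast deg_pos hK P
    have h4 : (0 : ℤ) ≤ D P := h0 P
    refine ⟨by nlinarith, fun hP => ?_⟩
    simp only [S, Set.Finite.mem_toFinset, Set.mem_setOf_eq, not_le] at hP
    have h5 : (n : ℤ) < P.deg := by exact_mod_cast hP
    nlinarith
  refine Finite.of_injective (β := S → Fin (n + 1)) (fun D P => ⟨(D.1 P.1).toNat, by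
    have := (key D.1 D.2.1 D.2.2 P.1).1; omega⟩) fun D E h => ?_
  refine Subtype.ext (Finsupp.ext fun P => ?_)
  by_cases hP : P ∈ S
  · have := congrArg Fin.val (congrFun h ⟨P, hP⟩)
    have h4 := D.2.1 P; have h5 := E.2.1 P
    simp only [Finsupp.coe_zero, Pi.zero_apply] at h4 h5
    simp only at this; omega
  · rw [(key _ D.2.1 D.2.2 P).2 hP, (key _ E.2.1 E.2.2 P).2 hP]

/-- Degree zero divisor classes. -/
abbrev Cl0 (k K : Type*) [Field k] [Field K] [Algebra k K] :=
  (degHom k K).ker ⧸ (prinDivs k K).addSubgroupOf (degHom k K).ker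

theorem mk_eq_mk_iff {A B : (degHom k K).ker} :
    (QuotientAddGroup.mk A : Cl0 k K) = QuotientAddGroup.mk B ↔
      ∃ x : K, x ≠ 0 ∧ (B : Divisor k K) = A + div k x := by
  rw [QuotientAddGroup.eq, AddSubgroup.mem_addSubgroupOf, mem_prinDivs_iff hK]
  refine exists_congr fun x => and_congr_right fun _ => ?_
  simp only [AddSubgroup.coe_add, AddSubgroup.coe_neg]
  constructor <;> intro h
  · rw [← h]; abel
  · rw [h]; abel

theorem finite_classGroup : Finite (Cl0 k K) := by
  obtain ⟨P, hP⟩ := exists_deg_place hK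
  set D0 : Divisor k K := Finsupp.single P ((2 * genus k K + 1 : ℕ) : ℤ) with hD0
  set n := (2 * genus k K + 1) * P.deg with hn
  have hd0 : D0.deg = (n : ℤ) := by rw [hD0, deg_single, hn]; push_cast; ring
  have := finite_effective hK n
  refine Finite.of_surjective (α := {D : Divisor k K // 0 ≤ D ∧ D.deg = n})
    (fun D => (QuotientAddGroup.mk ⟨D.1 - D0, by
      rw [AddMonoidHom.mem_ker, degHom_apply, deg_sub, D.2.2, hd0, sub_self]⟩ : Cl0 k K)) fun c => ?_
  obtain ⟨A, rfl⟩ := QuotientAddGroup.mk_surjective c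
  have hA : (A : Divisor k K).deg = 0 := by rw [← degHom_apply]; exact A.2
  have hge : (2 * genus k K + 1 : ℤ) ≤ n := by
    rw [hn]; push_cast; have : (1 : ℤ) ≤ P.deg := by exact_mod_cast hP
    nlinarith
  have hl := ell_eq_of_deg_ge hK (D := (A : Divisor k K) + D0) (by rw [deg_add, hA, hd0]; omega)
  rw [deg_add, hA, hd0] at hl
  obtain ⟨x, hx, hpos⟩ := exists_pos_of_ell hK (D := (A : Divisor k K) + D0) (by omega)
  refine ⟨⟨_, hpos, by rw [deg_add, deg_add, hA, hd0, deg_div hK]; ring⟩, ?_⟩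
  refine ((mk_eq_mk_iff hK).2 ⟨x, hx, ?_⟩).symm
  show ((A : Divisor k K) + D0 + div k x) - D0 = _
  abel

theorem count_effective {n : ℕ} (hn : 2 * genus k K ≤ n + 1) (hD : ∃ D : Divisor k K, D.deg = n) :
    effDivCount k K n * (Nat.card k - 1) =
      classNum k K * (Nat.card k ^ (n + 1 - genus k K) - 1) := by
  classical
  obtain ⟨D0, hd0⟩ := hD
  haveI := finite_effective hK n
  haveI := finite_classGroup hK
  haveI : Fintype (Cl0 k K) := Fintype.ofFinite _
  let A : Cl0 k K → Divisor k K := fun c => (c.out : (degHom k K).ker)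
  have hA : ∀ c, (A c).deg = 0 := fun c => by rw [← degHom_apply]; exact c.out.2
  haveI : ∀ c, Finite (L (A c + D0)) := fun c => by
    haveI := L_finite hK (A c + D0)
    exact Module.finite_of_finite k
  let T := Σ c : Cl0 k K, {x : L (A c + D0) // x ≠ 0}
  have hT : Nat.card T = classNum k K * (Nat.card k ^ (n + 1 - genus k K) - 1) := by
    rw [Nat.card_sigma, Finset.sum_eq_card_nsmul (b := Nat.card k ^ (n + 1 - genus k K) - 1) (fun c _ => ?_),
      smul_eq_mul, Finset.card_univ, ← Nat.card_eq_fintype_card]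
    · rfl
    · haveI := L_finite hK (A c + D0)
      have hl := ell_eq_of_deg_ge hK (D := A c + D0) (by rw [deg_add, hA, hd0]; omega)
      rw [deg_add, hA, hd0] at hl
      rw [show Nat.card {x : L (A c + D0) // x ≠ 0} = Nat.card (L (A c + D0)) - 1 from by
        rw [← Set.ncard_singleton (0 : L (A c + D0)), ← Set.ncard_compl]
        exact (Nat.card_coe_set_eq _), Module.natCard_eq_pow_finrank (K := k)]
      rw [show Module.finrank k (L (A c + D0)) = n + 1 - genus k K by rw [← ell]; omega]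
  let f : {D : Divisor k K // 0 ≤ D ∧ D.deg = n} → Cl0 k K := fun D => QuotientAddGroup.mk ⟨D.1 - D0, by
      rw [AddMonoidHom.mem_ker, degHom_apply, deg_sub, D.2.2, hd0, sub_self]⟩
  have hx : ∀ D, ∃ x : K, x ≠ 0 ∧ D.1 = A (f D) + D0 + div k x := fun D => by
    obtain ⟨x, hx, he⟩ := (mk_eq_mk_iff hK).1 (QuotientAddGroup.out_eq' (f D))
    refine ⟨x, hx, ?_⟩
    rw [show A (f D) + D0 + div k x = (A (f D) + div k x) + D0 by abel, ← he]
    exact (sub_add_cancel D.1 D0).symm
  choose xD hxD0 hxD using hx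
  have hmem : ∀ D, xD D ∈ L (A (f D) + D0) := fun D Q => by
    rw [le_exp_iff Q (hxD0 D)]
    have := D.2.1 Q
    rw [hxD D] at this
    simp only [Finsupp.add_apply, div_apply hK, Finsupp.coe_zero, Pi.zero_apply] at this
    rw [Finsupp.add_apply]; omega
  let h : {D : Divisor k K // 0 ≤ D ∧ D.deg = n} × kˣ → T := fun p =>
    ⟨f p.1, (p.2 : k) • ⟨xD p.1, hmem p.1⟩, smul_ne_zero p.2.ne_zero fun e => hxD0 p.1 (congrArg Subtype.val e)⟩
  have hval : ∀ p, ((h p).2.1 : K) = (p.2 : k) • xD p.1 := fun p => rfl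
  have hbij : Function.Bijective h := by
    constructor
    · rintro ⟨D, u⟩ ⟨D', u'⟩ e
      have e1 : f D = f D' := congrArg Sigma.fst e
      have e2 : (u : k) • xD D = (u' : k) • xD D' := by
        rw [← hval (D, u), e, hval]
      have e3 : D = D' := Subtype.ext (by
        rw [hxD D, hxD D', e1, ← div_smul_eq hK u.ne_zero (hxD0 D), e2, div_smul_eq hK u'.ne_zero (hxD0 D')])
      subst e3
      exact Prod.ext rfl (Units.ext (smul_left_injective k (hxD0 D) e2))
    · rintro ⟨c, ⟨⟨x, hxL⟩, hx0⟩⟩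
      have hx0' : x ≠ 0 := fun e => hx0 (Subtype.ext e)
      have hpos : 0 ≤ A c + D0 + div k x := fun Q => by
        have := hxL Q
        rw [le_exp_iff Q hx0', Finsupp.add_apply] at this
        simp only [Finsupp.add_apply, div_apply hK, Finsupp.coe_zero, Pi.zero_apply]; omega
      let D : {D : Divisor k K // 0 ≤ D ∧ D.deg = n} :=
        ⟨_, hpos, by rw [deg_add, deg_add, hA, hd0, deg_div hK]; ring⟩
      have hc : f D = c := by
        rw [← QuotientAddGroup.out_eq' c]
        refine ((mk_eq_mk_iff hK).2 ⟨x, hx0', ?_⟩).symm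
        show A c + D0 + div k x - D0 = A c + div k x
        abel
      have hdiv : div k x = div k (xD D) :=
        add_left_cancel (a := A c + D0) (by
          have e := hxD D
          rw [hc] at e
          exact e)
      obtain ⟨u, hu⟩ := eq_smul_of_div_eq hK hx0' (hxD0 D) hdiv
      refine ⟨(D, u), ?_⟩
      have inj : Function.Injective fun t : T => (t.1, (t.2.1 : K)) := by
        rintro ⟨c₁, a₁⟩ ⟨c₂, a₂⟩ e
        obtain rfl : c₁ = c₂ := congrArg Prod.fst e
        exact congrArg (Sigma.mk c₁) (Subtype.ext (Subtype.ext (congrArg Prod.snd e)))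
      exact inj (Prod.ext hc hu.symm)
  rw [← hT, ← Nat.card_congr (Equiv.ofBijective h hbij), Nat.card_prod, Nat.card_units]
  rfl

theorem count_effective_int {n : ℕ} (hn : 2 * genus k K ≤ n + 1) (hD : ∃ D : Divisor k K, D.deg = n) :
    ((Nat.card k : ℤ) - 1) * (effDivCount k K n : ℤ) =
      (classNum k K : ℤ) * ((Nat.card k : ℤ) ^ (n + 1 - genus k K) - 1) := by
  have h := congrArg (fun a : ℕ => (a : ℤ)) (count_effective hK hn hD)
  have hq : 1 ≤ Nat.card k := (Nat.card_pos : 0 < Nat.card k)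
  simp only [Nat.cast_mul, Nat.cast_sub hq, Nat.cast_sub (Nat.one_le_pow _ _ hq), Nat.cast_pow,
    Nat.cast_one] at h
  linarith

omit hK [Finite k] in
theorem effDivCount_eq_zero {n : ℕ} (h : ¬ ∃ D : Divisor k K, D.deg = n) : effDivCount k K n = 0 := by
  haveI : IsEmpty {D : Divisor k K // 0 ≤ D ∧ D.deg = n} := ⟨fun D => h ⟨D.1, D.2.2⟩⟩
  exact Nat.card_of_isEmpty

theorem classNum_pos : 0 < classNum k K := by
  haveI := finite_classGroup hK
  exact Nat.card_pos

end Groth.Agent.FunFld

namespace Groth.Agent.FunFld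

open _root_.FunFld WithZero Finset

variable {k K : Type*} [Field k] [Field K] [Algebra k K] (hK : IsFunctionField k K)
include hK

variable [Finite k]

theorem one_lt_card : (1 : ℤ) < Nat.card k := by exact_mod_cast Finite.one_lt_card

theorem eval_one_numerZ (p : Polynomial ℤ) (hp : (p : PowerSeries ℤ) = numerZ k K) :
    p.eval 1 = (classNum k K : ℤ) := by
  set q : ℤ := (Nat.card k : ℤ) with hq
  set g := genus k K
  set F : PowerSeries ℤ := (1 - PowerSeries.C q * PowerSeries.X) * zetaZ k K with hF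
  have hpF : (p : PowerSeries ℤ) = (1 - PowerSeries.X) * F := by rw [hp, hF, numerZ, mul_assoc]
  have hFs : ∀ M, PowerSeries.coeff (M + 1) F =
      (effDivCount k K (M + 1) : ℤ) - q * effDivCount k K M := fun M => by
    rw [hF, sub_mul, one_mul, map_sub, mul_assoc, PowerSeries.coeff_C_mul, PowerSeries.coeff_succ_X_mul,
      zetaZ, PowerSeries.coeff_mk, PowerSeries.coeff_mk]
  have hsum : ∀ M, ∑ i ∈ Finset.range (M + 1), p.coeff i = PowerSeries.coeff M F := by
    intro M
    induction M with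
    | zero =>
      rw [Finset.sum_range_one, ← Polynomial.coeff_coe, hpF, sub_mul, one_mul, map_sub,
        PowerSeries.coeff_zero_X_mul, sub_zero]
    | succ M ih =>
      rw [Finset.sum_range_succ, ih, ← Polynomial.coeff_coe, hpF, sub_mul, one_mul, map_sub,
        PowerSeries.coeff_succ_X_mul]
      ring
  have hconst : ∀ M, p.natDegree ≤ M → PowerSeries.coeff M F = p.eval 1 := fun M hM => by
    rw [← hsum, Polynomial.eval_eq_sum_range' (Nat.lt_succ_of_le hM)]
    simp
  have hq1 := one_lt_card hK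
  have hh : (0 : ℤ) < classNum k K := by exact_mod_cast classNum_pos hK
  set M0 := p.natDegree + 2 * g
  -- two consecutive large degrees of divisors
  suffices h : ∃ M, M0 ≤ M ∧ (∃ D : Divisor k K, D.deg = (M : ℕ)) ∧ ∃ D : Divisor k K, D.deg = ((M + 1 : ℕ) : ℤ) by
    obtain ⟨M, hM, h1, h2⟩ := h
    have e1 := count_effective_int hK (n := M) (by omega) h1
    have e2 := count_effective_int hK (n := M + 1) (by omega) h2
    rw [show M + 1 + 1 - g = (M + 1 - g) + 1 by omega, pow_succ] at e2
    have e3 := hconst (M + 1) (by omega)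
    rw [hFs] at e3
    rw [← e3]
    have hne : q - 1 ≠ 0 := by rw [hq]; omega
    refine mul_left_cancel₀ hne ?_
    linear_combination e2 - q * e1
  obtain ⟨P, hP⟩ := exists_deg_place hK
  set d := P.deg
  have hmul : ∀ j : ℕ, ∃ D : Divisor k K, D.deg = ((j * d : ℕ) : ℤ) :=
    fun j => ⟨Finsupp.single P j, by rw [deg_single]; push_cast; rfl⟩
  set j := M0 + 2
  have hj : M0 + 2 ≤ j * d := le_trans (le_refl _) (Nat.le_mul_of_pos_right j hP)
  have hj1 : j * d ≤ (j + 1) * d := Nat.mul_le_mul_right d (Nat.le_succ j)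
  obtain ⟨M, hM⟩ : ∃ M, j * d = M + 1 := ⟨j * d - 1, by omega⟩
  obtain ⟨M', hM'⟩ : ∃ M', (j + 1) * d = M' + 1 := ⟨(j + 1) * d - 1, by omega⟩
  by_cases h1 : ∃ D : Divisor k K, D.deg = (M : ℕ)
  · exact ⟨M, by omega, h1, hM ▸ hmul j⟩
  by_cases h2 : ∃ D : Divisor k K, D.deg = (M' : ℕ)
  · exact ⟨M', by omega, h2, hM' ▸ hmul (j + 1)⟩
  exfalso
  have e1 := hconst (M + 1) (by omega)
  have e2 := hconst (M' + 1) (by omega)
  rw [hFs, effDivCount_eq_zero h1] at e1
  rw [hFs, effDivCount_eq_zero h2, ← e1] at e2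
  simp only [Nat.cast_zero, mul_zero, sub_zero] at e2
  have c1 := count_effective_int hK (n := M + 1) (by omega) (hM ▸ hmul j)
  have c2 := count_effective_int hK (n := M' + 1) (by omega) (hM' ▸ hmul (j + 1))
  rw [e2, c1] at c2
  have := mul_left_cancel₀ hh.ne' c2
  have hlt : q ^ (M + 1 + 1 - g) < q ^ (M' + 1 + 1 - g) :=
    pow_lt_pow_right₀ hq1 (by
      have : (j + 1) * d = j * d + d := by ring
      omega)
  simp only [hq] at this hlt ⊢
  linarith

end Groth.Agent.FunFld
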