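import Groth.Agent.FunFld.ConstExt
import Groth.Agent.FunFld.Ext.Disc
import Mathlib.LinearAlgebra.TensorProduct.Basis

/-! Separable constant extensions are unramified. -/

namespace Groth.Agent.FunFld

open _root_.FunFld WithZero TensorProduct

variable {k k' K K' : Type*} [Field k] [Field k'] [Field K] [Field K']
  [Algebra k k'] [FiniteDimensional k k'] [Algebra k K] [Algebra K K'] [Algebra k' K'] [Algebra k K']
  [IsScalarTower k k' K'] [IsScalarTower k K K']
  (h : Function.Bijective (Algebra.TensorProduct.productMap (IsScalarTower.toAlgHom k k' K')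
    (IsScalarTower.toAlgHom k K K')))
include h

/-- The basis of the constant extension coming from a basis of the constants. -/
theorem exists_const_basis : ∃ b : Module.Basis (Fin (Module.finrank k k')) K K',
    ∀ i, b i = algebraMap k' K' (Module.finBasis k k' i) := by
  classical
  set β := Module.finBasis k k'
  have hli : LinearIndependent K fun i => algebraMap k' K' (β i) := by
    rw [Fintype.linearIndependent_iff]
    intro c hc i
    let cf : Fin (Module.finrank k k') →₀ K := Finsupp.equivFunOnFinite.symm c
    have hz : (cf.sum fun i m => β i ⊗ₜ[k] m) = 0 := h.1 (by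
      rw [map_zero, Finsupp.sum_fintype _ _ (fun _ => tmul_zero _ _), map_sum, ← hc]
      refine Finset.sum_congr rfl fun j _ => ?_
      rw [Algebra.TensorProduct.productMap_apply_tmul, Algebra.smul_def, mul_comm]; rfl)
    exact DFunLike.congr_fun (TensorProduct.sum_tmul_basis_left_eq_zero β cf hz) i
  refine ⟨Module.Basis.mk hli fun z _ => ?_, fun i => Module.Basis.mk_apply _ _ i⟩
  obtain ⟨w, rfl⟩ := h.2 z
  induction w using TensorProduct.induction_on with
  | zero => rw [map_zero]; exact Submodule.zero_mem _
  | add a c ha hc => rw [map_add]; exact Submodule.add_mem _ (ha trivial) (hc trivial)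
  | tmul a c =>
    rw [Algebra.TensorProduct.productMap_apply_tmul, IsScalarTower.coe_toAlgHom',
      IsScalarTower.coe_toAlgHom', mul_comm, ← Algebra.smul_def]
    refine Submodule.smul_mem _ _ ?_
    rw [← β.sum_repr a, map_sum]
    refine Submodule.sum_mem _ fun i _ => ?_
    rw [Algebra.smul_def, map_mul, ← IsScalarTower.algebraMap_apply,
      IsScalarTower.algebraMap_apply k K K', ← Algebra.smul_def]
    exact Submodule.smul_mem _ _ (Submodule.subset_span ⟨i, rfl⟩)

omit h in
theorem val_const_le (R : Place k K') (a : k') : R.1 (algebraMap k' K' a) ≤ 1 := by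
  haveI : IsScalarTower k R.O K' := IsScalarTower.of_algebraMap_eq fun _ => rfl
  have h1 : IsIntegral R.O (algebraMap k' K' a) :=
    ((IsIntegral.of_finite k a).map (IsScalarTower.toAlgHom k k' K')).tower_top
  obtain ⟨o, ho⟩ := IsIntegrallyClosed.isIntegral_iff.1 h1
  exact ho ▸ o.2

theorem sep_const_disc [Algebra.IsSeparable k k'] (hK : IsFunctionField k K) (P : Place k K) [Algebra P.O K']
    [IsScalarTower P.O K K'] (Q : Place k K') (hQ : IsOver Q P) :
    (integralClosure P.O K').toSubring = (Algebra.adjoin P.O (Set.range (algebraMap k' K'))).toSubring ∧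
      IsOverWith Q P 1 := by
  classical
  obtain ⟨b, hb⟩ := exists_const_basis h
  haveI := Module.Finite.of_basis b
  set β := Module.finBasis k k'
  have hrepr : ∀ (a : k') l, b.repr (algebraMap k' K' a) l = algebraMap k K (β.repr a l) := fun a l => by
    have : algebraMap k' K' a = ∑ j, algebraMap k K (β.repr a j) • b j := by
      conv_lhs => rw [← β.sum_repr a, map_sum]
      refine Finset.sum_congr rfl fun j _ => ?_
      rw [hb, Algebra.smul_def, map_mul, ← IsScalarTower.algebraMap_apply, Algebra.smul_def,
        ← IsScalarTower.algebraMap_apply]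
    rw [this, b.repr_sum_self]
  have htr : ∀ a : k', Algebra.trace K K' (algebraMap k' K' a) = algebraMap k K (Algebra.trace k k' a) := by
    intro a
    rw [Algebra.trace_eq_matrix_trace b, Algebra.trace_eq_matrix_trace β, Matrix.trace, Matrix.trace, map_sum]
    refine Finset.sum_congr rfl fun i _ => ?_
    simp only [Matrix.diag_apply, Algebra.leftMulMatrix_eq_repr_mul]
    rw [hb, ← map_mul, hrepr]
  have hT : Algebra.traceMatrix K b = (Algebra.traceMatrix k β).map (algebraMap k K) := by
    ext i j
    rw [Matrix.map_apply, Algebra.traceMatrix_apply, Algebra.traceMatrix_apply, Algebra.traceForm_apply,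
      Algebra.traceForm_apply, hb, hb, ← map_mul, htr]
  have hdet : P.1 (Algebra.traceMatrix K b).det = 1 := by
    rw [hT, ← RingHom.mapMatrix_apply, ← RingHom.map_det]
    exact val_algebraMap P (by rw [Algebra.traceMatrix_of_basis]; exact det_traceForm_ne_zero β)
  have hbv : ∀ R : Place k K', IsOver R P → ∀ i, R.1 (b i) ≤ 1 := fun R _ i => by
    rw [hb]; exact val_const_le R _
  refine ⟨?_, unramified_of_disc hK b P hbv hdet hQ⟩
  refine le_antisymm (fun z hz => ?_) (fun z hz => ?_)
  · change z ∈ integralClosure P.O K' at hz
    rw [integralClosure_eq hK P] at hz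
    have hc := (coeff_of_disc hK b P hbv hdet fun R hR => hz R ((mem_placesOver hK).2 hR)).1
    show z ∈ Algebra.adjoin P.O (Set.range (algebraMap k' K'))
    rw [← b.sum_repr z]
    refine Subalgebra.sum_mem _ fun i _ => ?_
    rw [show b.repr z i • b i = ((⟨b.repr z i, hc i⟩ : ↥P.O) : ↥P.O) • b i by
      rw [Algebra.smul_def, Algebra.smul_def, IsScalarTower.algebraMap_apply P.O K K']; rfl]
    exact Subalgebra.smul_mem _ (Algebra.subset_adjoin (show b i ∈ Set.range (algebraMap k' K') from ⟨β i, (hb i).symm⟩)) _
  · show z ∈ integralClosure P.O K'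
    rw [integralClosure_eq hK P]
    refine (show Algebra.adjoin P.O (Set.range (algebraMap k' K')) ≤ Bring hK P K' from
      Algebra.adjoin_le ?_) hz
    rintro _ ⟨a, rfl⟩ R _
    exact val_const_le R a

end Groth.Agent.FunFld
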