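import Groth.Agent.FunFld.Ext.Galois
import Groth.Agent.FunFld.ConstDisc
import Mathlib.FieldTheory.PrimitiveElement
import Mathlib.FieldTheory.Galois.Basic
import Mathlib.RingTheory.Valuation.RamificationGroup

/-! The inertia group has order `e`. -/

namespace Groth.Agent.FunFld

open _root_.FunFld WithZero IsLocalRing
open scoped Pointwise

attribute [-instance] instModuleResidueFieldOfAlgebra

universe u v w

variable {k : Type u} {K : Type v} {K' : Type w} [Field k] [Field K] [Field K'] [Algebra k K] [Algebra K K']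
  [Algebra k K'] [IsScalarTower k K K']

theorem smul_residue (Q : Place k K') (g : Q.O.decompositionSubgroup K) (a : Q.O) :
    g • residue Q.O a = residue Q.O (g • a) := rfl

theorem mem_inertia_iff (Q : Place k K') (σ : K' ≃ₐ[K] K') :
    σ ∈ (Q.O.inertiaSubgroup K).map (Q.O.decompositionSubgroup K).subtype ↔
      σ • Q.O = Q.O ∧ ∀ x : K', Q.1 x ≤ 1 → Q.1 (σ x - x) < 1 := by
  constructor
  · rintro ⟨g, hg, rfl⟩
    refine ⟨g.2, fun x hx => ?_⟩
    have h : g • residue Q.O (⟨x, hx⟩ : Q.O) = residue Q.O (⟨x, hx⟩ : Q.O) :=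
      RingEquiv.congr_fun (MonoidHom.mem_ker.1 hg) _
    rw [smul_residue, ← sub_eq_zero, ← map_sub, residue_eq_zero_iff, mem_maximalIdeal, mem_nonunits_iff] at h
    exact (Valuation.Integer.not_isUnit_iff_valuation_lt_one (v := Q.1) (x := ((g • (⟨x, hx⟩ : Q.O) - (⟨x, hx⟩ : Q.O) : Q.O)))).1 h
  · rintro ⟨hσ, hx⟩
    refine ⟨⟨σ, hσ⟩, MonoidHom.mem_ker.2 (RingEquiv.ext fun r => ?_), rfl⟩
    obtain ⟨⟨x, hx'⟩, rfl⟩ := residue_surjective r
    show (⟨σ, hσ⟩ : Q.O.decompositionSubgroup K) • residue Q.O (⟨x, hx'⟩ : Q.O) = residue Q.O (⟨x, hx'⟩ : Q.O)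
    rw [smul_residue, ← sub_eq_zero, ← map_sub, residue_eq_zero_iff, mem_maximalIdeal, mem_nonunits_iff]
    exact (Valuation.Integer.not_isUnit_iff_valuation_lt_one (v := Q.1)
      (x := (((⟨σ, hσ⟩ : Q.O.decompositionSubgroup K) • (⟨x, hx'⟩ : Q.O) - (⟨x, hx'⟩ : Q.O) : Q.O)))).2 (hx x hx')

variable [FiniteDimensional K K'] [IsGalois K K'] (hK : IsFunctionField k K)
include hK

theorem card_inertia (Q : Place k K') (P : Place k K) (e : ℕ) (he : IsOverWith Q P e)
    [Algebra.IsSeparable k (ResidueField Q.O)] : Nat.card (Q.O.inertiaSubgroup K) = e := by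
  classical
  have hover : IsOver Q P := ⟨e, he⟩
  haveI hfQ : @Module.Finite k (ResidueField Q.O) _ _ Algebra.toModule := residue_finite' (K' := K') hK Q
  let ι₀ : P.O →+* Q.O :=
    ((algebraMap K K').comp P.O.subtype).codRestrict Q.O fun c => (val_le_one_iff hover (c : K)).2 c.2
  haveI : IsLocalHom ι₀ := ⟨fun c hc => by
    by_contra hn
    have h1 : P.1 (c : K) < 1 := (Valuation.Integer.not_isUnit_iff_valuation_lt_one (v := P.1) (x := c)).1 hn
    exact (Valuation.Integer.not_isUnit_iff_valuation_lt_one (v := Q.1) (x := ι₀ c)).2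
      ((val_lt_one_iff hover (c : K)).2 h1) hc⟩
  set kP := ResidueField P.O
  set kQ := ResidueField Q.O
  letI : Algebra kP kQ := (ResidueField.map ι₀).toAlgebra
  haveI : IsScalarTower k kP kQ := IsScalarTower.of_algebraMap_eq fun c => by
    show residue Q.O (algebraMap k Q.O c) = ResidueField.map ι₀ (residue P.O (algebraMap k P.O c))
    rw [ResidueField.map_residue]
    exact congrArg _ (Subtype.ext (IsScalarTower.algebraMap_apply k K K' c))
  haveI : FiniteDimensional kP kQ := Module.Finite.of_restrictScalars_finite k kP kQ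
  haveI : Algebra.IsSeparable kP kQ := Algebra.isSeparable_tower_top_of_isSeparable k kP kQ
  set D := Q.O.decompositionSubgroup K
  set f := Module.finrank kP kQ
  have hdeg : P.deg * f = Q.deg := Module.finrank_mul_finrank k kP kQ
  obtain ⟨-, -, hD⟩ := galois_counts hK he
  have hDf : Nat.card D = e * f := by
    refine Nat.eq_of_mul_eq_mul_right (deg_pos hK P) ?_
    rw [hD, ← hdeg]; ring
  have hfixP : ∀ (g : D) (c : kP), g • algebraMap kP kQ c = algebraMap kP kQ c := by
    intro g c
    obtain ⟨c, rfl⟩ := residue_surjective c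
    show g • residue Q.O (ι₀ c) = residue Q.O (ι₀ c)
    rw [smul_residue]
    exact congrArg _ (Subtype.ext ((g : K' ≃ₐ[K] K').commutes (c : K)))
  obtain ⟨r, hr⟩ := Field.exists_primitive_element kP kQ
  have hint : IsIntegral kP r := IsIntegral.of_finite kP r
  let act : D → (kQ →ₐ[kP] kQ) := fun g =>
    { MulSemiringAction.toRingHom D kQ g with commutes' := hfixP g }
  have hstab : MulAction.stabilizer D r = Q.O.inertiaSubgroup K := by
    ext g
    rw [MulAction.mem_stabilizer_iff]
    constructor
    · intro hg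
      refine MonoidHom.mem_ker.2 (RingEquiv.ext fun x => ?_)
      show act g x = x
      have hx : x ∈ IntermediateField.adjoin kP ({r} : Set kQ) := hr ▸ IntermediateField.mem_top
      induction hx using IntermediateField.adjoin_induction with
      | mem y hy => rw [Set.mem_singleton_iff.1 hy]; exact hg
      | algebraMap c => exact (act g).commutes c
      | add a b _ _ ha hb => rw [map_add, ha, hb]
      | inv a _ ha => rw [map_inv₀, ha]
      | mul a b _ _ ha hb => rw [map_mul, ha, hb]
    · intro hg
      exact RingEquiv.congr_fun (MonoidHom.mem_ker.1 hg) r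
  set p := minpoly kP r
  have hpdeg : p.natDegree = f := by
    rw [← IntermediateField.adjoin.finrank hint, hr, IntermediateField.finrank_top']
  have horb : MulAction.orbit D r ⊆ (p.rootSet kQ : Set kQ) := by
    rintro _ ⟨g, rfl⟩
    rw [Polynomial.mem_rootSet_of_ne (minpoly.ne_zero hint)]
    show Polynomial.aeval (act g r) p = 0
    rw [Polynomial.aeval_algHom_apply, minpoly.aeval, map_zero]
  have hfinorb : (MulAction.orbit D r).Finite := Set.Finite.subset (Polynomial.rootSet_finite p kQ) horb
  have hle : Nat.card (MulAction.orbit D r) ≤ f := by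
    rw [Nat.card_coe_set_eq, ← hpdeg]
    exact (Set.ncard_le_ncard horb (Polynomial.rootSet_finite p kQ)).trans (p.ncard_rootSet_le kQ)
  -- a lift of `r` vanishing at the other places
  have hge : f ≤ Nat.card (MulAction.orbit D r) := by
    obtain ⟨a, ha⟩ := residue_surjective r
    obtain ⟨z, hz⟩ := exists_approx (placesOver hK K' P) (fun R => if R = Q then (a : K') else 0) (-1)
    have hzQ := hz Q ((mem_placesOver hK).2 hover)
    rw [if_pos rfl] at hzQ
    have hlt : exp (-1 : ℤ) < 1 := by rw [← exp_zero, exp_lt_exp]; omega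
    have hzle : ∀ R, IsOver R P → R.1 z ≤ 1 := fun R hR => by
      have h1 := hz R ((mem_placesOver hK).2 hR)
      by_cases hRQ : R = Q
      · subst hRQ
        rw [← sub_add_cancel z (a : K')]
        exact (R.1.map_add _ _).trans (max_le (hzQ.trans hlt.le) a.2)
      · rw [if_neg hRQ, sub_zero] at h1
        exact h1.trans hlt.le
    have hσle : ∀ σ : K' ≃ₐ[K] K', Q.1 (σ z) ≤ 1 := fun σ => hzle (conjPlace Q σ) ⟨e, isOverWith_conjPlace he σ⟩
    let zs : (K' ≃ₐ[K] K') → Q.O := fun σ => ⟨σ z, hσle σ⟩
    have hres : ∀ σ, residue Q.O (zs σ) = 0 ∨ residue Q.O (zs σ) ∈ MulAction.orbit D r := by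
      intro σ
      by_cases hσ : σ ∈ D
      · refine Or.inr ⟨⟨σ, hσ⟩, ?_⟩
        show (⟨σ, hσ⟩ : D) • r = _
        rw [← ha, smul_residue, ← sub_eq_zero, ← map_sub, residue_eq_zero_iff, mem_maximalIdeal, mem_nonunits_iff]
        refine (Valuation.Integer.not_isUnit_iff_valuation_lt_one (v := Q.1) (x := (⟨σ, hσ⟩ : D) • a - zs σ)).2 ?_
        show Q.1 (σ (a : K') - σ z) < 1
        have hQ' : conjPlace Q σ = Q := by
          have := (decomposition_eq Q σ⁻¹).1 (inv_mem hσ)
          rwa [inv_inv] at this
        rw [← map_sub, ← conjPlace_apply, hQ', Valuation.map_sub_swap]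
        exact hzQ.trans_lt hlt
      · left
        rw [residue_eq_zero_iff, mem_maximalIdeal, mem_nonunits_iff]
        refine (Valuation.Integer.not_isUnit_iff_valuation_lt_one (v := Q.1) (x := zs σ)).2 ?_
        show (conjPlace Q σ).1 z < 1
        have hne : conjPlace Q σ ≠ Q := fun h => hσ (by
          have : σ⁻¹ ∈ D := (decomposition_eq Q σ⁻¹).2 (by rw [inv_inv]; exact h)
          simpa using inv_mem this)
        have h1 := hz (conjPlace Q σ) ((mem_placesOver hK).2 ⟨e, isOverWith_conjPlace he σ⟩)
        rw [if_neg hne, sub_zero] at h1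
        exact h1.trans_lt hlt
    -- the characteristic polynomial of `z`
    set G : Polynomial Q.O := ∏ σ : K' ≃ₐ[K] K', (Polynomial.X - Polynomial.C (zs σ))
    have hcoef : ∀ i, ∃ c : P.O, ι₀ c = G.coeff i := by
      intro i
      have hGK : G.map Q.O.subtype = ∏ σ : K' ≃ₐ[K] K', (Polynomial.X - Polynomial.C (σ z)) := by
        rw [Polynomial.map_prod]
        exact Finset.prod_congr rfl fun σ _ => by rw [Polynomial.map_sub, Polynomial.map_X, Polynomial.map_C]; rfl
      have hfix : ∀ τ : K' ≃ₐ[K] K', τ ((G.coeff i : Q.O) : K') = ((G.coeff i : Q.O) : K') := by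
        intro τ
        have h1 : ((G.map Q.O.subtype).map (τ : K' →+* K')) = G.map Q.O.subtype := by
          rw [hGK, Polynomial.map_prod]
          refine Fintype.prod_equiv (Equiv.mulLeft τ) _ _ fun σ => ?_
          rw [Polynomial.map_sub, Polynomial.map_X, Polynomial.map_C]; rfl
        have h2 := congrArg (fun q => Polynomial.coeff q i) h1
        rw [Polynomial.coeff_map, Polynomial.coeff_map] at h2
        exact h2
      obtain ⟨c, hc⟩ := (IsGalois.mem_range_algebraMap_iff_fixed _).2 hfix
      refine ⟨⟨c, (val_le_one_iff hover c).1 ?_⟩, Subtype.ext hc⟩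
      rw [hc]; exact (G.coeff i).2
    obtain ⟨g, hg⟩ : ∃ g : Polynomial P.O, g.map ι₀ = G := by
      rw [← Set.mem_range]
      exact (Polynomial.mem_lifts G).1 ((Polynomial.lifts_iff_coeff_lifts G).2 fun i => hcoef i)
    have hGbar : (g.map (residue P.O)).map (algebraMap kP kQ) =
        ∏ σ : K' ≃ₐ[K] K', (Polynomial.X - Polynomial.C (residue Q.O (zs σ))) := by
      rw [Polynomial.map_map, show (algebraMap kP kQ).comp (residue P.O) = (residue Q.O).comp ι₀ from
        RingHom.ext fun c => rfl, ← Polynomial.map_map, hg, Polynomial.map_prod]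
      exact Finset.prod_congr rfl fun σ _ => by rw [Polynomial.map_sub, Polynomial.map_X, Polynomial.map_C]
    have hroot : Polynomial.aeval r (g.map (residue P.O)) = 0 := by
      rw [← Polynomial.eval_map_algebraMap, hGbar, Polynomial.eval_prod]
      refine Finset.prod_eq_zero (Finset.mem_univ 1) ?_
      rw [Polynomial.eval_sub, Polynomial.eval_X, Polynomial.eval_C, sub_eq_zero, ← ha, ← sub_eq_zero, ← map_sub,
        residue_eq_zero_iff, mem_maximalIdeal, mem_nonunits_iff]
      refine (Valuation.Integer.not_isUnit_iff_valuation_lt_one (v := Q.1) (x := a - zs 1)).2 ?_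
      show Q.1 ((a : K') - z) < 1
      rw [Valuation.map_sub_swap]; exact hzQ.trans_lt hlt
    have hdvd : p.map (algebraMap kP kQ) ∣ ∏ σ : K' ≃ₐ[K] K', (Polynomial.X - Polynomial.C (residue Q.O (zs σ))) :=
      hGbar ▸ Polynomial.map_dvd _ (minpoly.dvd kP r hroot)
    have hne : (∏ σ : K' ≃ₐ[K] K', (Polynomial.X - Polynomial.C (residue Q.O (zs σ)))) ≠ 0 :=
      (Polynomial.monic_prod_of_monic _ _ fun σ _ => Polynomial.monic_X_sub_C _).ne_zero
    have hsplit : (p.map (algebraMap kP kQ)).Splits :=
      (Polynomial.Splits.prod fun σ _ => Polynomial.Splits.X_sub_C _).of_dvd hne hdvd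
    have hroots : (p.rootSet kQ : Set kQ) ⊆ MulAction.orbit D r := by
      intro x hx
      rw [Polynomial.mem_rootSet_of_ne (minpoly.ne_zero hint)] at hx
      have hx0 : Polynomial.eval x (∏ σ : K' ≃ₐ[K] K', (Polynomial.X - Polynomial.C (residue Q.O (zs σ)))) = 0 :=
        Polynomial.eval_eq_zero_of_dvd_of_eval_eq_zero hdvd (by rw [Polynomial.eval_map_algebraMap]; exact hx)
      rw [Polynomial.eval_prod, Finset.prod_eq_zero_iff] at hx0
      obtain ⟨σ, -, hσ⟩ := hx0
      rw [Polynomial.eval_sub, Polynomial.eval_X, Polynomial.eval_C, sub_eq_zero] at hσ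
      rcases hres σ with h0 | h0
      · rw [hσ, h0] at hx ⊢
        -- `0` is a root of an irreducible polynomial with root `r`
        have hX : p = Polynomial.X := by
          have h1 := minpoly.eq_of_irreducible_of_monic (minpoly.irreducible hint) hx (minpoly.monic hint)
          show minpoly kP r = Polynomial.X
          rw [h1, minpoly.zero]
        have hr0 : r = 0 := by
          have := minpoly.aeval kP r
          rwa [show minpoly kP r = Polynomial.X from hX, Polynomial.aeval_X] at this
        exact hr0 ▸ MulAction.mem_orbit_self r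
      · exact hσ ▸ h0
    have hcardroots : (p.rootSet kQ).ncard = f := by
      rw [Set.ncard_eq_toFinset_card' (p.rootSet kQ)]
      rw [Set.toFinset_card, ← hpdeg]
      exact Polynomial.card_rootSet_eq_natDegree (Algebra.IsSeparable.isSeparable kP r) hsplit
    rw [Nat.card_coe_set_eq, ← hcardroots]
    exact Set.ncard_le_ncard hroots hfinorb
  have hcount : Nat.card (MulAction.orbit D r) * Nat.card (MulAction.stabilizer D r) = Nat.card D := by
    rw [← Nat.card_prod]
    exact Nat.card_congr (MulAction.orbitProdStabilizerEquivGroup D r)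
  rw [hstab, le_antisymm hle hge, hDf, mul_comm e f] at hcount
  exact Nat.eq_of_mul_eq_mul_left Module.finrank_pos hcount

end Groth.Agent.FunFld
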