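import Groth.Agent.FunFld.Stepanov
import Groth.Agent.FunFld.Inertia
import Groth.Agent.FunFld.ClassNum
import Mathlib.FieldTheory.Finite.GaloisField
import Mathlib.FieldTheory.Finite.Extension
import Mathlib.GroupTheory.QuotientGroup.Basic

/-! Twisted point counts in Galois extensions add up to the point count of the base. -/

namespace Groth.Agent.FunFld

open _root_.FunFld WithZero IsLocalRing
open scoped Pointwise

set_option linter.style.haveILetI false

attribute [-instance] instModuleResidueFieldOfAlgebra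

variable {k K E : Type*} [Field k] [Field K] [Field E] [Algebra k K] [Algebra K E] [Algebra k E]
  [IsScalarTower k K E] [Finite k]

/-- The twisted point count. -/
noncomputable def frobSum (σ : E ≃ₐ[k] E) : ℕ := ∑ᶠ Q ∈ {Q : Place k E | IsFrobAt σ Q}, Q.deg

theorem deg_one_of_frob [FiniteDimensional K E] (hK : IsFunctionField k K) {σ : E ≃ₐ[K] E} {Q : Place k E}
    {P : Place k K} (hQ : IsOver Q P) (h : IsFrobAt (σ.restrictScalars k) Q) : P.deg = 1 := by
  classical
  haveI hfin : @Module.Finite k (ResidueField P.O) _ _ Algebra.toModule := residue_finite hK P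
  haveI : Finite (ResidueField P.O) := Module.finite_of_finite k
  haveI := Fintype.ofFinite (ResidueField P.O)
  have hfix : ∀ r : ResidueField P.O, r ^ Nat.card k = r := by
    intro r
    obtain ⟨x, rfl⟩ := residue_surjective r
    rw [← map_pow, ← sub_eq_zero, ← map_sub, residue_eq_zero_iff, mem_maximalIdeal, mem_nonunits_iff]
    refine Valuation.Integer.not_isUnit_iff_valuation_lt_one.2 ?_
    show P.1 ((x : K) ^ Nat.card k - (x : K)) < 1
    rw [Valuation.map_sub_swap, ← val_lt_one_iff hQ, map_sub, map_pow]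
    have := h (algebraMap K E x) ((val_le_one_iff hQ (x : K)).2 x.2)
    rwa [AlgEquiv.restrictScalars_apply, σ.commutes] at this
  have hq : 1 < Nat.card k := Finite.one_lt_card
  have hle : Fintype.card (ResidueField P.O) ≤ Nat.card k := by
    have hne : (Polynomial.X ^ Nat.card k - Polynomial.X : Polynomial (ResidueField P.O)) ≠ 0 :=
      FiniteField.X_pow_card_sub_X_ne_zero _ hq
    calc Fintype.card (ResidueField P.O) = (Finset.univ : Finset (ResidueField P.O)).card := rfl
      _ ≤ (Polynomial.X ^ Nat.card k - Polynomial.X : Polynomial (ResidueField P.O)).natDegree :=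
          Polynomial.card_le_degree_of_subset_roots (fun r _ => by
            rw [Polynomial.mem_roots hne, Polynomial.IsRoot.def]
            simp [hfix r])
      _ = _ := FiniteField.X_pow_card_sub_X_natDegree_eq _ hq
  have hc : Nat.card (ResidueField P.O) = Nat.card k ^ P.deg := Module.natCard_eq_pow_finrank (K := k)
  rw [← Nat.card_eq_fintype_card, hc] at hle
  have h1 : P.deg ≤ 1 := (Nat.pow_le_pow_iff_right hq).1 (by rwa [pow_one])
  have := deg_pos hK P
  omega

theorem card_frobAt [FiniteDimensional K E] [IsGalois K E] (hK : IsFunctionField k K) {Q : Place k E}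
    {P : Place k K} {e : ℕ} (he : IsOverWith Q P e) (hP : P.deg = 1) :
    Nat.card {σ : E ≃ₐ[K] E // IsFrobAt (σ.restrictScalars k) Q} = e := by
  classical
  haveI hfQ : @Module.Finite k (ResidueField Q.O) _ _ Algebra.toModule := residue_finite' (K' := E) hK Q
  haveI : Finite (ResidueField Q.O) := Module.finite_of_finite k
  haveI : Algebra.IsSeparable k (ResidueField Q.O) := inferInstance
  set D := Q.O.decompositionSubgroup K
  set kQ := ResidueField Q.O
  have hcomm : ∀ (g : D) (c : k), g • algebraMap k kQ c = algebraMap k kQ c := by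
    intro g c
    show g • residue Q.O (algebraMap k Q.O c) = residue Q.O (algebraMap k Q.O c)
    rw [smul_residue]
    refine congrArg _ (Subtype.ext ?_)
    show (g : E ≃ₐ[K] E) (algebraMap k E c) = algebraMap k E c
    rw [IsScalarTower.algebraMap_apply k K E, AlgEquiv.commutes]
  let φ : D →* (kQ ≃ₐ[k] kQ) :=
    { toFun := fun g => AlgEquiv.ofRingEquiv (f := MulSemiringAction.toRingEquiv D kQ g) (hcomm g)
      map_one' := AlgEquiv.ext fun x => one_smul D x
      map_mul' := fun a b => AlgEquiv.ext fun x => mul_smul a b x }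
  have hker : φ.ker = Q.O.inertiaSubgroup K := by
    ext g
    exact ⟨fun h => MonoidHom.mem_ker.2 (RingEquiv.ext fun x => DFunLike.congr_fun (MonoidHom.mem_ker.1 h) x),
      fun h => MonoidHom.mem_ker.2 (AlgEquiv.ext fun x => RingEquiv.congr_fun (MonoidHom.mem_ker.1 h) x)⟩
  have hI : Nat.card φ.ker = e := by rw [hker]; exact card_inertia hK Q P e he
  obtain ⟨-, -, hD⟩ := galois_counts hK he
  rw [hP, mul_one] at hD
  have haut : Nat.card (kQ ≃ₐ[k] kQ) = Q.deg := IsGalois.card_aut_eq_finrank k kQ
  have he0 : 0 < e := IsOverWith.pos he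
  have hrange : Nat.card φ.range = Q.deg := by
    have h1 := Subgroup.card_eq_card_quotient_mul_card_subgroup φ.ker
    rw [Nat.card_congr (QuotientGroup.quotientKerEquivRange φ).toEquiv, hI, hD, mul_comm] at h1
    exact (Nat.eq_of_mul_eq_mul_right he0 h1).symm
  have hsurj : Function.Surjective φ := by
    haveI : Finite (kQ ≃ₐ[k] kQ) := Finite.of_injective (fun f => (f : kQ → kQ)) DFunLike.coe_injective
    exact MonoidHom.range_eq_top.1 (Subgroup.eq_top_of_card_eq _ (hrange.trans haut.symm))
  haveI := Fintype.ofFinite k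
  obtain ⟨g₀, hg₀⟩ := hsurj (FiniteField.frobeniusAlgEquivOfAlgebraic k kQ)
  have hval : ∀ (g : D) (a : Q.O), φ g (residue Q.O a) = (residue Q.O a) ^ Nat.card k ↔
      Q.1 ((g : E ≃ₐ[K] E) (a : E) - (a : E) ^ Nat.card k) < 1 := by
    intro g a
    show g • residue Q.O a = _ ↔ _
    rw [smul_residue, ← map_pow, ← sub_eq_zero, ← map_sub, residue_eq_zero_iff, mem_maximalIdeal, mem_nonunits_iff]
    exact Valuation.Integer.not_isUnit_iff_valuation_lt_one (v := Q.1) (x := (g • a - a ^ Nat.card k : Q.O))
  have hF : ∀ g : D, φ g = φ g₀ ↔ ∀ r : kQ, φ g r = r ^ Nat.card k := by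
    intro g
    rw [hg₀, AlgEquiv.ext_iff, Nat.card_eq_fintype_card]
    exact Iff.rfl
  have hdec : ∀ σ : E ≃ₐ[K] E, IsFrobAt (σ.restrictScalars k) Q → σ ∈ D := by
    intro σ hσ
    have h1 : Q = conjPlace Q σ := eq_of_le fun x hx => by
      rw [conjPlace_apply, ← sub_add_cancel (σ x) (x ^ Nat.card k)]
      refine (Q.1.map_add _ _).trans (max_le (hσ x hx).le ?_)
      rw [map_pow]; exact pow_le_one₀ zero_le hx
    have h2 : σ⁻¹ ∈ D := (decomposition_eq Q σ⁻¹).2 (by rw [inv_inv]; exact h1.symm)
    exact inv_inv σ ▸ D.inv_mem h2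
  let ee : {σ : E ≃ₐ[K] E // IsFrobAt (σ.restrictScalars k) Q} ≃ {g : D // φ g = φ g₀} :=
    { toFun := fun σ => ⟨⟨σ.1, hdec σ.1 σ.2⟩, (hF _).2 fun r => by
        obtain ⟨a, rfl⟩ := residue_surjective r
        exact (hval _ a).2 (σ.2 (a : E) a.2)⟩
      invFun := fun g => ⟨g.1.1, fun x hx => (hval g.1 ⟨x, hx⟩).1 ((hF _).1 g.2 _)⟩
      left_inv := fun σ => rfl
      right_inv := fun g => rfl }
  rw [Nat.card_congr ee, ← hI]
  exact Nat.card_congr
    { toFun := fun g => ⟨g₀⁻¹ * g.1, MonoidHom.mem_ker.2 (by rw [map_mul, map_inv, g.2, inv_mul_cancel])⟩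
      invFun := fun h => ⟨g₀ * h.1, by rw [map_mul, MonoidHom.mem_ker.1 h.2, mul_one]⟩
      left_inv := fun g => Subtype.ext (mul_inv_cancel_left _ _)
      right_inv := fun h => Subtype.ext (inv_mul_cancel_left _ _) }

theorem sum_frobSum [FiniteDimensional K E] [IsGalois K E] (hK : IsFunctionField k K) :
    ∑ σ : E ≃ₐ[K] E, frobSum (σ.restrictScalars k) =
      Module.finrank K E * Nat.card {P : Place k K // P.deg = 1} := by
  classical
  have hS : {P : Place k K | P.deg = 1}.Finite := (finite_places_deg_le hK 1).subset fun P hP => le_of_eq hP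
  set T := hS.toFinset.biUnion fun P => placesOver hK E P with hT
  have hmemT : ∀ (σ : E ≃ₐ[K] E) (Q : Place k E), IsFrobAt (σ.restrictScalars k) Q → Q ∈ T := fun σ Q h => by
    obtain ⟨P, hP⟩ := exists_below (K := K) Q
    exact Finset.mem_biUnion.2 ⟨P, hS.mem_toFinset.2 (deg_one_of_frob hK hP h), (mem_placesOver hK).2 hP⟩
  have hc : ∀ σ : E ≃ₐ[K] E, frobSum (σ.restrictScalars k) =
      ∑ Q ∈ T, if IsFrobAt (σ.restrictScalars k) Q then Q.deg else 0 := fun σ => by
    have hf : {Q : Place k E | IsFrobAt (σ.restrictScalars k) Q}.Finite := T.finite_toSet.subset fun Q hQ => hmemT σ Q hQ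
    rw [frobSum, finsum_mem_eq_finite_toFinset_sum _ hf, ← Finset.sum_filter]
    refine Finset.sum_congr (Finset.ext fun Q => ?_) fun _ _ => rfl
    rw [Set.Finite.mem_toFinset, Finset.mem_filter]
    exact ⟨fun h => ⟨hmemT σ Q h, h⟩, fun h => h.2⟩
  rw [Finset.sum_congr rfl fun σ _ => hc σ, Finset.sum_comm, hT, Finset.sum_biUnion]
  · have key : ∀ P ∈ hS.toFinset, ∑ Q ∈ placesOver hK E P,
        ∑ σ : E ≃ₐ[K] E, (if IsFrobAt (σ.restrictScalars k) Q then Q.deg else 0) = Module.finrank K E := by
      intro P hP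
      have hP1 : P.deg = 1 := hS.mem_toFinset.1 hP
      rw [← Nat.mul_one (Module.finrank K E), ← hP1, ← sum_ramIdx_mul_deg hK P]
      refine Finset.sum_congr rfl fun Q hQ => ?_
      rw [← Finset.sum_filter, Finset.sum_const, smul_eq_mul, ← Fintype.card_subtype, ← Nat.card_eq_fintype_card,
        card_frobAt hK (isOverWith_of_isOver ((mem_placesOver hK).1 hQ)) hP1]
    rw [Finset.sum_congr rfl key, Finset.sum_const, smul_eq_mul, mul_comm]
    congr 1
    exact (Nat.card_eq_card_finite_toFinset hS).symm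
  · intro P _ P' _ hne
    rw [Function.onFun, Finset.disjoint_left]
    intro Q hQ hQ'
    obtain ⟨_, a⟩ := (mem_placesOver hK).1 hQ
    obtain ⟨_, b⟩ := (mem_placesOver hK).1 hQ'
    exact hne (IsOverWith.unique a b).1

end Groth.Agent.FunFld

namespace Groth.Agent.FunFld

open _root_.FunFld

/-- Bombieri's argument: the number of rational places of an intermediate field of a Galois extension
of a field with `q + 1` rational places. -/
theorem card_deg_one_bound {k F K E : Type*} [Field k] [Finite k] [Field F] [Field K] [Field E] [Algebra k F]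
    [Algebra k K] [Algebra k E] [Algebra F K] [Algebra K E] [Algebra F E] [IsScalarTower k F E]
    [IsScalarTower k K E] [IsScalarTower F K E] [FiniteDimensional F E] [IsGalois F E]
    (hF : IsFunctionField k F) (hK : IsFunctionField k K) (hE : IsFunctionField k E)
    (hFN : Nat.card {P : Place k F // P.deg = 1} = Nat.card k + 1)
    {P₀ : Place k E} (hP₀ : P₀.deg = 1) {p b : ℕ} [Fact p.Prime] [CharP k p]
    (hs : Nat.card k = (p ^ b) ^ 2) (hbig : (genus k E + 1) ^ 2 < p ^ b) :
    |(Nat.card {P : Place k K // P.deg = 1} : ℤ) - ((Nat.card k : ℤ) + 1)| ≤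
      (Module.finrank F E : ℤ) * (3 * genus k E + 2) * (p ^ b : ℕ) := by
  classical
  haveI : FiniteDimensional K E := Module.Finite.of_restrictScalars_finite F K E
  haveI : IsGalois K E := IsGalois.tower_top_of_isGalois F K E
  set q := Nat.card k
  set N := Nat.card {P : Place k K // P.deg = 1}
  set C := (3 * genus k E + 2) * p ^ b with hC
  have hle : ∀ σ : E ≃ₐ[k] E, frobSum σ ≤ q + C := by
    intro σ
    rw [frobSum]
    by_cases hf : {Q : Place k E | IsFrobAt σ Q}.Finite
    · rw [finsum_mem_eq_finite_toFinset_sum _ hf]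
      exact stepanov hE σ hs hbig hP₀ hf.toFinset fun Q hQ => hf.mem_toFinset.1 hQ
    · rw [finsum_mem_eq_zero_of_infinite]
      · exact Nat.zero_le _
      · intro h
        refine hf (h.subset fun Q hQ => ⟨hQ, ?_⟩)
        exact (deg_pos hE Q).ne'
  have hsumF := sum_frobSum (E := E) hF
  rw [hFN] at hsumF
  set nF := Module.finrank F E
  have hcardF : Fintype.card (E ≃ₐ[F] E) = nF := by
    rw [← Nat.card_eq_fintype_card]; exact IsGalois.card_aut_eq_finrank F E
  have hge : ∀ τ : E ≃ₐ[K] E, (q : ℤ) + 1 - nF * C ≤ frobSum (τ.restrictScalars k) := by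
    intro τ
    have e : (τ.restrictScalars F).restrictScalars k = τ.restrictScalars k := AlgEquiv.ext fun _ => rfl
    have h := Finset.add_sum_erase Finset.univ (fun σ : E ≃ₐ[F] E => frobSum (σ.restrictScalars k))
      (Finset.mem_univ (τ.restrictScalars F))
    rw [hsumF, e] at h
    have h2 : ∑ σ ∈ Finset.univ.erase (τ.restrictScalars F), frobSum (σ.restrictScalars k) ≤ (nF - 1) * (q + C) := by
      refine (Finset.sum_le_card_nsmul _ _ (q + C) fun σ _ => hle _).trans (le_of_eq ?_)
      rw [Finset.card_erase_of_mem (Finset.mem_univ _), Finset.card_univ, hcardF, smul_eq_mul]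
    have hn : 1 ≤ nF := Module.finrank_pos
    zify [hn] at h h2
    have : (0 : ℤ) ≤ C := Int.natCast_nonneg _
    nlinarith
  have hsumK : ((∑ τ : E ≃ₐ[K] E, frobSum (τ.restrictScalars k) : ℕ) : ℤ) = Module.finrank K E * (N : ℤ) := by
    rw [sum_frobSum (E := E) hK]; push_cast; rfl
  have hcardK : (Finset.univ : Finset (E ≃ₐ[K] E)).card = Module.finrank K E := by
    rw [Finset.card_univ, ← Nat.card_eq_fintype_card]; exact IsGalois.card_aut_eq_finrank K E
  have hm : (1 : ℤ) ≤ Module.finrank K E := by exact_mod_cast (Module.finrank_pos (R := K) (M := E))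
  have hn : (1 : ℤ) ≤ nF := by exact_mod_cast (Module.finrank_pos (R := F) (M := E))
  have hup : (Module.finrank K E : ℤ) * N ≤ Module.finrank K E * ((q : ℤ) + C) := by
    rw [← hsumK]
    have := Finset.sum_le_card_nsmul Finset.univ (fun τ : E ≃ₐ[K] E => frobSum (τ.restrictScalars k)) (q + C)
      fun τ _ => hle _
    rw [hcardK, smul_eq_mul] at this
    exact_mod_cast this
  have hlo : (Module.finrank K E : ℤ) * ((q : ℤ) + 1 - nF * C) ≤ Module.finrank K E * (N : ℤ) := by
    rw [← hsumK, Nat.cast_sum]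
    have := Finset.card_nsmul_le_sum Finset.univ (fun τ : E ≃ₐ[K] E => (frobSum (τ.restrictScalars k) : ℤ))
      ((q : ℤ) + 1 - nF * C) fun τ _ => hge τ
    rwa [hcardK, nsmul_eq_mul] at this
  have hup' := le_of_mul_le_mul_left hup (by omega)
  have hlo' := le_of_mul_le_mul_left hlo (by omega)
  have hC0 : (0 : ℤ) ≤ C := Int.natCast_nonneg _
  have e : (nF : ℤ) * (3 * genus k E + 2) * (p ^ b : ℕ) = nF * (C : ℤ) := by rw [hC]; push_cast; ring
  rw [e, abs_le]
  constructor <;> nlinarith

end Groth.Agent.FunFld
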