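import Groth.Agent.FunFld.Extra
import Mathlib.FieldTheory.RatFunc.IntermediateField
import Mathlib.RingTheory.Polynomial.Content
import Mathlib.Algebra.Squarefree.Basic

/-! Places of the rational function field. -/

namespace Groth.Agent.FunFld

open _root_.FunFld WithZero Polynomial

variable {k : Type*} [Field k]

theorem isFunctionField_ratFunc : IsFunctionField k (RatFunc k) := by
  refine ⟨⟨RatFunc.X, RatFunc.transcendental_X, ?_⟩, fun y hy => ?_⟩
  · haveI : Module.Finite (⊤ : IntermediateField k (RatFunc k)) (RatFunc k) :=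
      Module.Finite.of_surjective ((Algebra.linearMap (⊤ : IntermediateField k (RatFunc k)) (RatFunc k))) fun z => ⟨⟨z, trivial⟩, rfl⟩
    rw [RatFunc.adjoin_X]; infer_instance
  · by_contra hc
    refine RatFunc.transcendental_of_ne_C y (fun ⟨c, hyc⟩ => hc ⟨c, ?_⟩) hy
    rw [hyc, RatFunc.algebraMap_eq_C]

theorem genus_ratFunc : genus k (RatFunc k) = 0 :=
  (rational_props isFunctionField_ratFunc RatFunc.adjoin_X).2.1

theorem algebraMap_poly_ne_zero {g : k[X]} (hg : g ≠ 0) : algebraMap k[X] (RatFunc k) g ≠ 0 :=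
  (map_ne_zero_iff _ (RatFunc.algebraMap_injective k)).2 hg

theorem algebraMap_poly (g : k[X]) :
    algebraMap k[X] (RatFunc k) g = aeval (RatFunc.X : RatFunc k) g := by
  rw [RatFunc.aeval_X_left_eq_algebraMap]

variable {P₀ : Place k (RatFunc k)}

theorem inf_props (hinf : P₀.ord (RatFunc.X : RatFunc k) < 0) :
    P₀.ord (RatFunc.X : RatFunc k) = -1 ∧ P₀.deg = 1 ∧
      ∀ g : k[X], g ≠ 0 → P₀.ord (algebraMap k[X] (RatFunc k) g) = -(g.natDegree : ℤ) := by
  obtain ⟨-, -, P, hP, hord, hall⟩ := rational_props isFunctionField_ratFunc (RatFunc.adjoin_X (K := k))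
  obtain rfl : P₀ = P := by
    by_contra hne
    have := hall P₀ hne
    omega
  refine ⟨hord, hP, fun g hg => ?_⟩
  have hX : (RatFunc.X : RatFunc k) ≠ 0 := RatFunc.X_ne_zero
  have hvX : P₀.1 (RatFunc.X : RatFunc k) = exp 1 := by rw [val_eq_exp P₀ hX, hord, neg_neg]
  refine ord_eq_of_val P₀ (n := (g.natDegree : ℤ)) ?_
  rw [algebraMap_poly, aeval_eq_sum_range, Finset.sum_range_succ]
  have h1 : P₀.1 (g.coeff g.natDegree • (RatFunc.X : RatFunc k) ^ g.natDegree) = exp (g.natDegree : ℤ) := by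
    rw [val_smul P₀ (show g.coeff g.natDegree ≠ 0 from leadingCoeff_ne_zero.2 hg), map_pow, hvX, ← exp_nsmul, nsmul_eq_mul, mul_one]
  rw [Valuation.map_add_eq_of_lt_right, h1]
  rw [h1]
  refine Valuation.map_sum_lt _ exp_ne_zero fun i hi => (val_smul_le P₀ _ _).trans_lt ?_
  rw [map_pow, hvX, ← exp_nsmul, nsmul_eq_mul, mul_one, exp_lt_exp]
  exact_mod_cast Finset.mem_range.1 hi

theorem val_poly_le (hX : 0 ≤ P₀.ord (RatFunc.X : RatFunc k)) (g : k[X]) :
    P₀.1 (algebraMap k[X] (RatFunc k) g) ≤ 1 := by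
  rw [algebraMap_poly]
  exact val_aeval_le P₀ ((ord_nonneg_iff P₀ RatFunc.X_ne_zero).1 hX) g

theorem X_nonneg_of_lt_one {p : k[X]} (hp : Irreducible p)
    (h : P₀.1 (algebraMap k[X] (RatFunc k) p) < 1) : 0 ≤ P₀.ord (RatFunc.X : RatFunc k) := by
  by_contra hc
  have h1 := (inf_props (not_le.1 hc)).2.2 p hp.ne_zero
  have h2 := (ord_pos_iff P₀ (algebraMap_poly_ne_zero hp.ne_zero)).2 h
  omega

theorem fin_ord {p : k[X]} (hp : Irreducible p) (h : P₀.1 (algebraMap k[X] (RatFunc k) p) < 1) :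
    P₀.ord (algebraMap k[X] (RatFunc k) p) = 1 ∧
      ∀ g : k[X], ¬ p ∣ g → P₀.ord (algebraMap k[X] (RatFunc k) g) = 0 := by
  classical
  have hX := X_nonneg_of_lt_one hp h
  have hunit : ∀ g : k[X], ¬ p ∣ g → P₀.ord (algebraMap k[X] (RatFunc k) g) = 0 := by
    intro g hg
    obtain ⟨a, b, hab⟩ := (hp.coprime_iff_not_dvd).2 hg
    have hone : P₀.1 (algebraMap k[X] (RatFunc k) g) = 1 := by
      refine le_antisymm (val_poly_le hX g) (le_of_not_gt fun hlt => ?_)
      have := congrArg (fun q => P₀.1 (algebraMap k[X] (RatFunc k) q)) hab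
      simp only [map_one, map_add, map_mul] at this
      refine this.not_lt (Valuation.map_add_lt _ ?_ ?_) <;> rw [map_mul]
      · exact (mul_le_mul' (val_poly_le hX a) le_rfl).trans_lt (by rwa [one_mul])
      · exact (mul_le_mul' (val_poly_le hX b) le_rfl).trans_lt (by rwa [one_mul])
    rw [Place.ord, hone, log_one, neg_zero]
  refine ⟨?_, hunit⟩
  have hp0 := algebraMap_poly_ne_zero (k := k) hp.ne_zero
  set m := P₀.ord (algebraMap k[X] (RatFunc k) p) with hm
  have hpol : ∀ g : k[X], g ≠ 0 → m ∣ P₀.ord (algebraMap k[X] (RatFunc k) g) := by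
    intro g hg
    obtain ⟨n, r, hr, rfl⟩ := WfDvdMonoid.max_power_factor hg hp
    have hr0 : r ≠ 0 := fun e => hg (by rw [e, mul_zero])
    rw [map_mul, map_pow, ord_mul P₀ (pow_ne_zero _ hp0) (algebraMap_poly_ne_zero hr0), ord_pow,
      hunit r hr, add_zero]
    exact dvd_mul_left _ _
  obtain ⟨z, hz⟩ := exists_val P₀ 1
  have hz0 := ne_zero_of_val P₀ hz
  have h1 : m ∣ P₀.ord z := by
    rw [← RatFunc.num_div_denom z, div_eq_mul_inv, ord_mul P₀
      (algebraMap_poly_ne_zero (RatFunc.num_ne_zero hz0)) (inv_ne_zero (algebraMap_poly_ne_zero z.denom_ne_zero)),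
      ord_inv]
    exact dvd_add (hpol _ (RatFunc.num_ne_zero hz0)) (dvd_neg.2 (hpol _ z.denom_ne_zero))
  rw [ord_eq_of_val P₀ hz, dvd_neg] at h1
  have h2 := (ord_pos_iff P₀ hp0).2 h
  exact Int.eq_one_of_dvd_one h2.le h1

theorem ord_squarefree_of_dvd {p f : k[X]} (hp : Irreducible p)
    (h : P₀.1 (algebraMap k[X] (RatFunc k) p) < 1) (hf : Squarefree f) (hpf : p ∣ f) :
    P₀.ord (algebraMap k[X] (RatFunc k) f) = 1 := by
  obtain ⟨g, rfl⟩ := hpf
  have hg : ¬ p ∣ g := fun ⟨r, hr⟩ => hp.not_isUnit (hf p ⟨r, by rw [hr]; ring⟩)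
  have hg0 : g ≠ 0 := fun e => hg (e ▸ dvd_zero p)
  rw [map_mul, ord_mul P₀ (algebraMap_poly_ne_zero hp.ne_zero) (algebraMap_poly_ne_zero hg0),
    (fin_ord hp h).1, (fin_ord hp h).2 g hg, add_zero]

theorem ord_squarefree {f : k[X]} (hf : Squarefree f) (hX : 0 ≤ P₀.ord (RatFunc.X : RatFunc k))
    (hpos : 0 < P₀.ord (algebraMap k[X] (RatFunc k) f)) :
    P₀.ord (algebraMap k[X] (RatFunc k) f) = 1 := by
  classical
  have hf0 : f ≠ 0 := hf.ne_zero
  obtain ⟨p, hp, hpf, hlt⟩ : ∃ p : k[X], Irreducible p ∧ p ∣ f ∧ P₀.1 (algebraMap k[X] (RatFunc k) p) < 1 := by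
    by_contra hc
    push Not at hc
    have hlt := (ord_pos_iff P₀ (algebraMap_poly_ne_zero hf0)).1 hpos
    refine hlt.ne ?_
    refine UniqueFactorizationMonoid.induction_on_prime (P := fun g => g ∣ f → g ≠ 0 →
      P₀.1 (algebraMap k[X] (RatFunc k) g) = 1) f (fun _ h => absurd rfl h) ?_ ?_ dvd_rfl hf0
    · intro u hu _ h0
      obtain ⟨c, hc', rfl⟩ := Polynomial.isUnit_iff.1 hu
      rw [algebraMap_poly, aeval_C, val_algebraMap P₀ hc'.ne_zero]
    · intro a q _ hq ih hdvd hne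
      rw [map_mul, map_mul, ih (dvd_trans (dvd_mul_left _ _) hdvd) (right_ne_zero_of_mul hne), mul_one]
      exact le_antisymm (val_poly_le hX q) (hc q hq.irreducible (dvd_trans (dvd_mul_right _ _) hdvd))
  exact ord_squarefree_of_dvd hp hlt hf hpf

theorem not_mem_range_of_sq {K : Type*} [Field K] [Algebra (RatFunc k) K] {f : k[X]} (hf : Squarefree f)
    (hd : 1 ≤ f.natDegree) {y : K}
    (heq : y ^ 2 = algebraMap (RatFunc k) K (algebraMap k[X] (RatFunc k) f)) :
    y ∉ Set.range (algebraMap (RatFunc k) K) := by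
  rintro ⟨r, rfl⟩
  rw [← map_pow] at heq
  have h := (algebraMap (RatFunc k) K).injective heq
  have hint : IsIntegral k[X] r := IsIntegral.of_pow two_pos (h ▸ isIntegral_algebraMap)
  obtain ⟨g, rfl⟩ := IsIntegrallyClosed.isIntegral_iff.1 hint
  rw [← map_pow] at h
  have hg := RatFunc.algebraMap_injective k h
  have hu : IsUnit g := hf g ⟨1, by rw [← hg]; ring⟩
  rw [← hg, natDegree_pow, natDegree_eq_zero_of_isUnit hu] at hd
  omega

end Groth.Agent.FunFld
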