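import Groth.Agent.FunFld.Geometric
import Groth.Agent.FunFld.Ext.Const
import Mathlib.FieldTheory.SeparableClosure

/-! Separable extensions of geometric function fields are geometric. -/

namespace Groth.Agent.FunFld

open _root_.FunFld IntermediateField TensorProduct

universe u v

variable {k k' : Type u} {K K' : Type v} [Field k] [Field k'] [Field K] [Field K'] [Algebra k k']
  [Algebra k K] [Algebra K K'] [Algebra k' K'] [Algebra k K'] [IsScalarTower k k' K']
  [IsScalarTower k K K'] [FiniteDimensional K K']

theorem finiteDimensional_const (hK : IsFunctionField k K) (hK' : IsFunctionField k' K') :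
    FiniteDimensional k k' := by
  have hC := isFunctionField_algebraicClosure (K' := K') hK
  haveI := finite_algebraicClosure (K' := K') hK
  set C := algebraicClosure k K'
  have hCrange : ∀ e : C, (e : K') ∈ (algebraMap k' K').range := fun e =>
    hK'.2 _ ((mem_algebraicClosure_iff.1 e.2).tower_top k')
  have hmem : ∀ c : k', algebraMap k' K' c ∈ C := by
    intro c
    by_contra hc
    set c' := algebraMap k' K' c with hc'
    have htr : Transcendental C c' := fun h => by
      obtain ⟨e, he⟩ := hC.2 c' h
      exact hc (he ▸ e.2)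
    set E := IntermediateField.adjoin C ({c'} : Set K')
    haveI : FiniteDimensional E K' := finite_adjoin hC htr
    have hE : ∀ z ∈ E, z ∈ (algebraMap k' K').fieldRange := by
      intro z hz
      induction hz using IntermediateField.adjoin_induction with
      | mem w hw => exact ⟨c, (Set.mem_singleton_iff.1 hw).symm⟩
      | algebraMap e => exact hCrange e
      | add a b _ _ ha hb => exact add_mem ha hb
      | inv a _ ha => exact inv_mem ha
      | mul a b _ _ ha hb => exact mul_mem ha hb
    obtain ⟨⟨x, hx, -⟩, -⟩ := id hK'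
    obtain ⟨q, hq, hqx⟩ := IsIntegral.of_finite E x
    have hl : q.map (algebraMap E K') ∈ Polynomial.lifts (algebraMap k' K') :=
      (Polynomial.lifts_iff_coeff_lifts _).2 fun i => by
        rw [Polynomial.coeff_map]
        exact hE _ (q.coeff i).2
    obtain ⟨q₀, hq₀, -, hq₀m⟩ := Polynomial.lifts_and_degree_eq_and_monic hl (hq.map _)
    refine hx (IsIntegral.isAlgebraic ⟨q₀, hq₀m, ?_⟩)
    rw [← Polynomial.eval_map, hq₀, Polynomial.eval_map]
    exact hqx
  let φ : k' →ₗ[k] C :=
    ((IsScalarTower.toAlgHom k k' K').toLinearMap).codRestrict C.toSubalgebra.toSubmodule hmem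
  exact FiniteDimensional.of_injective φ fun a b hab =>
    (algebraMap k' K').injective (congrArg Subtype.val hab)

theorem isGeometric_separable [Algebra.IsSeparable K K'] (hK : IsFunctionField k K)
    (hg : IsGeometric k K) (hK' : IsFunctionField k' K') : IsGeometric k' K' := by
  haveI := finiteDimensional_const hK hK'
  intro k'' _ _ hfin
  letI : Algebra k k'' := ((algebraMap k' k'').comp (algebraMap k k')).toAlgebra
  haveI : IsScalarTower k k' k'' := IsScalarTower.of_algebraMap_eq fun _ => rfl
  haveI : FiniteDimensional k k'' := Module.Finite.trans k' k''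
  let e : K ⊗[k] k'' ≃ₐ[k] k'' ⊗[k] K := Algebra.TensorProduct.comm k K k''
  have hL : IsField (K ⊗[k] k'') := MulEquiv.isField (hg k'' inferInstance) e.toMulEquiv
  letI : Field (K ⊗[k] k'') := hL.toField
  let j : K' →ₐ[k'] k'' ⊗[k'] K' := Algebra.TensorProduct.includeRight
  let i : k'' →ₐ[k'] k'' ⊗[k'] K' := Algebra.TensorProduct.includeLeft
  let Φ : K ⊗[k] k'' →ₐ[k] k'' ⊗[k'] K' :=
    Algebra.TensorProduct.productMap ((j.restrictScalars k).comp (IsScalarTower.toAlgHom k K K'))
      (i.restrictScalars k)
  letI : Algebra (K ⊗[k] k'') (k'' ⊗[k'] K') := Φ.toRingHom.toAlgebra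
  have hΦK : ∀ c : K, Φ (c ⊗ₜ[k] 1) = j (algebraMap K K' c) := fun c => by
    simp only [Φ, Algebra.TensorProduct.productMap_apply_tmul, map_one, mul_one]; rfl
  have hΦk : ∀ a : k'', Φ (1 ⊗ₜ[k] a) = i a := fun a => by
    simp only [Φ, Algebra.TensorProduct.productMap_apply_tmul, map_one, one_mul]; rfl
  haveI : Module.Finite (K ⊗[k] k'') (k'' ⊗[k'] K') := by
    classical
    let b := Module.finBasis K K'
    refine Module.Finite.of_fg_top ⟨Finset.univ.image fun l => j (b l), ?_⟩ |> fun h => h
    refine top_le_iff.1 fun z _ => ?_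
    induction z using TensorProduct.induction_on with
    | zero => exact Submodule.zero_mem _
    | add a c ha hc => exact Submodule.add_mem _ (ha trivial) (hc trivial)
    | tmul a y =>
      rw [← b.sum_repr y, tmul_sum]
      refine Submodule.sum_mem _ fun l _ => ?_
      have : a ⊗ₜ[k'] (b.repr y l • b l) = (b.repr y l ⊗ₜ[k] a : K ⊗[k] k'') • j (b l) := by
        show _ = Φ (b.repr y l ⊗ₜ[k] a) * j (b l)
        simp [Φ, j, i, Algebra.smul_def]
      rw [this]
      exact Submodule.smul_mem _ _ (Submodule.subset_span (by simp))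
  haveI : Algebra.FormallyUnramified (K ⊗[k] k'') (k'' ⊗[k'] K') := by
    refine ⟨subsingleton_of_forall_eq 0 fun w => ?_⟩
    have hD : ∀ z : k'' ⊗[k'] K', KaehlerDifferential.D (K ⊗[k] k'') (k'' ⊗[k'] K') z = 0 := by
      set D := KaehlerDifferential.D (K ⊗[k] k'') (k'' ⊗[k'] K')
      have hi : ∀ a, D (i a) = 0 := fun a => by
        rw [← hΦk]; exact D.map_algebraMap _
      have hj : ∀ y, D (j y) = 0 := by
        intro y
        let σ : K →+* K ⊗[k] k'' := algebraMap K (K ⊗[k] k'')
        have hσ : (algebraMap (K ⊗[k] k'') (k'' ⊗[k'] K')).comp σ =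
            (j.toRingHom).comp (algebraMap K K') := RingHom.ext fun c => by
          show Φ (c ⊗ₜ[k] 1) = _
          exact hΦK c
        have hev : ∀ P : Polynomial K, Polynomial.aeval (j y) (P.map σ) = j (Polynomial.aeval y P) := by
          intro P
          rw [Polynomial.aeval_def, Polynomial.eval₂_map, hσ, Polynomial.aeval_def]
          exact (Polynomial.hom_eval₂ P (algebraMap K K') j.toRingHom y).symm
        have h := D.map_aeval ((minpoly K y).map σ) (j y)
        rw [hev, minpoly.aeval, map_zero, map_zero, Polynomial.derivative_map, hev] at h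
        exact ((Ne.isUnit ((Algebra.IsSeparable.isSeparable K y).aeval_derivative_ne_zero
          (minpoly.aeval K y))).map j).smul_eq_zero.1 h.symm
      intro z
      induction z using TensorProduct.induction_on with
      | zero => exact map_zero _
      | add a c ha hc => rw [map_add, ha, hc, add_zero]
      | tmul a y =>
        have : a ⊗ₜ[k'] y = i a * j y := by simp [i, j]
        rw [this, D.leibniz, hi, hj, smul_zero, smul_zero, add_zero]
    have h2 : w ∈ Submodule.span (k'' ⊗[k'] K')
        (Set.range (KaehlerDifferential.D (K ⊗[k] k'') (k'' ⊗[k'] K'))) := by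
      rw [KaehlerDifferential.span_range_derivation]; trivial
    have h3 : Submodule.span (k'' ⊗[k'] K')
        (Set.range (KaehlerDifferential.D (K ⊗[k] k'') (k'' ⊗[k'] K'))) ≤ ⊥ :=
      Submodule.span_le.2 (by rintro _ ⟨z, rfl⟩; exact hD z)
    simpa using h3 h2
  haveI : IsReduced (k'' ⊗[k'] K') :=
    Algebra.FormallyUnramified.isReduced_of_field (K ⊗[k] k'') _
  -- everything is purely inseparable over `k_s ⊗ K'`
  let ks := separableClosure k' k''
  have hE : IsField (ks ⊗[k'] K') := isField_tensor_of_separable hK'.2 ks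
  letI : Field (ks ⊗[k'] K') := hE.toField
  haveI : Nontrivial (k'' ⊗[k'] K') :=
    (Algebra.TensorProduct.includeRight_injective (R := k') (A := k'') (B := K')
      (algebraMap k' k'').injective).nontrivial
  let ψ : ks ⊗[k'] K' →ₐ[k'] k'' ⊗[k'] K' := Algebra.TensorProduct.map ks.val (AlgHom.id k' K')
  obtain ⟨q, hq⟩ := ExpChar.exists k'
  haveI : ExpChar (k'' ⊗[k'] K') q :=
    expChar_of_injective_ringHom (algebraMap k' (k'' ⊗[k'] K')).injective q
  haveI : ExpChar ks q := expChar_of_injective_algebraMap (algebraMap k' ks).injective q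
  have hpow : ∀ z : k'' ⊗[k'] K', ∃ n, z ^ q ^ n ∈ ψ.range := by
    intro z
    induction z using TensorProduct.induction_on with
    | zero => exact ⟨0, by rw [pow_zero, pow_one]; exact zero_mem _⟩
    | add a c ha hc =>
      obtain ⟨n, hn⟩ := ha; obtain ⟨m, hm⟩ := hc
      refine ⟨n + m, ?_⟩
      rw [add_pow_expChar_pow]
      refine add_mem ?_ ?_
      · rw [pow_add, pow_mul]; exact pow_mem hn _
      · rw [add_comm n, pow_add, pow_mul]; exact pow_mem hm _
    | tmul a y =>
      obtain ⟨n, e, he⟩ := IsPurelyInseparable.pow_mem ks q a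
      refine ⟨n, e ⊗ₜ (y ^ q ^ n), ?_⟩
      rw [Algebra.TensorProduct.tmul_pow, ← he]
      rfl
  refine ⟨⟨0, 1, zero_ne_one⟩, mul_comm, fun {z} hz => ?_⟩
  obtain ⟨n, w, hw⟩ := hpow z
  have hw0 : w ≠ 0 := fun h => hz (eq_zero_of_pow_eq_zero (n := q ^ n) (by
    rw [← hw, h]; exact map_zero ψ))
  have hu : IsUnit (z ^ q ^ n) := hw ▸ (Ne.isUnit hw0).map ψ
  obtain ⟨u, rfl⟩ := (isUnit_pow_iff (pow_ne_zero n (expChar_pos k' q).ne')).1 hu
  exact ⟨↑u⁻¹, u.mul_inv⟩

end Groth.Agent.FunFld
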