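import Groth.Agent.FunFld.ZetaFE
import Mathlib.Analysis.Complex.Polynomial.Basic
import Mathlib.Algebra.Polynomial.Reverse
import Mathlib.Algebra.Polynomial.Splits
import Mathlib.Algebra.BigOperators.Fin

/-! The reciprocal roots of the zeta numerator come in pairs with product `q`. -/

namespace Groth.Agent.FunFld

open _root_.FunFld Polynomial

theorem exists_pairing {q : ℂ} (hq : q ≠ 0) : ∀ (g : ℕ) (m : Multiset ℂ), Multiset.card m = 2 * g →
    (∀ a ∈ m, a ≠ 0) → m.map (fun a => q / a) = m → m.prod = q ^ g →
    ∃ L : Fin g → ℂ, m = Multiset.map L Finset.univ.val + Multiset.map (fun i => q / L i) Finset.univ.val := by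
  classical
  intro g
  induction g with
  | zero => intro m hm _ _ _; exact ⟨Fin.elim0, by simpa using hm⟩
  | succ g ih =>
    intro m hm h0 hinv hprod
    -- an element occurring together with its partner
    obtain ⟨a, r, hr⟩ : ∃ a r, m = a ::ₘ (q / a) ::ₘ r := by
      by_contra hc
      push Not at hc
      have hfix : ∀ a ∈ m, q / a = a ∧ m.count a ≤ 1 := by
        intro a ha
        have hmem : q / a ∈ m := hinv ▸ Multiset.mem_map_of_mem _ ha
        have hne : q / a ∉ m.erase a := fun h => hc a ((m.erase a).erase (q / a))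
          (by rw [Multiset.cons_erase h, Multiset.cons_erase ha])
        have he : q / a = a := by
          by_contra hne'
          exact hne ((Multiset.mem_erase_of_ne hne').2 hmem)
        rw [he] at hne
        refine ⟨he, ?_⟩
        by_contra h2
        exact hne (Multiset.count_pos.1 (by rw [Multiset.count_erase_self]; omega))
      have hnd : m.Nodup := Multiset.nodup_iff_count_le_one.2 fun a => by
        by_cases ha : a ∈ m
        · exact (hfix a ha).2
        · rw [Multiset.count_eq_zero_of_notMem ha]; exact Nat.zero_le _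
      have hsq : ∀ a ∈ m, a * a = q := fun a ha => ((div_eq_iff (h0 a ha)).1 (hfix a ha).1).symm
      obtain ⟨a, ha⟩ := Multiset.card_pos_iff_exists_mem.1 (show 0 < Multiset.card m by omega)
      have hsub : m ≤ ({a, -a} : Multiset ℂ) := (Multiset.le_iff_subset hnd).2 fun b hb => by
        rcases mul_self_eq_mul_self_iff.1 ((hsq b hb).trans (hsq a ha).symm) with h | h <;> simp [h]
      have heq : m = {a, -a} := Multiset.eq_of_le_of_card_le hsub (by rw [hm]; simp)
      have hg : g = 0 := by rw [heq] at hm; simp at hm; omega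
      rw [heq, hg] at hprod
      simp only [Multiset.insert_eq_cons, Multiset.prod_cons, Multiset.prod_singleton, zero_add, pow_one] at hprod
      have : (2 : ℂ) * q = 0 := by linear_combination hprod.symm - hsq a ha
      simp [hq] at this
    have ha : a ∈ m := by rw [hr]; exact Multiset.mem_cons_self _ _
    have hr0 : ∀ b ∈ r, b ≠ 0 := fun b hb => h0 b (by rw [hr]; simp [hb])
    have hrinv : r.map (fun a => q / a) = r := by
      have h := hinv
      rw [hr, Multiset.map_cons, Multiset.map_cons, div_div_cancel₀ hq, Multiset.cons_swap] at h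
      simpa using h
    have hrprod : r.prod = q ^ g := by
      rw [hr, Multiset.prod_cons, Multiset.prod_cons, ← mul_assoc, mul_div_cancel₀ q (h0 a ha), pow_succ'] at hprod
      exact mul_left_cancel₀ hq hprod
    obtain ⟨L, hL⟩ := ih r (by rw [hr] at hm; simp at hm; omega) hr0 hrinv hrprod
    refine ⟨Fin.cons a L, ?_⟩
    rw [hr, hL, Fin.univ_succ]
    simp [Function.comp_def]
    exact List.perm_middle.symm

universe u v

variable {k : Type u} {K : Type v} [Field k] [Field K] [Algebra k K] (hK : IsFunctionField k K) [Finite k]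
include hK

theorem zeta_roots : ∃ α : Fin (2 * genus k K) → ℂ, (∀ i, IsIntegral ℤ (α i)) ∧
    PowerSeries.map (Int.castRingHom ℂ) (numerZ k K) = ((∏ i, (1 - C (α i) * X) : ℂ[X]) : PowerSeries ℂ) ∧
    ∀ i, α i * α (Fin.rev i) = (Nat.card k : ℂ) := by
  classical
  haveI := finite_classGroup hK
  haveI : Fintype (Cl0 k K) := Fintype.ofFinite _
  obtain ⟨hvanish, htop, hsym⟩ := zeta_numerator hK
  obtain ⟨p, hp⟩ := numerZ_polynomial hK
  set g := genus k K
  set q : ℂ := (Nat.card k : ℂ) with hq
  have hq0 : q ≠ 0 := Nat.cast_ne_zero.2 Nat.card_pos.ne'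
  have hpc : ∀ n, p.coeff n = PowerSeries.coeff n (numerZ k K) := fun n => by rw [← hp, coeff_coe]
  simp only [← hpc] at hvanish htop hsym
  have hdeg : p.natDegree = 2 * g := le_antisymm (natDegree_le_iff_coeff_eq_zero.2 hvanish)
    (le_natDegree_of_ne_zero htop)
  have hsymC : ∀ i ≤ 2 * g, ((p.coeff (2 * g - i) : ℤ) : ℂ) = q ^ ((g : ℤ) - i) * ((p.coeff i : ℤ) : ℂ) := by
    intro i hi
    have h := congrArg (fun r : ℚ => (r : ℂ)) (hsym i hi)
    simp only [Rat.cast_mul, Rat.cast_zpow, Rat.cast_natCast, Rat.cast_intCast] at h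
    exact h
  have hc0 : p.coeff 0 = 1 := by
    have hz : effDivCount k K 0 = 1 := by
      rw [effDivCount, Nat.card_eq_one_iff_unique]
      refine ⟨⟨fun a b => ?_⟩, ⟨⟨0, le_rfl, by rw [deg_zero]; rfl⟩⟩⟩
      have key : ∀ D : {D : Divisor k K // 0 ≤ D ∧ D.deg = ((0 : ℕ) : ℤ)}, D.1 = 0 := fun D =>
        (eq_of_le_of_deg hK D.2.1 (by rw [D.2.2, deg_zero]; rfl)).symm
      exact Subtype.ext ((key a).trans (key b).symm)
    rw [hpc]; simp [numerZ, zetaZ, hz]
  -- the reversed polynomial
  set P : ℤ[X] := p.reflect (2 * g)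
  have hPc : ∀ i, i ≤ 2 * g → P.coeff i = p.coeff (2 * g - i) := fun i hi => by
    rw [coeff_reflect, revAt_le hi]
  have hPdeg : P.natDegree ≤ 2 * g := natDegree_reflect_le.trans (by rw [hdeg]; simp)
  have hPtop : P.coeff (2 * g) = 1 := by rw [hPc _ le_rfl, Nat.sub_self, hc0]
  have hPm : P.Monic := monic_of_natDegree_le_of_coeff_eq_one _ hPdeg hPtop
  have hPdeg' : P.natDegree = 2 * g := le_antisymm hPdeg (le_natDegree_of_ne_zero (by rw [hPtop]; exact one_ne_zero))
  set PC := P.map (Int.castRingHom ℂ) with hPC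
  set m := PC.roots
  have hPCm : PC.Monic := hPm.map _
  have hPCdeg : PC.natDegree = 2 * g := by rw [hPC, hPm.natDegree_map, hPdeg']
  have hsplit : PC = (m.map fun a => X - C a).prod := (IsAlgClosed.splits PC).eq_prod_roots_of_monic hPCm
  have hcard : Multiset.card m = 2 * g := by rw [← hPCdeg]; exact IsAlgClosed.card_roots_eq_natDegree
  have hint : ∀ a ∈ m, IsIntegral ℤ a := fun a ha => ⟨P, hPm, by
    have := (mem_roots hPCm.ne_zero).1 ha
    rwa [hPC, IsRoot.def, eval_map] at this⟩
  have hm0 : ∀ a ∈ m, a ≠ 0 := by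
    intro a ha e
    have := (mem_roots hPCm.ne_zero).1 ha
    rw [e, IsRoot.def, ← coeff_zero_eq_eval_zero, hPC, coeff_map, hPc 0 (Nat.zero_le _), Nat.sub_zero] at this
    exact htop (Int.cast_eq_zero.1 this)
  have hLprod : p.map (Int.castRingHom ℂ) = (m.map fun a => 1 - C a * X).prod := by
    have e1 : p.map (Int.castRingHom ℂ) = PC.reverse := by
      rw [reverse, hPCdeg, hPC]
      show _ = reflect (2 * g) ((p.reflect (2 * g)).map _)
      rw [← reflect_map, reflect_reflect]
    rw [e1, hsplit]
    clear! hsplit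
    induction m using Multiset.induction_on with
    | empty => simp [reverse]
    | cons a r ih =>
      rw [Multiset.map_cons, Multiset.prod_cons, Multiset.map_cons, Multiset.prod_cons,
        reverse_mul_of_domain, ih]
      congr 1
      rw [reverse, natDegree_X_sub_C, reflect_sub, reflect_C, ← pow_one (X : ℂ[X]), reflect_monomial]
      simp [revAt_le]
  have hmprod : m.prod = q ^ g := by
    have h := (IsAlgClosed.splits PC).coeff_zero_eq_prod_roots_of_monic hPCm
    rw [hPC, coeff_map, hPc 0 (Nat.zero_le _), Nat.sub_zero, ← hPC, hPCdeg, pow_mul, neg_one_sq, one_pow, one_mul] at h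
    have h2 := hsymC 0 (Nat.zero_le _)
    rw [Nat.sub_zero, hc0, Int.cast_one, mul_one, Nat.cast_zero, sub_zero, zpow_natCast] at h2
    exact h.symm.trans h2
  have hinv : m.map (fun a => q / a) = m := by
    -- `PC (X) = q ^ g * L (X / q)`
    have e2 : PC = C (q ^ g) * (p.map (Int.castRingHom ℂ)).comp (C q⁻¹ * X) := by
      refine Polynomial.ext fun i => ?_
      rw [coeff_C_mul, comp_C_mul_X_coeff, hPC, coeff_map, coeff_map]
      rcases Nat.lt_or_ge (2 * g) i with hi | hi
      · rw [coeff_eq_zero_of_natDegree_lt (hPdeg'.trans_lt hi), hvanish i hi]; simp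
      · rw [hPc i hi]
        show ((p.coeff (2 * g - i) : ℤ) : ℂ) = q ^ g * (((p.coeff i : ℤ) : ℂ) * q⁻¹ ^ i)
        rw [hsymC i hi, zpow_sub₀ hq0, zpow_natCast, zpow_natCast, inv_pow, div_eq_mul_inv]
        ring
    rw [hLprod] at e2
    have e3 : (m.map fun a => 1 - C a * X).prod.comp (C q⁻¹ * X) =
        C ((m.map fun a => -(a / q)).prod) * (m.map fun a => X - C (q / a)).prod := by
      rw [← coe_compRingHom_apply, map_multiset_prod, map_multiset_prod, Multiset.map_map, Multiset.map_map,
        ← Multiset.prod_map_mul]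
      refine congrArg Multiset.prod (Multiset.map_congr rfl fun a ha => ?_)
      have h := hm0 a ha
      simp only [Function.comp_apply, coe_compRingHom_apply, sub_comp, one_comp, mul_comp, C_comp, X_comp]
      rw [← mul_assoc, ← C_mul, ← div_eq_mul_inv, mul_sub, ← C_mul,
        show -(a / q) * (q / a) = -1 by field_simp]
      simp only [map_neg, map_one]
      ring
    rw [e3, ← mul_assoc, ← C_mul] at e2
    have h := congrArg Polynomial.roots e2
    have hc : q ^ g * (m.map fun a => -(a / q)).prod ≠ 0 := mul_ne_zero (pow_ne_zero _ hq0)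
      (Multiset.prod_ne_zero fun h => by
        obtain ⟨a, ha, e⟩ := Multiset.mem_map.1 h
        exact hm0 a ha (by simpa [hq0] using e))
    rw [roots_C_mul _ hc, show (m.map fun a => X - C (q / a)) = (m.map fun a => q / a).map fun a => X - C a by
      rw [Multiset.map_map]; rfl, roots_multiset_prod_X_sub_C] at h
    exact h.symm
  obtain ⟨L, hL⟩ := exists_pairing hq0 g m hcard hm0 hinv hmprod
  let α : Fin (2 * g) → ℂ := fun i =>
    Fin.append L (fun j => q / L (Fin.rev j)) (Fin.cast (two_mul g) i)
  have hpair : ∀ i, α i * α (Fin.rev i) = q := by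
    intro i
    obtain ⟨j, rfl⟩ : ∃ j, Fin.cast (two_mul g).symm j = i := ⟨Fin.cast (two_mul g) i, by simp⟩
    have hrev : ∀ j : Fin (g + g), Fin.cast (two_mul g) (Fin.rev (Fin.cast (two_mul g).symm j)) = Fin.rev j := by
      intro j; ext; simp [Fin.val_rev]; omega
    have hL0 : ∀ j, L j ≠ 0 := fun j => hm0 _ (by rw [hL]; simp)
    simp only [α, hrev, Fin.cast_cast, Fin.cast_eq_self]
    induction j using Fin.addCases with
    | left j =>
      rw [show (Fin.castAdd g j).rev = Fin.natAdd g j.rev by ext; simp [Fin.val_rev]; omega, Fin.append_left,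
        Fin.append_right, Fin.rev_rev, mul_div_cancel₀ q (hL0 j)]
    | right j =>
      rw [show (Fin.natAdd g j).rev = Fin.castAdd g j.rev by ext; simp [Fin.val_rev]; omega, Fin.append_left,
        Fin.append_right, div_mul_cancel₀ q (hL0 _)]
  have hval : Multiset.map α Finset.univ.val = m := by
    rw [hL]
    have e : (Finset.univ : Finset (Fin (2 * g))).val.map α = Finset.univ.val.map (Fin.append L fun j => q / L (Fin.rev j)) := by
      rw [show (Finset.univ : Finset (Fin (g + g))).val = Finset.univ.val.map (Fin.cast (two_mul g)) from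
        (congrArg Finset.val (Finset.univ_map_equiv_to_embedding (finCongr (two_mul g)))).symm, Multiset.map_map]
      rfl
    rw [e, Fin.univ_val_map, Fin.univ_val_map, Fin.univ_val_map, List.ofFn_fin_append, Multiset.coe_add]
    refine Multiset.coe_eq_coe.2 (List.Perm.append_left _ ?_)
    refine Multiset.coe_eq_coe.1 ?_
    rw [← Fin.univ_val_map (f := fun j => q / L (Fin.rev j)), ← Fin.univ_val_map (f := fun j => q / L j)]
    conv_rhs => rw [← Finset.univ_map_equiv_to_embedding (Fin.revPerm (n := g)), Finset.map_val, Multiset.map_map]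
    rfl
  refine ⟨α, fun i => hint _ (by rw [← hval]; simp), ?_, hpair⟩
  rw [← hp, ← Polynomial.polynomial_map_coe]
  congr 1
  rw [hLprod, Finset.prod_eq_multiset_prod, ← hval, Multiset.map_map]
  rfl

end Groth.Agent.FunFld
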