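import Groth.Agent.FunFld.ConstTower
import Groth.Agent.FunFld.FrobCount
import Groth.Agent.FunFld.RatPlaces
import Groth.Agent.FunFld.ZetaRoots
import Groth.Agent.FunFld.SepExt
import Mathlib.FieldTheory.RatFunc.IntermediateField
import Mathlib.FieldTheory.SeparableClosure
import Mathlib.FieldTheory.Normal.Closure
import Mathlib.FieldTheory.IsAlgClosed.AlgebraicClosure
import Mathlib.Analysis.SpecialFunctions.Pow.Real

/-! The Riemann hypothesis for function fields over finite fields (Stepanov–Bombieri). -/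

namespace Groth.Agent.FunFld

open _root_.FunFld IntermediateField

set_option linter.style.haveILetI false

universe u v

/-- Power sums bounded by `C R^m` force all terms into the disc of radius `R`. -/
theorem norm_le_of_powerSums {ι : Type*} [Fintype ι] (γ : ι → ℂ) {C R : ℝ} {m₀ : ℕ} (hR : 0 < R)
    (h : ∀ m, m₀ ≤ m → ‖∑ i, γ i ^ m‖ ≤ C * R ^ m) (i₀ : ι) : ‖γ i₀‖ ≤ R := by
  classical
  by_contra hlt
  push Not at hlt
  set s := (Finset.univ.image γ).erase (γ i₀)
  set P : Polynomial ℂ := ∏ b ∈ s, (Polynomial.X - Polynomial.C b)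
  have hP0 : P.eval (γ i₀) ≠ 0 := by
    rw [Polynomial.eval_prod]
    refine Finset.prod_ne_zero_iff.2 fun b hb => ?_
    rw [Polynomial.eval_sub, Polynomial.eval_X, Polynomial.eval_C]
    exact sub_ne_zero.2 (Finset.ne_of_mem_erase hb).symm
  set A := ∑ j ∈ Finset.range (P.natDegree + 1), ‖P.coeff j‖ * (C * R ^ j)
  set c := ((Finset.univ.filter fun i => γ i = γ i₀).card : ℂ)
  have key : ∀ m, m₀ ≤ m → ‖c * P.eval (γ i₀)‖ * ‖γ i₀‖ ^ m ≤ A * R ^ m := by
    intro m hm
    have e1 : ∑ i, P.eval (γ i) * γ i ^ m = c * P.eval (γ i₀) * γ i₀ ^ m := by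
      rw [← Finset.sum_filter_add_sum_filter_not Finset.univ (fun i => γ i = γ i₀),
        Finset.sum_eq_zero (s := Finset.univ.filter fun i => ¬γ i = γ i₀) (fun i hi => ?_), add_zero,
        Finset.sum_eq_card_nsmul (b := P.eval (γ i₀) * γ i₀ ^ m) (fun i hi => by rw [(Finset.mem_filter.1 hi).2]),
        nsmul_eq_mul, mul_assoc]
      rw [Polynomial.eval_prod, Finset.prod_eq_zero (i := γ i) (Finset.mem_erase.2
        ⟨(Finset.mem_filter.1 hi).2, Finset.mem_image_of_mem γ (Finset.mem_univ i)⟩) (by simp), zero_mul]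
    have e2 : ∑ i, P.eval (γ i) * γ i ^ m =
        ∑ j ∈ Finset.range (P.natDegree + 1), P.coeff j * ∑ i, γ i ^ (j + m) := by
      simp_rw [Polynomial.eval_eq_sum_range, Finset.sum_mul]
      rw [Finset.sum_comm]
      refine Finset.sum_congr rfl fun j _ => ?_
      rw [Finset.mul_sum]
      exact Finset.sum_congr rfl fun i _ => by rw [pow_add, mul_assoc]
    calc ‖c * P.eval (γ i₀)‖ * ‖γ i₀‖ ^ m = ‖∑ i, P.eval (γ i) * γ i ^ m‖ := by rw [e1, norm_mul _ (γ i₀ ^ m), norm_pow]
      _ ≤ ∑ j ∈ Finset.range (P.natDegree + 1), ‖P.coeff j * ∑ i, γ i ^ (j + m)‖ := by rw [e2]; exact norm_sum_le _ _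
      _ ≤ A * R ^ m := by
        rw [Finset.sum_mul]
        refine Finset.sum_le_sum fun j _ => ?_
        rw [norm_mul, mul_assoc, mul_assoc, ← pow_add]
        exact mul_le_mul_of_nonneg_left (h _ (by omega)) (norm_nonneg _)
  have hc : c ≠ 0 := Nat.cast_ne_zero.2 (Finset.card_ne_zero.2 ⟨i₀, by simp⟩)
  have hpos : 0 < ‖c * P.eval (γ i₀)‖ := norm_pos_iff.2 (mul_ne_zero hc hP0)
  have hr : 1 < ‖γ i₀‖ / R := (one_lt_div hR).2 hlt
  obtain ⟨n, hn⟩ := pow_unbounded_of_one_lt (A / ‖c * P.eval (γ i₀)‖) hr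
  have h1 : A / ‖c * P.eval (γ i₀)‖ < (‖γ i₀‖ / R) ^ (max n m₀) :=
    hn.trans_le (pow_le_pow_right₀ hr.le (le_max_left _ _))
  rw [div_pow, div_lt_div_iff₀ hpos (pow_pos hR _)] at h1
  have := key _ (le_max_right n m₀)
  linarith [mul_comm (‖γ i₀‖ ^ max n m₀) ‖c * P.eval (γ i₀)‖]

variable {k : Type u} {K : Type v} [Field k] [Field K] [Algebra k K] [Finite k]

theorem countN_ratFunc (n : ℕ) (hn : n ≠ 0) :
    countN (isFunctionField_ratFunc (k := k)) n = Nat.card k ^ n + 1 := by
  obtain ⟨α, -, hα, -⟩ := zeta_roots (isFunctionField_ratFunc (k := k))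
  have hempty : IsEmpty (Fin (2 * genus k (RatFunc k))) := by rw [genus_ratFunc, mul_zero]; infer_instance
  have h := countN_of_numer (isFunctionField_ratFunc (k := k)) α hα hn
  rw [Finset.univ_eq_empty, Finset.sum_empty, sub_zero, add_comm] at h
  exact_mod_cast h

theorem exists_sep_ratFunc_algebra (hK : IsFunctionField k K) :
    ∃ (_ : Algebra (RatFunc k) K), IsScalarTower k (RatFunc k) K ∧ FiniteDimensional (RatFunc k) K ∧
      Algebra.IsSeparable (RatFunc k) K := by
  obtain ⟨x, hx, hsep⟩ := exists_separating hK (isGeometric_of_perfect hK)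
  haveI := hsep
  haveI := finite_adjoin hK hx
  have hinj : Function.Injective (Polynomial.aeval (R := k) x) := transcendental_iff_injective.1 hx
  have hle : nonZeroDivisors (Polynomial k) ≤ (nonZeroDivisors K).comap (Polynomial.aeval (R := k) x) := fun p hp =>
    mem_nonZeroDivisors_of_ne_zero fun h => nonZeroDivisors.ne_zero hp (hinj (by rw [h, map_zero]))
  set φ : RatFunc k →ₐ[k] K := RatFunc.liftAlgHom (Polynomial.aeval x) hle
  have hφX : φ RatFunc.X = x := by
    have := RatFunc.liftAlgHom_apply_div (S := k) (Polynomial.aeval x) hle Polynomial.X 1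
    rw [map_one, div_one, RatFunc.algebraMap_X, Polynomial.aeval_X, map_one, div_one] at this
    exact this
  have hrange : φ.fieldRange = IntermediateField.adjoin k ({x} : Set K) := by
    rw [AlgHom.fieldRange_eq_map, ← RatFunc.adjoin_X, IntermediateField.adjoin_map, Set.image_singleton, hφX]
  let e : RatFunc k ≃ₐ[k] IntermediateField.adjoin k ({x} : Set K) :=
    (AlgEquiv.ofInjectiveField φ).trans (IntermediateField.equivOfEq hrange)
  letI iA : Algebra (RatFunc k) K := φ.toRingHom.toAlgebra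
  refine ⟨iA, IsScalarTower.of_algebraMap_eq fun c => (φ.commutes c).symm, ?_, ?_⟩
  · refine Module.Finite.of_equiv_equiv (A₁ := IntermediateField.adjoin k ({x} : Set K)) (B₁ := K) e.symm.toRingEquiv
      (RingEquiv.refl K) (RingHom.ext fun a => ?_)
    show φ (e.symm a) = (a : K)
    conv_rhs => rw [← e.apply_symm_apply a]
    rfl
  · refine Algebra.IsSeparable.of_equiv_equiv (A₁ := IntermediateField.adjoin k ({x} : Set K)) (B₁ := K) e.symm.toRingEquiv
      (RingEquiv.refl K) (RingHom.ext fun a => ?_)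
    show φ (e.symm a) = (a : K)
    conv_rhs => rw [← e.apply_symm_apply a]
    rfl

theorem genus_mono_bound {a b g g' : ℕ} (ha : a ≤ b) (hg : g' ≤ g) : a * (3 * g' + 2) ≤ b * (3 * g + 2) :=
  Nat.mul_le_mul ha (by omega)

set_option synthInstance.maxHeartbeats 200000 in
set_option maxHeartbeats 2000000 in
/-- The point counts of a tower of constant extensions. -/
theorem exists_count_bound (hK : IsFunctionField k K) : ∃ D e C M : ℕ, 0 < e ∧ D = 2 * e ∧
    ∀ i, M ≤ i → |(countN hK (D * i) : ℤ) - ((Nat.card k : ℤ) ^ (D * i) + 1)| ≤ (C : ℤ) * (Nat.card k : ℤ) ^ (e * i) := by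
  classical
  obtain ⟨iA, hT, hfinK, hsepK⟩ := exists_sep_ratFunc_algebra hK
  letI := iA
  haveI := hT; haveI := hfinK; haveI := hsepK
  let Ω := AlgebraicClosure K
  haveI : Algebra.IsAlgebraic (RatFunc k) Ω := Algebra.IsAlgebraic.trans (RatFunc k) K Ω
  haveI : IsAlgClosure (RatFunc k) Ω := ⟨inferInstance, inferInstance⟩
  haveI : Normal (RatFunc k) Ω := IsAlgClosure.normal _ _
  let E := IntermediateField.normalClosure (RatFunc k) K Ω
  haveI : IsScalarTower k (RatFunc k) E := IsScalarTower.of_algebraMap_eq fun c =>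
    Subtype.ext (IsScalarTower.algebraMap_apply k (RatFunc k) Ω c)
  haveI : IsScalarTower k K E := IsScalarTower.of_algebraMap_eq fun c =>
    Subtype.ext (IsScalarTower.algebraMap_apply k K Ω c)
  haveI : IsScalarTower k E Ω := IsScalarTower.of_algebraMap_eq fun c => by
    rw [IsScalarTower.algebraMap_apply k (RatFunc k) Ω, IsScalarTower.algebraMap_apply k (RatFunc k) E]
    rfl
  haveI : Algebra.IsSeparable (RatFunc k) E := by
    refine (le_separableClosure_iff (RatFunc k) Ω E).1 ((normalClosure_le_iff).2 fun f => ?_)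
    rintro _ ⟨z, rfl⟩
    exact mem_separableClosure_iff.2 ((Algebra.IsSeparable.isSeparable (RatFunc k) z).map f f.injective)
  haveI : IsGalois (RatFunc k) E := ⟨⟩
  haveI : FiniteDimensional K E := Module.Finite.of_restrictScalars_finite (RatFunc k) K E
  -- constants of `E`
  let k₁ := algebraicClosure k E
  haveI : FiniteDimensional k k₁ := finite_algebraicClosure (K' := E) hK
  haveI : Finite k₁ := Module.finite_of_finite k
  have hE : IsFunctionField k₁ E := isFunctionField_algebraicClosure (K' := E) hK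
  set d := Module.finrank k k₁
  have hd0 : 0 < d := Module.finrank_pos
  obtain ⟨P⟩ := exists_place_any hE
  have hδ0 : 0 < P.deg := deg_pos hE P
  obtain ⟨p, hp⟩ := CharP.exists k
  haveI : Fact p.Prime := ⟨(CharP.char_is_prime_or_zero k p).resolve_right (CharP.char_ne_zero_of_finite k p)⟩
  haveI := Fintype.ofFinite k
  obtain ⟨a, -, ha⟩ := FiniteField.card k p
  refine ⟨2 * (d * P.deg), d * P.deg, Module.finrank (RatFunc k) E * (3 * genus k₁ E + 2),
    (genus k₁ E + 1) ^ 2 + 1, Nat.mul_pos hd0 hδ0, rfl, fun i hi => ?_⟩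
  set n := 2 * (d * P.deg) * i with hn
  have hn0 : n ≠ 0 := Nat.mul_ne_zero (Nat.mul_ne_zero two_ne_zero (Nat.mul_ne_zero hd0.ne' hδ0.ne')) (by omega)
  let k' := kExt k Ω n
  obtain ⟨hck, hfr⟩ := card_kExt k Ω hn0
  haveI : FiniteDimensional k k' := Module.finite_of_finrank_pos (by rw [hfr]; omega)
  haveI : Finite k' := Module.finite_of_finite k
  haveI : CharP k' p := charP_of_injective_algebraMap (algebraMap k k').injective p
  have hck₁ : Nat.card k₁ = Nat.card k ^ d := Module.natCard_eq_pow_finrank (K := k)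
  haveI := Fintype.ofFinite k₁
  haveI : IsScalarTower k k₁ Ω := IsScalarTower.of_algebraMap_eq fun c => IsScalarTower.algebraMap_apply k E Ω c
  have hmem : ∀ c : k₁, (algebraMap k₁ Ω c) ∈ k' := fun c =>
    mem_kExt_of_dvd k Ω (m := d) ⟨2 * P.deg * i, by rw [hn]; ring⟩ (by
      rw [← hck₁, ← map_pow, Nat.card_eq_fintype_card, FiniteField.pow_card])
  letI : Algebra k₁ k' := ((algebraMap k₁ Ω).codRestrict k' hmem).toAlgebra
  haveI : IsScalarTower k₁ k' Ω := IsScalarTower.of_algebraMap_eq fun _ => rfl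
  haveI : IsScalarTower k k₁ k' := IsScalarTower.of_algebraMap_eq fun c => Subtype.ext
    (IsScalarTower.algebraMap_apply k k₁ Ω c)
  haveI : FiniteDimensional k₁ k' := Module.Finite.of_restrictScalars_finite k k₁ k'
  obtain ⟨-, -, hF', hbF⟩ := constComp_spec (k := k) (L := RatFunc k) (k' := k') (Ω := Ω) isFunctionField_ratFunc
  obtain ⟨-, -, hK', hbK⟩ := constComp_spec (k := k) (L := K) (k' := k') (Ω := Ω) hK
  obtain ⟨-, -, hE', hbE⟩ := constComp_spec (k := k₁) (L := E) (k' := k') (Ω := Ω) hE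
  let F' := constComp (RatFunc k) k' Ω
  let K' := constComp K k' Ω
  let E' := constComp E k' Ω
  have hdvd : P.deg ∣ Module.finrank k₁ k' := by
    refine (Nat.mul_dvd_mul_iff_left hd0).1 ?_
    rw [Module.finrank_mul_finrank, hfr, hn]
    exact ⟨2 * i, by ring⟩
  obtain ⟨hg, P₀, hP₀⟩ := genus_constExt_le hbE hE hE' P hdvd
  have hFK : ∀ z ∈ F', z ∈ K' := fun z hz =>
    (show F' ≤ K'.restrictScalars (RatFunc k) from adjoin_le_iff.2 fun w hw => subset_adjoin K _ hw) hz
  have hKE : ∀ z ∈ K', z ∈ E' := fun z hz =>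
    (show K' ≤ E'.restrictScalars K from adjoin_le_iff.2 fun w hw => subset_adjoin E _ hw) hz
  letI : Algebra F' K' := ((algebraMap F' Ω).codRestrict K' fun z => hFK z z.2).toAlgebra
  letI : Algebra K' E' := ((algebraMap K' Ω).codRestrict E' fun z => hKE z z.2).toAlgebra
  letI : Algebra F' E' := ((algebraMap F' Ω).codRestrict E' fun z => hKE z (hFK z z.2)).toAlgebra
  haveI : IsScalarTower F' K' E' := IsScalarTower.of_algebraMap_eq fun _ => rfl
  haveI : IsScalarTower k' F' E' := IsScalarTower.of_algebraMap_eq fun _ => rfl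
  haveI : IsScalarTower k' K' E' := IsScalarTower.of_algebraMap_eq fun _ => rfl
  -- `E'/F'` is Galois of degree at most `[E : k(x)]`
  obtain ⟨θ, hθ⟩ := Field.exists_primitive_element (RatFunc k) E
  have hθi : IsIntegral (RatFunc k) θ := IsIntegral.of_finite _ θ
  set p₀ := minpoly (RatFunc k) θ
  set p' := p₀.map (algebraMap (RatFunc k) F')
  set θ' : E' := algebraMap E E' θ
  have hcomp : (algebraMap F' E').comp (algebraMap (RatFunc k) F') =
      (algebraMap E E').comp (algebraMap (RatFunc k) E) := RingHom.ext fun _ => Subtype.ext rfl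
  have hsplit : (p'.map (algebraMap F' E')).Splits := by
    rw [Polynomial.map_map, hcomp, ← Polynomial.map_map]
    exact (Normal.splits inferInstance θ).map _
  have hroot : Polynomial.aeval θ' p' = 0 := by
    rw [Polynomial.aeval_def, Polynomial.eval₂_map, hcomp, ← Polynomial.hom_eval₂, ← Polynomial.aeval_def,
      minpoly.aeval, map_zero]
  have hp'0 : p' ≠ 0 := Polynomial.map_ne_zero (minpoly.ne_zero hθi)
  have hgen : Algebra.adjoin F' ({θ'} : Set E') = ⊤ := by
    refine Algebra.eq_top_iff.2 fun y => ?_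
    obtain ⟨w, rfl⟩ := hbE.2 y
    induction w using TensorProduct.induction_on with
    | zero => rw [map_zero]; exact zero_mem _
    | add a c ha hc => rw [map_add]; exact add_mem ha hc
    | tmul c z =>
      rw [Algebra.TensorProduct.productMap_apply_tmul, IsScalarTower.coe_toAlgHom', IsScalarTower.coe_toAlgHom',
        IsScalarTower.algebraMap_apply k' F' E']
      refine mul_mem (Subalgebra.algebraMap_mem _ _) ?_
      have hz : z ∈ IntermediateField.adjoin (RatFunc k) ({θ} : Set E) := hθ ▸ IntermediateField.mem_top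
      rw [← IntermediateField.mem_toSubalgebra, adjoin_simple_toSubalgebra_of_isAlgebraic hθi.isAlgebraic,
        Algebra.adjoin_singleton_eq_range_aeval] at hz
      obtain ⟨r, rfl⟩ := hz
      rw [Algebra.adjoin_singleton_eq_range_aeval]
      refine ⟨r.map (algebraMap (RatFunc k) F'), ?_⟩
      show Polynomial.aeval θ' (r.map (algebraMap (RatFunc k) F')) = algebraMap E E' (Polynomial.aeval θ r)
      rw [Polynomial.aeval_def, Polynomial.eval₂_map, hcomp, ← Polynomial.hom_eval₂, Polynomial.aeval_def]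
  haveI : p'.IsSplittingField F' E' := ⟨hsplit, top_le_iff.1 (hgen ▸ Algebra.adjoin_mono
    (Set.singleton_subset_iff.2 (Polynomial.mem_rootSet.2 ⟨hp'0, hroot⟩)))⟩
  haveI : IsGalois F' E' := IsGalois.of_separable_splitting_field (p := p')
    (Polynomial.Separable.map (Algebra.IsSeparable.isSeparable (RatFunc k) θ))
  haveI : FiniteDimensional F' E' := Polynomial.IsSplittingField.finiteDimensional E' p'
  have hdeg : Module.finrank F' E' ≤ Module.finrank (RatFunc k) E := by
    have hi : IsIntegral F' θ' := IsIntegral.of_finite _ θ'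
    have htop : IntermediateField.adjoin F' ({θ'} : Set E') = ⊤ :=
      IntermediateField.toSubalgebra_injective (by
        rw [adjoin_simple_toSubalgebra_of_isAlgebraic hi.isAlgebraic, hgen]; rfl)
    rw [← finrank_top' (F := F') (E := E'), ← htop, adjoin.finrank hi,
      ← finrank_top' (F := RatFunc k) (E := E), ← hθ, adjoin.finrank hθi]
    exact (Polynomial.natDegree_le_of_dvd (minpoly.dvd F' θ' hroot) hp'0).trans Polynomial.natDegree_map_le
  -- counts
  have hcardk' : Nat.card k' = (p ^ (a.val * (d * P.deg * i))) ^ 2 := by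
    rw [hck, Nat.card_eq_fintype_card, ha, ← pow_mul, ← pow_mul, hn]
    congr 1
    show a.val * _ = _
    ring
  have hs : p ^ (a.val * (d * P.deg * i)) = Nat.card k ^ (d * P.deg * i) := by
    rw [Nat.card_eq_fintype_card, ha, ← pow_mul]
  have hbig : (genus k' E' + 1) ^ 2 < p ^ (a.val * (d * P.deg * i)) := by
    have h1 : (genus k' E' + 1) ^ 2 ≤ (genus k₁ E + 1) ^ 2 := Nat.pow_le_pow_left (Nat.succ_le_succ hg) 2
    have h2 : d * P.deg * i < Nat.card k ^ (d * P.deg * i) := Nat.lt_pow_self Finite.one_lt_card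
    have h3 : i ≤ d * P.deg * i := Nat.le_mul_of_pos_left i (Nat.mul_pos hd0 hδ0)
    rw [hs]
    omega
  have hFN : Nat.card {P : Place k' F' // P.deg = 1} = Nat.card k' + 1 := by
    rw [← countN_one hF', countN_constExt hbF isFunctionField_ratFunc hF' one_ne_zero, mul_one, hfr,
      countN_ratFunc n hn0, hck]
  have hb := card_deg_one_bound (k := k') (F := F') (K := K') (E := E') hF' hK' hE' hFN hP₀ hcardk' hbig
  rw [← countN_one hK', countN_constExt hbK hK hK' one_ne_zero, mul_one, hfr, hck, hs] at hb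
  push_cast at hb
  refine hb.trans ?_
  have hmono : ((Module.finrank F' E' * (3 * genus k' E' + 2) : ℕ) : ℤ) ≤
      ((Module.finrank (RatFunc k) E * (3 * genus k₁ E + 2) : ℕ) : ℤ) := by
    exact_mod_cast genus_mono_bound hdeg hg
  push_cast at hmono ⊢
  exact mul_le_mul_of_nonneg_right hmono (by positivity)

theorem norm_roots (hK : IsFunctionField k K) {α : Fin (2 * genus k K) → ℂ}
    (hα : PowerSeries.map (Int.castRingHom ℂ) (numerZ k K) =
      ((∏ i, (1 - Polynomial.C (α i) * Polynomial.X) : Polynomial ℂ) : PowerSeries ℂ))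
    (hpair : ∀ i, α i * α (Fin.rev i) = (Nat.card k : ℂ)) (j : Fin (2 * genus k K)) :
    ‖α j‖ ^ 2 = (Nat.card k : ℝ) := by
  obtain ⟨D, e, C, M, he, hD, hbound⟩ := exists_count_bound hK
  set q : ℝ := (Nat.card k : ℝ)
  have hq : 1 < q := by simp only [q]; exact_mod_cast (Finite.one_lt_card : 1 < Nat.card k)
  have hle : ∀ i, ‖α i‖ ^ 2 ≤ q := by
    intro i
    have h1 := norm_le_of_powerSums (fun i => α i ^ D) (C := (C : ℝ)) (R := q ^ e) (m₀ := M + 1) (by positivity)
      (fun m hm => ?_) i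
    · rw [norm_pow, hD, pow_mul] at h1
      exact (pow_le_pow_iff_left₀ (by positivity) (by positivity) he.ne').1 h1
    · have hm0 : D * m ≠ 0 := Nat.mul_ne_zero (by omega) (by omega)
      have h := countN_of_numer hK α hα hm0
      have h' : ∑ i, (α i ^ D) ^ m = -(((countN hK (D * m) : ℤ) - ((Nat.card k : ℤ) ^ (D * m) + 1) : ℤ) : ℂ) := by
        push_cast
        rw [h]
        simp only [← pow_mul]
        ring
      rw [h', norm_neg, Complex.norm_intCast, ← pow_mul, ← Int.cast_abs]
      refine (Int.cast_le.2 (hbound m (by omega))).trans (le_of_eq ?_)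
      push_cast; rfl
  refine le_antisymm (hle j) ?_
  have hp := congrArg (fun z : ℂ => ‖z‖ ^ 2) (hpair j)
  simp only [norm_mul, mul_pow, Complex.norm_natCast] at hp
  by_contra hlt
  push Not at hlt
  have h1 : ‖α j‖ ^ 2 * ‖α (Fin.rev j)‖ ^ 2 < q * q :=
    mul_lt_mul_of_lt_of_le_of_nonneg_of_pos hlt (hle _) (by positivity) (by positivity)
  rw [hp, pow_two] at h1
  exact lt_irrefl _ h1

theorem riemann_hypothesis (hK : IsFunctionField k K) (p : Polynomial ℤ) (hp : (p : PowerSeries ℤ) = numerZ k K)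
    (z : ℂ) (hz : (p.map (Int.castRingHom ℂ)).IsRoot z) : ‖z‖ ^ 2 * (Nat.card k : ℝ) = 1 := by
  obtain ⟨α, -, hα, hpair⟩ := zeta_roots hK
  rw [← hp, ← Polynomial.polynomial_map_coe, Polynomial.coe_inj] at hα
  rw [hα, Polynomial.IsRoot.def, Polynomial.eval_prod, Finset.prod_eq_zero_iff] at hz
  obtain ⟨i, -, hi⟩ := hz
  simp only [Polynomial.eval_sub, Polynomial.eval_one, Polynomial.eval_mul, Polynomial.eval_C, Polynomial.eval_X,
    sub_eq_zero] at hi
  rw [← norm_roots hK (by rw [← hp, ← Polynomial.polynomial_map_coe, hα]) hpair i, ← mul_pow, ← norm_mul, mul_comm,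
    ← hi, norm_one, one_pow]

theorem hasse_weil (hK : IsFunctionField k K) :
    |(Nat.card {P : Place k K // P.deg = 1} : ℝ) - (Nat.card k : ℝ) - 1| ≤
      2 * (genus k K : ℝ) * Real.sqrt (Nat.card k : ℝ) := by
  obtain ⟨α, -, hα, hpair⟩ := zeta_roots hK
  have h := countN_of_numer hK α hα one_ne_zero
  rw [countN_one hK] at h
  simp only [pow_one] at h
  have e : (((Nat.card {P : Place k K // P.deg = 1} : ℝ) - (Nat.card k : ℝ) - 1 : ℝ) : ℂ) = -∑ i, α i := by
    push_cast; rw [h]; ring
  rw [← Real.norm_eq_abs, ← Complex.norm_real, e, norm_neg]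
  refine (norm_sum_le _ _).trans ?_
  have hn : ∀ i, ‖α i‖ = Real.sqrt (Nat.card k : ℝ) := fun i => by
    rw [← norm_roots hK hα hpair i, Real.sqrt_sq (norm_nonneg _)]
  simp [hn]

end Groth.Agent.FunFld
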