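import Groth.Agent.FunFld.ConstDisc
import Groth.Agent.FunFld.Ext.Quad
import Groth.Agent.FunFld.ClassNum
import Mathlib.FieldTheory.Finite.Extension
import Mathlib.RingTheory.AdjoinRoot
import Mathlib.FieldTheory.PrimitiveElement
import Mathlib.FieldTheory.Finite.Basic

/-! F. K. Schmidt: over a finite constant field the degree takes the value one. -/

namespace Groth.Agent.FunFld

open _root_.FunFld WithZero IsLocalRing TensorProduct

universe u v

theorem irreducible_map_of_algClosed {k : Type u} {K : Type v} [Field k] [Field K] [Algebra k K]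
    (hK : ∀ y : K, IsAlgebraic k y → y ∈ Set.range (algebraMap k K)) {f : Polynomial k} (hf : Irreducible f)
    (hm : f.Monic) : Irreducible (f.map (algebraMap k K)) := by
  refine (Polynomial.Monic.irreducible_iff_natDegree' (hm.map _)).2 ⟨?_, fun q r hq hr hqr hdeg => ?_⟩
  · intro h
    have := congrArg Polynomial.natDegree h
    rw [Polynomial.natDegree_map, Polynomial.natDegree_one] at this
    exact hf.natDegree_pos.ne' this
  have hdesc : ∀ {q : Polynomial K}, q.Monic → q ∣ f.map (algebraMap k K) →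
      ∃ q₀ : Polynomial k, q₀.Monic ∧ q₀.map (algebraMap k K) = q := by
    intro q hq hdvd
    have hl : q ∈ Polynomial.lifts (algebraMap k K) := (Polynomial.lifts_iff_coeff_lifts q).2 fun i =>
      hK _ (Polynomial.isIntegral_coeff_of_dvd f q hm hq hdvd i).isAlgebraic
    obtain ⟨q₀, h1, -, h2⟩ := Polynomial.lifts_and_degree_eq_and_monic hl hq
    exact ⟨q₀, h2, h1⟩
  obtain ⟨q₀, hq₀, rfl⟩ := hdesc hq (Dvd.intro r hqr)
  obtain ⟨r₀, hr₀, rfl⟩ := hdesc hr (Dvd.intro_left _ hqr)
  have h0 : q₀ * r₀ = f := Polynomial.map_injective _ (algebraMap k K).injective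
    (by rw [Polynomial.map_mul]; exact hqr)
  simp only [Polynomial.natDegree_map] at hdeg
  exact ((Polynomial.Monic.irreducible_iff_natDegree' hm).1 hf).2 q₀ r₀ hq₀ hr₀ h0 hdeg

theorem exists_irreducible_of_degree (k : Type*) [Field k] [Finite k] (n : ℕ) [NeZero n] :
    ∃ f : Polynomial k, Irreducible f ∧ f.Monic ∧ f.natDegree = n := by
  obtain ⟨p, hp⟩ := CharP.exists k
  haveI : Fact p.Prime := ⟨(CharP.char_is_prime_or_zero k p).resolve_right (CharP.char_ne_zero_of_finite k p)⟩
  obtain ⟨α, hα⟩ := Field.exists_primitive_element k (FiniteField.Extension k p n)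
  have hi : IsIntegral k α := .of_finite k α
  refine ⟨minpoly k α, minpoly.irreducible hi, minpoly.monic hi, ?_⟩
  rw [← IntermediateField.adjoin.finrank hi, hα, IntermediateField.finrank_top',
    FiniteField.finrank_extension]

section split

variable {k k' : Type u} {K K' : Type v} [Field k] [Field k'] [Field K] [Field K']
  [Algebra k k'] [FiniteDimensional k k'] [Algebra k K] [Algebra K K'] [Algebra k' K'] [Algebra k K']
  [IsScalarTower k k' K'] [IsScalarTower k K K'] [Finite k]
  (h : Function.Bijective (Algebra.TensorProduct.productMap (IsScalarTower.toAlgHom k k' K')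
    (IsScalarTower.toAlgHom k K K')))
include h

theorem deg_eq_of_finite_const (hK : IsFunctionField k K) {P : Place k K}
    (hdvd : Module.finrank k k' ∣ P.deg) {Q : Place k K'} (hQ : IsOver Q P) :
    IsOverWith Q P 1 ∧ Q.deg = P.deg := by
  classical
  haveI := finiteDimensional_constExt h
  haveI : Finite k' := Module.finite_of_finite k
  haveI : Algebra.IsSeparable k k' := inferInstance
  letI : Algebra P.O K' := ((algebraMap K K').comp P.O.subtype).toAlgebra
  haveI : IsScalarTower P.O K K' := IsScalarTower.of_algebraMap_eq fun _ => rfl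
  obtain ⟨hclos, he⟩ := sep_const_disc h hK P Q hQ
  refine ⟨he, le_antisymm ?_ (deg_le_of_isOver hK hQ)⟩
  -- every residue is fixed by the `N`-th power map
  haveI := residue_finite' (K' := K') hK Q
  haveI := residue_finite hK P
  haveI : Finite (ResidueField P.O) := Module.finite_of_finite k
  haveI : Finite (ResidueField Q.O) := Module.finite_of_finite k
  set N := Nat.card k ^ P.deg with hN
  have hcP : Nat.card (ResidueField P.O) = N := Module.natCard_eq_pow_finrank (K := k)
  have hc' : Nat.card k' = Nat.card k ^ Module.finrank k k' := Module.natCard_eq_pow_finrank (K := k)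
  obtain ⟨p, hp⟩ := CharP.exists k
  have hpP : p.Prime := (CharP.char_is_prime_or_zero k p).resolve_right (CharP.char_ne_zero_of_finite k p)
  haveI := Fact.mk hpP
  haveI : CharP (ResidueField Q.O) p := charP_of_injective_algebraMap (algebraMap k _).injective p
  haveI := Fintype.ofFinite k
  obtain ⟨m, -, hm⟩ := FiniteField.card k p
  have hNp : N = p ^ ((m : ℕ) * P.deg) := by rw [hN, Nat.card_eq_fintype_card, hm, ← pow_mul]
  let ι₀ : P.O →+* Q.O :=
    ((algebraMap K K').comp P.O.subtype).codRestrict Q.O fun c => (val_le_one_iff hQ (c : K)).2 c.2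
  haveI : IsLocalHom ι₀ := ⟨fun c hc => by
    by_contra hn
    have h1 : P.1 (c : K) < 1 := (Valuation.Integer.not_isUnit_iff_valuation_lt_one (v := P.1) (x := c)).1 hn
    exact (Valuation.Integer.not_isUnit_iff_valuation_lt_one (v := Q.1) (x := ι₀ c)).2
      ((val_lt_one_iff hQ (c : K)).2 h1) hc⟩
  have hfix : ∀ r : ResidueField Q.O, r ^ N = r := by
    intro r
    obtain ⟨a, rfl⟩ := residue_surjective r
    obtain ⟨w, hw⟩ := exists_approx (placesOver hK K' P) (fun R => if R = Q then (a : K') else 0) (-1)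
    have hwQ := hw Q ((mem_placesOver hK).2 hQ)
    rw [if_pos rfl] at hwQ
    have hwle : ∀ R, IsOver R P → R.1 w ≤ 1 := fun R hR => by
      have h1 := hw R ((mem_placesOver hK).2 hR)
      have hlt : exp (-1 : ℤ) ≤ 1 := by rw [← exp_zero, exp_le_exp]; omega
      by_cases hRQ : R = Q
      · subst hRQ
        rw [← sub_add_cancel w (a : K')]
        exact (R.1.map_add _ _).trans (max_le (hwQ.trans hlt) a.2)
      · rw [if_neg hRQ, sub_zero] at h1
        exact h1.trans hlt
    have hwmem : w ∈ Algebra.adjoin P.O (Set.range (algebraMap k' K')) := by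
      have : w ∈ (integralClosure P.O K').toSubring := by
        show w ∈ integralClosure P.O K'
        rw [integralClosure_eq hK P]
        exact fun R hR => hwle R ((mem_placesOver hK).1 hR)
      rw [hclos] at this
      exact this
    have hres : residue Q.O a = residue Q.O ⟨w, hwle Q hQ⟩ := by
      rw [← sub_eq_zero, ← map_sub, residue_eq_zero_iff, mem_maximalIdeal, mem_nonunits_iff]
      refine Valuation.Integer.not_isUnit_iff_valuation_lt_one.2 ?_
      show Q.1 ((a : K') - w) < 1
      rw [Valuation.map_sub_swap]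
      exact hwQ.trans_lt (by rw [← exp_zero, exp_lt_exp]; omega)
    rw [hres]
    suffices H : ∀ x ∈ Algebra.adjoin P.O (Set.range (algebraMap k' K')), ∀ (hz : Q.1 x ≤ 1),
        residue Q.O ⟨x, hz⟩ ^ N = residue Q.O ⟨x, hz⟩ from H w hwmem _
    intro x hxmem
    clear hres hwmem hwle hwQ hw
    induction hxmem using Algebra.adjoin_induction with
    | mem x hx =>
      obtain ⟨c, rfl⟩ := hx
      intro hz
      rw [← map_pow]
      congr 1
      refine Subtype.ext ?_
      show algebraMap k' K' c ^ N = algebraMap k' K' c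
      rw [← map_pow]
      congr 1
      obtain ⟨j, hj⟩ := hdvd
      haveI := Fintype.ofFinite k'
      rw [hN, hj, pow_mul, ← hc', Nat.card_eq_fintype_card, FiniteField.pow_card_pow]
    | algebraMap c =>
      intro hz
      show ResidueField.map ι₀ (residue P.O c) ^ N = ResidueField.map ι₀ (residue P.O c)
      rw [← map_pow]
      congr 1
      haveI := Fintype.ofFinite (ResidueField P.O)
      rw [← hcP, Nat.card_eq_fintype_card, FiniteField.pow_card]
    | add x y hx hy ihx ihy =>
      intro hz
      have hxv : Q.1 x ≤ 1 := (show Algebra.adjoin P.O (Set.range (algebraMap k' K')) ≤ Bring hK P K' from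
        Algebra.adjoin_le (by rintro _ ⟨b, rfl⟩ R _; exact val_const_le R b)) hx Q ((mem_placesOver hK).2 hQ)
      have hyv : Q.1 y ≤ 1 := (show Algebra.adjoin P.O (Set.range (algebraMap k' K')) ≤ Bring hK P K' from
        Algebra.adjoin_le (by rintro _ ⟨b, rfl⟩ R _; exact val_const_le R b)) hy Q ((mem_placesOver hK).2 hQ)
      rw [show (⟨x + y, hz⟩ : Q.O) = ⟨x, hxv⟩ + ⟨y, hyv⟩ from rfl, map_add, hNp, add_pow_char_pow, ← hNp,
        ihx hxv, ihy hyv]
    | mul x y hx hy ihx ihy =>
      intro hz
      have hxv : Q.1 x ≤ 1 := (show Algebra.adjoin P.O (Set.range (algebraMap k' K')) ≤ Bring hK P K' from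
        Algebra.adjoin_le (by rintro _ ⟨b, rfl⟩ R _; exact val_const_le R b)) hx Q ((mem_placesOver hK).2 hQ)
      have hyv : Q.1 y ≤ 1 := (show Algebra.adjoin P.O (Set.range (algebraMap k' K')) ≤ Bring hK P K' from
        Algebra.adjoin_le (by rintro _ ⟨b, rfl⟩ R _; exact val_const_le R b)) hy Q ((mem_placesOver hK).2 hQ)
      rw [show (⟨x * y, hz⟩ : Q.O) = ⟨x, hxv⟩ * ⟨y, hyv⟩ from rfl, map_mul, mul_pow, ihx hxv, ihy hyv]
  haveI := Fintype.ofFinite (ResidueField Q.O)
  have hN1 : 1 < N := Nat.one_lt_pow (deg_pos hK P).ne' Finite.one_lt_card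
  have hcard : Fintype.card (ResidueField Q.O) ≤ N := by
    have hne : (Polynomial.X ^ N - Polynomial.X : Polynomial (ResidueField Q.O)) ≠ 0 :=
      FiniteField.X_pow_card_sub_X_ne_zero _ hN1
    calc Fintype.card (ResidueField Q.O) = (Finset.univ : Finset (ResidueField Q.O)).card := rfl
      _ ≤ (Polynomial.X ^ N - Polynomial.X : Polynomial (ResidueField Q.O)).natDegree :=
          Polynomial.card_le_degree_of_subset_roots (fun r _ => by
            rw [Polynomial.mem_roots hne, Polynomial.IsRoot.def]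
            simp [hfix r])
      _ = N := FiniteField.X_pow_card_sub_X_natDegree_eq _ hN1
  rw [← Nat.card_eq_fintype_card, Module.natCard_eq_pow_finrank (K := k), hN] at hcard
  exact (Nat.pow_le_pow_iff_right Finite.one_lt_card).1 hcard

theorem exists_two_over (hK : IsFunctionField k K) (hδ : 2 ≤ Module.finrank k k') (P : Place k K)
    (hdvd : Module.finrank k k' ∣ P.deg) : ∃ Q₀ Q₁ : Place k K', Q₀ ≠ Q₁ ∧ IsOver Q₀ P ∧ IsOver Q₁ P := by
  classical
  haveI := finiteDimensional_constExt h
  obtain ⟨b, -⟩ := exists_const_basis h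
  have hfr : Module.finrank K K' = Module.finrank k k' := by
    rw [Module.finrank_eq_card_basis b, Fintype.card_fin]
  have hsum := sum_ramIdx_mul_deg (K' := K') hK P
  rw [Finset.sum_eq_card_nsmul (b := P.deg) (fun Q hQ => by
    obtain ⟨h1, h2⟩ := deg_eq_of_finite_const h hK hdvd ((mem_placesOver hK).1 hQ)
    rw [ramIdx_eq h1, one_mul, h2]), smul_eq_mul, hfr] at hsum
  have hcard := Nat.eq_of_mul_eq_mul_right (deg_pos hK P) hsum
  obtain ⟨Q₀, h0, Q₁, h1, hne⟩ := Finset.one_lt_card.1 (show 1 < (placesOver hK K' P).card by omega)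
  exact ⟨Q₀, Q₁, hne, (mem_placesOver hK).1 h0, (mem_placesOver hK).1 h1⟩

/-- The effective divisors of the constant extension dominate pairs of effective divisors. -/
theorem card_pairs_le (hK : IsFunctionField k K) (hK' : IsFunctionField k' K')
    (hδ : 2 ≤ Module.finrank k k') (hdvd : ∀ P : Place k K, Module.finrank k k' ∣ P.deg) (n : ℕ) :
    ∑ i ∈ Finset.range (n + 1), effDivCount k K (Module.finrank k k' * i) *
      effDivCount k K (Module.finrank k k' * (n - i)) ≤ effDivCount k' K' n := by
  classical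
  haveI : Finite k' := Module.finite_of_finite k
  haveI := finiteDimensional_constExt h
  choose Q₀ Q₁ hne h0 h1 using fun P => exists_two_over h hK hδ P (hdvd P)
  let up : Place k K' → Place k' K' := fun Q => ⟨Q.1, val_const_le Q, Q.2.2⟩
  have hdeg : ∀ {Q : Place k K'} {P : Place k K}, IsOver Q P →
      Module.finrank k k' * (up Q).deg = P.deg := by
    intro Q P hQ
    rw [← (deg_eq_of_finite_const h hK (hdvd P) hQ).2]
    let R := ResidueField (up Q).O
    let iK : Algebra k R := Place.algRes Q
    let iC : Algebra k' R := Place.algRes (up Q)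
    have hT : @IsScalarTower k k' R Algebra.toSMul iC.toSMul iK.toSMul :=
      IsScalarTower.of_algebraMap_eq fun c => congrArg (residue (up Q).O)
        (Subtype.ext (IsScalarTower.algebraMap_apply k k' K' c))
    exact @Module.finrank_mul_finrank k k' R _ _ _ _ iC.toModule iK.toModule hT _ _ _ _
  have hup : Function.Injective up := fun a b e =>
    Subtype.ext (congrArg (fun R : Place k' K' => R.1) e)
  have hbelow : ∀ {Q : Place k K'} {P P' : Place k K}, IsOver Q P → IsOver Q P' → P = P' :=
    fun ⟨_, a⟩ ⟨_, b⟩ => (IsOverWith.unique a b).1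
  let j₀ : Place k K → Place k' K' := fun P => up (Q₀ P)
  let j₁ : Place k K → Place k' K' := fun P => up (Q₁ P)
  have hj₀ : Function.Injective j₀ := fun a b e => hbelow (h0 a) (hup e ▸ h0 b)
  have hj₁ : Function.Injective j₁ := fun a b e => hbelow (h1 a) (hup e ▸ h1 b)
  have hdisj : ∀ a b, j₀ a ≠ j₁ b := fun a b e => by
    have : a = b := hbelow (h0 a) (hup e ▸ h1 b)
    subst this
    exact hne a (hup e)
  have hmdeg : ∀ (j : Place k K → Place k' K'), (∀ P, Module.finrank k k' * (j P).deg = P.deg) →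
      ∀ D : Divisor k K, (Module.finrank k k' : ℤ) * Divisor.deg (Finsupp.mapDomain j D : Divisor k' K') = D.deg := by
    intro j hj D
    induction D using Finsupp.induction_linear with
    | zero => rw [Finsupp.mapDomain_zero, deg_zero, deg_zero, mul_zero]
    | add D E hD hE => rw [Finsupp.mapDomain_add, deg_add, deg_add, mul_add, hD, hE]
    | single P m =>
      rw [Finsupp.mapDomain_single, deg_single, deg_single, ← hj P]
      push_cast; ring
  let S := Σ i : Finset.range (n + 1), {D : Divisor k K // 0 ≤ D ∧ D.deg = ((Module.finrank k k' * i.1 : ℕ) : ℤ)} ×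
      {D : Divisor k K // 0 ≤ D ∧ D.deg = ((Module.finrank k k' * (n - i.1) : ℕ) : ℤ)}
  have hS : Nat.card S = ∑ i ∈ Finset.range (n + 1), effDivCount k K (Module.finrank k k' * i) *
      effDivCount k K (Module.finrank k k' * (n - i)) := by
    haveI := fun m => finite_effective hK m
    rw [Nat.card_sigma, ← Finset.sum_coe_sort (Finset.range (n + 1))]
    exact Finset.sum_congr rfl fun i _ => Nat.card_prod _ _
  haveI := finite_effective hK' n
  rw [← hS]
  let Φ : Divisor k K → Divisor k K → Divisor k' K' := fun D E => Finsupp.mapDomain j₀ D + Finsupp.mapDomain j₁ E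
  have hΦ0 : ∀ D E P, Φ D E (j₀ P) = D P := fun D E P => by
    rw [Finsupp.add_apply, Finsupp.mapDomain_apply hj₀, Finsupp.mapDomain_notin_range _ _ (by
      rintro ⟨b, hb⟩; exact hdisj P b hb.symm), add_zero]
  have hΦ1 : ∀ D E P, Φ D E (j₁ P) = E P := fun D E P => by
    rw [Finsupp.add_apply, Finsupp.mapDomain_apply hj₁, Finsupp.mapDomain_notin_range _ _ (by
      rintro ⟨b, hb⟩; exact hdisj b P hb), zero_add]
  refine Nat.card_le_card_of_injective (α := S) (fun s => (⟨Φ s.2.1.1 s.2.2.1, fun R => ?_, ?_⟩ :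
    {D : Divisor k' K' // 0 ≤ D ∧ D.deg = n})) ?_
  · rw [Finsupp.add_apply]
    refine add_nonneg ?_ ?_
    · by_cases hR : R ∈ Set.range j₀
      · obtain ⟨P, rfl⟩ := hR; rw [Finsupp.mapDomain_apply hj₀]; exact s.2.1.2.1 P
      · rw [Finsupp.mapDomain_notin_range _ _ hR]
    · by_cases hR : R ∈ Set.range j₁
      · obtain ⟨P, rfl⟩ := hR; rw [Finsupp.mapDomain_apply hj₁]; exact s.2.2.2.1 P
      · rw [Finsupp.mapDomain_notin_range _ _ hR]
  · refine mul_left_cancel₀ (show (Module.finrank k k' : ℤ) ≠ 0 by omega) ?_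
    rw [deg_add, mul_add, hmdeg j₀ (fun P => hdeg (h0 P)), hmdeg j₁ (fun P => hdeg (h1 P)), s.2.1.2.2,
      s.2.2.2.2]
    have := Finset.mem_range.1 s.1.2
    push_cast [Nat.cast_sub (show s.1.1 ≤ n by omega)]
    ring
  · rintro ⟨i, D, E⟩ ⟨i', D', E'⟩ e
    have e' : Φ D.1 E.1 = Φ D'.1 E'.1 := congrArg Subtype.val e
    have eD : D.1 = D'.1 := Finsupp.ext fun P => by rw [← hΦ0 D.1 E.1, e', hΦ0]
    have eE : E.1 = E'.1 := Finsupp.ext fun P => by rw [← hΦ1 D.1 E.1, e', hΦ1]
    have hi : i = i' := Subtype.ext (by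
      have h1 := D.2.2; rw [eD, D'.2.2] at h1
      have := Nat.eq_of_mul_eq_mul_left (show 0 < Module.finrank k k' by omega) (Nat.cast_injective h1)
      exact this.symm)
    subst hi
    rw [Subtype.ext eD, Subtype.ext eE]

end split

theorem exists_deg_one {k : Type u} {K : Type v} [Field k] [Finite k] [Field K] [Algebra k K]
    (hK : IsFunctionField k K) : ∃ D : Divisor k K, D.deg = 1 := by
  classical
  obtain ⟨P, hP⟩ := exists_deg_place hK
  let G : AddSubgroup ℤ := (degHom k K).range
  obtain ⟨δ, hδ⟩ := Int.subgroup_cyclic G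
  have hmem : ∀ D : Divisor k K, D.deg ∈ G := fun D => ⟨D, degHom_apply D⟩
  have hdvd' : ∀ D : Divisor k K, δ.natAbs ∣ D.deg.natAbs := fun D => by
    have h := hmem D
    rw [hδ, ← AddSubgroup.zmultiples_eq_closure, Int.mem_zmultiples_iff] at h
    exact Int.natAbs_dvd_natAbs.2 h
  have hdvd : ∀ P : Place k K, δ.natAbs ∣ P.deg := fun P => by
    simpa [deg_single] using hdvd' (Finsupp.single P 1)
  have hδG : δ ∈ G := by rw [hδ]; exact AddSubgroup.subset_closure rfl
  rcases Nat.lt_or_ge δ.natAbs 2 with hlt | hge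
  · have hne : δ.natAbs ≠ 0 := fun e => by
      have := hdvd P; rw [e, zero_dvd_iff] at this; omega
    have h1 : (1 : ℤ) ∈ G := by
      rcases Int.natAbs_eq δ with e | e
      · rwa [e, show δ.natAbs = 1 by omega] at hδG
      · rw [e, show δ.natAbs = 1 by omega] at hδG; simpa using G.neg_mem hδG
    obtain ⟨D, hD⟩ := h1
    exact ⟨D, by rw [← degHom_apply]; exact hD⟩
  exfalso
  set d := δ.natAbs
  haveI : NeZero d := ⟨by omega⟩
  obtain ⟨f, hfirr, hfm, hfdeg⟩ := exists_irreducible_of_degree k d
  set g := f.map (algebraMap k K)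
  haveI : Fact (Irreducible f) := ⟨hfirr⟩
  haveI : Fact (Irreducible g) := ⟨irreducible_map_of_algClosed hK.2 hfirr hfm⟩
  let k' := AdjoinRoot f
  let K' := AdjoinRoot g
  haveI : FiniteDimensional k k' := (AdjoinRoot.powerBasis hfirr.ne_zero).finite
  have hfr : Module.finrank k k' = d := by
    rw [(AdjoinRoot.powerBasis hfirr.ne_zero).finrank, AdjoinRoot.powerBasis_dim, hfdeg]
  letI : Algebra k' K' := (AdjoinRoot.lift ((algebraMap K K').comp (algebraMap k K)) (AdjoinRoot.root g) (by
    rw [← Polynomial.eval₂_map]; exact AdjoinRoot.eval₂_root g)).toAlgebra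
  haveI : IsScalarTower k k' K' := IsScalarTower.of_algebraMap_eq fun c => by
    rw [show algebraMap k' K' (algebraMap k k' c) = algebraMap K K' (algebraMap k K c) from
      AdjoinRoot.lift_of _, ← IsScalarTower.algebraMap_apply]
  set φ := Algebra.TensorProduct.productMap (IsScalarTower.toAlgHom k k' K') (IsScalarTower.toAlgHom k K K')
  have hsurj : Function.Surjective φ := by
    intro z
    induction z using AdjoinRoot.induction_on with
    | ih q =>
      induction q using Polynomial.induction_on' with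
      | add a b ha hb =>
        obtain ⟨x, hx⟩ := ha; obtain ⟨y, hy⟩ := hb
        exact ⟨x + y, by rw [map_add, hx, hy, map_add]⟩
      | monomial n c =>
        refine ⟨(AdjoinRoot.root f ^ n) ⊗ₜ[k] c, ?_⟩
        rw [Algebra.TensorProduct.productMap_apply_tmul, map_pow, ← Polynomial.C_mul_X_pow_eq_monomial,
          map_mul, map_pow, AdjoinRoot.mk_C, AdjoinRoot.mk_X, IsScalarTower.coe_toAlgHom',
          IsScalarTower.coe_toAlgHom', show algebraMap k' K' (AdjoinRoot.root f) = AdjoinRoot.root g from
            AdjoinRoot.lift_root _, mul_comm]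
        rfl
  haveI : FiniteDimensional K K' := (AdjoinRoot.powerBasis (Fact.out : Irreducible g).ne_zero).finite
  have hbij : Function.Bijective φ := by
    haveI : PerfectField k := inferInstance
    letI : Field (k' ⊗[k] K) := (isGeometric_of_perfect hK k' inferInstance).toField
    exact ⟨φ.toRingHom.injective, hsurj⟩
  obtain ⟨hK', -⟩ := constExt hbij hK (isGeometric_of_perfect hK)
  haveI : Finite k' := Module.finite_of_finite k
  -- growth
  set q := Nat.card k
  set γ := genus k K
  set γ' := genus k' K'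
  have hq : 2 ≤ q := Finite.one_lt_card
  have hdiv : ∀ i : ℕ, ∃ D : Divisor k K, D.deg = ((d * i : ℕ) : ℤ) := fun i => by
    obtain ⟨D, hD⟩ := hδG
    rw [degHom_apply] at hD
    rcases Int.natAbs_eq δ with e | e
    · refine ⟨i • D, ?_⟩
      rw [deg_nsmul, hD, Nat.cast_mul, ← e, mul_comm]
    · refine ⟨i • (-D), ?_⟩
      rw [deg_nsmul, deg_neg, hD, Nat.cast_mul, show (d : ℤ) = -δ by omega, mul_comm]
  have hlow : ∀ i, 2 * γ ≤ i → q ^ (d * i) ≤ effDivCount k K (d * i) * ((q - 1) * q ^ γ) := by
    intro i hi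
    have hdi : i ≤ d * i := Nat.le_mul_of_pos_left i (by omega)
    have h1 := count_effective hK (n := d * i) (show 2 * γ ≤ d * i + 1 by omega) (hdiv i)
    rw [← mul_assoc, h1]
    have hh := classNum_pos hK
    have h2 : q ^ (d * i - γ) ≤ q ^ (d * i + 1 - γ) - 1 := by
      rw [show d * i + 1 - γ = (d * i - γ) + 1 by omega, pow_succ]
      have : 1 ≤ q ^ (d * i - γ) := Nat.one_le_pow _ _ (by omega)
      have : q ^ (d * i - γ) * 2 ≤ q ^ (d * i - γ) * q := Nat.mul_le_mul_left _ hq
      omega
    calc q ^ (d * i) = q ^ (d * i - γ) * q ^ γ := by rw [← pow_add]; congr 1; omega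
      _ ≤ classNum k K * (q ^ (d * i + 1 - γ) - 1) * q ^ γ :=
        Nat.mul_le_mul_right _ (h2.trans (Nat.le_mul_of_pos_left _ hh))
  have hup : ∀ n, 2 * γ' ≤ n + 1 → effDivCount k' K' n ≤ classNum k' K' * q ^ (d * (n + 1)) := by
    intro n hn
    by_cases hD : ∃ D : Divisor k' K', D.deg = n
    · have hc : Nat.card k' = q ^ d := by rw [Module.natCard_eq_pow_finrank (K := k), hfr]
      have h1 := count_effective hK' hn hD
      have h2 : 1 ≤ Nat.card k' - 1 := by
        have : 1 < Nat.card k' := Finite.one_lt_card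
        omega
      calc effDivCount k' K' n ≤ effDivCount k' K' n * (Nat.card k' - 1) := Nat.le_mul_of_pos_right _ h2
        _ = classNum k' K' * (Nat.card k' ^ (n + 1 - γ') - 1) := h1
        _ ≤ classNum k' K' * q ^ (d * (n + 1)) := by
          refine Nat.mul_le_mul_left _ ((Nat.sub_le _ _).trans ?_)
          rw [hc, ← pow_mul]
          exact Nat.pow_le_pow_right (by omega) (Nat.mul_le_mul_left _ (Nat.sub_le _ _))
    · rw [effDivCount_eq_zero hD]; exact Nat.zero_le _
  set W := (q - 1) * q ^ γ
  set Cst := classNum k' K' * q ^ d * (W * W)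
  set n := 2 * (2 * γ) + Cst + 2 * γ' with hn
  have hsum := card_pairs_le hbij hK hK' (by omega) (fun P => hfr.symm ▸ hdvd P) n
  rw [hfr] at hsum
  have hterm : ∀ i ∈ Finset.Icc (2 * γ) (n - 2 * γ), q ^ (d * n) ≤
      effDivCount k K (d * i) * effDivCount k K (d * (n - i)) * (W * W) := by
    intro i hi
    rw [Finset.mem_Icc] at hi
    calc q ^ (d * n) = q ^ (d * i) * q ^ (d * (n - i)) := by
          rw [← pow_add, ← mul_add]; congr 2; omega
      _ ≤ effDivCount k K (d * i) * W * (effDivCount k K (d * (n - i)) * W) :=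
          Nat.mul_le_mul (hlow i hi.1) (hlow (n - i) (by omega))
      _ = _ := by ring
  have key : (n + 1 - 2 * (2 * γ)) * q ^ (d * n) ≤ Cst * q ^ (d * n) := by
    calc (n + 1 - 2 * (2 * γ)) * q ^ (d * n) = ∑ _i ∈ Finset.Icc (2 * γ) (n - 2 * γ), q ^ (d * n) := by
          rw [Finset.sum_const, Nat.card_Icc, smul_eq_mul]; congr 1; omega
      _ ≤ ∑ i ∈ Finset.Icc (2 * γ) (n - 2 * γ),
            effDivCount k K (d * i) * effDivCount k K (d * (n - i)) * (W * W) := Finset.sum_le_sum hterm
      _ ≤ ∑ i ∈ Finset.range (n + 1),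
            effDivCount k K (d * i) * effDivCount k K (d * (n - i)) * (W * W) :=
          Finset.sum_le_sum_of_subset (fun i hi => by
            rw [Finset.mem_Icc] at hi; rw [Finset.mem_range]; omega)
      _ ≤ effDivCount k' K' n * (W * W) := by rw [← Finset.sum_mul]; exact Nat.mul_le_mul_right _ hsum
      _ ≤ classNum k' K' * q ^ (d * (n + 1)) * (W * W) := Nat.mul_le_mul_right _ (hup n (by omega))
      _ = Cst * q ^ (d * n) := by rw [mul_add, mul_one, pow_add]; ring
  have := Nat.le_of_mul_le_mul_right key (Nat.pow_pos (by omega))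
  omega

end Groth.Agent.FunFld
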