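import Groth.Agent.FunFld.ClassNum
import Mathlib.RingTheory.PowerSeries.Derivative
import Mathlib.RingTheory.PowerSeries.Inverse
import Mathlib.Analysis.Complex.Basic

/-! The logarithmic derivative of the zeta series: `t Z'/Z = ∑ N_m t^m`. -/

namespace Groth.Agent.FunFld

open _root_.FunFld PowerSeries

section series

variable {R : Type*} [CommRing R]

/-- `θ = t d/dt`. -/
noncomputable def thetaS (f : R⟦X⟧) : R⟦X⟧ := X * derivative R f

theorem coeff_thetaS (f : R⟦X⟧) (n : ℕ) : coeff n (thetaS f) = (n : R) * coeff n f := by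
  rcases n with _ | n
  · simp [thetaS, coeff_zero_X_mul]
  · rw [thetaS, coeff_succ_X_mul, coeff_derivative, Nat.cast_add_one, mul_comm]

theorem thetaS_mul (f g : R⟦X⟧) : thetaS (f * g) = thetaS f * g + f * thetaS g := by
  simp only [thetaS, Derivation.leibniz, smul_eq_mul]; ring

theorem map_thetaS {S : Type*} [CommRing S] (φ : R →+* S) (f : R⟦X⟧) :
    PowerSeries.map φ (thetaS f) = thetaS (PowerSeries.map φ f) := by
  ext n; simp [coeff_thetaS]

/-- `∑ c^n t^n`. -/
noncomputable def geomS (c : R) : R⟦X⟧ := mk fun n => c ^ n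

theorem one_sub_mul_geomS (c : R) : (1 - C c * X) * geomS c = 1 := by
  ext n
  rcases n with _ | n
  · simp [geomS, sub_mul, mul_assoc]
  · rw [sub_mul, one_mul, mul_assoc, map_sub, coeff_C_mul, coeff_succ_X_mul, geomS, coeff_mk, coeff_mk,
      coeff_one, if_neg (Nat.succ_ne_zero n), pow_succ']
    ring

/-- `∑_{n ≥ 1} c^n t^n`. -/
noncomputable def logS (c : R) : R⟦X⟧ := C c * X * geomS c

theorem coeff_logS (c : R) (n : ℕ) : coeff n (logS c) = if n = 0 then 0 else c ^ n := by
  rcases n with _ | n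
  · simp [logS, mul_assoc]
  · rw [logS, mul_assoc, coeff_C_mul, coeff_succ_X_mul, geomS, coeff_mk, if_neg (Nat.succ_ne_zero n), pow_succ']

theorem thetaS_geomS (c : R) : thetaS (geomS c) = geomS c * logS c := by
  have h := congrArg thetaS (one_sub_mul_geomS c)
  rw [thetaS_mul] at h
  have h1 : thetaS (1 - C c * X : R⟦X⟧) = -(C c * X) := by
    simp [thetaS, Derivation.leibniz]; ring
  have h2 : thetaS (1 : R⟦X⟧) = 0 := by simp [thetaS]
  rw [h1, h2] at h
  rw [logS]
  linear_combination geomS c * h - thetaS (geomS c) * one_sub_mul_geomS c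

theorem thetaS_one_sub (c : R) : thetaS (1 - C c * X : R⟦X⟧) = (1 - C c * X) * -(logS c) := by
  have h1 : thetaS (1 - C c * X : R⟦X⟧) = -(C c * X) := by
    simp [thetaS, Derivation.leibniz]; ring
  rw [h1, logS]
  linear_combination (C c * X : R⟦X⟧) * one_sub_mul_geomS c

theorem thetaS_prod {ι : Type*} (s : Finset ι) (c : ι → R) :
    thetaS (∏ i ∈ s, (1 - C (c i) * X)) = (∏ i ∈ s, (1 - C (c i) * X)) * -(∑ i ∈ s, logS (c i)) := by
  classical
  induction s using Finset.induction_on with
  | empty => simp [thetaS]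
  | insert a s ha ih =>
    rw [Finset.prod_insert ha, Finset.sum_insert ha, thetaS_mul, ih, thetaS_one_sub]; ring

/-- The zeta series with given numerator roots. -/
noncomputable def zetaOf {ι : Type*} [Fintype ι] (q : R) (c : ι → R) : R⟦X⟧ :=
  (∏ i, (1 - C (c i) * X)) * geomS 1 * geomS q

theorem thetaS_zetaOf {ι : Type*} [Fintype ι] (q : R) (c : ι → R) :
    thetaS (zetaOf q c) = zetaOf q c * (logS 1 + logS q - ∑ i, logS (c i)) := by
  rw [zetaOf, thetaS_mul, thetaS_mul, thetaS_prod, thetaS_geomS, thetaS_geomS]; ring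

theorem constantCoeff_zetaOf {ι : Type*} [Fintype ι] (q : R) (c : ι → R) :
    constantCoeff (zetaOf q c) = 1 := by
  simp [zetaOf, geomS, map_prod]

theorem coeff_logSum {ι : Type*} [Fintype ι] (q : R) (c : ι → R) {n : ℕ} (hn : n ≠ 0) :
    coeff n (logS 1 + logS q - ∑ i, logS (c i)) = 1 + q ^ n - ∑ i, c i ^ n := by
  simp [coeff_logS, hn]

theorem eq_of_thetaS {k : Type*} [Field k] [CharZero k] {Z Z' N : k⟦X⟧} (h : thetaS Z = Z * N)
    (h' : thetaS Z' = Z' * N) (hN : coeff 0 N = 0) (h0 : constantCoeff Z = constantCoeff Z') : Z = Z' := by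
  ext n
  induction n using Nat.strong_induction_on with
  | _ n ih =>
    rcases eq_or_ne n 0 with rfl | hn
    · simpa [coeff_zero_eq_constantCoeff] using h0
    · have e := congrArg (coeff n) h
      have e' := congrArg (coeff n) h'
      rw [coeff_thetaS, coeff_mul] at e e'
      have hs : ∑ p ∈ Finset.HasAntidiagonal.antidiagonal n, coeff p.1 Z * coeff p.2 N =
          ∑ p ∈ Finset.HasAntidiagonal.antidiagonal n, coeff p.1 Z' * coeff p.2 N := by
        refine Finset.sum_congr rfl fun p hp => ?_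
        rw [Finset.mem_antidiagonal] at hp
        rcases eq_or_ne p.2 0 with h2 | h2
        · rw [h2, hN, mul_zero, mul_zero]
        · rw [ih p.1 (by omega)]
      exact mul_left_cancel₀ (Nat.cast_ne_zero.2 hn) (e.trans (hs.trans e'.symm))

theorem thetaS_unique {k : Type*} [Field k] {Z N N' : k⟦X⟧} (h : thetaS Z = Z * N) (h' : thetaS Z = Z * N')
    (h0 : constantCoeff Z = 1) : N = N' := by
  refine mul_left_cancel₀ (a := Z) (fun e => ?_) (h.symm.trans h')
  rw [e, map_zero] at h0
  exact zero_ne_one h0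

end series

section count

variable {k K : Type*} [Field k] [Field K] [Algebra k K] [Finite k] (hK : IsFunctionField k K)

/-- `N_m = ∑_{deg P ∣ m} deg P`, the number of points with values in the extension of degree `m`. -/
noncomputable def countN (m : ℕ) : ℕ :=
  ∑ P ∈ (finite_places_deg_le hK m).toFinset, if P.deg ∣ m then P.deg else 0

theorem countN_eq {m : ℕ} (hm : m ≠ 0) (s : Finset (Place k K)) (hs : ∀ P : Place k K, P.deg ∣ m → P ∈ s) :
    countN hK m = ∑ P ∈ s, if P.deg ∣ m then P.deg else 0 := by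
  classical
  rw [countN, ← Finset.sum_filter, ← Finset.sum_filter]
  refine Finset.sum_congr (Finset.ext fun P => ?_) fun _ _ => rfl
  simp only [Finset.mem_filter, Set.Finite.mem_toFinset, Set.mem_setOf_eq]
  exact ⟨fun h => ⟨hs P h.2, h.2⟩, fun h => ⟨Nat.le_of_dvd (Nat.pos_of_ne_zero hm) h.2, h.2⟩⟩

theorem countN_one : countN hK 1 = Nat.card {P : Place k K // P.deg = 1} := by
  classical
  have hS : {P : Place k K | P.deg = 1}.Finite := (finite_places_deg_le hK 1).subset fun P hP => by
    simp only [Set.mem_setOf_eq] at hP ⊢; omega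
  rw [countN_eq hK one_ne_zero hS.toFinset (fun P h => by simpa using h),
    show Nat.card {P : Place k K // P.deg = 1} = hS.toFinset.card from Nat.card_eq_card_finite_toFinset hS,
    Finset.card_eq_sum_ones]
  refine Finset.sum_congr rfl fun P hP => ?_
  rw [Set.Finite.mem_toFinset, Set.mem_setOf_eq] at hP
  simp [hP]

include hK in
theorem card_eff_ge (n r : ℕ) (P : Place k K) :
    Nat.card {D : {D : Divisor k K // 0 ≤ D ∧ D.deg = (n : ℤ)} // (r : ℤ) ≤ D.1 P} =
      if r * P.deg ≤ n then effDivCount k K (n - r * P.deg) else 0 := by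
  classical
  have key : ∀ D : Divisor k K, 0 ≤ D → D.deg = (n : ℤ) → (r : ℤ) ≤ D P →
      0 ≤ D - Finsupp.single P (r : ℤ) ∧ ((r * P.deg : ℕ) : ℤ) ≤ n := by
    intro D h0 hd hr
    have h1 : 0 ≤ D - Finsupp.single P (r : ℤ) := fun Q => by
      rcases eq_or_ne Q P with rfl | hne
      · simp [hr]
      · have := h0 Q; simpa [Finsupp.single_eq_of_ne hne] using this
    refine ⟨h1, ?_⟩
    have h2 := deg_nonneg h1
    rw [deg_sub, deg_single, hd] at h2
    push_cast; linarith
  split_ifs with h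
  · refine Nat.card_congr
      { toFun := fun D => ⟨D.1.1 - Finsupp.single P (r : ℤ), (key _ D.1.2.1 D.1.2.2 D.2).1, by
          rw [deg_sub, deg_single, D.1.2.2]; push_cast [Nat.cast_sub h]; ring⟩
        invFun := fun E => ⟨⟨E.1 + Finsupp.single P (r : ℤ), add_nonneg E.2.1 (fun Q => by
          rcases eq_or_ne Q P with rfl | hne
          · simp
          · simp [Finsupp.single_eq_of_ne hne]), by
          rw [deg_add, deg_single, E.2.2]; push_cast [Nat.cast_sub h]; ring⟩, by
          have := E.2.1 P; simpa using this⟩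
        left_inv := fun D => by ext1; ext1; simp
        right_inv := fun E => by ext1; simp }
  · haveI : IsEmpty {D : {D : Divisor k K // 0 ≤ D ∧ D.deg = (n : ℤ)} // (r : ℤ) ≤ D.1 P} :=
      ⟨fun D => h (by exact_mod_cast (key _ D.1.2.1 D.1.2.2 D.2).2)⟩
    exact Nat.card_of_isEmpty

include hK in
theorem effDivCount_rec (n : ℕ) :
    n * effDivCount k K n = ∑ j ∈ Finset.Icc 1 n, effDivCount k K (n - j) * countN hK j := by
  classical
  set S := (finite_places_deg_le hK n).toFinset with hS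
  haveI := finite_effective hK n
  haveI : Fintype {D : Divisor k K // 0 ≤ D ∧ D.deg = (n : ℤ)} := Fintype.ofFinite _
  set a := effDivCount k K with ha
  have hmemS : ∀ (D : Divisor k K), 0 ≤ D → D.deg = (n : ℤ) → ∀ P, D P ≠ 0 → P ∈ S ∧ D P ≤ n := by
    intro D h0 hd P hP
    have h4 : (0 : ℤ) ≤ D P := h0 P
    have h1 : 0 ≤ D - Finsupp.single P (D P) := fun Q => by
      rcases eq_or_ne Q P with rfl | hne
      · simp
      · have := h0 Q; simpa [Finsupp.single_eq_of_ne hne] using this
    have h2 := deg_nonneg h1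
    rw [deg_sub, deg_single, hd] at h2
    have h3 : (1 : ℤ) ≤ P.deg := by exact_mod_cast deg_pos hK P
    refine ⟨?_, by nlinarith⟩
    rw [hS, Set.Finite.mem_toFinset, Set.mem_setOf_eq]
    have : (P.deg : ℤ) ≤ n := by nlinarith [show (1 : ℤ) ≤ D P by omega]
    exact_mod_cast this
  have hdeg : ∀ D : {D : Divisor k K // 0 ≤ D ∧ D.deg = (n : ℤ)},
      n = ∑ P ∈ S, ∑ r ∈ Finset.Icc 1 n, if (r : ℤ) ≤ D.1 P then P.deg else 0 := by
    intro D
    have e : (n : ℤ) = ∑ P ∈ S, D.1 P * (P.deg : ℤ) := by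
      refine D.2.2.symm.trans ?_
      rw [Divisor.deg]
      refine Finsupp.sum_of_support_subset _ (fun P hP => ?_) _ (fun P _ => by simp)
      exact (hmemS _ D.2.1 D.2.2 P (Finsupp.mem_support_iff.1 hP)).1
    have e' : ∀ P ∈ S, ((∑ r ∈ Finset.Icc 1 n, if (r : ℤ) ≤ D.1 P then P.deg else 0 : ℕ) : ℤ) =
        D.1 P * (P.deg : ℤ) := by
      intro P _
      have h4 : (0 : ℤ) ≤ D.1 P := D.2.1 P
      have h5 : D.1 P ≤ n := by
        rcases eq_or_ne (D.1 P) 0 with h | h
        · rw [h]; exact Int.natCast_nonneg n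
        · exact (hmemS _ D.2.1 D.2.2 P h).2
      rw [← Finset.sum_filter, show (Finset.Icc 1 n).filter (fun r : ℕ => (r : ℤ) ≤ D.1 P) =
        Finset.Icc 1 (D.1 P).toNat from by ext r; simp only [Finset.mem_filter, Finset.mem_Icc]; omega,
        Finset.sum_const, Nat.card_Icc, smul_eq_mul]
      push_cast
      rw [Int.toNat_of_nonneg h4]
    have : (n : ℤ) = ((∑ P ∈ S, ∑ r ∈ Finset.Icc 1 n, if (r : ℤ) ≤ D.1 P then P.deg else 0 : ℕ) : ℤ) := by
      rw [Nat.cast_sum, Finset.sum_congr rfl e']; exact e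
    exact_mod_cast this
  calc n * a n = ∑ D : {D : Divisor k K // 0 ≤ D ∧ D.deg = (n : ℤ)}, n := by
        rw [Finset.sum_const, Finset.card_univ, ← Nat.card_eq_fintype_card, smul_eq_mul, mul_comm]; rfl
    _ = ∑ D : {D : Divisor k K // 0 ≤ D ∧ D.deg = (n : ℤ)}, ∑ P ∈ S, ∑ r ∈ Finset.Icc 1 n,
          if (r : ℤ) ≤ D.1 P then P.deg else 0 := Finset.sum_congr rfl fun D _ => hdeg D
    _ = ∑ P ∈ S, ∑ r ∈ Finset.Icc 1 n, (if r * P.deg ≤ n then a (n - r * P.deg) else 0) * P.deg := by
        rw [Finset.sum_comm]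
        refine Finset.sum_congr rfl fun P _ => ?_
        rw [Finset.sum_comm]
        refine Finset.sum_congr rfl fun r _ => ?_
        rw [← Finset.sum_filter, Finset.sum_const, smul_eq_mul, ← card_eff_ge hK n r P,
          Nat.card_eq_fintype_card, Fintype.card_subtype]
    _ = ∑ P ∈ S, ∑ j ∈ Finset.Icc 1 n, a (n - j) * (if P.deg ∣ j then P.deg else 0) := by
        refine Finset.sum_congr rfl fun P _ => ?_
        have hd := deg_pos hK P
        simp only [ite_mul, zero_mul, mul_ite, mul_zero]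
        rw [← Finset.sum_filter, ← Finset.sum_filter]
        refine Finset.sum_bij' (fun r _ => r * P.deg) (fun j _ => j / P.deg) ?_ ?_ ?_ ?_ ?_
        · intro r hr
          simp only [Finset.mem_filter, Finset.mem_Icc] at hr ⊢
          exact ⟨⟨Nat.mul_pos hr.1.1 hd, hr.2⟩, dvd_mul_left _ _⟩
        · intro j hj
          simp only [Finset.mem_filter, Finset.mem_Icc] at hj ⊢
          obtain ⟨⟨h1, h2⟩, c, rfl⟩ := hj
          rw [Nat.mul_div_cancel_left _ hd]
          have hc : 0 < c := Nat.pos_of_mul_pos_left h1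
          exact ⟨⟨hc, le_trans (Nat.le_mul_of_pos_left c hd) h2⟩, by rwa [mul_comm]⟩
        · intro r _; exact Nat.mul_div_cancel _ hd
        · intro j hj
          exact Nat.div_mul_cancel (Finset.mem_filter.1 hj).2
        · intro r _; rfl
    _ = ∑ j ∈ Finset.Icc 1 n, a (n - j) * countN hK j := by
        rw [Finset.sum_comm]
        refine Finset.sum_congr rfl fun j hj => ?_
        rw [Finset.mem_Icc] at hj
        rw [← Finset.mul_sum, countN_eq hK (by omega) S fun P h => by
          rw [hS, Set.Finite.mem_toFinset, Set.mem_setOf_eq]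
          exact (Nat.le_of_dvd (by omega) h).trans hj.2]

include hK in
theorem thetaS_zetaZ : thetaS (zetaZ k K) =
    zetaZ k K * mk (fun j => if j = 0 then 0 else (countN hK j : ℤ)) := by
  ext n
  rw [coeff_thetaS, coeff_mul, zetaZ, coeff_mk, ← Finset.Nat.sum_antidiagonal_swap,
    Finset.Nat.sum_antidiagonal_eq_sum_range_succ_mk, ← Nat.cast_mul, effDivCount_rec hK n]
  simp only [Prod.swap_prod_mk, coeff_mk]
  rw [Finset.range_eq_Ico, Finset.sum_eq_sum_Ico_succ_bot (Nat.succ_pos n)]
  simp only [if_pos, mul_zero, zero_add]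
  push_cast
  refine Finset.sum_congr (Finset.ext fun j => by simp only [Finset.mem_Icc, Finset.mem_Ico]; omega) fun j hj => ?_
  rw [Finset.mem_Ico] at hj
  rw [if_neg (by omega)]

include hK in
theorem constantCoeff_zetaZ : constantCoeff (zetaZ k K) = 1 := by
  have hz : effDivCount k K 0 = 1 := by
    rw [effDivCount, Nat.card_eq_one_iff_unique]
    refine ⟨⟨fun a b => ?_⟩, ⟨⟨0, le_rfl, by rw [deg_zero]; rfl⟩⟩⟩
    have key : ∀ D : {D : Divisor k K // 0 ≤ D ∧ D.deg = ((0 : ℕ) : ℤ)}, D.1 = 0 := fun D =>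
      (eq_of_le_of_deg hK D.2.1 (by rw [D.2.2, deg_zero]; rfl)).symm
    exact Subtype.ext ((key a).trans (key b).symm)
  rw [← coeff_zero_eq_constantCoeff_apply, zetaZ, coeff_mk, hz, Nat.cast_one]

/-- If the numerator is `∏ (1 - αᵢ t)`, then `N_m = 1 + q^m - ∑ αᵢ^m`. -/
theorem countN_of_numer {ι : Type*} [Fintype ι] (α : ι → ℂ)
    (hα : PowerSeries.map (Int.castRingHom ℂ) (numerZ k K) =
      ((∏ i, (1 - Polynomial.C (α i) * Polynomial.X) : Polynomial ℂ) : ℂ⟦X⟧)) {m : ℕ} (hm : m ≠ 0) :
    (countN hK m : ℂ) = 1 + (Nat.card k : ℂ) ^ m - ∑ i, α i ^ m := by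
  set φ := Int.castRingHom ℂ
  set q : ℂ := (Nat.card k : ℂ)
  have hprod : ((∏ i, (1 - Polynomial.C (α i) * Polynomial.X) : Polynomial ℂ) : ℂ⟦X⟧) =
      ∏ i, (1 - C (α i) * X) := by
    rw [← Polynomial.coeToPowerSeries.ringHom_apply, map_prod]
    simp
  have hZ : PowerSeries.map φ (zetaZ k K) = zetaOf q α := by
    rw [zetaOf, ← hprod, ← hα, numerZ, map_mul, map_mul, map_sub, map_sub, map_one, map_mul, PowerSeries.map_C,
      PowerSeries.map_X]
    have h1 := one_sub_mul_geomS (1 : ℂ)
    rw [map_one, one_mul] at h1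
    have h2 := one_sub_mul_geomS q
    rw [show φ (Nat.card k : ℤ) = q from Int.cast_natCast _]
    linear_combination (-(PowerSeries.map φ (zetaZ k K))) * ((1 - C q * X) * geomS q) * h1 -
      (PowerSeries.map φ (zetaZ k K)) * h2
  have e := congrArg (PowerSeries.map φ) (thetaS_zetaZ hK)
  rw [map_thetaS, map_mul, hZ] at e
  have := congrArg (coeff m) (thetaS_unique e (thetaS_zetaOf q α) (constantCoeff_zetaOf q α))
  rwa [coeff_map, coeff_mk, if_neg hm, coeff_logSum q α hm,
    show φ (countN hK m : ℤ) = (countN hK m : ℂ) from Int.cast_natCast _] at this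

/-- Conversely the point counts determine the numerator. -/
theorem numer_of_countN {ι : Type*} [Fintype ι] (α : ι → ℂ)
    (h : ∀ m, m ≠ 0 → (countN hK m : ℂ) = 1 + (Nat.card k : ℂ) ^ m - ∑ i, α i ^ m) :
    PowerSeries.map (Int.castRingHom ℂ) (numerZ k K) =
      ((∏ i, (1 - Polynomial.C (α i) * Polynomial.X) : Polynomial ℂ) : ℂ⟦X⟧) := by
  set φ := Int.castRingHom ℂ
  set q : ℂ := (Nat.card k : ℂ)
  have e := congrArg (PowerSeries.map φ) (thetaS_zetaZ hK)
  rw [map_thetaS, map_mul] at e
  have hN : PowerSeries.map φ (mk fun j => if j = 0 then 0 else (countN hK j : ℤ)) =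
      logS 1 + logS q - ∑ i, logS (α i) := by
    ext m
    rcases eq_or_ne m 0 with rfl | hm
    · simp [logS]
    · rw [coeff_map, coeff_mk, if_neg hm, coeff_logSum q α hm,
        show φ (countN hK m : ℤ) = (countN hK m : ℂ) from Int.cast_natCast _, h m hm]
  rw [hN] at e
  have hZ : PowerSeries.map φ (zetaZ k K) = zetaOf q α :=
    eq_of_thetaS e (thetaS_zetaOf q α) (by simp [logS]) (by
      rw [constantCoeff_zetaOf, ← coeff_zero_eq_constantCoeff_apply, coeff_map, coeff_zero_eq_constantCoeff_apply,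
        constantCoeff_zetaZ hK, map_one])
  rw [numerZ, map_mul, map_mul, map_sub, map_sub, map_one, map_mul, PowerSeries.map_C, PowerSeries.map_X, hZ,
    zetaOf, ← Polynomial.coeToPowerSeries.ringHom_apply, map_prod, show φ (Nat.card k : ℤ) = q from Int.cast_natCast _]
  simp only [Polynomial.coeToPowerSeries.ringHom_apply, Polynomial.coe_sub, Polynomial.coe_mul, Polynomial.coe_C,
    Polynomial.coe_X, Polynomial.coe_one]
  have h1 := one_sub_mul_geomS (1 : ℂ)
  rw [map_one, one_mul] at h1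
  linear_combination ((∏ i, (1 - C (α i) * X)) * ((1 - C q * X) * geomS q)) * h1 +
    (∏ i, (1 - C (α i) * X)) * one_sub_mul_geomS q

end count

end Groth.Agent.FunFld
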