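import Groth.Agent.FunFld.Schmidt
import Mathlib.RingTheory.PowerSeries.Trunc

/-! The functional equation of the zeta numerator. -/

namespace Groth.Agent.FunFld

open _root_.FunFld WithZero IsLocalRing Finset

universe u v

variable {k : Type u} {K : Type v} [Field k] [Field K] [Algebra k K] (hK : IsFunctionField k K) [Finite k]
include hK

theorem count_effective_gen [Fintype (Cl0 k K)] {n : ℕ} (D0 : Divisor k K) (hd0 : D0.deg = n) :
    effDivCount k K n * (Nat.card k - 1) =
      ∑ c : Cl0 k K, (Nat.card k ^ ell (((c.out : (degHom k K).ker) : Divisor k K) + D0) - 1) := by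
  classical
  haveI := finite_effective hK n
  haveI := finite_classGroup hK
  let A : Cl0 k K → Divisor k K := fun c => (c.out : (degHom k K).ker)
  have hA : ∀ c, (A c).deg = 0 := fun c => by rw [← degHom_apply]; exact c.out.2
  haveI : ∀ c, Finite (L (A c + D0)) := fun c => by
    haveI := L_finite hK (A c + D0)
    exact Module.finite_of_finite k
  let T := Σ c : Cl0 k K, {x : L (A c + D0) // x ≠ 0}
  have hT : Nat.card T = ∑ c : Cl0 k K, (Nat.card k ^ ell (A c + D0) - 1) := by
    rw [Nat.card_sigma]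
    refine Finset.sum_congr rfl fun c _ => ?_
    haveI := L_finite hK (A c + D0)
    rw [show Nat.card {x : L (A c + D0) // x ≠ 0} = Nat.card (L (A c + D0)) - 1 from by
      rw [← Set.ncard_singleton (0 : L (A c + D0)), ← Set.ncard_compl]
      exact (Nat.card_coe_set_eq _), Module.natCard_eq_pow_finrank (K := k), ell]
  let f : {D : Divisor k K // 0 ≤ D ∧ D.deg = n} → Cl0 k K := fun D => QuotientAddGroup.mk ⟨D.1 - D0, by
      rw [AddMonoidHom.mem_ker, degHom_apply, deg_sub, D.2.2, hd0, sub_self]⟩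
  have hx : ∀ D, ∃ x : K, x ≠ 0 ∧ D.1 = A (f D) + D0 + div k x := fun D => by
    obtain ⟨x, hx, he⟩ := (mk_eq_mk_iff hK).1 (QuotientAddGroup.out_eq' (f D))
    refine ⟨x, hx, ?_⟩
    rw [show A (f D) + D0 + div k x = (A (f D) + div k x) + D0 by abel, ← he]
    exact (sub_add_cancel D.1 D0).symm
  choose xD hxD0 hxD using hx
  have hmem : ∀ D, xD D ∈ L (A (f D) + D0) := fun D Q => by
    rw [le_exp_iff Q (hxD0 D)]
    have := D.2.1 Q
    rw [hxD D] at this
    simp only [Finsupp.add_apply, div_apply hK, Finsupp.coe_zero, Pi.zero_apply] at this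
    rw [Finsupp.add_apply]; omega
  let h : {D : Divisor k K // 0 ≤ D ∧ D.deg = n} × kˣ → T := fun p =>
    ⟨f p.1, (p.2 : k) • ⟨xD p.1, hmem p.1⟩, smul_ne_zero p.2.ne_zero fun e => hxD0 p.1 (congrArg Subtype.val e)⟩
  have hval : ∀ p, ((h p).2.1 : K) = (p.2 : k) • xD p.1 := fun p => rfl
  have hbij : Function.Bijective h := by
    constructor
    · rintro ⟨D, u⟩ ⟨D', u'⟩ e
      have e1 : f D = f D' := congrArg Sigma.fst e
      have e2 : (u : k) • xD D = (u' : k) • xD D' := by
        rw [← hval (D, u), e, hval]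
      have e3 : D = D' := Subtype.ext (by
        rw [hxD D, hxD D', e1, ← div_smul_eq hK u.ne_zero (hxD0 D), e2, div_smul_eq hK u'.ne_zero (hxD0 D')])
      subst e3
      exact Prod.ext rfl (Units.ext (smul_left_injective k (hxD0 D) e2))
    · rintro ⟨c, ⟨⟨x, hxL⟩, hx0⟩⟩
      have hx0' : x ≠ 0 := fun e => hx0 (Subtype.ext e)
      have hpos : 0 ≤ A c + D0 + div k x := fun Q => by
        have := hxL Q
        rw [le_exp_iff Q hx0', Finsupp.add_apply] at this
        simp only [Finsupp.add_apply, div_apply hK, Finsupp.coe_zero, Pi.zero_apply]; omega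
      let D : {D : Divisor k K // 0 ≤ D ∧ D.deg = n} :=
        ⟨_, hpos, by rw [deg_add, deg_add, hA, hd0, deg_div hK]; ring⟩
      have hc : f D = c := by
        rw [← QuotientAddGroup.out_eq' c]
        refine ((mk_eq_mk_iff hK).2 ⟨x, hx0', ?_⟩).symm
        show A c + D0 + div k x - D0 = A c + div k x
        abel
      have hdiv : div k x = div k (xD D) :=
        add_left_cancel (a := A c + D0) (by
          have e := hxD D
          rw [hc] at e
          exact e)
      obtain ⟨u, hu⟩ := eq_smul_of_div_eq hK hx0' (hxD0 D) hdiv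
      refine ⟨(D, u), ?_⟩
      have inj : Function.Injective fun t : T => (t.1, (t.2.1 : K)) := by
        rintro ⟨c₁, a₁⟩ ⟨c₂, a₂⟩ e
        obtain rfl : c₁ = c₂ := congrArg Prod.fst e
        exact congrArg (Sigma.mk c₁) (Subtype.ext (Subtype.ext (congrArg Prod.snd e)))
      exact inj (Prod.ext hc hu.symm)
  rw [← hT, ← Nat.card_congr (Equiv.ofBijective h hbij), Nat.card_prod, Nat.card_units]
  rfl

theorem deg_surjective : Function.Surjective (Divisor.deg : Divisor k K → ℤ) := fun m => by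
  obtain ⟨D, hD⟩ := exists_deg_one hK
  exact ⟨m • D, by rw [← degHom_apply, map_zsmul, degHom_apply, hD, smul_eq_mul, mul_one]⟩

/-- The sum of `q ^ ℓ` over the classes of degree `m`. -/
noncomputable def classSum [Fintype (Cl0 k K)] (D₁ : Divisor k K) (m : ℤ) : ℚ :=
  ∑ c : Cl0 k K, (Nat.card k : ℚ) ^ ell (((c.out : (degHom k K).ker) : Divisor k K) + m • D₁)

variable [Fintype (Cl0 k K)] {D₁ : Divisor k K} (hD₁ : D₁.deg = 1)
include hD₁

omit [Finite k] [Fintype (Cl0 k K)] hK in
theorem deg_shift (A : (degHom k K).ker) (m : ℤ) : ((A : Divisor k K) + m • D₁).deg = m := by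
  rw [deg_add, show (A : Divisor k K).deg = 0 from (degHom_apply _).symm.trans A.2, ← degHom_apply,
    map_zsmul, degHom_apply, hD₁, smul_eq_mul, mul_one, zero_add]

/-- The number of effective divisors, extended by zero to negative degrees. -/
theorem effCount_classSum (m : ℤ) :
    ((Nat.card k : ℚ) - 1) * (if 0 ≤ m then (effDivCount k K m.toNat : ℚ) else 0) =
      classSum D₁ m - (classNum k K : ℚ) := by
  have hh : (classNum k K : ℚ) = ∑ _c : Cl0 k K, (1 : ℚ) := by
    rw [Finset.sum_const, Finset.card_univ, ← Nat.card_eq_fintype_card, nsmul_one]; rfl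
  rw [classSum, hh, ← Finset.sum_sub_distrib]
  split_ifs with hm
  · have h := count_effective_gen hK (n := m.toNat) (m • D₁) (by
      rw [← degHom_apply, map_zsmul, degHom_apply, hD₁, smul_eq_mul, mul_one, Int.toNat_of_nonneg hm])
    have h1 : 1 ≤ Nat.card k := Nat.card_pos
    have h' := congrArg (fun a : ℕ => (a : ℚ)) h
    simp only [Nat.cast_mul, Nat.cast_sub h1, Nat.cast_sum, Nat.cast_sub (Nat.one_le_pow _ _ h1), Nat.cast_pow,
      Nat.cast_one] at h'
    rw [← h', mul_comm]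
  · rw [mul_zero, Finset.sum_eq_zero]
    intro c _
    rw [ell, ell_eq_zero_of_deg_neg hK (by rw [deg_shift hD₁]; omega), finrank_bot, pow_zero, sub_self]

theorem classSum_symm (m : ℤ) :
    classSum D₁ m = (Nat.card k : ℚ) ^ (m + 1 - genus k K) * classSum D₁ (2 * (genus k K : ℤ) - 2 - m) := by
  classical
  obtain ⟨C, hC⟩ := exists_canonical hK
  set w : ℤ := 2 * (genus k K : ℤ) - 2
  have hCdeg : C.deg = w := (ell_canonical hK hC).2
  have hw : 2 * (genus k K : ℤ) - 2 = w := rfl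
  clear_value w
  let C₀ : (degHom k K).ker := ⟨C - w • D₁, by
    rw [AddMonoidHom.mem_ker, map_sub, map_zsmul, degHom_apply, degHom_apply, hD₁, hCdeg, smul_eq_mul, mul_one, sub_self]⟩
  have hinv : ∀ A B : (degHom k K).ker, (QuotientAddGroup.mk A : Cl0 k K) = QuotientAddGroup.mk B →
      ∀ E : Divisor k K, ell ((A : Divisor k K) + E) = ell ((B : Divisor k K) + E) := by
    intro A B h E
    obtain ⟨x, hx, e⟩ := (mk_eq_mk_iff hK).1 h
    rw [e, show (A : Divisor k K) + div k x + E = (A : Divisor k K) + E + div k x by abel, ell_add_div hK _ hx]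
  have hrr : ∀ c : Cl0 k K, (Nat.card k : ℚ) ^ ell (((c.out : (degHom k K).ker) : Divisor k K) + m • D₁) =
      (Nat.card k : ℚ) ^ (m + 1 - genus k K) *
        (Nat.card k : ℚ) ^ ell (((((QuotientAddGroup.mk C₀ : Cl0 k K) - c).out : (degHom k K).ker) : Divisor k K) +
          (w - m) • D₁) := by
    intro c
    have h := riemann_roch hK hC (((c.out : (degHom k K).ker) : Divisor k K) + m • D₁)
    rw [deg_shift hD₁] at h
    have he : ell (C - (((c.out : (degHom k K).ker) : Divisor k K) + m • D₁)) =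
        ell (((((QuotientAddGroup.mk C₀ : Cl0 k K) - c).out : (degHom k K).ker) : Divisor k K) + (w - m) • D₁) := by
      rw [← hinv (C₀ - c.out) ((QuotientAddGroup.mk C₀ : Cl0 k K) - c).out (by
        rw [QuotientAddGroup.out_eq', QuotientAddGroup.mk_sub, QuotientAddGroup.out_eq'])]
      congr 1
      show C - _ = (C - w • D₁ - ((c.out : (degHom k K).ker) : Divisor k K)) + (w - m) • D₁
      rw [sub_zsmul]; abel
    rw [he] at h
    rw [← zpow_natCast, ← zpow_natCast, h, zpow_add₀ (Nat.cast_ne_zero.2 Nat.card_pos.ne')]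
  rw [classSum, classSum, Finset.mul_sum, Finset.sum_congr rfl fun c _ => hrr c]
  exact (Equiv.subLeft (QuotientAddGroup.mk C₀ : Cl0 k K)).sum_comp
    (fun c => (Nat.card k : ℚ) ^ (m + 1 - genus k K) *
      (Nat.card k : ℚ) ^ ell (((c.out : (degHom k K).ker) : Divisor k K) + (w - m) • D₁))

theorem coeff_numerZ (n : ℕ) : ((Nat.card k : ℚ) - 1) * ((PowerSeries.coeff n (numerZ k K) : ℤ) : ℚ) =
    classSum D₁ n - ((Nat.card k : ℚ) + 1) * classSum D₁ ((n : ℤ) - 1) +
      (Nat.card k : ℚ) * classSum D₁ ((n : ℤ) - 2) := by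
  set q : ℤ := (Nat.card k : ℤ)
  have hco : ((PowerSeries.coeff n (numerZ k K) : ℤ) : ℚ) = (effDivCount k K n : ℚ) -
      ((Nat.card k : ℚ) + 1) * (if 0 ≤ (n : ℤ) - 1 then (effDivCount k K ((n : ℤ) - 1).toNat : ℚ) else 0) +
      (Nat.card k : ℚ) * (if 0 ≤ (n : ℤ) - 2 then (effDivCount k K ((n : ℤ) - 2).toNat : ℚ) else 0) := by
    rw [numerZ, show ((1 : PowerSeries ℤ) - PowerSeries.X) * (1 - PowerSeries.C q * PowerSeries.X) * zetaZ k K =
      zetaZ k K - PowerSeries.C (q + 1) * (PowerSeries.X * zetaZ k K) +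
        PowerSeries.C q * (PowerSeries.X * (PowerSeries.X * zetaZ k K)) by rw [map_add, map_one]; ring,
      map_add, map_sub, PowerSeries.coeff_C_mul, PowerSeries.coeff_C_mul]
    rcases n with _ | _ | n
    · simp [zetaZ, PowerSeries.coeff_zero_X_mul, q]
    · simp [zetaZ, PowerSeries.coeff_succ_X_mul, PowerSeries.coeff_zero_X_mul, q]
    · have e1 : (((n + 1 + 1 : ℕ) : ℤ) - 1).toNat = n + 1 := by omega
      have e2 : (((n + 1 + 1 : ℕ) : ℤ) - 2).toNat = n := by omega
      rw [if_pos (by omega), if_pos (by omega), e1, e2]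
      simp [zetaZ, PowerSeries.coeff_succ_X_mul, q]
  have e0 := effCount_classSum hK hD₁ (n : ℤ)
  rw [if_pos (Int.natCast_nonneg n), Int.toNat_natCast] at e0
  have e1 := effCount_classSum hK hD₁ ((n : ℤ) - 1)
  have e2 := effCount_classSum hK hD₁ ((n : ℤ) - 2)
  rw [hco]
  linear_combination e0 - ((Nat.card k : ℚ) + 1) * e1 + (Nat.card k : ℚ) * e2


omit [Fintype (Cl0 k K)] hD₁ in
theorem zeta_numerator :
    (∀ n : ℕ, 2 * genus k K < n → PowerSeries.coeff n (numerZ k K) = 0) ∧
    PowerSeries.coeff (2 * genus k K) (numerZ k K) ≠ 0 ∧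
    ∀ i : ℕ, i ≤ 2 * genus k K →
      (((PowerSeries.coeff (2 * genus k K - i) (numerZ k K) : ℤ)) : ℚ) =
        (Nat.card k : ℚ) ^ ((genus k K : ℤ) - i) * (((PowerSeries.coeff i (numerZ k K) : ℤ)) : ℚ) := by
  classical
  haveI := finite_classGroup hK
  haveI : Fintype (Cl0 k K) := Fintype.ofFinite _
  obtain ⟨D₁, hD₁⟩ := exists_deg_one hK
  set g := genus k K
  set q : ℚ := (Nat.card k : ℚ) with hq
  have hq1 : (1 : ℚ) < q := by rw [hq]; exact_mod_cast (Finite.one_lt_card : 1 < Nat.card k)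
  have hq0 : q ≠ 0 := by linarith
  have hq' : q - 1 ≠ 0 := by linarith
  have hlarge : ∀ m : ℤ, 2 * (g : ℤ) - 1 ≤ m → classSum D₁ m = (classNum k K : ℚ) * q ^ (m + 1 - g) := by
    intro m hm
    rw [classSum, Finset.sum_eq_card_nsmul (b := q ^ (m + 1 - g)) (fun c _ => by
      have h := ell_eq_of_deg_ge hK (D := ((c.out : (degHom k K).ker) : Divisor k K) + m • D₁)
        (by rw [deg_shift hD₁]; exact hm)
      rw [deg_shift hD₁] at h
      rw [← zpow_natCast, h]), nsmul_eq_mul, Finset.card_univ, ← Nat.card_eq_fintype_card]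
    rfl
  have hsym : ∀ i : ℕ, i ≤ 2 * g → (((PowerSeries.coeff (2 * g - i) (numerZ k K) : ℤ)) : ℚ) =
      q ^ ((g : ℤ) - i) * (((PowerSeries.coeff i (numerZ k K) : ℤ)) : ℚ) := by
    intro i hi
    refine mul_left_cancel₀ hq' ?_
    rw [mul_left_comm, coeff_numerZ hK hD₁, coeff_numerZ hK hD₁, ← hq, classSum_symm hK hD₁,
      classSum_symm hK hD₁ (((2 * g - i : ℕ) : ℤ) - 1), classSum_symm hK hD₁ (((2 * g - i : ℕ) : ℤ) - 2), ← hq]
    push_cast [Nat.cast_sub hi]
    rw [show 2 * (g : ℤ) - 2 - (2 * g - i) = (i : ℤ) - 2 by ring,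
      show 2 * (g : ℤ) - 2 - (2 * g - i - 1) = (i : ℤ) - 1 by ring,
      show 2 * (g : ℤ) - 2 - (2 * g - i - 2) = (i : ℤ) by ring,
      show 2 * (g : ℤ) - i + 1 - g = ((g : ℤ) - i) + 1 by ring,
      show 2 * (g : ℤ) - i - 1 + 1 - g = (g : ℤ) - i by ring,
      show 2 * (g : ℤ) - i - 2 + 1 - g = ((g : ℤ) - i) - 1 by ring,
      zpow_add_one₀ hq0, zpow_sub_one₀ hq0]
    field_simp
    ring
  refine ⟨fun n hn => ?_, ?_, hsym⟩
  · have h := coeff_numerZ hK hD₁ n
    rw [← hq, hlarge _ (by omega), hlarge _ (by omega), hlarge _ (by omega),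
      show (n : ℤ) + 1 - g = ((n : ℤ) - 1 - g) + 1 + 1 by ring,
      show (n : ℤ) - 1 + 1 - g = ((n : ℤ) - 1 - g) + 1 by ring,
      show (n : ℤ) - 2 + 1 - g = (n : ℤ) - 1 - g by ring,
      zpow_add_one₀ hq0, zpow_add_one₀ hq0] at h
    have h0 : (q - 1) * ((PowerSeries.coeff n (numerZ k K) : ℤ) : ℚ) = 0 := by rw [h]; ring
    exact_mod_cast (mul_eq_zero.1 h0).resolve_left hq'
  · have h := hsym 0 (Nat.zero_le _)
    have h0 : PowerSeries.coeff 0 (numerZ k K) = 1 := by
      have hz : effDivCount k K 0 = 1 := by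
        rw [effDivCount, Nat.card_eq_one_iff_unique]
        refine ⟨⟨fun a b => ?_⟩, ⟨⟨0, le_rfl, by rw [deg_zero]; rfl⟩⟩⟩
        have key : ∀ D : {D : Divisor k K // 0 ≤ D ∧ D.deg = ((0 : ℕ) : ℤ)}, D.1 = 0 := fun D =>
          (eq_of_le_of_deg hK D.2.1 (by rw [D.2.2, deg_zero]; rfl)).symm
        exact Subtype.ext ((key a).trans (key b).symm)
      simp [numerZ, zetaZ, hz]
    rw [Nat.sub_zero, h0, Nat.cast_zero, sub_zero, Int.cast_one, mul_one] at h
    intro e
    rw [e, Int.cast_zero] at h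
    exact zpow_ne_zero _ hq0 h.symm

omit [Fintype (Cl0 k K)] hD₁ in
theorem numerZ_polynomial : ∃ p : Polynomial ℤ, (p : PowerSeries ℤ) = numerZ k K := by
  refine ⟨PowerSeries.trunc (2 * genus k K + 1) (numerZ k K), PowerSeries.ext fun n => ?_⟩
  rw [Polynomial.coeff_coe, PowerSeries.coeff_trunc]
  split_ifs with h
  · rfl
  · exact ((zeta_numerator hK).1 n (by omega)).symm

end Groth.Agent.FunFld
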