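import Groth.Agent.FunFld.QuadRat
import Groth.Agent.FunFld.Weil

/-! Artin–Schreier double covers of the line in characteristic two: poles and Frobenius on `H¹`. -/

namespace Groth.Agent.FunFld

open _root_.FunFld WithZero

theorem exists_principal_part {k K : Type*} [Field k] [Field K] [Algebra k K] (hK : IsFunctionField k K)
    (hg : genus k K = 0) (P : Place k K) (h : K) :
    ∃ g : K, P.1 (h - g) ≤ 1 ∧ ∀ R, R ≠ P → R.1 g ≤ 1 := by
  classical
  have ha : (Pi.single P h : Place k K → K) ∈ adele k K := by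
    show ∀ᶠ R : Place k K in Filter.cofinite, R.1 ((Pi.single P h : Place k K → K) R) ≤ 1
    refine Filter.eventually_cofinite.2 ((Set.finite_singleton P).subset fun R hR => ?_)
    by_contra hne
    exact hR (by rw [Pi.single_eq_of_ne hne, map_zero]; exact zero_le)
  obtain ⟨hfin, hdim⟩ := adele_idx hK (0 : Divisor k K)
  rw [hg, delta_zero hK] at hdim
  have hsub : Subsingleton (↥(adele k K) ⧸ ADK (0 : Divisor k K)) :=
    Module.finrank_zero_iff.1 (by simpa using hdim)
  rw [Submodule.Quotient.subsingleton_iff] at hsub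
  have hmem : (⟨_, ha⟩ : adele k K) ∈ ADK (0 : Divisor k K) := hsub ▸ Submodule.mem_top
  obtain ⟨b, hb, c, ⟨g, rfl⟩, hbc⟩ := Submodule.mem_sup.1 (show (Pi.single P h : Place k K → K) ∈
    AD (0 : Divisor k K) ⊔ LinearMap.range (diag k K) from hmem)
  have hb' : ∀ R : Place k K, R.1 (b R) ≤ 1 := fun R => by simpa using hb R
  have happ : ∀ R, b R + g = (Pi.single P h : Place k K → K) R := fun R => congrFun hbc R
  refine ⟨g, ?_, fun R hR => ?_⟩
  · have := happ P
    rw [Pi.single_eq_same] at this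
    rw [← this, add_sub_cancel_right]
    exact hb' P
  · have := happ R
    rw [Pi.single_eq_of_ne hR] at this
    rw [show g = -(b R) by linear_combination this, Valuation.map_neg]
    exact hb' R

variable {k K : Type*} [Field k] [IsAlgClosed k] [CharP k 2] [Field K] [Algebra k K] [Algebra (RatFunc k) K]
  [IsScalarTower k (RatFunc k) K] (hdeg : Module.finrank (RatFunc k) K = 2) {y : K}
  (hy : y ∉ Set.range (algebraMap (RatFunc k) K)) {f : RatFunc k} (heq : y ^ 2 + y = algebraMap (RatFunc k) K f)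
  {B : Finset k} {d : k → ℕ} (hd : ∀ β ∈ B, Odd (d β))
  (hpole : ∀ (p : Place k (RatFunc k)) (β : k), β ∈ B →
    p.1 ((RatFunc.X : RatFunc k) - RatFunc.C β) < 1 → p.ord f = -(d β : ℤ))
  (hint : ∀ p : Place k (RatFunc k), (∀ β ∈ B, 1 ≤ p.1 ((RatFunc.X : RatFunc k) - RatFunc.C β)) → p.1 f ≤ 1)

omit [IsAlgClosed k] [CharP k 2] in
theorem X_sub_C_eq (β : k) :
    (RatFunc.X : RatFunc k) - RatFunc.C β = algebraMap (Polynomial k) (RatFunc k) (Polynomial.X - Polynomial.C β) := by
  rw [map_sub, RatFunc.algebraMap_X, RatFunc.algebraMap_C]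

omit [IsAlgClosed k] [CharP k 2] in
theorem algebraMap_X_sub (β : k) :
    algebraMap (RatFunc k) K ((RatFunc.X : RatFunc k) - RatFunc.C β) =
      algebraMap (RatFunc k) K RatFunc.X - algebraMap k K β := by
  rw [map_sub, ← RatFunc.algebraMap_eq_C, ← IsScalarTower.algebraMap_apply]

omit [IsAlgClosed k] [CharP k 2] in
theorem lt_one_below {Q : Place k K} {P : Place k (RatFunc k)} (h : IsOver Q P)
    [FiniteDimensional (RatFunc k) K] (β : k) :
    Q.1 (algebraMap (RatFunc k) K RatFunc.X - algebraMap k K β) < 1 ↔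
      P.1 ((RatFunc.X : RatFunc k) - RatFunc.C β) < 1 := by
  rw [← algebraMap_X_sub, val_lt_one_iff h]

include hdeg hy heq hd hpole in
theorem as_at_pole {β : k} (hβ : β ∈ B) {Q : Place k K}
    (hQ : Q.1 (algebraMap (RatFunc k) K RatFunc.X - algebraMap k K β) < 1) :
    Q.ord y = -(d β : ℤ) ∧ Q.ord (algebraMap (RatFunc k) K RatFunc.X - algebraMap k K β) = 2 ∧
      ∀ R : Place k K, R.1 (algebraMap (RatFunc k) K RatFunc.X - algebraMap k K β) < 1 → R = Q := by
  haveI : FiniteDimensional (RatFunc k) K := Module.finite_of_finrank_pos (by omega)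
  obtain ⟨P, hP⟩ := exists_below (K := RatFunc k) Q
  have hP1 := (lt_one_below hP β).1 hQ
  have hordf := hpole P β hβ hP1
  have hdβ := hd β hβ
  have hneg : P.ord f < 0 := by rw [hordf]; obtain ⟨j, hj⟩ := hdβ; omega
  have hodd : Odd (P.ord f) := by rw [hordf, odd_neg, Int.odd_coe_nat]; exact hdβ
  obtain ⟨⟨Q₀, hQ₀, huniq⟩, hall⟩ := tot_ram (K' := K) isFunctionField_ratFunc hdeg
    fun R hR => two_dvd_of_as hR heq hneg hodd
  have hX : P.ord ((RatFunc.X : RatFunc k) - RatFunc.C β) = 1 := by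
    rw [X_sub_C_eq] at hP1 ⊢
    exact (fin_ord (Polynomial.irreducible_X_sub_C β) hP1).1
  refine ⟨?_, ?_, fun R hR => ?_⟩
  · have hy0 : y ≠ 0 := fun e => hy ⟨0, by rw [map_zero, e]⟩
    have hv : Q.1 (y ^ 2 + y) = exp (2 * (d β : ℤ)) := by
      rw [heq, (hall Q hP).1, val_eq_exp P (fun e => by rw [e, ord_zero] at hneg; omega), ← exp_nsmul, hordf]
      congr 1
      simp only [nsmul_eq_mul, Nat.cast_ofNat, neg_neg]
    have hyv := val_eq_exp Q hy0
    have hlt : Q.ord y < 0 := by
      by_contra hge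
      have hle : Q.1 y ≤ 1 := (ord_nonneg_iff Q hy0).1 (not_lt.1 hge)
      have : Q.1 (y ^ 2 + y) ≤ 1 :=
        (Q.1.map_add _ _).trans (max_le (by rw [map_pow]; exact pow_le_one' hle 2) hle)
      rw [hv, ← exp_zero, exp_le_exp] at this
      obtain ⟨j, hj⟩ := hdβ
      omega
    rw [Valuation.map_add_eq_of_lt_left _ (by
      rw [map_pow, hyv, ← exp_nsmul, exp_lt_exp]; simp only [nsmul_eq_mul, Nat.cast_ofNat]; omega),
      map_pow, hyv, ← exp_nsmul, exp_inj] at hv
    simp only [nsmul_eq_mul, Nat.cast_ofNat] at hv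
    omega
  · rw [← algebraMap_X_sub, IsOverWith.ord (hall Q hP).1, hX]; norm_num
  · obtain ⟨P', hP'⟩ := exists_below (K := RatFunc k) R
    have hP'1 := (lt_one_below hP' β).1 hR
    have : P' = P := by
      -- both places are the place at `β`
      rw [X_sub_C_eq] at hP'1 hP1
      refine eq_of_le fun z hz => ?_
      rcases eq_or_ne z 0 with rfl | hz0
      · simp
      have key : ∀ g : Polynomial k, g ≠ 0 → P'.ord (algebraMap (Polynomial k) (RatFunc k) g) =
          P.ord (algebraMap (Polynomial k) (RatFunc k) g) := by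
        intro g hg0
        obtain ⟨m, r, hr, rfl⟩ := WfDvdMonoid.max_power_factor hg0 (Polynomial.irreducible_X_sub_C β)
        have hr0 : r ≠ 0 := fun e => hg0 (by rw [e, mul_zero])
        have hp0 : algebraMap (Polynomial k) (RatFunc k) (Polynomial.X - Polynomial.C β) ≠ 0 :=
          algebraMap_poly_ne_zero (Polynomial.X_sub_C_ne_zero β)
        rw [map_mul, map_pow, ord_mul _ (pow_ne_zero m hp0) (algebraMap_poly_ne_zero hr0),
          ord_mul _ (pow_ne_zero m hp0) (algebraMap_poly_ne_zero hr0), ord_pow, ord_pow,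
          (fin_ord (Polynomial.irreducible_X_sub_C β) hP'1).1, (fin_ord (Polynomial.irreducible_X_sub_C β) hP1).1,
          (fin_ord (Polynomial.irreducible_X_sub_C β) hP'1).2 r hr, (fin_ord (Polynomial.irreducible_X_sub_C β) hP1).2 r hr]
      have hn := algebraMap_poly_ne_zero (RatFunc.num_ne_zero hz0)
      have hde := algebraMap_poly_ne_zero z.denom_ne_zero
      rw [← ord_nonneg_iff _ hz0] at hz ⊢
      rw [← RatFunc.num_div_denom z, div_eq_mul_inv, ord_mul _ hn (inv_ne_zero hde), ord_inv] at hz ⊢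
      rwa [key _ (RatFunc.num_ne_zero hz0), key _ z.denom_ne_zero] at hz
    subst this
    rw [huniq R hP', huniq Q hP]

include hdeg hy heq hint in
theorem as_integral {Q : Place k K}
    (hQ : ∀ β ∈ B, 1 ≤ Q.1 (algebraMap (RatFunc k) K RatFunc.X - algebraMap k K β)) : Q.1 y ≤ 1 := by
  haveI : FiniteDimensional (RatFunc k) K := Module.finite_of_finrank_pos (by omega)
  obtain ⟨P, hP⟩ := exists_below (K := RatFunc k) Q
  have hf := (val_le_one_iff hP f).2 (hint P fun β hβ => not_lt.1 fun hlt =>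
    not_lt.2 (hQ β hβ) ((lt_one_below hP β).2 hlt))
  by_contra hgt
  rw [not_le] at hgt
  have hsq : Q.1 (y ^ 2 + y) = Q.1 (y ^ 2) := by
    refine Valuation.map_add_eq_of_lt_left _ ?_
    rw [map_pow, pow_two]
    calc Q.1 y = 1 * Q.1 y := (one_mul _).symm
      _ < Q.1 y * Q.1 y := mul_lt_mul_of_pos_right hgt (zero_lt_one.trans hgt)
  rw [← heq, hsq, map_pow] at hf
  exact absurd ((pow_le_one_iff two_ne_zero).1 hf) (not_le.2 hgt)

include hdeg hy heq hd hpole hint in
theorem as_poles :
    (∀ P : Place k K, 1 < P.1 (algebraMap (RatFunc k) K RatFunc.X) → 0 ≤ P.ord y) ∧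
    (∃ P : Place k K, 1 < P.1 (algebraMap (RatFunc k) K RatFunc.X) ∧ P.ord y = 0) ∧
    ∀ (α : k), α ∈ B → ∀ (j : ℤ) (P : Place k K),
      (P.1 ((algebraMap (RatFunc k) K RatFunc.X) - (algebraMap k K α)) < 1 →
        max (-(P.ord (y * ((algebraMap (RatFunc k) K RatFunc.X) - (algebraMap k K α)) ^ j))) 0 =
          max ((d α : ℤ) - 2 * j) 0) ∧
      (∀ β : k, β ∈ B → β ≠ α → P.1 ((algebraMap (RatFunc k) K RatFunc.X) - (algebraMap k K β)) < 1 →
        P.ord (y * ((algebraMap (RatFunc k) K RatFunc.X) - (algebraMap k K α)) ^ j) = -(d β : ℤ)) ∧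
      (1 < P.1 (algebraMap (RatFunc k) K RatFunc.X) →
        max (-(P.ord (y * ((algebraMap (RatFunc k) K RatFunc.X) - (algebraMap k K α)) ^ j))) 0 =
          max (j - P.ord y) 0) ∧
      (P.1 (algebraMap (RatFunc k) K RatFunc.X) ≤ 1 →
        (∀ β : k, β ∈ B → 1 ≤ P.1 ((algebraMap (RatFunc k) K RatFunc.X) - (algebraMap k K β))) →
        0 ≤ P.ord (y * ((algebraMap (RatFunc k) K RatFunc.X) - (algebraMap k K α)) ^ j)) := by
  classical
  haveI : FiniteDimensional (RatFunc k) K := Module.finite_of_finrank_pos (by omega)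
  set x : K := algebraMap (RatFunc k) K RatFunc.X with hx
  have hy0 : y ≠ 0 := fun e => hy ⟨0, by rw [map_zero, e]⟩
  have hbig : ∀ {P : Place k K}, 1 < P.1 x → ∀ β : k, P.1 (x - algebraMap k K β) = P.1 x := fun {P} hP β =>
    Valuation.map_sub_eq_of_lt_left _ ((P.2.1 β).trans_lt hP)
  have hint' : ∀ {P : Place k K}, (∀ β ∈ B, 1 ≤ P.1 (x - algebraMap k K β)) → 0 ≤ P.ord y := fun {P} h =>
    (ord_nonneg_iff P hy0).2 (as_integral hdeg hy heq hint h)
  have hinf : ∀ {P : Place k K}, 1 < P.1 x → ∀ β ∈ B, 1 ≤ P.1 (x - algebraMap k K β) := fun {P} hP β _ => by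
    rw [hbig hP β]; exact hP.le
  have h2 : ringChar k = 2 := ringChar.eq k 2
  -- the places at infinity
  obtain ⟨-, -, Pinf, hPdeg, hPord, -⟩ := rational_props (isFunctionField_ratFunc (k := k)) (RatFunc.adjoin_X (K := k))
  have hXv : Pinf.1 (RatFunc.X : RatFunc k) = exp 1 := by rw [val_eq_exp Pinf RatFunc.X_ne_zero, hPord, neg_neg]
  have hfinf : Pinf.1 f ≤ 1 := hint Pinf fun β _ => by
    rw [Valuation.map_sub_eq_of_lt_left _ ((show Pinf.1 (RatFunc.C β) ≤ 1 by
      rw [← RatFunc.algebraMap_eq_C]; exact Pinf.2.1 β).trans_lt (by rw [hXv, ← exp_zero, exp_lt_exp]; omega)), hXv,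
      ← exp_zero, exp_le_exp]
    omega
  have hfnn : 0 ≤ Pinf.ord f := by
    rcases eq_or_ne f 0 with e | e
    · rw [e, ord_zero]
    · exact (ord_nonneg_iff Pinf e).2 hfinf
  have habove : ∀ {P : Place k K}, 1 < P.1 x → IsOverWith P Pinf 1 ∧ P.ord x = -1 := by
    intro P hP
    obtain ⟨R, hR⟩ := exists_below (K := RatFunc k) P
    have hRX : 1 < R.1 (RatFunc.X : RatFunc k) := not_le.1 fun hle => not_le.2 hP ((val_le_one_iff hR _).2 hle)
    have : R = Pinf := by
      obtain ⟨-, -, P', -, -, hall⟩ := rational_props (isFunctionField_ratFunc (k := k)) (RatFunc.adjoin_X (K := k))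
      have h1 : ∀ S : Place k (RatFunc k), S.ord (RatFunc.X : RatFunc k) < 0 → S = P' := fun S hS => by
        by_contra hne
        have := hall S hne
        omega
      rw [h1 R ((not_le.1 fun h => not_le.2 hRX ((ord_nonneg_iff R RatFunc.X_ne_zero).1 h))),
        h1 Pinf (by omega)]
    subst this
    have he := (as_places hdeg h2 hy heq R).2 hfnn P hR
    exact ⟨he, by rw [hx, IsOverWith.ord he, hPord]; norm_num⟩
  refine ⟨fun P hP => hint' (hinf hP), ?_, fun α hα j P => ⟨fun hP => ?_, fun β hβ hne hP => ?_, fun hP => ?_, ?_⟩⟩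
  · -- some place at infinity where `y` is a unit
    haveI : CharP (RatFunc k) 2 := charP_of_injective_algebraMap (algebraMap k (RatFunc k)).injective 2
    have hQx : ∀ {Q : Place k K}, IsOver Q Pinf → 1 < Q.1 x := fun {Q} hQ => not_le.1 fun hle => by
      have := (val_le_one_iff hQ (RatFunc.X : RatFunc k)).1 hle
      rw [hXv, ← exp_zero, exp_le_exp] at this
      omega
    by_contra hc
    push Not at hc
    have hlt : ∀ Q : Place k K, IsOver Q Pinf → Q.1 y < 1 := fun Q hQ =>
      (ord_pos_iff Q hy0).1 (lt_of_le_of_ne (hint' (hinf (hQx hQ))) (hc Q (hQx hQ)).symm)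
    have hyy : y * y = algebraMap (RatFunc k) K f + algebraMap (RatFunc k) K (-1) * y := by
      rw [← heq, map_neg, map_one]; ring
    obtain ⟨b, hb0, hb1, hb, hdet⟩ := disc_basis (P := Pinf) isFunctionField_ratFunc hdeg hy hyy hfinf
      (by rw [Valuation.map_neg, map_one])
      (by rw [show (4 : RatFunc k) = 2 * 2 by norm_num, CharTwo.two_eq_zero, mul_zero, zero_mul, zero_add,
        neg_mul_neg, one_mul, map_one])
    have h1 := (coeff_of_disc isFunctionField_ratFunc b Pinf hb hdet fun Q hQ => (hlt Q hQ).le).2 hlt 1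
    rw [← hb1, b.repr_self, Finsupp.single_eq_same, map_one] at h1
    exact lt_irrefl _ h1
  · obtain ⟨hoy, hox, -⟩ := as_at_pole hdeg hy heq hd hpole hα hP
    have hne0 : x - algebraMap k K α ≠ 0 := fun e => by rw [e, ord_zero] at hox; omega
    rw [ord_mul P hy0 (zpow_ne_zero j hne0), hoy, show P.ord ((x - algebraMap k K α) ^ j) = j * 2 by
      simp only [Place.ord, map_zpow₀, log_zpow, smul_eq_mul]; rw [← hox]; simp only [Place.ord]; ring]
    ring_nf
  · obtain ⟨hoy, hox, -⟩ := as_at_pole hdeg hy heq hd hpole hβ hP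
    have hunit : P.1 (x - algebraMap k K α) = 1 := by
      rw [show x - algebraMap k K α = algebraMap k K (β - α) + (x - algebraMap k K β) by rw [map_sub]; ring,
        Valuation.map_add_eq_of_lt_left _ (by rw [val_algebraMap P (sub_ne_zero.2 hne)]; exact hP),
        val_algebraMap P (sub_ne_zero.2 hne)]
    have hne0 : x - algebraMap k K α ≠ 0 := fun e => by rw [e, map_zero] at hunit; exact zero_ne_one hunit
    rw [ord_mul P hy0 (zpow_ne_zero j hne0), hoy, show P.ord ((x - algebraMap k K α) ^ j) = 0 by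
      simp only [Place.ord, map_zpow₀, hunit, one_zpow, log_one, neg_zero]]
    ring
  · obtain ⟨-, hox⟩ := habove hP
    have hne0 : x - algebraMap k K α ≠ 0 := fun e => by
      have := hbig hP α
      rw [e, map_zero] at this
      rw [← this] at hP
      exact not_lt_zero hP
    rw [ord_mul P hy0 (zpow_ne_zero j hne0), show P.ord ((x - algebraMap k K α) ^ j) = -j by
      simp only [Place.ord, map_zpow₀, hbig hP α, log_zpow, smul_eq_mul]
      simp only [Place.ord] at hox
      rw [show log (P.1 x) = 1 by omega]; ring]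
    ring_nf
  · intro hxle hB
    have hox : P.1 (x - algebraMap k K α) = 1 :=
      le_antisymm ((Valuation.map_sub _ _ _).trans (max_le hxle (P.2.1 α))) (hB α hα)
    have hne0 : x - algebraMap k K α ≠ 0 := fun e => by rw [e, map_zero] at hox; exact zero_ne_one hox
    rw [ord_mul P hy0 (zpow_ne_zero j hne0), show P.ord ((x - algebraMap k K α) ^ j) = 0 by
      simp only [Place.ord, map_zpow₀, hox, one_zpow, log_one, neg_zero], add_zero]
    exact hint' hB

include hdeg hy heq hd hpole hint in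
theorem as_frobenius {Pl : k → Place k K}
    (hPl : ∀ β ∈ B, (Pl β).1 ((algebraMap (RatFunc k) K RatFunc.X) - (algebraMap k K β)) < 1)
    {α : k} (hα : α ∈ B) (j : ℕ) [DecidableEq (Place k K)] :
    (4 * j + 1 ≤ d α →
      (Pi.single (Pl α) ((y * ((algebraMap (RatFunc k) K RatFunc.X) - (algebraMap k K α)) ^ j) ^ 2) : Place k K → K) -
        (Pi.single (Pl α) (y * ((algebraMap (RatFunc k) K RatFunc.X) - (algebraMap k K α)) ^ (2 * j)) : Place k K → K) ∈
        (AD (0 : Divisor k K) ⊔ LinearMap.range (diag k K))) ∧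
    (d α < 4 * j + 1 →
      (Pi.single (Pl α) ((y * ((algebraMap (RatFunc k) K RatFunc.X) - (algebraMap k K α)) ^ j) ^ 2) : Place k K → K) ∈
        (AD (0 : Divisor k K) ⊔ LinearMap.range (diag k K))) := by
  classical
  haveI : FiniteDimensional (RatFunc k) K := Module.finite_of_finrank_pos (by omega)
  haveI : CharP K 2 := charP_of_injective_algebraMap (algebraMap k K).injective 2
  set t : K := algebraMap (RatFunc k) K RatFunc.X - algebraMap k K α with ht
  obtain ⟨hoy, hot, huniq⟩ := as_at_pole hdeg hy heq hd hpole hα (hPl α hα)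
  set h : RatFunc k := f * ((RatFunc.X : RatFunc k) - RatFunc.C α) ^ (2 * j) with hh
  have hhK : algebraMap (RatFunc k) K h = algebraMap (RatFunc k) K f * t ^ (2 * j) := by
    rw [hh, map_mul, map_pow, algebraMap_X_sub]
  have hsq : (y * t ^ j) ^ 2 = y * t ^ (2 * j) + algebraMap (RatFunc k) K h := by
    rw [hhK, ← heq, mul_pow, ← pow_mul, mul_comm j 2]
    linear_combination -(CharTwo.add_self_eq_zero (y * t ^ (2 * j)))
  obtain ⟨P₀, hP₀⟩ := exists_below (K := RatFunc k) (Pl α)
  obtain ⟨g, hg1, hg2⟩ := exists_principal_part isFunctionField_ratFunc genus_ratFunc P₀ h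
  have hmem : (Pi.single (Pl α) (algebraMap (RatFunc k) K h) : Place k K → K) ∈
      AD (0 : Divisor k K) ⊔ LinearMap.range (diag k K) := by
    refine Submodule.mem_sup.2 ⟨(Pi.single (Pl α) (algebraMap (RatFunc k) K h) : Place k K → K) -
      diag k K (algebraMap (RatFunc k) K g), fun R => ?_, _, ⟨_, rfl⟩, sub_add_cancel _ _⟩
    rw [Finsupp.coe_zero, Pi.zero_apply, exp_zero, Pi.sub_apply]
    show R.1 _ ≤ 1
    rcases eq_or_ne R (Pl α) with rfl | hR
    · rw [Pi.single_eq_same, show diag k K (algebraMap (RatFunc k) K g) (Pl α) = algebraMap (RatFunc k) K g from rfl,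
        ← map_sub]
      exact (val_le_one_iff hP₀ _).2 hg1
    · rw [Pi.single_eq_of_ne hR, show diag k K (algebraMap (RatFunc k) K g) R = algebraMap (RatFunc k) K g from rfl,
        zero_sub, Valuation.map_neg]
      obtain ⟨P, hP⟩ := exists_below (K := RatFunc k) R
      refine (val_le_one_iff hP _).2 (hg2 P fun e => hR (huniq R ?_))
      subst e
      exact (lt_one_below hP α).2 ((lt_one_below hP₀ α).1 (hPl α hα))
  refine ⟨fun _ => ?_, fun hj => ?_⟩
  · rw [← Pi.single_sub, hsq, add_sub_cancel_left]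
    exact hmem
  · rw [hsq, Pi.single_add]
    refine Submodule.add_mem _ (Submodule.mem_sup_left fun R => ?_) hmem
    rw [Finsupp.coe_zero, Pi.zero_apply, exp_zero]
    rcases eq_or_ne R (Pl α) with rfl | hR
    · rw [Pi.single_eq_same]
      have hy0 : y ≠ 0 := fun e => hy ⟨0, by rw [map_zero, e]⟩
      have ht0 : t ≠ 0 := fun e => by rw [ht] at e; rw [e, ord_zero] at hot; omega
      refine (ord_nonneg_iff _ (mul_ne_zero hy0 (pow_ne_zero _ ht0))).1 ?_
      rw [ord_mul _ hy0 (pow_ne_zero _ ht0), ord_pow, hoy, hot]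
      obtain ⟨i, hi⟩ := hd α hα
      push_cast
      omega
    · rw [Pi.single_eq_of_ne hR, map_zero]; exact zero_le

end Groth.Agent.FunFld
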