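import Mathlib

/-!
# Degree two extensions of fields and squarefree parts of polynomials
-/

namespace Groth.Agent.FunFld

open Polynomial

variable {F K : Type*} [Field F] [Field K] [Algebra F K]

theorem exists_gen_quadratic (h : Module.finrank F K = 2) :
    ∃ (a : K) (b c : F), a ∉ Set.range (algebraMap F K) ∧
      minpoly F a = X ^ 2 + C b * X + C c ∧
      a ^ 2 + algebraMap F K b * a + algebraMap F K c = 0 := by
  haveI : FiniteDimensional F K := Module.finite_of_finrank_pos (by omega)
  obtain ⟨a, ha⟩ : ∃ a : K, a ∉ Set.range (algebraMap F K) := by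
    by_contra hc
    push Not at hc
    have hs : Function.Surjective (algebraMap F K) := hc
    have := Module.finrank_self F
    have h2 := (LinearEquiv.ofBijective (Algebra.linearMap F K) ⟨(algebraMap F K).injective, hs⟩).finrank_eq
    omega
  have hint : IsIntegral F a := .of_finite F a
  have hd : (minpoly F a).natDegree = 2 := by
    have h1 := minpoly.natDegree_le (A := F) a
    have h2 := minpoly.natDegree_pos hint
    have h3 : (minpoly F a).natDegree ≠ 1 := fun h1 => by
      refine ha ?_
      have := minpoly.natDegree_eq_one_iff.1 h1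
      exact this
    omega
  have hm := minpoly.monic hint
  have hq : minpoly F a = X ^ 2 + C ((minpoly F a).coeff 1) * X + C ((minpoly F a).coeff 0) := by
    conv_lhs => rw [hm.as_sum, hd]
    rw [Finset.sum_range_succ, Finset.sum_range_succ, Finset.sum_range_zero]
    simp only [pow_zero, mul_one, pow_one, zero_add]
    ring
  refine ⟨a, _, _, ha, hq, ?_⟩
  have := congrArg (fun p => aeval a p) hq
  simpa [minpoly.aeval] using this.symm

theorem adjoin_eq_top_of_finrank_two (h : Module.finrank F K = 2) {y : K}
    (hy : y ∉ Set.range (algebraMap F K)) : IntermediateField.adjoin F ({y} : Set K) = ⊤ := by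
  haveI : FiniteDimensional F K := Module.finite_of_finrank_pos (by omega)
  haveI := IntermediateField.isSimpleOrder_of_finrank_prime F K (h ▸ Nat.prime_two)
  refine (eq_bot_or_eq_top _).resolve_left fun hb => hy ?_
  have : y ∈ (⊥ : IntermediateField F K) := hb ▸ IntermediateField.mem_adjoin_simple_self F y
  exact IntermediateField.mem_bot.1 this

theorem exists_squarefree_mul_sq {k : Type*} [Field k] :
    ∀ g : k[X], g ≠ 0 → ∃ f s : k[X], Squarefree f ∧ g = s ^ 2 * f := by
  intro g
  induction hn : g.natDegree using Nat.strong_induction_on generalizing g with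
  | _ n ih =>
    intro hg
    by_cases hsq : Squarefree g
    · exact ⟨g, 1, hsq, by simp⟩
    · simp only [Squarefree, not_forall] at hsq
      obtain ⟨w, ⟨r, hr⟩, hw⟩ := hsq
      have hw0 : w ≠ 0 := fun h => hg (by rw [hr, h]; simp)
      have hr0 : r ≠ 0 := fun h => hg (by rw [hr, h]; simp)
      have hwd : 0 < w.natDegree := by
        rw [Nat.pos_iff_ne_zero]
        intro h0
        obtain ⟨c, rfl⟩ : ∃ c, C c = w := ⟨_, (eq_C_of_natDegree_eq_zero h0).symm⟩
        exact hw (isUnit_C.2 (isUnit_iff_ne_zero.2 fun h => hw0 (by rw [h, C_0])))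
      have hdeg : r.natDegree < n := by
        rw [← hn, hr, natDegree_mul (mul_ne_zero hw0 hw0) hr0, natDegree_mul hw0 hw0]
        omega
      obtain ⟨f, s, hf, rfl⟩ := ih _ hdeg r rfl hr0
      exact ⟨f, w * s, hf, by rw [hr]; ring⟩

end Groth.Agent.FunFld
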