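import Groth.Agent.FunFld.RatPlaces
import Groth.Agent.FunFld.Ext.Const
import Groth.Agent.FunFld.QuadExt
import Mathlib.RingTheory.Polynomial.IsIntegral
import Mathlib.FieldTheory.IntermediateField.Adjoin.Algebra

/-! `k` is algebraically closed in `k(x, √f)`. -/

namespace Groth.Agent.FunFld

open _root_.FunFld Polynomial IntermediateField

variable {k K : Type*} [Field k] [Field K] [Algebra k K]

/-- A squarefree nonconstant polynomial is not a square, up to constants, in the rational functions. -/
theorem not_sq_mul_const {f : k[X]} (hf : Squarefree f) (hd : 1 ≤ f.natDegree) {r : RatFunc k} {δ : k}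
    (h : algebraMap k[X] (RatFunc k) f * r ^ 2 = algebraMap k (RatFunc k) δ) : r = 0 := by
  by_contra hr
  have hδ : δ ≠ 0 := fun e => by
    rw [e, map_zero, mul_eq_zero] at h
    exact h.elim (algebraMap_poly_ne_zero hf.ne_zero) (pow_ne_zero 2 hr)
  obtain ⟨p, hp, hpf⟩ := WfDvdMonoid.exists_irreducible_factor
    (fun hu => by rw [natDegree_eq_zero_of_isUnit hu] at hd; omega) hf.ne_zero
  -- a place at which `p` vanishes
  have htr : Transcendental k (algebraMap k[X] (RatFunc k) p) := RatFunc.transcendental_of_ne_C _ fun ⟨c, hc⟩ => by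
    rw [← RatFunc.algebraMap_C] at hc
    have := hp.natDegree_pos
    rw [RatFunc.algebraMap_injective k hc, natDegree_C] at this
    omega
  obtain ⟨P₀, hP₀⟩ := exists_zero isFunctionField_ratFunc htr
  have h1 := ord_squarefree_of_dvd hp ((ord_pos_iff P₀ (algebraMap_poly_ne_zero hp.ne_zero)).1 hP₀) hf hpf
  have h2 := congrArg P₀.ord h
  rw [ord_mul P₀ (algebraMap_poly_ne_zero hf.ne_zero) (pow_ne_zero 2 hr), h1, ord_pow, ord_algebraMap] at h2
  omega

theorem quad_isFunctionField (h2 : ringChar k ≠ 2) (x y : K) (hx : Transcendental k x)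
    (hxy : IntermediateField.adjoin k ({x, y} : Set K) = ⊤) (f : Polynomial k) (hf : Squarefree f)
    (hd : 1 ≤ f.natDegree) (heq : y ^ 2 = Polynomial.aeval x f) : IsFunctionField k K := by
  set L := k⟮x⟯ with hL
  let e : RatFunc k ≃ₐ[k] L := RatFunc.algEquivOfTranscendental x hx
  have he : ∀ g : k[X], ((e (algebraMap k[X] (RatFunc k) g) : L) : K) = aeval x g := fun g => by
    rw [show e (algebraMap k[X] (RatFunc k) g) = aeval (AdjoinSimple.gen k x) g from
      RatFunc.algEquivOfTranscendental_algebraMap x hx g]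
    exact (Polynomial.aeval_algHom_apply L.val (AdjoinSimple.gen k x) g).symm
  have hLy : L⟮y⟯ = ⊤ := by
    rw [← restrictScalars_eq_top_iff (K := k), hL, adjoin_simple_adjoin_simple, hxy]
  have hint : IsIntegral L y := by
    refine IsIntegral.of_pow two_pos ?_
    rw [heq, ← he]
    exact isIntegral_algebraMap (R := L) (A := K) (x := e (algebraMap k[X] (RatFunc k) f))
  haveI : FiniteDimensional L L⟮y⟯ := adjoin.finiteDimensional hint
  haveI hfin : FiniteDimensional L K := by rw [hLy] at *; exact topEquiv.toLinearEquiv.finiteDimensional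
  have hconstL : ∀ r : L, IsAlgebraic k r → ∃ c : k, algebraMap k L c = r := fun r hr => by
    obtain ⟨c, hc⟩ := isFunctionField_ratFunc.2 (e.symm r) (hr.algHom e.symm.toAlgHom)
    exact ⟨c, by rw [← e.apply_symm_apply r, ← hc, e.commutes]⟩
  refine ⟨⟨x, hx, hfin⟩, fun z hz => ?_⟩
  -- write `z = u + v y`
  have hz2 : z ∈ L⟮y⟯.toSubalgebra := by rw [hLy]; trivial
  rw [adjoin_simple_toSubalgebra_of_isAlgebraic hint.isAlgebraic, Algebra.adjoin_singleton_eq_range_aeval] at hz2
  obtain ⟨q, hq⟩ := hz2
  set F : L := e (algebraMap k[X] (RatFunc k) f) with hF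
  have hyF : y * y = algebraMap L K F := by rw [← pow_two, heq, ← he]; rfl
  obtain ⟨u, v, huv⟩ : ∃ u v : L, z = algebraMap L K u + algebraMap L K v * y := by
    rw [← hq]
    clear hq
    induction q using Polynomial.induction_on with
    | C a => exact ⟨a, 0, by simp⟩
    | add p₁ p₂ h₁ h₂ =>
      obtain ⟨a, b, h⟩ := h₁; obtain ⟨c, d, h'⟩ := h₂
      exact ⟨a + c, b + d, by simp only [AlgHom.toRingHom_eq_coe, RingHom.coe_coe, map_add] at *; rw [h, h']; ring⟩
    | monomial n a ih =>
      obtain ⟨c, d, h⟩ := ih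
      refine ⟨d * F, c, ?_⟩
      simp only [AlgHom.toRingHom_eq_coe, RingHom.coe_coe, map_mul, map_pow, aeval_C, aeval_X, pow_succ] at *
      rw [← mul_assoc, h, ← hyF]; ring
  by_cases hv : v = 0
  · subst hv
    rw [map_zero, zero_mul, add_zero] at huv
    obtain ⟨c, hc⟩ := hconstL u ((isAlgebraic_algebraMap_iff (algebraMap L K).injective).1 (huv ▸ hz))
    exact ⟨c, by rw [huv, ← hc, ← IsScalarTower.algebraMap_apply]⟩
  · exfalso
    -- the quadratic equation of `z`
    set m : L[X] := Polynomial.X ^ 2 - Polynomial.C (2 * u) * Polynomial.X + Polynomial.C (u * u - v * v * F) with hm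
    have hmz : aeval z m = 0 := by
      simp only [hm, map_add, map_sub, map_mul, map_pow, aeval_C, aeval_X, map_ofNat]
      rw [huv]
      linear_combination (algebraMap L K v) ^ 2 * hyF
    have hzint := hz.isIntegral
    have hzL : z ∉ Set.range (algebraMap L K) := by
      rintro ⟨w, hw⟩
      have hy' : y ∈ Set.range (algebraMap L K) := ⟨(w - u) / v, by
        rw [map_div₀, map_sub, hw, huv, add_sub_cancel_left, mul_div_cancel_left₀ _ ((_root_.map_ne_zero _).2 hv)]⟩
      obtain ⟨s, hs⟩ := hy'
      refine one_ne_zero (α := RatFunc k) ?_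
      have hsF : s * s = F := (algebraMap L K).injective (by rw [map_mul, hs, hyF])
      have hs0 : s ≠ 0 := fun e0 => by
        rw [e0, zero_mul, hF] at hsF
        exact algebraMap_poly_ne_zero hf.ne_zero (e.injective (by rw [← hsF, map_zero]))
      have := not_sq_mul_const hf hd (r := e.symm s⁻¹) (δ := 1) (e.injective (by
        rw [map_mul, map_pow, e.apply_symm_apply, AlgEquiv.commutes, map_one, ← hF, ← hsF]
        field_simp))
      rw [map_eq_zero_iff _ e.symm.injective, inv_eq_zero] at this
      exact absurd this hs0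
    have hmin : minpoly L z = m := by
      have hmmon : m.Monic := by rw [hm]; monicity!
      refine (eq_of_monic_of_dvd_of_natDegree_le (minpoly.monic hzint.tower_top) hmmon (minpoly.dvd L z hmz) ?_).symm
      have h2le := (minpoly.two_le_natDegree_iff hzint.tower_top).2 hzL
      have : m.natDegree = 2 := by rw [hm]; compute_degree!
      omega
    have hcoef : ∀ i, IsAlgebraic k (m.coeff i) := fun i => by
      refine (Polynomial.isIntegral_coeff_of_dvd (minpoly k z) m (minpoly.monic hzint) (hmin ▸ minpoly.monic hzint.tower_top)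
        ?_ i).isAlgebraic
      rw [← hmin]
      exact minpoly.dvd L z (by rw [aeval_map_algebraMap, minpoly.aeval])
    obtain ⟨b, hb⟩ := hconstL _ (hcoef 1)
    obtain ⟨c, hc⟩ := hconstL _ (hcoef 0)
    have h1 : m.coeff 1 = -(2 * u) := by simp [hm, coeff_X]
    have h0 : m.coeff 0 = u * u - v * v * F := by simp [hm]
    rw [h1] at hb; rw [h0] at hc
    have hδ : algebraMap k L (b * b - 4 * c) = F * (2 * v) ^ 2 := by
      rw [map_sub, map_mul, map_mul, map_ofNat, hb, hc]; ring
    have := not_sq_mul_const hf hd (r := e.symm (2 * v)) (δ := b * b - 4 * c) (e.injective (by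
      rw [map_mul, map_pow, e.apply_symm_apply, AlgEquiv.commutes, hδ, hF]))
    rw [map_eq_zero_iff _ e.symm.injective] at this
    have h20 : (2 : L) ≠ 0 := by
      rw [← map_ofNat (algebraMap k L) 2]
      exact (_root_.map_ne_zero _).2 (Ring.two_ne_zero h2)
    exact mul_ne_zero h20 hv this

end Groth.Agent.FunFld
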