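import Groth.Agent.FunFld.QuadRat
import Groth.Agent.FunFld.QuadConst

/-! The genus of quadratic extensions of a genus zero field. -/

namespace Groth.Agent.FunFld

open _root_.FunFld WithZero

variable {k K K' : Type*} [Field k] [Field K] [Field K'] [Algebra k K] [Algebra K K'] [Algebra k K']
  [IsScalarTower k K K'] [FiniteDimensional K K'] (hK : IsFunctionField k K)
include hK

/-- Membership criterion at a totally ramified place. -/
theorem local_ramified (h2 : Module.finrank K K' = 2) {P : Place k K} {y : K'} (hy0 : y ≠ 0)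
    (hdvd : ∀ Q : Place k K', IsOver Q P → 2 ∣ ramIdx Q P) (c : ℤ)
    (hord : ∀ Q : Place k K', IsOver Q P → Q.ord y = -(2 * c - 1)) (u v : K) (n : ℤ) :
    (∀ Q : Place k K', IsOver Q P → Q.1 (algebraMap K K' u + algebraMap K K' v * y) ≤ exp ((ramIdx Q P : ℤ) * n)) ↔
      P.1 u ≤ exp n ∧ P.1 v ≤ exp (n - c) := by
  obtain ⟨⟨Q, hQ, huniq⟩, hall⟩ := tot_ram (K' := K') hK h2 hdvd
  have he : IsOverWith Q P 2 := (hall Q hQ).1
  rw [forall_congr' fun R => (show (IsOver R P → R.1 (algebraMap K K' u + algebraMap K K' v * y) ≤ exp ((ramIdx R P : ℤ) * n)) ↔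
      (R = Q → Q.1 (algebraMap K K' u + algebraMap K K' v * y) ≤ exp ((ramIdx Q P : ℤ) * n)) from
    ⟨fun h e => by subst e; exact h hQ, fun h hR => by obtain rfl := huniq R hR; exact h rfl⟩)]
  simp only [forall_eq, ramIdx_eq he]
  rcases eq_or_ne v 0 with rfl | hv
  · rw [map_zero, zero_mul, add_zero, he, map_zero]
    rcases eq_or_ne u 0 with rfl | hu
    · simp
    rw [val_eq_exp P hu, ← exp_nsmul, exp_le_exp, exp_le_exp]
    simp only [nsmul_eq_mul, Nat.cast_ofNat, zero_le, and_true]
    omega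
  have hvy : Q.1 (algebraMap K K' v * y) = exp (-(2 * P.ord v) + (2 * c - 1)) := by
    rw [map_mul, he, val_eq_exp P hv, val_eq_exp Q hy0, hord Q hQ, ← exp_nsmul, ← exp_add]
    congr 1
    simp only [nsmul_eq_mul, Nat.cast_ofNat]
    ring
  rcases eq_or_ne u 0 with rfl | hu
  · rw [map_zero, zero_add, hvy, map_zero, val_eq_exp P hv, exp_le_exp, exp_le_exp]
    simp only [zero_le, true_and]
    omega
  have hu' : Q.1 (algebraMap K K' u) = exp (-(2 * P.ord u)) := by
    rw [he, val_eq_exp P hu, ← exp_nsmul]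
    congr 1
    simp only [nsmul_eq_mul, Nat.cast_ofNat]
    ring
  have hne : Q.1 (algebraMap K K' u) ≠ Q.1 (algebraMap K K' v * y) := by
    rw [hu', hvy, Ne, exp_inj]; omega
  rw [Valuation.map_add_of_distinct_val _ hne, max_le_iff, hu', hvy, val_eq_exp P hu, val_eq_exp P hv,
    exp_le_exp, exp_le_exp, exp_le_exp, exp_le_exp]
  push_cast
  omega

/-- Membership criterion at a place where a rescaled generator has unit discriminant. -/
theorem local_disc (h2 : Module.finrank K K' = 2) {P : Place k K} {y : K'} (hy : y ∉ Set.range (algebraMap K K'))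
    {c₀ d₀ : K} (heq : y * y = algebraMap K K' c₀ + algebraMap K K' d₀ * y) (hc : P.1 c₀ ≤ 1) (hd : P.1 d₀ ≤ 1)
    (hdisc : P.1 (4 * c₀ + d₀ * d₀) = 1) (u v : K) (n : ℤ) :
    (∀ Q : Place k K', IsOver Q P → Q.1 (algebraMap K K' u + algebraMap K K' v * y) ≤ exp ((ramIdx Q P : ℤ) * n)) ↔
      P.1 u ≤ exp n ∧ P.1 v ≤ exp n := by
  obtain ⟨b, h00, h11, hb, hdet⟩ := disc_basis hK h2 hy heq hc hd hdisc
  have he : ∀ Q : Place k K', IsOver Q P → IsOverWith Q P 1 := fun Q hQ =>
    unramified_quadratic hK h2 hy heq hc hd hdisc hQ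
  constructor
  · intro h
    obtain ⟨τ, hτ⟩ := exists_val P (-n)
    have hz : ∀ Q : Place k K', IsOver Q P →
        Q.1 (algebraMap K K' τ * (algebraMap K K' u + algebraMap K K' v * y)) ≤ 1 := fun Q hQ => by
      have h' := h Q hQ
      rw [ramIdx_eq (he Q hQ), Nat.cast_one, one_mul] at h'
      rw [map_mul, he Q hQ, pow_one, hτ]
      refine (mul_le_mul' le_rfl h').trans ?_
      rw [← exp_add, ← exp_zero, exp_le_exp]; omega
    have hcoef := (coeff_of_disc hK b P hb hdet hz).1
    have hrepr : algebraMap K K' τ * (algebraMap K K' u + algebraMap K K' v * y) = (τ * u) • b 0 + (τ * v) • b 1 := by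
      rw [h00, h11, Algebra.smul_def, Algebra.smul_def, map_mul, map_mul, mul_one]; ring
    have e0 := hcoef 0
    have e1 := hcoef 1
    rw [hrepr] at e0 e1
    simp only [map_add, map_smul, Finsupp.add_apply, Finsupp.smul_apply, Module.Basis.repr_self,
      Finsupp.single_apply, Fin.isValue, smul_eq_mul] at e0 e1
    simp only [↓reduceIte, Fin.isValue, one_ne_zero, zero_ne_one, mul_one, mul_zero, add_zero, zero_add] at e0 e1
    rw [map_mul, hτ] at e0 e1
    constructor
    · calc P.1 u = exp n * (exp (-n) * P.1 u) := by rw [← mul_assoc, ← exp_add]; simp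
        _ ≤ exp n * 1 := mul_le_mul' le_rfl e0
        _ = exp n := mul_one _
    · calc P.1 v = exp n * (exp (-n) * P.1 v) := by rw [← mul_assoc, ← exp_add]; simp
        _ ≤ exp n * 1 := mul_le_mul' le_rfl e1
        _ = exp n := mul_one _
  · rintro ⟨hu, hv⟩ Q hQ
    rw [ramIdx_eq (he Q hQ), Nat.cast_one, one_mul]
    refine (Q.1.map_add _ _).trans (max_le ?_ ?_)
    · rwa [he Q hQ, pow_one]
    · rw [map_mul, he Q hQ, pow_one]
      have := hb Q hQ 1
      rw [h11] at this
      exact (mul_le_mul' hv this).trans_eq (mul_one _)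

/-- The genus from a splitting of all Riemann–Roch spaces. -/
theorem genus_of_split (hg : genus k K = 0) (hK' : IsFunctionField k K') (h2 : Module.finrank K K' = 2)
    {y : K'} (hy : y ∉ Set.range (algebraMap K K')) (C : Divisor k K)
    (hloc : ∀ (P : Place k K) (u v : K) (n : ℤ),
      (∀ Q : Place k K', IsOver Q P → Q.1 (algebraMap K K' u + algebraMap K K' v * y) ≤ exp ((ramIdx Q P : ℤ) * n)) ↔
        P.1 u ≤ exp n ∧ P.1 v ≤ exp (n - C P)) :
    (genus k K' : ℤ) = C.deg - 1 := by
  classical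
  obtain ⟨P₀⟩ := exists_place_any hK
  set M : ℕ := 2 * genus k K' + C.deg.natAbs + 2
  set E : Divisor k K := Finsupp.single P₀ (M : ℤ)
  have hdE : (M : ℤ) ≤ E.deg := by
    rw [deg_single]
    have : (1 : ℤ) ≤ P₀.deg := by exact_mod_cast deg_pos hK P₀
    nlinarith
  have hmem : ∀ u v : K, algebraMap K K' u + algebraMap K K' v * y ∈ L (conorm K' E) ↔ u ∈ L E ∧ v ∈ L (E - C) := by
    intro u v
    constructor
    · intro h
      have key : ∀ P, P.1 u ≤ exp (E P) ∧ P.1 v ≤ exp (E P - C P) := fun P => (hloc P u v (E P)).1 fun Q hQ => by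
        have := h Q
        rwa [conorm_apply hK E (isOverWith_of_isOver hQ)] at this
      exact ⟨fun P => (key P).1, fun P => by rw [Finsupp.sub_apply]; exact (key P).2⟩
    · rintro ⟨hu, hv⟩ Q
      obtain ⟨P, hQ⟩ := exists_below (K := K) Q
      rw [conorm_apply hK E (isOverWith_of_isOver hQ)]
      refine (hloc P u v (E P)).2 ⟨hu P, ?_⟩ Q hQ
      have := hv P
      rwa [Finsupp.sub_apply] at this
  have hrepr : ∀ z : K', ∃ u v : K, z = algebraMap K K' u + algebraMap K K' v * y := fun z => by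
    have hz : z ∈ Submodule.span K (Set.range ![(1 : K'), y]) := by
      rw [(linearIndependent_one_y hy).span_eq_top_of_card_eq_finrank (by simp [h2])]; trivial
    rw [Matrix.range_cons_cons_empty, Submodule.mem_span_pair] at hz
    obtain ⟨u, v, h⟩ := hz
    exact ⟨u, v, by rw [← h, Algebra.smul_def, Algebra.smul_def, mul_one]⟩
  let φ : (L E × L (E - C)) →ₗ[k] L (conorm K' E) :=
    { toFun := fun p => ⟨algebraMap K K' p.1 + algebraMap K K' p.2 * y, (hmem _ _).2 ⟨p.1.2, p.2.2⟩⟩
      map_add' := fun a b => Subtype.ext (by simp only [Prod.fst_add, Prod.snd_add, Submodule.coe_add, map_add]; ring)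
      map_smul' := fun r a => Subtype.ext (by
        simp only [Prod.smul_fst, Prod.smul_snd, Submodule.coe_smul, RingHom.id_apply, Algebra.smul_def, map_mul,
          ← IsScalarTower.algebraMap_apply k K K']
        ring) }
  have hbij : Function.Bijective φ := by
    refine ⟨fun a b e => ?_, fun z => ?_⟩
    · have e' : algebraMap K K' a.1 + algebraMap K K' a.2 * y = algebraMap K K' b.1 + algebraMap K K' b.2 * y :=
        congrArg Subtype.val e
      obtain ⟨h1, h2⟩ := LinearIndependent.pair_iff.1 (linearIndependent_one_y hy) ((a.1 : K) - b.1) ((a.2 : K) - b.2)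
        (by rw [Algebra.smul_def, Algebra.smul_def, map_sub, map_sub]; linear_combination e')
      exact Prod.ext (Subtype.ext (sub_eq_zero.1 h1)) (Subtype.ext (sub_eq_zero.1 h2))
    · obtain ⟨u, v, h⟩ := hrepr z
      obtain ⟨hu, hv⟩ := (hmem u v).1 (h ▸ z.2)
      exact ⟨(⟨u, hu⟩, ⟨v, hv⟩), Subtype.ext h.symm⟩
  haveI := L_finite hK E
  haveI := L_finite hK (E - C)
  have hfin := (LinearEquiv.ofBijective φ hbij).finrank_eq
  rw [Module.finrank_prod] at hfin
  change ell E + ell (E - C) = ell (conorm K' E) at hfin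
  have hd := deg_conorm (K' := K') hK E
  rw [h2] at hd
  have e1 := ell_eq_of_deg_ge hK (D := E) (by rw [hg]; push_cast; omega)
  have e2 := ell_eq_of_deg_ge hK (D := E - C) (by rw [hg, deg_sub]; push_cast; omega)
  have e3 := ell_eq_of_deg_ge hK' (D := conorm K' E) (by rw [hd]; push_cast; omega)
  rw [hg] at e1 e2
  rw [deg_sub] at e2
  push_cast at e1 e2 e3 hd hfin
  omega

end Groth.Agent.FunFld
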