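import Groth.Agent.FunFld.ASChar2
import Groth.Agent.FunFld.QuadGenus

/-! A basis of `H¹(O)` of an Artin–Schreier double cover of the line in characteristic two. -/

namespace Groth.Agent.FunFld

open _root_.FunFld WithZero Polynomial

universe u v

variable {k : Type u} {K : Type v} [Field k] [IsAlgClosed k] [CharP k 2] [Field K] [Algebra k K] [Algebra (RatFunc k) K]
  [IsScalarTower k (RatFunc k) K] (hdeg : Module.finrank (RatFunc k) K = 2) {y : K}
  (hy : y ∉ Set.range (algebraMap (RatFunc k) K)) {f : RatFunc k} (heq : y ^ 2 + y = algebraMap (RatFunc k) K f)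
  {B : Finset k} (h0 : (0 : k) ∈ B) {d : k → ℕ} (hd : ∀ β ∈ B, Odd (d β))
  (hpole : ∀ (p : Place k (RatFunc k)) (β : k), β ∈ B →
    p.1 ((RatFunc.X : RatFunc k) - RatFunc.C β) < 1 → p.ord f = -(d β : ℤ))
  (hint : ∀ p : Place k (RatFunc k), (∀ β ∈ B, 1 ≤ p.1 ((RatFunc.X : RatFunc k) - RatFunc.C β)) → p.1 f ≤ 1)
  {Pl : k → Place k K}
  (hPl : ∀ β ∈ B, (Pl β).1 ((algebraMap (RatFunc k) K RatFunc.X) - (algebraMap k K β)) < 1)

omit [IsAlgClosed k] [CharP k 2] in
theorem ord_poly_le {P : Place k (RatFunc k)} {β : k} (hP : P.1 ((RatFunc.X : RatFunc k) - RatFunc.C β) < 1)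
    {g : k[X]} (hg : g ≠ 0) : P.ord (algebraMap k[X] (RatFunc k) g) ≤ (g.natDegree : ℤ) := by
  rw [X_sub_C_eq] at hP
  have hp := Polynomial.irreducible_X_sub_C β
  obtain ⟨m, r, hr, rfl⟩ := WfDvdMonoid.max_power_factor hg hp
  have hr0 : r ≠ 0 := fun e => hg (by rw [e, mul_zero])
  have hp0 : algebraMap k[X] (RatFunc k) (X - C β) ≠ 0 := algebraMap_poly_ne_zero (X_sub_C_ne_zero β)
  rw [map_mul, map_pow, ord_mul P (pow_ne_zero m hp0) (algebraMap_poly_ne_zero hr0), ord_pow, (fin_ord hp hP).1,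
    (fin_ord hp hP).2 r hr, natDegree_mul (pow_ne_zero m (X_sub_C_ne_zero β)) hr0, natDegree_pow, natDegree_X_sub_C]
  push_cast
  omega

omit [IsAlgClosed k] [CharP k 2] in
theorem place_at_eq {P P' : Place k (RatFunc k)} {β : k} (h : P.1 ((RatFunc.X : RatFunc k) - RatFunc.C β) < 1)
    (h' : P'.1 ((RatFunc.X : RatFunc k) - RatFunc.C β) < 1) : P' = P := by
  classical
  rw [X_sub_C_eq] at h h'
  have hp := Polynomial.irreducible_X_sub_C β
  refine eq_of_le fun z hz => ?_
  rcases eq_or_ne z 0 with rfl | hz0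
  · simp
  have key : ∀ g : k[X], g ≠ 0 → P'.ord (algebraMap k[X] (RatFunc k) g) = P.ord (algebraMap k[X] (RatFunc k) g) := by
    intro g hg
    obtain ⟨m, r, hr, rfl⟩ := WfDvdMonoid.max_power_factor hg hp
    have hr0 : r ≠ 0 := fun e => hg (by rw [e, mul_zero])
    have hp0 : algebraMap k[X] (RatFunc k) (X - C β) ≠ 0 := algebraMap_poly_ne_zero (X_sub_C_ne_zero β)
    rw [map_mul, map_pow, ord_mul _ (pow_ne_zero m hp0) (algebraMap_poly_ne_zero hr0),
      ord_mul _ (pow_ne_zero m hp0) (algebraMap_poly_ne_zero hr0), ord_pow, ord_pow, (fin_ord hp h').1,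
      (fin_ord hp h).1, (fin_ord hp h').2 r hr, (fin_ord hp h).2 r hr]
  have hn := algebraMap_poly_ne_zero (RatFunc.num_ne_zero hz0)
  have hde := algebraMap_poly_ne_zero z.denom_ne_zero
  rw [← ord_nonneg_iff _ hz0] at hz ⊢
  rw [← RatFunc.num_div_denom z, div_eq_mul_inv, ord_mul _ hn (inv_ne_zero hde), ord_inv] at hz ⊢
  rwa [key _ (RatFunc.num_ne_zero hz0), key _ z.denom_ne_zero] at hz

omit [IsAlgClosed k] [CharP k 2] [Algebra (RatFunc k) K] [IsScalarTower k (RatFunc k) K] in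
theorem place_at_inj {P : Place k K} {x : K} {a b : k} (ha : P.1 (x - algebraMap k K a) < 1)
    (hb : P.1 (x - algebraMap k K b) < 1) : a = b := by
  by_contra hne
  have : P.1 (algebraMap k K (b - a)) < 1 := by
    rw [map_sub, show algebraMap k K b - algebraMap k K a = (x - algebraMap k K a) - (x - algebraMap k K b) by ring]
    exact lt_of_le_of_lt (Valuation.map_sub _ _ _) (max_lt ha hb)
  rw [val_algebraMap P (sub_ne_zero.2 (Ne.symm hne))] at this
  exact lt_irrefl _ this

include hdeg hy heq hd hpole hint in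
theorem as_local (P : Place k (RatFunc k)) (u v : RatFunc k) (n : ℤ) :
    (∀ β ∈ B, P.1 ((RatFunc.X : RatFunc k) - RatFunc.C β) < 1 →
      ((∀ Q : Place k K, IsOver Q P →
        Q.1 (algebraMap (RatFunc k) K u + algebraMap (RatFunc k) K v * y) ≤ exp ((ramIdx Q P : ℤ) * n)) ↔
        P.1 u ≤ exp n ∧ P.1 v ≤ exp (n - ((d β : ℤ) + 1) / 2))) ∧
    ((∀ β ∈ B, 1 ≤ P.1 ((RatFunc.X : RatFunc k) - RatFunc.C β)) →
      ((∀ Q : Place k K, IsOver Q P →
        Q.1 (algebraMap (RatFunc k) K u + algebraMap (RatFunc k) K v * y) ≤ exp ((ramIdx Q P : ℤ) * n)) ↔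
        P.1 u ≤ exp n ∧ P.1 v ≤ exp n)) := by
  haveI : FiniteDimensional (RatFunc k) K := Module.finite_of_finrank_pos (by omega)
  haveI : CharP (RatFunc k) 2 := charP_of_injective_algebraMap (algebraMap k (RatFunc k)).injective 2
  have hy0 : y ≠ 0 := fun e => hy ⟨0, by rw [map_zero, e]⟩
  refine ⟨fun β hβ hlt => ?_, fun hB => ?_⟩
  · have hordf := hpole P β hβ hlt
    obtain ⟨j, hj⟩ := hd β hβ
    refine local_ramified (K' := K) isFunctionField_ratFunc hdeg hy0 (fun Q hQ => two_dvd_of_as hQ heq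
      (by rw [hordf]; omega) (by rw [hordf, odd_neg, Int.odd_coe_nat]; exact hd β hβ)) _ (fun Q hQ => ?_) u v n
    rw [(as_at_pole hdeg hy heq hd hpole hβ ((lt_one_below hQ β).2 hlt)).1]
    omega
  · refine local_disc (K' := K) isFunctionField_ratFunc hdeg hy (c₀ := f) (d₀ := -1) ?_ (hint P hB)
      (by rw [Valuation.map_neg, map_one]) ?_ u v n
    · rw [← heq, map_neg, map_one]; ring
    · rw [show (4 : RatFunc k) = 2 * 2 by norm_num, CharTwo.two_eq_zero, mul_zero, zero_mul, zero_add,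
        neg_mul_neg, one_mul, map_one]

include hdeg hy heq h0 hd hpole hint hPl in
theorem as_genus (hK : IsFunctionField k K) :
    (genus k K : ℤ) = (∑ β ∈ B, ((d β : ℤ) + 1) / 2) - 1 := by
  classical
  haveI : FiniteDimensional (RatFunc k) K := Module.finite_of_finrank_pos (by omega)
  choose pb hpb using fun β => exists_below (K := RatFunc k) (Pl β)
  have hlt : ∀ β ∈ B, (pb β).1 ((RatFunc.X : RatFunc k) - RatFunc.C β) < 1 :=
    fun β hβ => (lt_one_below (hpb β) β).1 (hPl β hβ)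
  set C : Divisor k (RatFunc k) := ∑ β ∈ B, Finsupp.single (pb β) (((d β : ℤ) + 1) / 2)
  have hCdeg : C.deg = ∑ β ∈ B, ((d β : ℤ) + 1) / 2 := by
    have hadd : ∀ s : Finset k, Divisor.deg (∑ β ∈ s, Finsupp.single (pb β) (((d β : ℤ) + 1) / 2)) =
        ∑ β ∈ s, ((d β : ℤ) + 1) / 2 := by
      intro s
      induction s using Finset.induction_on with
      | empty => rw [Finset.sum_empty, Finset.sum_empty, deg_zero]
      | insert γ s hγ ih =>
        rw [Finset.sum_insert hγ, Finset.sum_insert hγ, deg_add, ih, deg_single,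
          deg_eq_one isFunctionField_ratFunc (pb γ)]
        push_cast; ring
    exact hadd B
  rw [← hCdeg]
  refine genus_of_split (y := y) isFunctionField_ratFunc genus_ratFunc hK hdeg hy C fun P u v n => ?_
  obtain ⟨hin, hout⟩ := as_local hdeg hy heq hd hpole hint P u v n
  by_cases hP : ∃ β ∈ B, P.1 ((RatFunc.X : RatFunc k) - RatFunc.C β) < 1
  · obtain ⟨β, hβ, hβP⟩ := hP
    rw [hin β hβ hβP]
    have hCP : C P = ((d β : ℤ) + 1) / 2 := by
      rw [Finsupp.finsetSum_apply, Finset.sum_eq_single β (fun γ hγ hne => Finsupp.single_eq_of_ne fun e => hne ?_)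
        (fun h => absurd hβ h), place_at_eq (hlt β hβ) hβP, Finsupp.single_eq_same]
      have h1 := hlt γ hγ
      rw [← e, ← RatFunc.algebraMap_eq_C] at h1
      rw [← RatFunc.algebraMap_eq_C] at hβP
      exact place_at_inj h1 hβP
    rw [hCP]
  · push Not at hP
    rw [hout hP]
    have hCP : C P = 0 := by
      rw [Finsupp.finsetSum_apply]
      exact Finset.sum_eq_zero fun γ hγ => Finsupp.single_eq_of_ne fun e => not_lt.2 (hP γ hγ) (e ▸ hlt γ hγ)
    rw [hCP, sub_zero]

include hdeg hy heq h0 hd hpole hint hPl in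
theorem as_h1_li [DecidableEq (Place k K)] {ι : Type*} [Fintype ι] (b : ι → k) (e : ι → ℕ)
    (hinj : Function.Injective fun i => (b i, e i)) (hb : ∀ i, b i ∈ B) (he : ∀ i, 2 * e i + 1 ≤ d (b i))
    (hne : ∀ i, b i = 0 → e i ≠ 0) :
    LinearIndependent k (fun i => Submodule.mkQ (AD (0 : Divisor k K) ⊔ LinearMap.range (diag k K))
      (Pi.single (Pl (b i)) (y * ((algebraMap (RatFunc k) K RatFunc.X) - (algebraMap k K (b i))) ^ e i) :
        Place k K → K)) := by
  classical
  haveI : FiniteDimensional (RatFunc k) K := Module.finite_of_finrank_pos (by omega)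
  set x : K := algebraMap (RatFunc k) K RatFunc.X
  rw [Fintype.linearIndependent_iff]
  intro c hc
  replace hc : (∑ i, c i • (Pi.single (Pl (b i)) (y * (x - algebraMap k K (b i)) ^ e i) : Place k K → K)) ∈
      AD (0 : Divisor k K) ⊔ LinearMap.range (diag k K) := by
    rw [← Submodule.Quotient.mk_eq_zero, ← Submodule.mkQ_apply, map_sum]
    simp only [map_smul]
    exact hc
  obtain ⟨a, ha, _, ⟨z, rfl⟩, hz⟩ := Submodule.mem_sup.1 hc
  set vec : ι → Place k K → K := fun i => Pi.single (Pl (b i)) (y * (x - algebraMap k K (b i)) ^ e i)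
  have hz' : ∀ R, a R + z = ∑ i, c i • vec i R := fun R => by
    have := congrFun hz R
    simp only [Finset.sum_apply, Pi.smul_apply] at this
    exact this
  have haR : ∀ R : Place k K, R.1 (a R) ≤ 1 := fun R => by simpa using ha R
  obtain ⟨u, v, huv⟩ : ∃ u v : RatFunc k, z = algebraMap (RatFunc k) K u + algebraMap (RatFunc k) K v * y := by
    have hz : z ∈ Submodule.span (RatFunc k) (Set.range ![(1 : K), y]) := by
      rw [(linearIndependent_one_y hy).span_eq_top_of_card_eq_finrank (by simp [hdeg])]; trivial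
    rw [Matrix.range_cons_cons_empty, Submodule.mem_span_pair] at hz
    obtain ⟨u, v, h⟩ := hz
    exact ⟨u, v, by rw [← h, Algebra.smul_def, Algebra.smul_def, mul_one]⟩
  let r : k → k[X] := fun β => ∑ i ∈ Finset.univ.filter (fun i => b i = β), C (c i) * X ^ e i
  let q : k → k[X] := fun β => (r β).comp (X - C β)
  have hr0 : (r 0).coeff 0 = 0 := by
    simp only [r, finsetSum_coeff, coeff_C_mul_X_pow]
    refine Finset.sum_eq_zero fun i hi => if_neg fun h => hne i (Finset.mem_filter.1 hi).2 h.symm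
  have hrdeg : ∀ β, 2 * (r β).natDegree + 1 ≤ d β ∨ r β = 0 := by
    intro β
    by_cases hr : r β = 0
    · exact Or.inr hr
    left
    obtain ⟨i, hi, hi'⟩ : ∃ i ∈ Finset.univ.filter (fun i => b i = β), (r β).natDegree ≤ e i := by
      by_contra hcon
      push Not at hcon
      have : (r β).coeff (r β).natDegree = 0 := by
        simp only [r, finsetSum_coeff, coeff_C_mul_X_pow]
        exact Finset.sum_eq_zero fun i hi => if_neg (by have := hcon i hi; simp only [r] at this; omega)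
      exact hr (leadingCoeff_eq_zero.1 this)
    have := he i
    rw [(Finset.mem_filter.1 hi).2] at this
    omega
  have hsum : ∀ β ∈ B, ∑ i, c i • vec i (Pl β) = algebraMap (RatFunc k) K (algebraMap k[X] (RatFunc k) (q β)) * y := by
    intro β hβ
    simp only [q, r, sum_comp, map_sum, Finset.sum_mul]
    rw [← Finset.sum_filter_add_sum_filter_not Finset.univ (fun i => b i = β),
      Finset.sum_eq_zero (s := Finset.univ.filter fun i => ¬ b i = β) (fun i hi => ?_), add_zero]
    · refine Finset.sum_congr rfl fun i hi => ?_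
      have hbi := (Finset.mem_filter.1 hi).2
      simp only [vec, hbi, Pi.single_eq_same]
      rw [mul_comp, C_comp, pow_comp, X_comp, map_mul, map_mul, map_pow, map_pow, RatFunc.algebraMap_C, map_sub,
        RatFunc.algebraMap_X, RatFunc.algebraMap_C, algebraMap_X_sub, ← RatFunc.algebraMap_eq_C,
        ← IsScalarTower.algebraMap_apply, Algebra.smul_def]
      ring
    · have hne' : Pl β ≠ Pl (b i) := fun eq => (Finset.mem_filter.1 hi).2
        (place_at_inj (P := Pl β) (eq ▸ hPl (b i) (hb i)) (hPl β hβ))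
      simp only [vec, Pi.single_eq_of_ne hne', smul_zero]
  have hoff : ∀ R : Place k K, (∀ β ∈ B, 1 ≤ R.1 (x - algebraMap k K β)) → ∑ i, c i • vec i R = 0 := by
    intro R hR
    refine Finset.sum_eq_zero fun i _ => ?_
    have hne' : R ≠ Pl (b i) := fun eq => not_lt.2 (hR (b i) (hb i)) (eq ▸ hPl (b i) (hb i))
    simp only [vec, Pi.single_eq_of_ne hne', smul_zero]
  have hlocB : ∀ β ∈ B, ∀ P : Place k (RatFunc k), P.1 ((RatFunc.X : RatFunc k) - RatFunc.C β) < 1 →
      P.1 u ≤ 1 ∧ P.1 (v - algebraMap k[X] (RatFunc k) (q β)) ≤ exp (-(((d β : ℤ) + 1) / 2)) := by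
    intro β hβ P hP
    have h := (((as_local hdeg hy heq hd hpole hint P u (v - algebraMap k[X] (RatFunc k) (q β)) 0).1 β hβ hP).1 fun Q hQ => by
      have hQl : Q.1 (x - algebraMap k K β) < 1 := (lt_one_below hQ β).2 hP
      have hQeq : Q = Pl β :=
        ((as_at_pole hdeg hy heq hd hpole hβ (hPl β hβ)).2.2 Q hQl)
      subst hQeq
      rw [mul_zero, exp_zero, map_sub, sub_mul, ← add_sub_assoc, ← huv, ← hsum β hβ, ← hz' (Pl β),
        show z - (a (Pl β) + z) = -(a (Pl β)) by ring, Valuation.map_neg]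
      exact haR _)
    rwa [exp_zero, zero_sub] at h
  have hlocO : ∀ P : Place k (RatFunc k), (∀ β ∈ B, 1 ≤ P.1 ((RatFunc.X : RatFunc k) - RatFunc.C β)) → P.1 v ≤ 1 := by
    intro P hP
    have h := (((as_local hdeg hy heq hd hpole hint P u v 0).2 hP).1 fun Q hQ => by
      rw [mul_zero, exp_zero, ← huv]
      have := hz' Q
      rw [hoff Q fun β hβ => not_lt.1 fun h => not_lt.2 (hP β hβ) ((lt_one_below hQ β).1 h)] at this
      rw [eq_neg_of_add_eq_zero_right this, Valuation.map_neg]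
      exact haR _).2
    rwa [exp_zero] at h
  have hXB : ∀ β ∈ B, ∀ P : Place k (RatFunc k), P.1 ((RatFunc.X : RatFunc k) - RatFunc.C β) < 1 →
      0 ≤ P.ord (RatFunc.X : RatFunc k) := fun β _ P hP =>
    X_nonneg_of_lt_one (Polynomial.irreducible_X_sub_C β) (by rwa [← X_sub_C_eq])
  obtain ⟨ev, hev⟩ := val_le_one_of_all isFunctionField_ratFunc (x := v) fun P => by
    by_cases hP : ∃ β ∈ B, P.1 ((RatFunc.X : RatFunc k) - RatFunc.C β) < 1
    · obtain ⟨β, hβ, hβP⟩ := hP
      rw [← sub_add_cancel v (algebraMap k[X] (RatFunc k) (q β))]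
      refine (Valuation.map_add _ _ _).trans (max_le ((hlocB β hβ P hβP).2.trans ?_) (val_poly_le (hXB β hβ P hβP) _))
      rw [← exp_zero, exp_le_exp]; omega
    · push Not at hP
      exact hlocO P hP
  have hq : ∀ β ∈ B, q β = C ev := by
    intro β hβ
    obtain ⟨P, hP⟩ : ∃ P : Place k (RatFunc k), P.1 ((RatFunc.X : RatFunc k) - RatFunc.C β) < 1 := by
      obtain ⟨P, hP⟩ := exists_below (K := RatFunc k) (Pl β)
      exact ⟨P, (lt_one_below hP β).1 (hPl β hβ)⟩
    by_contra hcon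
    have hne0 : C ev - q β ≠ 0 := sub_ne_zero.2 (Ne.symm hcon)
    have h1 := (hlocB β hβ P hP).2
    have hev' : v - algebraMap k[X] (RatFunc k) (q β) = algebraMap k[X] (RatFunc k) (C ev - q β) := by
      rw [map_sub, RatFunc.algebraMap_C, ← hev, RatFunc.algebraMap_eq_C]
    rw [hev'] at h1
    have h2 := ord_poly_le hP hne0
    rw [val_eq_exp P (algebraMap_poly_ne_zero hne0), exp_le_exp] at h1
    have h3 : (C ev - q β).natDegree ≤ (r β).natDegree := by
      refine (natDegree_sub_le _ _).trans (max_le (by rw [natDegree_C]; exact Nat.zero_le _) ?_)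
      simp only [q]
      rw [natDegree_comp, natDegree_X_sub_C, mul_one]
    obtain ⟨j, hj⟩ := hd β hβ
    rcases hrdeg β with hr | hr
    · omega
    · rw [hr, natDegree_zero] at h3
      omega
  have hev0 : ev = 0 := by
    have h := congrArg (fun p => p.coeff 0) (hq 0 h0)
    simp only [q, map_zero, sub_zero, comp_X, hr0, coeff_C_zero] at h
    exact h.symm
  intro i
  have h := hq (b i) (hb i)
  rw [hev0, map_zero] at h
  have hr : r (b i) = 0 := by
    have h' := congrArg (fun p => p.comp (X + C (b i))) h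
    simpa [q, comp_assoc] using h'
  have hco := congrArg (fun p => p.coeff (e i)) hr
  simp only [r, finsetSum_coeff, coeff_C_mul_X_pow, coeff_zero] at hco
  rwa [Finset.sum_eq_single i (fun j hj hji => if_neg fun h => hji (hinj (Prod.ext (Finset.mem_filter.1 hj).2 h.symm)))
    (fun hi' => absurd (show i ∈ Finset.univ.filter (fun j => b j = b i) by simp) hi'), if_pos rfl] at hco

include hdeg hy heq h0 hd hpole hint hPl in
theorem as_h1_basis [DecidableEq (Place k K)] [DecidableEq k] (hK : IsFunctionField k K) :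
    (∀ i, (Sum.elim (fun a : {a : ↥B × ℕ // 1 ≤ a.2 ∧ 2 * a.2 + 1 ≤ d (a.1 : k)} => (Pi.single (Pl (a.1.1 : k)) (y * ((algebraMap (RatFunc k) K RatFunc.X) - (algebraMap k K (a.1.1 : k))) ^ a.1.2) : Place k K → K)) (fun b : {b : ↥B // (b : k) ≠ 0} => (Pi.single (Pl (b.1 : k)) y : Place k K → K))) i ∈ adele k K) ∧
    LinearIndependent k (fun i => Submodule.mkQ (AD (0 : Divisor k K) ⊔ LinearMap.range (diag k K)) ((Sum.elim (fun a : {a : ↥B × ℕ // 1 ≤ a.2 ∧ 2 * a.2 + 1 ≤ d (a.1 : k)} => (Pi.single (Pl (a.1.1 : k)) (y * ((algebraMap (RatFunc k) K RatFunc.X) - (algebraMap k K (a.1.1 : k))) ^ a.1.2) : Place k K → K)) (fun b : {b : ↥B // (b : k) ≠ 0} => (Pi.single (Pl (b.1 : k)) y : Place k K → K))) i)) ∧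
    ∀ a : Place k K → K, a ∈ adele k K → a ∈ (AD (0 : Divisor k K) ⊔ LinearMap.range (diag k K)) ⊔ Submodule.span k (Set.range (Sum.elim (fun a : {a : ↥B × ℕ // 1 ≤ a.2 ∧ 2 * a.2 + 1 ≤ d (a.1 : k)} => (Pi.single (Pl (a.1.1 : k)) (y * ((algebraMap (RatFunc k) K RatFunc.X) - (algebraMap k K (a.1.1 : k))) ^ a.1.2) : Place k K → K)) (fun b : {b : ↥B // (b : k) ≠ 0} => (Pi.single (Pl (b.1 : k)) y : Place k K → K)))) := by
  let e₁ : {a : ↥B × ℕ // 1 ≤ a.2 ∧ 2 * a.2 + 1 ≤ d (a.1 : k)} ≃ (Σ β : ↥B, Fin ((d (β : k) - 1) / 2)) :=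
    { toFun := fun a => ⟨a.1.1, ⟨a.1.2 - 1, by have := a.2; omega⟩⟩
      invFun := fun s => ⟨(s.1, (s.2 : ℕ) + 1), ⟨by omega, by have := s.2.2; simp only; omega⟩⟩
      left_inv := fun a => Subtype.ext (Prod.ext rfl (by have := a.2; simp only; omega))
      right_inv := fun s => Sigma.ext rfl (heq_of_eq (Fin.ext (by simp))) }
  haveI : Fintype {a : ↥B × ℕ // 1 ≤ a.2 ∧ 2 * a.2 + 1 ≤ d (a.1 : k)} := Fintype.ofEquiv _ e₁.symm
  set fam := (Sum.elim (fun a : {a : ↥B × ℕ // 1 ≤ a.2 ∧ 2 * a.2 + 1 ≤ d (a.1 : k)} => (Pi.single (Pl (a.1.1 : k)) (y * ((algebraMap (RatFunc k) K RatFunc.X) - (algebraMap k K (a.1.1 : k))) ^ a.1.2) : Place k K → K)) (fun b : {b : ↥B // (b : k) ≠ 0} => (Pi.single (Pl (b.1 : k)) y : Place k K → K)))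
  have hmem : ∀ i, fam i ∈ adele k K := by
    have key : ∀ (P : Place k K) (w : K), (Pi.single P w : Place k K → K) ∈ adele k K := fun P w => by
      show ∀ᶠ R : Place k K in Filter.cofinite, R.1 ((Pi.single P w : Place k K → K) R) ≤ 1
      refine Filter.eventually_cofinite.2 ((Set.finite_singleton P).subset fun R hR => ?_)
      by_contra hne
      exact hR (by rw [Pi.single_eq_of_ne hne, map_zero]; exact zero_le)
    rintro (a | b) <;> exact key _ _
  let bb : {a : ↥B × ℕ // 1 ≤ a.2 ∧ 2 * a.2 + 1 ≤ d (a.1 : k)} ⊕ {b : ↥B // (b : k) ≠ 0} → k :=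
    Sum.elim (fun a => (a.1.1 : k)) (fun b => (b.1 : k))
  let ee : {a : ↥B × ℕ // 1 ≤ a.2 ∧ 2 * a.2 + 1 ≤ d (a.1 : k)} ⊕ {b : ↥B // (b : k) ≠ 0} → ℕ :=
    Sum.elim (fun a => a.1.2) (fun _ => 0)
  have hli : LinearIndependent k (fun i => Submodule.mkQ (AD (0 : Divisor k K) ⊔ LinearMap.range (diag k K)) (fam i)) := by
    have h := as_h1_li hdeg hy heq h0 hd hpole hint hPl bb ee ?_ ?_ ?_ ?_
    · convert h using 1
      funext i
      rcases i with a | b
      · rfl
      · simp only [fam, bb, ee, Sum.elim_inr, pow_zero, mul_one]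
    · rintro (a | a) (b | b) e <;> simp only [bb, ee, Sum.elim_inl, Sum.elim_inr, Prod.mk.injEq] at e
      · exact congrArg Sum.inl (Subtype.ext (Prod.ext (Subtype.ext e.1) e.2))
      · have := a.2; omega
      · have := b.2; omega
      · exact congrArg Sum.inr (Subtype.ext (Subtype.ext e.1))
    · rintro (a | b) <;> exact Subtype.mem _
    · rintro (a | b)
      · exact a.2.2
      · obtain ⟨j, hj⟩ := hd _ b.1.2; show 2 * 0 + 1 ≤ d (b.1 : k); omega
    · rintro (a | b) hb
      · have := a.2.1; show a.1.2 ≠ 0; omega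
      · exact absurd hb b.2
  refine ⟨hmem, hli, fun a ha => ?_⟩
  set W := AD (0 : Divisor k K) ⊔ LinearMap.range (diag k K)
  let ψ : adele k K →ₗ[k] (Place k K → K) ⧸ W := W.mkQ.comp (adele k K).subtype
  have hker : LinearMap.ker ψ = ADK (0 : Divisor k K) := by
    ext b
    rw [LinearMap.mem_ker, LinearMap.comp_apply, Submodule.mkQ_apply, Submodule.Quotient.mk_eq_zero]
    exact Iff.rfl
  obtain ⟨hfin, hdim⟩ := adele_idx hK (0 : Divisor k K)
  rw [delta_zero hK, sub_zero, as_genus hdeg hy heq h0 hd hpole hint hPl hK] at hdim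
  haveI := hfin
  let e' := (Submodule.quotEquivOfEq _ _ hker).symm.trans ψ.quotKerEquivRange
  haveI : FiniteDimensional k (LinearMap.range ψ) := Module.Finite.equiv e'
  have hspan_le : Submodule.span k (Set.range fun i => W.mkQ (fam i)) ≤ LinearMap.range ψ := by
    rw [Submodule.span_le]
    rintro _ ⟨i, rfl⟩
    exact ⟨⟨fam i, hmem i⟩, rfl⟩
  have hcard : (Fintype.card ({a : ↥B × ℕ // 1 ≤ a.2 ∧ 2 * a.2 + 1 ≤ d (a.1 : k)} ⊕ {b : ↥B // (b : k) ≠ 0}) : ℤ) =
      (∑ β ∈ B, ((d β : ℤ) + 1) / 2) - 1 := by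
    rw [Fintype.card_sum, Fintype.card_congr e₁, Fintype.card_sigma, Fintype.card_subtype_compl,
      Fintype.card_coe, show Fintype.card {b : ↥B // (b : k) = 0} = 1 from
        Fintype.card_eq_one_iff.2 ⟨⟨⟨0, h0⟩, rfl⟩, fun b => Subtype.ext (Subtype.ext b.2)⟩]
    simp only [Fintype.card_fin]
    rw [Finset.sum_coe_sort B (fun β => (d β - 1) / 2)]
    have h1 : ∀ β ∈ B, ((d β : ℤ) + 1) / 2 = (((d β - 1) / 2 : ℕ) : ℤ) + 1 := fun β hβ => by
      obtain ⟨j, hj⟩ := hd β hβ; omega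
    have hcB : 1 ≤ B.card := Finset.card_pos.2 ⟨0, h0⟩
    rw [Finset.sum_congr rfl h1, Finset.sum_add_distrib, Finset.sum_const, nsmul_eq_mul, mul_one]
    push_cast [Nat.cast_sub hcB]
    ring
  have hrange : Submodule.span k (Set.range fun i => W.mkQ (fam i)) = LinearMap.range ψ := by
    refine Submodule.eq_of_le_of_finrank_le hspan_le (le_of_eq ?_)
    rw [finrank_span_eq_card hli, ← e'.finrank_eq]
    exact_mod_cast hdim.trans hcard.symm
  have : W.mkQ a ∈ Submodule.span k (Set.range fun i => W.mkQ (fam i)) := hrange ▸ ⟨⟨a, ha⟩, rfl⟩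
  rw [show (Set.range fun i => W.mkQ (fam i)) = W.mkQ '' Set.range fam from Set.range_comp _ fam,
    ← Submodule.map_span] at this
  obtain ⟨s, hs, hsa⟩ := this
  rw [Submodule.mkQ_apply, Submodule.mkQ_apply, Submodule.Quotient.eq] at hsa
  rw [show a = -(s - a) + s by abel]
  exact Submodule.add_mem_sup (Submodule.neg_mem _ hsa) hs

end Groth.Agent.FunFld
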