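import Groth.Agent.FunFld.RatPlaces
import Groth.Agent.FunFld.QuadExt
import Mathlib.FieldTheory.Perfect
import Mathlib.Algebra.CharP.Two

/-! Artin–Schreier reduction of pole orders in genus zero. -/

namespace Groth.Agent.FunFld

open _root_.FunFld WithZero IsLocalRing

section
variable {k K : Type*} [Field k] [Field K] [Algebra k K] [PerfectField k] [CharP k 2]
  (hK : IsFunctionField k K) (hg : genus k K = 0)
include hK hg

theorem exists_lower_pole (P : Place k K) {f : K} {m : ℕ} (hm : 1 ≤ m) (hord : P.ord f = -(2 * m : ℤ)) :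
    ∃ h : K, (∀ R, R ≠ P → R.1 h ≤ 1) ∧ P.1 (f + h ^ 2 + h) < exp (2 * m : ℤ) := by
  classical
  haveI := residue_finite hK P
  have hf0 : f ≠ 0 := fun e => by rw [e, ord_zero] at hord; omega
  obtain ⟨t, ht⟩ := exists_val P (-1)
  set D : Divisor k K := Finsupp.single P (m : ℤ)
  set D' : Divisor k K := Finsupp.single P ((m : ℤ) - 1)
  have hmem : ∀ h : L D, t ^ m * (h : K) ∈ intK P := fun h => by
    show P.1 _ ≤ 1
    have h1 := h.2 P
    simp only [D, Finsupp.single_eq_same] at h1
    rw [map_mul, map_pow, ht, ← exp_nsmul]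
    refine (mul_le_mul' le_rfl h1).trans ?_
    rw [← exp_add, ← exp_zero, exp_le_exp]; simp
  let μ : L D →ₗ[k] intK P :=
    { toFun := fun h => ⟨t ^ m * (h : K), hmem h⟩
      map_add' := fun a b => Subtype.ext (by simp [mul_add])
      map_smul' := fun c a => Subtype.ext (by simp) }
  let ψ := (resL P).comp μ
  have hkerle : (LinearMap.ker ψ).map (L D).subtype ≤ L D' := by
    rintro x ⟨h, hh, rfl⟩ R
    rw [SetLike.mem_coe, LinearMap.mem_ker, LinearMap.comp_apply, resL_eq_zero] at hh
    have hh' : P.1 (t ^ m * (h : K)) ≤ exp (-1) := (lt_one_iff_le P).1 hh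
    rcases eq_or_ne R P with rfl | hR
    · show R.1 (h : K) ≤ exp (D' R)
      simp only [D', Finsupp.single_eq_same]
      rw [map_mul, map_pow, ht, ← exp_nsmul] at hh'
      have h3 := mul_le_mul' (le_refl (exp (m : ℤ))) hh'
      rw [← mul_assoc, ← exp_add, ← exp_add] at h3
      simp only [nsmul_eq_mul, mul_neg, mul_one, add_neg_cancel, exp_zero, one_mul] at h3
      rwa [← sub_eq_add_neg] at h3
    · have h1 := h.2 R
      simp only [D, D', Finsupp.single_eq_of_ne hR] at h1 ⊢
      exact h1
  have hsurj : Function.Surjective ψ := by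
    haveI := L_finite hK D
    haveI := L_finite hK D'
    have hd : (1 : ℤ) ≤ P.deg := by exact_mod_cast deg_pos hK P
    have hm' : (1 : ℤ) ≤ m := by exact_mod_cast hm
    have h1 := ell_eq_of_deg_ge hK (D := D) (by rw [hg, deg_single]; push_cast; nlinarith)
    have h2 := ell_eq_of_deg_ge hK (D := D') (by rw [hg, deg_single]; push_cast; nlinarith)
    rw [hg, deg_single] at h1 h2
    have h3 : Module.finrank k (LinearMap.ker ψ) ≤ ell D' := by
      rw [← Submodule.finrank_map_subtype_eq (L D) (LinearMap.ker ψ)]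
      exact Submodule.finrank_mono hkerle
    have h4 : Module.finrank k (LinearMap.range ψ) + Module.finrank k (LinearMap.ker ψ) = ell D :=
      LinearMap.finrank_range_add_finrank_ker ψ
    refine LinearMap.range_eq_top.1 (Submodule.eq_top_of_finrank_eq (le_antisymm (Submodule.finrank_le _) ?_))
    show P.deg ≤ _
    push_cast at h1 h2
    have h5 : (Module.finrank k (LinearMap.ker ψ) : ℤ) ≤ ell D' := by exact_mod_cast h3
    have h6 : (Module.finrank k (LinearMap.range ψ) : ℤ) + Module.finrank k (LinearMap.ker ψ) = ell D := by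
      exact_mod_cast h4
    have : (P.deg : ℤ) ≤ Module.finrank k (LinearMap.range ψ) := by linarith
    exact_mod_cast this
  haveI : CharP (ResidueField P.O) 2 := charP_of_injective_algebraMap (algebraMap k _).injective 2
  haveI : CharP K 2 := charP_of_injective_algebraMap (algebraMap k K).injective 2
  haveI hfin : @Module.Finite k (ResidueField P.O) _ _ Algebra.toModule := residue_finite hK P
  haveI : Algebra.IsAlgebraic k (ResidueField P.O) := Algebra.IsAlgebraic.of_finite k _
  haveI : PerfectField (ResidueField P.O) := Algebra.IsAlgebraic.perfectField k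
  have hvf : P.1 f = exp (2 * m : ℤ) := by rw [val_eq_exp P hf0, hord, neg_neg]
  have hu : t ^ (2 * m) * f ∈ intK P := by
    show P.1 _ ≤ 1
    rw [map_mul, map_pow, ht, hvf, ← exp_nsmul, ← exp_add, ← exp_zero, exp_le_exp]; simp
  obtain ⟨s, hs⟩ := surjective_frobenius (ResidueField P.O) 2 (resL P ⟨_, hu⟩)
  obtain ⟨⟨h, hh⟩, rfl⟩ := hsurj s
  refine ⟨h, fun R hR => ?_, ?_⟩
  · have h1 := hh R
    simp only [D, Finsupp.single_eq_of_ne hR, exp_zero] at h1
    exact h1
  have hhP : P.1 h ≤ exp (m : ℤ) := by
    have h1 := hh P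
    simp only [D, Finsupp.single_eq_same] at h1
    exact h1
  rw [frobenius_def] at hs
  have hsub : P.1 ((t ^ m * h) ^ 2 - t ^ (2 * m) * f) < 1 := by
    have hint : (t ^ m * h) ^ 2 - t ^ (2 * m) * f ∈ intK P :=
      (intK P).sub_mem (show P.1 _ ≤ 1 by rw [map_pow]; exact pow_le_one' (hmem ⟨h, hh⟩) 2) hu
    refine (resL_eq_zero P ⟨_, hint⟩).1 ?_
    have e : resL P ⟨_, hint⟩ = (ψ ⟨h, hh⟩) ^ 2 - resL P ⟨_, hu⟩ := by
      show residue P.O _ = (residue P.O _) ^ 2 - residue P.O _
      rw [← map_pow, ← map_sub]; rfl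
    rw [e, hs, sub_self]
  refine Valuation.map_add_lt _ ?_ (hhP.trans_lt (exp_lt_exp.2 (by omega)))
  have e : f + h ^ 2 = (t ^ (2 * m))⁻¹ * ((t ^ m * h) ^ 2 - t ^ (2 * m) * f) := by
    have ht0 : t ≠ 0 := ne_zero_of_val P ht
    field_simp
    rw [CharTwo.sub_eq_add]; ring
  rw [e, map_mul, map_inv₀, map_pow, ht, ← exp_nsmul, ← exp_neg]
  refine (mul_lt_mul_of_pos_left hsub exp_pos).trans_le ?_
  rw [mul_one, exp_le_exp]; simp

theorem exists_reduced (f : K) :
    ∃ h : K, ∀ P : Place k K, P.ord (f + h ^ 2 + h) < 0 → Odd (P.ord (f + h ^ 2 + h)) := by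
  classical
  haveI : CharP K 2 := charP_of_injective_algebraMap (algebraMap k K).injective 2
  induction hn : (poles k f).deg.toNat using Nat.strong_induction_on generalizing f with
  | _ n ih =>
    by_cases hok : ∀ P : Place k K, P.ord f < 0 → Odd (P.ord f)
    · exact ⟨0, by simpa using hok⟩
    · simp only [not_forall] at hok
      obtain ⟨P, hneg, heven⟩ := hok
      rw [Int.not_odd_iff_even] at heven
      obtain ⟨j, hj⟩ := heven
      obtain ⟨m, hm⟩ : ∃ m : ℕ, -j = m := ⟨(-j).toNat, by omega⟩
      obtain ⟨h, hR, hP⟩ := exists_lower_pole hK hg P (f := f) (m := m) (by omega) (by omega)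
      set g := f + h ^ 2 + h with hgdef
      have hle : poles k g + Finsupp.single P 1 ≤ poles k f := fun R => by
        rw [Finsupp.add_apply, poles_apply hK, poles_apply hK]
        rcases eq_or_ne g 0 with hg0 | hg0
        · rw [hg0, ord_zero]
          rcases eq_or_ne R P with rfl | hne
          · rw [Finsupp.single_eq_same]; omega
          · rw [Finsupp.single_eq_of_ne hne]; omega
        rcases eq_or_ne R P with rfl | hne
        · rw [Finsupp.single_eq_same]
          rw [val_eq_exp R hg0, exp_lt_exp] at hP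
          omega
        · rw [Finsupp.single_eq_of_ne hne, add_zero]
          have h1 : R.1 g ≤ max (R.1 f) 1 := by
            refine (R.1.map_add _ _).trans (max_le ((R.1.map_add _ _).trans (max_le (le_max_left _ _) ?_)) ?_)
            · rw [map_pow]; exact (pow_le_one' (hR R hne) 2).trans (le_max_right _ _)
            · exact (hR R hne).trans (le_max_right _ _)
          rcases eq_or_ne f 0 with hf0 | hf0
          · rw [hf0, map_zero, max_eq_right zero_le, ← ord_nonneg_iff R hg0] at h1
            omega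
          rw [val_eq_exp R hg0, val_eq_exp R hf0, le_max_iff, exp_le_exp, ← exp_zero, exp_le_exp] at h1
          omega
      have hd : (1 : ℤ) ≤ P.deg := by exact_mod_cast deg_pos hK P
      have h1 := deg_nonneg (sub_nonneg.2 hle)
      have h0 : 0 ≤ (poles k g).deg := deg_nonneg fun R => by rw [poles_apply hK]; exact le_max_right _ _
      rw [deg_sub, deg_add, deg_single, one_mul] at h1
      obtain ⟨h', hh'⟩ := ih (poles k g).deg.toNat (by omega) g rfl
      refine ⟨h + h', ?_⟩
      rwa [show f + (h + h') ^ 2 + (h + h') = g + h' ^ 2 + h' by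
        rw [hgdef, CharTwo.add_sq]; ring]

end

theorem exists_as_generator {k K : Type*} [Field k] [Field K] [PerfectField k] (h2 : ringChar k = 2)
    [Algebra k K] [Algebra (RatFunc k) K] [IsScalarTower k (RatFunc k) K]
    (hdeg : Module.finrank (RatFunc k) K = 2) [Algebra.IsSeparable (RatFunc k) K] :
    ∃ (y : K) (f : RatFunc k), y ^ 2 + y = algebraMap (RatFunc k) K f ∧
      IntermediateField.adjoin (RatFunc k) ({y} : Set K) = ⊤ ∧
      ∀ P : Place k (RatFunc k), P.ord f < 0 → Odd (P.ord f) := by
  haveI : CharP k 2 := ringChar.of_eq h2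
  haveI : CharP (RatFunc k) 2 := charP_of_injective_algebraMap (algebraMap k (RatFunc k)).injective 2
  haveI : CharP K 2 := charP_of_injective_algebraMap (algebraMap (RatFunc k) K).injective 2
  obtain ⟨a, b, c, ha, hmin, heq⟩ := exists_gen_quadratic (F := RatFunc k) (K := K) hdeg
  have hb : b ≠ 0 := by
    rintro rfl
    have hs : (minpoly (RatFunc k) a).Separable := Algebra.IsSeparable.isSeparable _ a
    rw [hmin] at hs
    have hder : Polynomial.derivative (Polynomial.X ^ 2 + Polynomial.C (0 : RatFunc k) * Polynomial.X +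
        Polynomial.C c) = 0 := by
      simp [one_add_one_eq_two, CharTwo.two_eq_zero]
    rw [Polynomial.separable_def, hder, isCoprime_zero_right] at hs
    have := Polynomial.natDegree_eq_zero_of_isUnit hs
    rw [show Polynomial.X ^ 2 + Polynomial.C (0 : RatFunc k) * Polynomial.X + Polynomial.C c =
      Polynomial.X ^ 2 + Polynomial.C c by simp, Polynomial.natDegree_X_pow_add_C] at this
    omega
  obtain ⟨h, hh⟩ := exists_reduced isFunctionField_ratFunc genus_ratFunc (c / b ^ 2)
  set y : K := a / algebraMap (RatFunc k) K b + algebraMap (RatFunc k) K h with hy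
  have hb' : algebraMap (RatFunc k) K b ≠ 0 := (_root_.map_ne_zero _).2 hb
  refine ⟨y, c / b ^ 2 + h ^ 2 + h, ?_, adjoin_eq_top_of_finrank_two hdeg ?_, hh⟩
  · have key : (a / algebraMap (RatFunc k) K b) ^ 2 + a / algebraMap (RatFunc k) K b =
        algebraMap (RatFunc k) K (c / b ^ 2) := by
      rw [map_div₀, map_pow]
      field_simp
      linear_combination (heq - CharTwo.add_self_eq_zero (algebraMap (RatFunc k) K c))
    rw [hy, CharTwo.add_sq, map_add, map_add, map_pow, ← key]; ring
  · rintro ⟨r, hr⟩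
    refine ha ⟨(r - h) * b, ?_⟩
    rw [map_mul, map_sub, hr, hy, add_sub_cancel_right, div_mul_cancel₀ _ hb']

end Groth.Agent.FunFld
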