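import Groth.Agent.FunFld.Basic
import Mathlib.FieldTheory.SeparablyGenerated
import Mathlib.FieldTheory.PrimitiveElement
import Mathlib.FieldTheory.PurelyInseparable.Basic
import Mathlib.FieldTheory.KummerPolynomial
import Mathlib.FieldTheory.IsAlgClosed.AlgebraicClosure
import Mathlib.RingTheory.Kaehler.Basic
import Mathlib.RingTheory.Unramified.Field
import Mathlib.RingTheory.Polynomial.IsIntegral
import Mathlib.RingTheory.AdjoinRoot
import Mathlib.RingTheory.TensorProduct.Maps
import Mathlib.RingTheory.Flat.Basic
import Mathlib.RingTheory.Etale.Field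

/-! Geometric function fields: separating elements, `[K : kK^p] = p`, differentials. -/

namespace Groth.Agent.FunFld

open _root_.FunFld IntermediateField TensorProduct

universe u v

variable {k : Type u} {K : Type v} [Field k] [Field K] [Algebra k K]

theorem isField_tensor_of_separable
    (hK : ∀ y : K, IsAlgebraic k y → y ∈ Set.range (algebraMap k K)) (k' : Type*) [Field k']
    [Algebra k k'] [FiniteDimensional k k'] [Algebra.IsSeparable k k'] :
    IsField (k' ⊗[k] K) := by
  obtain ⟨α, hα⟩ := Field.exists_primitive_element k k'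
  have hαi : IsIntegral k α := IsIntegral.of_finite k α
  set f := minpoly k α with hf
  set g := f.map (algebraMap k K) with hg
  have hgirr : Irreducible g := by
    refine (Polynomial.Monic.irreducible_iff_natDegree' ((minpoly.monic hαi).map _)).2
      ⟨?_, fun q r hq hr hqr hdeg => ?_⟩
    · intro h
      have := congrArg Polynomial.natDegree h
      rw [Polynomial.natDegree_map, Polynomial.natDegree_one] at this
      exact (minpoly.natDegree_pos hαi).ne' this
    -- both factors descend to `k`
    have hdesc : ∀ {q : Polynomial K}, q.Monic → q ∣ g →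
        ∃ q₀ : Polynomial k, q₀.Monic ∧ q₀.map (algebraMap k K) = q := by
      intro q hq hdvd
      have hl : q ∈ Polynomial.lifts (algebraMap k K) :=
        (Polynomial.lifts_iff_coeff_lifts q).2 fun i =>
          hK _ (Polynomial.isIntegral_coeff_of_dvd f q (minpoly.monic hαi) hq hdvd i).isAlgebraic
      obtain ⟨q₀, h1, -, h2⟩ := Polynomial.lifts_and_degree_eq_and_monic hl hq
      exact ⟨q₀, h2, h1⟩
    obtain ⟨q₀, hq₀, rfl⟩ := hdesc hq (Dvd.intro r hqr)
    obtain ⟨r₀, hr₀, rfl⟩ := hdesc hr (Dvd.intro_left _ hqr)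
    have h0 : q₀ * r₀ = f := Polynomial.map_injective _ (algebraMap k K).injective
      (by rw [Polynomial.map_mul]; exact hqr)
    simp only [hg, Polynomial.natDegree_map] at hdeg
    exact ((Polynomial.Monic.irreducible_iff_natDegree' (minpoly.monic hαi)).1
      (minpoly.irreducible hαi)).2 q₀ r₀ hq₀ hr₀ h0 hdeg
  haveI : Fact (Irreducible g) := ⟨hgirr⟩
  let ι : K →+* k' ⊗[k] K := (Algebra.TensorProduct.includeRight : K →ₐ[k] k' ⊗[k] K).toRingHom
  let β : k' ⊗[k] K := α ⊗ₜ[k] 1
  have hβ : g.eval₂ ι β = 0 := by
    have hcomp : ι.comp (algebraMap k K) = algebraMap k (k' ⊗[k] K) :=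
      Algebra.TensorProduct.includeRight.comp_algebraMap
    rw [hg, Polynomial.eval₂_map, hcomp, ← Polynomial.aeval_def]
    change Polynomial.aeval ((Algebra.TensorProduct.includeLeft : k' →ₐ[k] k' ⊗[k] K) α) f = 0
    rw [Polynomial.aeval_algHom_apply, minpoly.aeval, map_zero]
  let φ : AdjoinRoot g →+* k' ⊗[k] K := AdjoinRoot.lift ι β hβ
  have hsurj : Function.Surjective φ := by
    intro z
    induction z using TensorProduct.induction_on with
    | zero => exact ⟨0, map_zero _⟩
    | add a b ha hb =>
      obtain ⟨x, rfl⟩ := ha; obtain ⟨y, rfl⟩ := hb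
      exact ⟨x + y, map_add _ _ _⟩
    | tmul a b =>
      have ha : a ∈ (IntermediateField.adjoin k ({α} : Set k')).toSubalgebra := by
        rw [hα]; exact IntermediateField.mem_top
      rw [IntermediateField.adjoin_simple_toSubalgebra_of_isAlgebraic hαi.isAlgebraic,
        Algebra.adjoin_singleton_eq_range_aeval] at ha
      obtain ⟨P, rfl⟩ := ha
      refine ⟨AdjoinRoot.mk g (P.map (algebraMap k K) * Polynomial.C b), ?_⟩
      have hcomp : ι.comp (algebraMap k K) = algebraMap k (k' ⊗[k] K) :=
        Algebra.TensorProduct.includeRight.comp_algebraMap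
      simp only [φ, AdjoinRoot.lift_mk, Polynomial.eval₂_mul, Polynomial.eval₂_C,
        Polynomial.eval₂_map, hcomp, ← Polynomial.aeval_def]
      change Polynomial.aeval ((Algebra.TensorProduct.includeLeft : k' →ₐ[k] k' ⊗[k] K) α) P * _ = _
      rw [Polynomial.aeval_algHom_apply]
      simp [ι]
  haveI hnt : Nontrivial (k' ⊗[k] K) := (Algebra.TensorProduct.includeRight_injective (R := k) (A := k') (B := K) (algebraMap k k').injective).nontrivial
  exact MulEquiv.isField (Field.toIsField (AdjoinRoot g))
    (RingEquiv.ofBijective φ ⟨φ.injective, hsurj⟩).symm.toMulEquiv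

theorem isGeometric_of_perfect [PerfectField k] (hK : IsFunctionField k K) : IsGeometric k K := by
  intro k' _ _ hfin
  exact isField_tensor_of_separable hK.2 k'

theorem linearIndepOn_pow {p : ℕ} [Fact p.Prime] [CharP K p] (hg : IsGeometric k K)
    (s : Finset K) (hs : LinearIndepOn k id (s : Set K)) :
    LinearIndepOn k (· ^ p) (s : Set K) := by
  classical
  rw [linearIndepOn_finset_iff]
  intro c hc i hi
  choose r hr using fun j => IsAlgClosed.exists_pow_nat_eq (algebraMap k (AlgebraicClosure k) (c j))
    (Fact.out : p.Prime).pos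
  let k' := IntermediateField.adjoin k (r '' (s : Set K))
  haveI : FiniteDimensional k k' := by
    haveI : Finite (r '' (s : Set K)) := (s.finite_toSet.image r).to_subtype
    exact IntermediateField.finiteDimensional_adjoin fun x _ =>
      (Algebra.IsAlgebraic.isAlgebraic x).isIntegral
  have hfield : IsField (k' ⊗[k] K) := hg k' inferInstance
  letI : Field (k' ⊗[k] K) := hfield.toField
  haveI : CharP k p := (RingHom.charP_iff _ (algebraMap k K).injective p).2 ‹_›
  haveI : CharP (k' ⊗[k] K) p := charP_of_injective_algebraMap (algebraMap k (k' ⊗[k] K)).injective p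
  let d : K → k' := fun j => if hj : j ∈ s then ⟨r j, subset_adjoin _ _ ⟨j, hj, rfl⟩⟩ else 0
  have hd : ∀ j ∈ s, d j ^ p = algebraMap k k' (c j) := fun j hj => Subtype.ext (by
    simp only [d, dif_pos hj]; exact hr j)
  have hz : (∑ j ∈ s, d j ⊗ₜ[k] j) ^ p = 0 := by
    rw [sum_pow_char]
    have : ∀ j ∈ s, (d j ⊗ₜ[k] j) ^ p = (1 : k') ⊗ₜ[k] (c j • j ^ p) := fun j hj => by
      rw [Algebra.TensorProduct.tmul_pow, hd j hj, Algebra.algebraMap_eq_smul_one, smul_tmul]
    rw [Finset.sum_congr rfl this, ← tmul_sum, hc, tmul_zero]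
  have hz0 : ∑ j ∈ s, d j ⊗ₜ[k] j = 0 := eq_zero_of_pow_eq_zero hz
  obtain ⟨ψ, hψ⟩ := ((Module.Basis.span hs).coord ⟨i, hi⟩).exists_extend
  have hψ' : ∀ j ∈ s, ψ j = if j = i then 1 else 0 := by
    intro j hj
    have h1 := LinearMap.congr_fun hψ ((Module.Basis.span hs) ⟨j, hj⟩)
    rw [LinearMap.comp_apply, Submodule.subtype_apply, Module.Basis.coord_apply,
      Module.Basis.repr_self, Finsupp.single_apply] at h1
    rw [Module.Basis.span_apply] at h1
    simpa [Subtype.ext_iff] using h1
  have h2 := congrArg (fun z => TensorProduct.rid k k' (LinearMap.lTensor k' ψ z)) hz0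
  simp only [map_sum, map_zero, LinearMap.lTensor_tmul, TensorProduct.rid_tmul] at h2
  rw [Finset.sum_eq_single i (fun j hj hne => by rw [hψ' j hj, if_neg hne, zero_smul])
    (fun h => absurd hi h), hψ' i hi, if_pos rfl, one_smul] at h2
  have h3 := hd i hi
  rw [h2, zero_pow (Fact.out : p.Prime).ne_zero] at h3
  exact (map_eq_zero _).1 h3.symm

theorem exists_separating (hK : IsFunctionField k K) (hg : IsGeometric k K) :
    ∃ x : K, Transcendental k x ∧ Algebra.IsSeparable (IntermediateField.adjoin k ({x} : Set K)) K := by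
  classical
  obtain ⟨⟨x₀, hx₀, hfin⟩, -⟩ := id hK
  obtain hc | ⟨p, hp, hpk⟩ := CharP.exists' k
  · haveI : CharZero (IntermediateField.adjoin k ({x₀} : Set K)) :=
      charZero_of_injective_algebraMap (algebraMap k _).injective
    exact ⟨x₀, hx₀, inferInstance⟩
  haveI : ExpChar k p := .prime hp.out
  haveI : CharP K p := .of_ringHom_of_ne_zero (algebraMap k K) p hp.out.ne_zero
  haveI : Algebra.EssFiniteType k K := by
    haveI : Algebra.EssFiniteType k (IntermediateField.adjoin k ({x₀} : Set K)) :=
      IntermediateField.essFiniteType_iff.2 (IntermediateField.fg_adjoin_of_finite (Set.finite_singleton x₀))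
    exact Algebra.EssFiniteType.comp k (IntermediateField.adjoin k ({x₀} : Set K)) K
  obtain ⟨s, hs, hsep⟩ := exists_isTranscendenceBasis_and_isSeparable_of_linearIndepOn_pow_of_essFiniteType
    p hp.out (fun s hs => linearIndepOn_pow hg s hs)
  have hb : IsTranscendenceBasis k (fun _ : Unit => x₀) := by
    have hi : AlgebraicIndependent k (fun _ : Unit => x₀) :=
      (algebraicIndependent_singleton_iff Unit.unit).2 hx₀
    rw [hi.isTranscendenceBasis_iff_isAlgebraic, Set.range_const]
    open scoped IntermediateField.algebraAdjoinAdjoin in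
    exact (Algebra.IsAlgebraic.trans (Algebra.adjoin k ({x₀} : Set K))
      (IntermediateField.adjoin k ({x₀} : Set K)) K :)
  have hcard := hb.lift_cardinalMk_eq hs
  obtain ⟨x, rfl⟩ : ∃ x, s = {x} := Finset.card_eq_one.1 (by simpa using hcard.symm)
  refine ⟨x, hs.1.transcendental ⟨x, by simp⟩, ?_⟩
  rwa [Finset.coe_singleton] at hsep

theorem essFiniteType (hK : IsFunctionField k K) : Algebra.EssFiniteType k K := by
  obtain ⟨⟨x₀, hx₀, hfin⟩, -⟩ := id hK
  haveI : Algebra.EssFiniteType k (IntermediateField.adjoin k ({x₀} : Set K)) :=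
    IntermediateField.essFiniteType_iff.2 (IntermediateField.fg_adjoin_of_finite (Set.finite_singleton x₀))
  exact Algebra.EssFiniteType.comp k (IntermediateField.adjoin k ({x₀} : Set K)) K

theorem span_D_eq_top {y : K} [Algebra.IsSeparable (IntermediateField.adjoin k ({y} : Set K)) K] :
    Submodule.span K {KaehlerDifferential.D k K y} = ⊤ := by
  set N := Submodule.span K {KaehlerDifferential.D k K y} with hN
  set L := IntermediateField.adjoin k ({y} : Set K) with hL
  let D : Derivation k K ((KaehlerDifferential k K) ⧸ N) := N.mkQ.compDer (KaehlerDifferential.D k K)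
  have hDL : ∀ z ∈ L, D z = 0 := by
    intro z hz
    induction hz using IntermediateField.adjoin_induction with
    | mem w hw =>
      rw [Set.mem_singleton_iff.1 hw]
      exact (Submodule.Quotient.mk_eq_zero N).2 (Submodule.mem_span_singleton_self _)
    | algebraMap c => exact D.map_algebraMap c
    | add a b _ _ ha hb => rw [map_add, ha, hb, add_zero]
    | inv a _ ha => rw [D.leibniz_inv, ha, smul_zero]
    | mul a b _ _ ha hb => rw [D.leibniz, ha, hb, smul_zero, smul_zero, add_zero]
  let DL : Derivation L K ((KaehlerDifferential k K) ⧸ N) := Derivation.mk'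
    { toFun := fun z => D z
      map_add' := map_add D
      map_smul' := fun l z => by
        rw [RingHom.id_apply, Algebra.smul_def, D.leibniz, show D (algebraMap L K l) = 0 from hDL _ l.2, smul_zero, add_zero]
        exact algebraMap_smul K l (D z) }
    (fun a b => D.leibniz a b)
  haveI : Algebra.FormallyEtale L K := Algebra.FormallyEtale.of_isSeparable L K
  haveI : Algebra.FormallyUnramified L K := inferInstance
  have h0 : ∀ z, D z = 0 := fun z => by
    have h := DL.liftKaehlerDifferential_comp_D z
    rw [Subsingleton.elim (KaehlerDifferential.D L K z) 0, map_zero] at h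
    exact h.symm
  refine top_le_iff.1 ?_
  rw [← KaehlerDifferential.span_range_derivation k K, Submodule.span_le]
  rintro _ ⟨z, rfl⟩
  exact (Submodule.Quotient.mk_eq_zero N).1 (h0 z)

theorem D_ne_zero (hK : IsFunctionField k K) {y : K}
    [Algebra.IsSeparable (IntermediateField.adjoin k ({y} : Set K)) K] :
    KaehlerDifferential.D k K y ≠ 0 := by
  intro h
  have htop := span_D_eq_top (k := k) (y := y)
  rw [h, Submodule.span_zero_singleton] at htop
  haveI : Subsingleton (KaehlerDifferential k K) := subsingleton_of_forall_eq 0 fun w => by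
    have : w ∈ (⊥ : Submodule K (KaehlerDifferential k K)) := by rw [htop]; trivial
    simpa using this
  haveI : Algebra.FormallyUnramified k K := ⟨inferInstance⟩
  haveI := essFiniteType hK
  haveI : Algebra.IsSeparable k K := Algebra.FormallyUnramified.isSeparable k K
  obtain ⟨⟨x₀, hx₀, -⟩, -⟩ := id hK
  exact hx₀ (Algebra.IsAlgebraic.isAlgebraic x₀)

theorem finrank_kaehler (hK : IsFunctionField k K) (hg : IsGeometric k K) :
    Module.finrank K (KaehlerDifferential k K) = 1 := by
  obtain ⟨x, hx, hsep⟩ := exists_separating hK hg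
  refine finrank_eq_one (KaehlerDifferential.D k K x) (D_ne_zero hK) fun w => ?_
  have : w ∈ Submodule.span K {KaehlerDifferential.D k K x} := by
    rw [span_D_eq_top]; trivial
  exact Submodule.mem_span_singleton.1 this

section CharP

variable (p : ℕ) [hp : Fact p.Prime] [CharP K p]

/-- `kK^p`. -/
abbrev kKp (k : Type u) (K : Type v) [Field k] [Field K] [Algebra k K] (p : ℕ) :
    IntermediateField k K :=
  IntermediateField.adjoin k (Set.range fun y : K => y ^ p)

theorem pow_mem_kKp (z : K) : z ^ p ∈ kKp k K p := subset_adjoin _ _ ⟨z, rfl⟩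

theorem D_eq_zero_of_mem {z : K} (hz : z ∈ kKp k K p) : KaehlerDifferential.D k K z = 0 := by
  induction hz using IntermediateField.adjoin_induction with
  | mem w hw =>
    obtain ⟨u, rfl⟩ := hw
    rw [Derivation.leibniz_pow, ← Nat.cast_smul_eq_nsmul K, CharP.cast_eq_zero, zero_smul]
  | algebraMap c => exact Derivation.map_algebraMap _ c
  | add a b _ _ ha hb => rw [map_add, ha, hb, add_zero]
  | inv a _ ha => rw [Derivation.leibniz_inv, ha, smul_zero]
  | mul a b _ _ ha hb => rw [Derivation.leibniz, ha, hb, smul_zero, smul_zero, add_zero]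

theorem finrank_kKp (hK : IsFunctionField k K) (hg : IsGeometric k K) :
    Module.finrank (kKp k K p) K = p := by
  obtain ⟨x, hx, hsep⟩ := exists_separating hK hg
  set L₀ := kKp k K p
  haveI : CharP L₀ p := (RingHom.charP_iff _ (algebraMap L₀ K).injective p).2 ‹_›
  haveI : ExpChar L₀ p := .prime hp.out
  haveI hpi : IsPurelyInseparable L₀ K := (isPurelyInseparable_iff_pow_mem L₀ p).2 fun z =>
    ⟨1, ⟨⟨z ^ p, pow_mem_kKp p z⟩, by simp⟩⟩
  have hxint : IsIntegral L₀ x := Algebra.IsIntegral.isIntegral x
  have htop : IntermediateField.adjoin L₀ ({x} : Set K) = ⊤ := by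
    set E := IntermediateField.adjoin L₀ ({x} : Set K)
    have hle : IntermediateField.adjoin k ({x} : Set K) ≤ E.restrictScalars k := by
      rw [adjoin_simple_le_iff]; exact mem_adjoin_simple_self L₀ x
    letI : Algebra (IntermediateField.adjoin k ({x} : Set K)) E :=
      (IntermediateField.inclusion hle).toRingHom.toAlgebra
    haveI : IsScalarTower (IntermediateField.adjoin k ({x} : Set K)) E K :=
      IsScalarTower.of_algebraMap_eq fun _ => rfl
    haveI : Algebra.IsSeparable E K :=
      Algebra.isSeparable_tower_top_of_isSeparable (IntermediateField.adjoin k ({x} : Set K)) E K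
    haveI : IsPurelyInseparable E K := IsPurelyInseparable.tower_top L₀ E K
    refine top_le_iff.1 fun z _ => ?_
    obtain ⟨e, rfl⟩ := IsPurelyInseparable.surjective_algebraMap_of_isSeparable E K z
    exact e.2
  have hxL₀ : x ∉ L₀ := fun h => D_ne_zero hK (D_eq_zero_of_mem p h)
  let a : L₀ := ⟨x ^ p, pow_mem_kKp p x⟩
  have hirr : Irreducible (Polynomial.X ^ p - Polynomial.C a) :=
    X_pow_sub_C_irreducible_of_prime hp.out fun b hb => hxL₀ (by
      have h2 : (b : K) ^ p = x ^ p := congrArg Subtype.val hb
      have h3 : frobenius K p (b : K) = frobenius K p x := h2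
      rw [← frobenius_inj K p h3]
      exact b.2)
  have hmin : Polynomial.X ^ p - Polynomial.C a = minpoly L₀ x :=
    minpoly.eq_of_irreducible_of_monic hirr (by simp [a, IntermediateField.algebraMap_apply])
      (Polynomial.monic_X_pow_sub_C a hp.out.ne_zero)
  have h := IntermediateField.adjoin.finrank hxint
  rw [htop, IntermediateField.finrank_top', ← hmin, Polynomial.natDegree_X_pow_sub_C] at h
  exact h

theorem adjoin_kKp_eq_top (hK : IsFunctionField k K) (hg : IsGeometric k K) {y : K}
    (hy : y ∉ kKp k K p) : IntermediateField.adjoin (kKp k K p) ({y} : Set K) = ⊤ := by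
  have hr := finrank_kKp p hK hg
  haveI : FiniteDimensional (kKp k K p) K := FiniteDimensional.of_finrank_pos (by rw [hr]; exact hp.out.pos)
  set E := IntermediateField.adjoin (kKp k K p) ({y} : Set K)
  have hdvd : Module.finrank (kKp k K p) E ∣ p :=
    ⟨Module.finrank E K, by rw [Module.finrank_mul_finrank, hr]⟩
  rcases (Nat.dvd_prime hp.out).1 hdvd with h | h
  · rw [IntermediateField.finrank_eq_one_iff] at h
    obtain ⟨w, hw⟩ := IntermediateField.mem_bot.1 (h ▸ mem_adjoin_simple_self (kKp k K p) y :
      y ∈ (⊥ : IntermediateField (kKp k K p) K))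
    exact absurd (hw ▸ w.2) hy
  · exact IntermediateField.eq_of_le_of_finrank_eq le_top
      (by rw [h, IntermediateField.finrank_top', hr])

theorem separable_of_not_mem (hK : IsFunctionField k K) (hg : IsGeometric k K) {y : K}
    (hy : y ∉ kKp k K p) :
    Algebra.IsSeparable (IntermediateField.adjoin k ({y} : Set K)) K := by
  have htr : Transcendental k y := transcendental_of_not_mem hK fun ⟨c, hc⟩ =>
    hy (hc ▸ (kKp k K p).algebraMap_mem c)
  have htop := adjoin_kKp_eq_top p hK hg hy
  have hfin := finite_adjoin hK htr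
  set L := IntermediateField.adjoin k ({y} : Set K) with hL
  haveI : ExpChar K p := .prime hp.out
  haveI : CharP L p := (RingHom.charP_iff _ (algebraMap L K).injective p).2 ‹_›
  haveI : ExpChar L p := .prime hp.out
  have hFe : ∀ e : ℕ, IntermediateField.adjoin k (Set.range (fun z : K => z ^ p ^ e) ∪ {y}) = ⊤ := by
    intro e
    induction e with
    | zero =>
      refine top_le_iff.1 fun z _ => subset_adjoin _ _ (Or.inl ⟨z, ?_⟩)
      simp
    | succ e ih =>
      set G := IntermediateField.adjoin k (Set.range (fun z : K => z ^ p ^ (e + 1)) ∪ {y}) with hG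
      have hyG : y ∈ G := subset_adjoin _ _ (Or.inr rfl)
      have hpow : ∀ z : K, z ^ p ∈ G := by
        intro z
        have hz : z ∈ IntermediateField.adjoin k (Set.range (fun z : K => z ^ p ^ e) ∪ {y}) := by
          rw [ih]; exact IntermediateField.mem_top
        induction hz using IntermediateField.adjoin_induction with
        | mem w hw =>
          rcases hw with ⟨u, rfl⟩ | hw
          · refine subset_adjoin _ _ (Or.inl ⟨u, ?_⟩)
            show u ^ p ^ (e + 1) = (u ^ p ^ e) ^ p
            rw [← pow_mul, pow_succ]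
          · rw [Set.mem_singleton_iff.1 hw]
            exact pow_mem hyG _
        | algebraMap c => rw [← map_pow]; exact G.algebraMap_mem _
        | add a b _ _ ha hb => rw [add_pow_char]; exact add_mem ha hb
        | inv a _ ha => rw [inv_pow]; exact inv_mem ha
        | mul a b _ _ ha hb => rw [mul_pow]; exact mul_mem ha hb
      have hkG : kKp k K p ≤ G := by
        rw [adjoin_le_iff]; rintro _ ⟨z, rfl⟩; exact hpow z
      refine top_le_iff.1 fun z _ => ?_
      have hz : z ∈ IntermediateField.adjoin (kKp k K p) ({y} : Set K) := by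
        rw [htop]; exact IntermediateField.mem_top
      induction hz using IntermediateField.adjoin_induction with
      | mem w hw => rw [Set.mem_singleton_iff.1 hw]; exact hyG
      | algebraMap c => exact hkG c.2
      | add a b _ _ ha hb => exact add_mem (ha trivial) (hb trivial)
      | inv a _ ha => exact inv_mem (ha trivial)
      | mul a b _ _ ha hb => exact mul_mem (ha trivial) (hb trivial)
  set E := separableClosure L K
  haveI : ExpChar E p := expChar_of_injective_algebraMap (algebraMap L E).injective p
  suffices hE : E = ⊤ from (separableClosure.eq_top_iff L K).1 hE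
  let b := Module.finBasis L K
  choose e he using fun i => IsPurelyInseparable.pow_mem E p (b i)
  set M := ∑ i, e i
  have hbM : ∀ i, b i ^ p ^ M ∈ E := fun i => by
    obtain ⟨w, hw⟩ := he i
    rw [show M = e i + (M - e i) from (Nat.add_sub_cancel' (Finset.single_le_sum
      (fun _ _ => Nat.zero_le _) (Finset.mem_univ i))).symm, pow_add, pow_mul, ← hw]
    exact pow_mem w.2 _
  have hall : ∀ z : K, z ^ p ^ M ∈ E := fun z => by
    rw [← b.sum_repr z, sum_pow_char_pow]
    refine sum_mem fun i _ => ?_
    rw [Algebra.smul_def, mul_pow]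
    exact mul_mem (pow_mem (E.algebraMap_mem _) _) (hbM i)
  refine top_le_iff.1 fun z _ => ?_
  have hz : z ∈ IntermediateField.adjoin k (Set.range (fun z : K => z ^ p ^ M) ∪ {y}) := by
    rw [hFe]; exact IntermediateField.mem_top
  have hle : IntermediateField.adjoin k (Set.range (fun z : K => z ^ p ^ M) ∪ {y}) ≤
      E.restrictScalars k := by
    rw [adjoin_le_iff]
    rintro w (⟨u, rfl⟩ | hw)
    · exact hall u
    · rw [Set.mem_singleton_iff.1 hw]
      exact E.algebraMap_mem ⟨y, mem_adjoin_simple_self k y⟩
  exact hle hz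

theorem mem_kKp_iff (hK : IsFunctionField k K) (hg : IsGeometric k K) (x : K) :
    (x ∈ kKp k K p ↔ KaehlerDifferential.D k K x = 0) ∧
    (x ∈ kKp k K p ↔ ¬ Algebra.IsSeparable (IntermediateField.adjoin k ({x} : Set K)) K) := by
  refine ⟨⟨D_eq_zero_of_mem p, fun h => ?_⟩,
    ⟨fun h hs => D_ne_zero hK (D_eq_zero_of_mem p h), fun h => ?_⟩⟩
  · by_contra hx
    haveI := separable_of_not_mem p hK hg hx
    exact D_ne_zero hK h
  · by_contra hx
    exact h (separable_of_not_mem p hK hg hx)

theorem kKp_unique (hK : IsFunctionField k K) (hg : IsGeometric k K) (K₀ : IntermediateField k K) :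
    (IsPurelyInseparable K₀ K ∧ Module.finrank K₀ K = p) ↔ K₀ = kKp k K p := by
  constructor
  · rintro ⟨hpi, hr⟩
    haveI : CharP K₀ p := (RingHom.charP_iff _ (algebraMap K₀ K).injective p).2 ‹_›
    haveI : ExpChar K₀ p := .prime hp.out
    haveI : FiniteDimensional K₀ K := FiniteDimensional.of_finrank_pos (by rw [hr]; exact hp.out.pos)
    have hle : kKp k K p ≤ K₀ := by
      rw [adjoin_le_iff]
      rintro _ ⟨z, rfl⟩
      obtain ⟨n, w, hw⟩ := IsPurelyInseparable.minpoly_eq_X_pow_sub_C K₀ p z
      have hdeg : (minpoly K₀ z).natDegree = p ^ n := by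
        rw [hw, Polynomial.natDegree_X_pow_sub_C]
      have h1 : (minpoly K₀ z).natDegree ∣ p := by
        rw [← IntermediateField.adjoin.finrank (IsIntegral.of_finite K₀ z)]
        exact ⟨Module.finrank (IntermediateField.adjoin K₀ ({z} : Set K)) K,
          by rw [Module.finrank_mul_finrank, hr]⟩
      have hn : n ≤ 1 := by
        rw [hdeg] at h1
        conv_rhs at h1 => rw [← pow_one p]
        exact (Nat.pow_dvd_pow_iff_le_right hp.out.one_lt).1 h1
      have hzn : z ^ p ^ n ∈ K₀ := by
        have h2 := minpoly.aeval K₀ z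
        rw [hw, map_sub, Polynomial.aeval_X_pow, Polynomial.aeval_C, sub_eq_zero] at h2
        rw [h2]; exact w.2
      obtain rfl | rfl : n = 0 ∨ n = 1 := by omega
      · exact pow_mem (by simpa using hzn) p
      · simpa using hzn
    have hr' := finrank_kKp p hK hg
    haveI : FiniteDimensional (kKp k K p) K := FiniteDimensional.of_finrank_pos (by rw [hr']; exact hp.out.pos)
    exact (IntermediateField.eq_of_le_of_finrank_eq' hle (by rw [hr, hr'])).symm
  · rintro rfl
    haveI : CharP (kKp k K p) p :=
      (RingHom.charP_iff _ (algebraMap (kKp k K p) K).injective p).2 ‹_›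
    haveI : ExpChar (kKp k K p) p := .prime hp.out
    exact ⟨(isPurelyInseparable_iff_pow_mem (kKp k K p) p).2 fun z =>
      ⟨1, ⟨⟨z ^ p, pow_mem_kKp p z⟩, by simp⟩⟩, finrank_kKp p hK hg⟩

end CharP

end Groth.Agent.FunFld
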