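import Groth.Agent.FunFld.Extra
import Groth.Prelude.Def_W4bk4goldsch45
import Mathlib.RingTheory.MvPolynomial.Homogeneous
import Mathlib.RingTheory.Polynomial.GaussLemma
import Mathlib.FieldTheory.RatFunc.Basic
import Mathlib.RingTheory.Polynomial.UniqueFactorization
import Mathlib.RingTheory.MvPolynomial.Basic
import Mathlib.Algebra.MvPolynomial.Funext

/-! Plane models: the degree of `(1 : x : y)` and the genus bound. -/

namespace Groth.Agent.FunFld

open _root_.FunFld WithZero IsLocalRing Finset
open Polynomial (aeval C X)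

section Poly

variable {k : Type*} [Field k]

/-- `X₀ ↦ X + c Y`, `X₁ ↦ Y`. -/
noncomputable def shearHom (c : k) : MvPolynomial (Fin 2) k →ₐ[k] Polynomial (Polynomial k) :=
  MvPolynomial.aeval ![Polynomial.C Polynomial.X + Polynomial.C (Polynomial.C c) * Polynomial.X, Polynomial.X]

/-- The inverse of `shearHom`. -/
noncomputable def shearInv (c : k) : Polynomial (Polynomial k) →+* MvPolynomial (Fin 2) k :=
  Polynomial.eval₂RingHom
    ((Polynomial.aeval (MvPolynomial.X 0 - MvPolynomial.C c * MvPolynomial.X 1 : MvPolynomial (Fin 2) k)).toRingHom)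
    (MvPolynomial.X 1)

/-- The shear as a ring isomorphism. -/
noncomputable def shearEquiv (c : k) : MvPolynomial (Fin 2) k ≃+* Polynomial (Polynomial k) :=
  RingEquiv.ofRingHom (shearHom c).toRingHom (shearInv c)
    (Polynomial.ringHom_ext' (Polynomial.ringHom_ext (fun a => by simp [shearHom, shearInv, Polynomial.algebraMap_apply])
      (by simp [shearHom, shearInv, Polynomial.algebraMap_apply]))
      (by simp [shearHom, shearInv]))
    (MvPolynomial.ringHom_ext (fun a => by simp [shearHom, shearInv, Polynomial.algebraMap_apply])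
      (fun i => by fin_cases i <;> simp [shearHom, shearInv, Polynomial.algebraMap_apply]))

theorem shearEquiv_apply (c : k) (f : MvPolynomial (Fin 2) k) : shearEquiv c f = shearHom c f := rfl

theorem sum_fin_two (m : Fin 2 →₀ ℕ) : m.degree = m 0 + m 1 := by
  rw [Finsupp.degree_eq_sum, Fin.sum_univ_two]

theorem shear_natDegree (c : k) (f : MvPolynomial (Fin 2) k) :
    (shearHom c f).natDegree ≤ f.totalDegree ∧
      (shearHom c f).coeff f.totalDegree =
        Polynomial.C (MvPolynomial.eval ![c, 1] (f.homogeneousComponent f.totalDegree)) := by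
  classical
  set d := f.totalDegree
  have hmon : ∀ m ∈ f.support, (shearHom c (MvPolynomial.monomial m (f.coeff m))).natDegree ≤ d ∧
      (shearHom c (MvPolynomial.monomial m (f.coeff m))).coeff d =
        Polynomial.C (if m.degree = d then f.coeff m * c ^ m 0 else 0) := by
    intro m hm
    have hmd : m 0 + m 1 ≤ d := by
      have h := MvPolynomial.le_totalDegree hm
      rwa [Finsupp.sum_fintype _ _ (fun _ => rfl), Fin.sum_univ_two] at h
    have he : shearHom c (MvPolynomial.monomial m (f.coeff m)) = Polynomial.C (Polynomial.C (f.coeff m)) *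
        ((Polynomial.C Polynomial.X + Polynomial.C (Polynomial.C c) * Polynomial.X) ^ m 0 * Polynomial.X ^ m 1) := by
      rw [shearHom, MvPolynomial.aeval_monomial, Finsupp.prod_fintype _ _ (fun _ => pow_zero _), Fin.prod_univ_two]
      rfl
    have hlin : (Polynomial.C Polynomial.X + Polynomial.C (Polynomial.C c) * Polynomial.X :
        Polynomial (Polynomial k)).natDegree ≤ 1 := by compute_degree
    have h1 := Polynomial.natDegree_pow_le_of_le (m 0) hlin
    have h2 : ((Polynomial.C Polynomial.X + Polynomial.C (Polynomial.C c) * Polynomial.X :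
        Polynomial (Polynomial k)) ^ m 0 * Polynomial.X ^ m 1).natDegree ≤ m 0 + m 1 :=
      Polynomial.natDegree_mul_le.trans (add_le_add (by simpa using h1) (Polynomial.natDegree_X_pow_le _))
    refine ⟨by rw [he]; exact (Polynomial.natDegree_C_mul_le _ _).trans (h2.trans hmd), ?_⟩
    rw [he, Polynomial.coeff_C_mul, sum_fin_two]
    split_ifs with h
    · rw [← h, Polynomial.coeff_mul_X_pow]
      have h3 := Polynomial.coeff_pow_of_natDegree_le (m := m 0) hlin
      rw [mul_one] at h3
      rw [h3, map_mul, map_pow]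
      simp [Polynomial.coeff_C]
    · rw [Polynomial.coeff_eq_zero_of_natDegree_lt (lt_of_le_of_lt h2 (by omega)), mul_zero, map_zero]
  have hf : shearHom c f = ∑ m ∈ f.support, shearHom c (MvPolynomial.monomial m (f.coeff m)) := by
    conv_lhs => rw [f.as_sum]
    rw [map_sum]
  refine ⟨hf ▸ Polynomial.natDegree_sum_le_of_forall_le _ _ fun m hm => (hmon m hm).1, ?_⟩
  rw [hf, Polynomial.finsetSum_coeff, Finset.sum_congr rfl fun m hm => (hmon m hm).2, ← map_sum]
  congr 1
  rw [MvPolynomial.homogeneousComponent_apply, map_sum, Finset.sum_filter]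
  refine Finset.sum_congr rfl fun m _ => ?_
  split_ifs with h
  · rw [MvPolynomial.eval_monomial, Finsupp.prod_fintype _ _ (fun _ => pow_zero _), Fin.prod_univ_two]
    simp
  · rfl

theorem exists_top_ne_zero [Infinite k] {f : MvPolynomial (Fin 2) k} (hf : f ≠ 0) :
    ∃ c : k, MvPolynomial.eval ![c, 1] (f.homogeneousComponent f.totalDegree) ≠ 0 := by
  classical
  set h := f.homogeneousComponent f.totalDegree with hh
  have hhom : h.IsHomogeneous f.totalDegree := MvPolynomial.homogeneousComponent_isHomogeneous _ _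
  obtain ⟨m, hm, hmd⟩ := Finset.exists_max_image f.support (fun m => m.degree) (MvPolynomial.support_nonempty.2 hf)
  have hdeg : m.degree = f.totalDegree := by
    refine le_antisymm ?_ (Finset.sup_le fun b hb => ?_)
    · have := MvPolynomial.le_totalDegree hm
      rwa [Finsupp.degree_apply]
    · exact (Finsupp.degree_apply b).ge.trans (hmd b hb) |>.trans_eq rfl
  let q : Polynomial k := MvPolynomial.aeval ![Polynomial.X, 1] h
  have hq : q.coeff (m 0) = f.coeff m := by
    have : q = ∑ b ∈ h.support, Polynomial.monomial (b 0) (h.coeff b) := by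
      simp only [q]
      conv_lhs => rw [h.as_sum, map_sum]
      refine Finset.sum_congr rfl fun b _ => ?_
      rw [MvPolynomial.aeval_monomial, Finsupp.prod_fintype _ _ (fun _ => pow_zero _), Fin.prod_univ_two]
      simp [Polynomial.C_mul_X_pow_eq_monomial]
    rw [this, Polynomial.finsetSum_coeff, Finset.sum_eq_single m]
    · rw [Polynomial.coeff_monomial, if_pos rfl, hh, MvPolynomial.coeff_homogeneousComponent, if_pos hdeg]
    · intro b hb hne
      rw [Polynomial.coeff_monomial, if_neg]
      intro e
      have hb' : b.degree = f.totalDegree := by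
        by_contra hbd
        exact MvPolynomial.mem_support_iff.1 hb (hhom.coeff_eq_zero hbd)
      rw [sum_fin_two] at hb' hdeg
      exact hne (Finsupp.ext fun i => by fin_cases i <;> simp <;> omega)
    · intro hm'
      rw [Polynomial.coeff_monomial, if_pos rfl]
      exact MvPolynomial.notMem_support_iff.1 hm'
  have hq0 : q ≠ 0 := fun e => MvPolynomial.mem_support_iff.1 hm (by rw [← hq, e, Polynomial.coeff_zero])
  obtain ⟨c, hc⟩ : ∃ c : k, q.eval c ≠ 0 := by
    by_contra h'
    push Not at h'
    exact hq0 (Polynomial.funext fun r => by simp [h' r])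
  refine ⟨c, fun h0 => hc ?_⟩
  rw [← h0, ← Polynomial.coe_evalRingHom]
  show (Polynomial.evalRingHom c).comp (MvPolynomial.aeval ![Polynomial.X, 1]).toRingHom h = _
  rw [MvPolynomial.eval]
  refine congrFun (congrArg DFunLike.coe (MvPolynomial.ringHom_ext (fun a => by simp) fun i => by fin_cases i <;> simp)) h

end Poly

variable {k K : Type*} [Field k] [IsAlgClosed k] [Field K] [Algebra k K] (hK : IsFunctionField k K)
  {x y : K} (hxy : IntermediateField.adjoin k ({x, y} : Set K) = ⊤)
include hK

theorem mapDiv_apply {ι : Type*} [Fintype ι] [Nonempty ι] (φ : ι → K) (P : Place k K) :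
    mapDiv k φ P = -Finset.univ.inf' Finset.univ_nonempty (fun i => P.ord (φ i)) := by
  classical
  have hfin : (Function.support fun P : Place k K =>
      -Finset.univ.inf' Finset.univ_nonempty (fun i => P.ord (φ i))).Finite := by
    refine (Set.finite_iUnion fun i => finite_support hK (φ i)).subset fun Q hQ => ?_
    obtain ⟨i, -, hi⟩ := Finset.exists_mem_eq_inf' Finset.univ_nonempty (fun i => Q.ord (φ i))
    refine Set.mem_iUnion.2 ⟨i, fun e => hQ ?_⟩
    simp only at e ⊢
    rw [hi, e, neg_zero]
  rw [mapDiv, dif_pos hfin]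
  rfl

theorem val_le_exp_mapDiv {ι : Type*} [Fintype ι] [Nonempty ι] (φ : ι → K) (P : Place k K) (i : ι) :
    P.1 (φ i) ≤ exp (mapDiv k φ P) := by
  rcases eq_or_ne (φ i) 0 with h | h
  · simp [h]
  rw [le_exp_iff P h, mapDiv_apply hK, neg_neg]
  exact Finset.inf'_le _ (Finset.mem_univ i)

theorem plane_mapDiv_nonneg (P : Place k K) : 0 ≤ mapDiv k ![(1 : K), x, y] P := by
  have h := val_le_exp_mapDiv hK ![(1 : K), x, y] P 0
  rw [show ![(1 : K), x, y] 0 = 1 from rfl, map_one, ← exp_zero, exp_le_exp] at h
  exact h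

include hxy

theorem plane_data (f : MvPolynomial (Fin 2) k) (hf : Irreducible f) (hfxy : MvPolynomial.aeval ![x, y] f = 0) :
    ∃ c : k, ∃ x' : K, MvPolynomial.eval ![c, 1] (f.homogeneousComponent f.totalDegree) ≠ 0 ∧
      x' = x - algebraMap k K c * y ∧ Transcendental k x' ∧
      mapDiv k ![(1 : K), x, y] = poles k x' ∧
      Module.finrank (IntermediateField.adjoin k ({x'} : Set K)) K = f.totalDegree ∧
      LinearIndependent (IntermediateField.adjoin k ({x'} : Set K)) (fun j : Fin f.totalDegree => y ^ (j : ℕ)) := by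
  classical
  obtain ⟨c, hc⟩ := exists_top_ne_zero hf.ne_zero
  set d := f.totalDegree
  set a := MvPolynomial.eval ![c, 1] (f.homogeneousComponent d) with ha
  set x' := x - algebraMap k K c * y
  have hx : x = x' + algebraMap k K c * y := (sub_add_cancel x _).symm
  -- poles
  have hbound : ∀ P : Place k K, P.1 y ≤ max 1 (P.1 x') := by
    intro P
    by_contra hlt
    rw [not_le, max_lt_iff] at hlt
    have hy0 : y ≠ 0 := fun e => by rw [e, map_zero] at hlt; exact not_lt_zero hlt.1
    have hyp : 0 < P.1 y := zero_lt_iff.2 fun e => hy0 ((map_eq_zero P.1).1 e)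
    have hu : P.1 y⁻¹ < 1 := by rw [map_inv₀]; exact inv_lt_one_of_one_lt₀ hlt.1
    have hv : P.1 (x * y⁻¹ - algebraMap k K c) < 1 := by
      rw [hx, add_mul, mul_inv_cancel_right₀ hy0, add_sub_cancel_right, map_mul, map_inv₀,
        ← div_eq_mul_inv, div_lt_one₀ hyp]
      exact hlt.2
    have hv1 : P.1 (x * y⁻¹) ≤ 1 := by
      rw [← sub_add_cancel (x * y⁻¹) (algebraMap k K c)]
      exact (P.1.map_add _ _).trans (max_le hv.le (P.2.1 c))
    have hterm : ∀ m ∈ f.support, P.1 (f.coeff m • ((x * y⁻¹) ^ m 0 * y⁻¹ ^ (d - m.degree)) -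
        algebraMap k K (if m.degree = d then f.coeff m * c ^ m 0 else 0)) < 1 := by
      intro m hm
      have hmd : m.degree ≤ d := by
        rw [Finsupp.degree_apply]; exact MvPolynomial.le_totalDegree hm
      split_ifs with h
      · rw [h, Nat.sub_self, pow_zero, mul_one, Algebra.smul_def, map_mul, map_pow, ← mul_sub, map_mul,
          ← geom_sum₂_mul, map_mul]
        refine lt_of_le_of_lt (mul_le_mul' (P.2.1 _) (mul_le_mul' (Valuation.map_sum_le (g := 1) _ fun l _ => ?_) le_rfl)) ?_
        · rw [map_mul, map_pow, map_pow]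
          exact mul_le_one' (pow_le_one' hv1 _) (pow_le_one' (P.2.1 c) _)
        · rw [one_mul, one_mul]; exact hv
      · rw [(algebraMap k K).map_zero, sub_zero, Algebra.smul_def, map_mul, map_mul, map_pow, map_pow]
        refine lt_of_le_of_lt (mul_le_mul' (P.2.1 _) (mul_le_mul' (pow_le_one' hv1 _) le_rfl)) ?_
        rw [one_mul, one_mul]
        exact pow_lt_one₀ zero_le hu (by omega)
    have hsum0 : ∑ m ∈ f.support, f.coeff m • ((x * y⁻¹) ^ m 0 * y⁻¹ ^ (d - m.degree)) = 0 := by
      have h := congrArg (fun z => z * y⁻¹ ^ d) hfxy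
      simp only [zero_mul] at h
      rw [← h]
      conv_rhs => rw [f.as_sum, map_sum, Finset.sum_mul]
      refine Finset.sum_congr rfl fun m hm => ?_
      rw [MvPolynomial.aeval_monomial, Finsupp.prod_fintype _ _ (fun _ => pow_zero _), Fin.prod_univ_two]
      simp only [Matrix.cons_val_zero, Matrix.cons_val_one, Algebra.smul_def]
      have hmd : m.degree ≤ d := by rw [Finsupp.degree_apply]; exact MvPolynomial.le_totalDegree hm
      rw [mul_pow, sum_fin_two]
      rw [sum_fin_two] at hmd
      have : y⁻¹ ^ d = y⁻¹ ^ m 0 * y⁻¹ ^ (d - (m 0 + m 1)) * y⁻¹ ^ m 1 := by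
        rw [← pow_add, ← pow_add]; congr 1; omega
      rw [this]
      have h1 : y ^ m 1 * y⁻¹ ^ m 1 = 1 := by rw [← mul_pow, mul_inv_cancel₀ hy0, one_pow]
      linear_combination -(algebraMap k K (f.coeff m) * x ^ m 0 * y⁻¹ ^ m 0 * y⁻¹ ^ (d - (m 0 + m 1))) * h1
    have hsum := Valuation.map_sum_lt P.1 one_ne_zero hterm
    rw [Finset.sum_sub_distrib, hsum0, zero_sub, Valuation.map_neg, ← map_sum] at hsum
    have ha' : ∑ m ∈ f.support, (if m.degree = d then f.coeff m * c ^ m 0 else 0) = a := by
      rw [ha, MvPolynomial.homogeneousComponent_apply, map_sum, Finset.sum_filter]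
      refine Finset.sum_congr rfl fun m _ => ?_
      split_ifs with h
      · rw [MvPolynomial.eval_monomial, Finsupp.prod_fintype _ _ (fun _ => pow_zero _), Fin.prod_univ_two]
        simp
      · rfl
    rw [ha', val_algebraMap P hc] at hsum
    exact lt_irrefl _ hsum
  have hmax : ∀ P : Place k K, (∀ i, P.1 (![(1 : K), x, y] i) ≤ max 1 (P.1 x')) := by
    intro P i
    fin_cases i
    · simp
    · show P.1 x ≤ _
      rw [hx]
      refine (P.1.map_add _ _).trans (max_le (le_max_right _ _) ?_)
      rw [map_mul]
      exact (mul_le_mul' (P.2.1 c) (hbound P)).trans_eq (one_mul _)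
    · exact hbound P
  have hE : mapDiv k ![(1 : K), x, y] = poles k x' := by
    refine Finsupp.ext fun P => le_antisymm ?_ ?_
    · rw [mapDiv_apply hK, neg_le]
      refine Finset.le_inf' _ _ fun i _ => ?_
      rw [poles_apply hK]
      rcases eq_or_ne (![(1 : K), x, y] i) 0 with h | h
      · rw [h, ord_zero]; omega
      have h1 := hmax P i
      rcases eq_or_ne x' 0 with h' | h'
      · rw [h', map_zero, max_eq_left zero_le] at h1
        have := (ord_nonneg_iff P h).2 h1
        omega
      rw [val_eq_exp P h', val_eq_exp P h, ← exp_zero] at h1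
      rcases le_max_iff.1 h1 with h2 | h2 <;> rw [exp_le_exp] at h2 <;> omega
    · have h0 := plane_mapDiv_nonneg hK (x := x) (y := y) P
      rw [poles_apply hK]
      refine max_le ?_ h0
      rcases eq_or_ne x' 0 with h' | h'
      · rw [h', ord_zero]; simpa using h0
      have h1 : P.1 x' ≤ exp (mapDiv k ![(1 : K), x, y] P) := by
        refine (P.1.map_sub _ _).trans (max_le (val_le_exp_mapDiv hK ![(1 : K), x, y] P 1) ?_)
        rw [map_mul]
        exact (mul_le_mul' (P.2.1 c) (val_le_exp_mapDiv hK ![(1 : K), x, y] P 2)).trans_eq (one_mul _)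
      rw [le_exp_iff P h'] at h1
      omega
  have htr : Transcendental k x' := by
    refine transcendental_of_not_mem hK ?_
    rintro ⟨b, hb⟩
    obtain ⟨z, hz, -⟩ := hK.1
    have hy : y ∈ Set.range (algebraMap k K) := val_le_one_of_all hK fun P =>
      (hbound P).trans (max_le le_rfl (hb ▸ P.2.1 b))
    obtain ⟨b', hb'⟩ := hy
    have hxk : x = algebraMap k K (b + c * b') := by rw [hx, ← hb, ← hb', map_add, map_mul]
    have htop : (⊤ : IntermediateField k K) ≤ ⊥ := by
      rw [← hxy, IntermediateField.adjoin_le_iff]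
      rintro w (rfl | rfl)
      · exact hxk ▸ IntermediateField.algebraMap_mem _ _
      · exact hb' ▸ IntermediateField.algebraMap_mem _ _
    obtain ⟨w, hw⟩ := IntermediateField.mem_bot.1 (htop (show z ∈ (⊤ : IntermediateField k K) from IntermediateField.mem_top))
    exact absurd (show IsAlgebraic k z by rw [← hw]; exact isAlgebraic_algebraMap w) hz
  set L := IntermediateField.adjoin k ({x'} : Set K)
  haveI := finite_adjoin hK htr
  -- the minimal polynomial
  let G₀ := shearHom c f
  have hG := shear_natDegree c f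
  have hunit : IsUnit (Polynomial.C (Polynomial.C a⁻¹) : Polynomial (Polynomial k)) :=
    Polynomial.isUnit_C.2 (Polynomial.isUnit_C.2 (isUnit_iff_ne_zero.2 (inv_ne_zero hc)))
  set G := Polynomial.C (Polynomial.C a⁻¹) * G₀
  have hGd : G.natDegree = d ∧ G.Monic := by
    have h1 : G.coeff d = 1 := by
      rw [Polynomial.coeff_C_mul, hG.2, ← map_mul, inv_mul_cancel₀ hc, map_one]
    have h2 : G.natDegree ≤ d := (Polynomial.natDegree_C_mul_le _ _).trans hG.1
    exact ⟨le_antisymm h2 (Polynomial.le_natDegree_of_ne_zero (h1 ▸ one_ne_zero)),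
      Polynomial.monic_of_natDegree_le_of_coeff_eq_one d h2 h1⟩
  have hirr : Irreducible G := by
    rw [irreducible_isUnit_mul hunit, show G₀ = shearEquiv c f from rfl]
    exact (MulEquiv.irreducible_iff (shearEquiv c)).2 hf
  let xL : L := ⟨x', IntermediateField.mem_adjoin_simple_self k x'⟩
  let ι : Polynomial k →ₐ[k] L := Polynomial.aeval xL
  have hιinj : Function.Injective ι := fun p q h => sub_eq_zero.1 (by_contra fun hne => htr ⟨p - q, hne, by
    have := congrArg L.val h
    simp only [ι] at this
    rw [← Polynomial.aeval_algHom_apply, ← Polynomial.aeval_algHom_apply] at this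
    rw [map_sub, sub_eq_zero]
    exact this⟩)
  have hGy : Polynomial.aeval y (G.map ι.toRingHom) = 0 := by
    have hcomp : ∀ g : MvPolynomial (Fin 2) k,
        Polynomial.aeval y ((shearHom c g).map ι.toRingHom) = MvPolynomial.aeval ![x, y] g := by
      intro g
      have : ((Polynomial.aeval (R := L) y).toRingHom.comp (Polynomial.mapRingHom ι.toRingHom)).comp
          (shearHom c).toRingHom = (MvPolynomial.aeval ![x, y]).toRingHom := by
        refine MvPolynomial.ringHom_ext (fun b => ?_) fun i => ?_
        · simp [shearHom, Polynomial.algebraMap_apply, ι]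
        · fin_cases i
          · simp [shearHom, ι, xL, hx]
          · simp [shearHom]
      exact congrFun (congrArg DFunLike.coe this) g
    rw [Polynomial.map_mul, map_mul, hcomp, hfxy, mul_zero]
  have hGirr : Irreducible (G.map ι.toRingHom) := by
    have h1 := (Polynomial.IsPrimitive.irreducible_iff_irreducible_map_fraction_map (K := RatFunc k)
      hGd.2.isPrimitive).1 hirr
    let J : RatFunc k →+* L := IsFractionRing.lift (A := Polynomial k) (g := ι.toRingHom) hιinj
    have hJ : J.comp (algebraMap (Polynomial k) (RatFunc k)) = ι.toRingHom :=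
      RingHom.ext fun p => IsFractionRing.lift_algebraMap hιinj p
    have hJb : Function.Bijective J := ⟨J.injective, fun z => by
      obtain ⟨r, s, hrs⟩ := (IntermediateField.mem_adjoin_simple_iff k (z : K)).1 z.2
      refine ⟨algebraMap _ (RatFunc k) r / algebraMap _ (RatFunc k) s, Subtype.ext ?_⟩
      rw [map_div₀, ← RingHom.comp_apply, ← RingHom.comp_apply, hJ]
      rw [hrs]
      show L.val (ι r) / L.val (ι s) = _
      simp only [ι]
      rw [← Polynomial.aeval_algHom_apply, ← Polynomial.aeval_algHom_apply]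
      rfl⟩
    rw [← hJ, ← Polynomial.map_map]
    exact (MulEquiv.irreducible_iff (Polynomial.mapEquiv (RingEquiv.ofBijective J hJb))).2 h1
  have hdeg : (G.map ι.toRingHom).natDegree = d := by
    rw [Polynomial.natDegree_map_eq_of_injective hιinj, hGd.1]
  have hmin : minpoly L y = G.map ι.toRingHom :=
    (minpoly.eq_of_irreducible_of_monic hGirr hGy (hGd.2.map _)).symm
  have hint : IsIntegral L y := IsIntegral.of_finite L y
  have htop : IntermediateField.adjoin L ({y} : Set K) = ⊤ := by
    apply IntermediateField.restrictScalars_injective k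
    rw [IntermediateField.restrictScalars_top, eq_top_iff, ← hxy, IntermediateField.adjoin_le_iff]
    have hy' : y ∈ IntermediateField.adjoin L ({y} : Set K) := IntermediateField.mem_adjoin_simple_self L y
    rintro w (rfl | rfl)
    · rw [hx]
      exact add_mem (IntermediateField.algebraMap_mem (IntermediateField.adjoin L ({y} : Set K)) xL)
        (mul_mem (IntermediateField.algebraMap_mem (IntermediateField.adjoin L ({y} : Set K)) (algebraMap k L c)) hy')
    · exact hy'
  refine ⟨c, x', hc, rfl, htr, hE, ?_, ?_⟩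
  · have := IntermediateField.adjoin.finrank hint
    rwa [htop, IntermediateField.finrank_top', hmin, hdeg] at this
  · have h := linearIndependent_pow (K := L) y
    rw [hmin] at h
    exact h.comp (fun j : Fin d => ⟨(j : ℕ), by rw [hdeg]; exact j.2⟩) (fun a b e => Fin.ext (by simpa using congrArg Fin.val e))

theorem deg_plane (f : MvPolynomial (Fin 2) k) (hf : Irreducible f) (hfxy : MvPolynomial.aeval ![x, y] f = 0) :
    (mapDiv k ![(1 : K), x, y]).deg = f.totalDegree := by
  obtain ⟨c, x', -, -, htr, hE, hfr, -⟩ := plane_data hK hxy f hf hfxy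
  rw [hE, deg_poles hK htr, hfr]

theorem exists_relation : ∃ f : MvPolynomial (Fin 2) k, Irreducible f ∧ MvPolynomial.aeval ![x, y] f = 0 := by
  classical
  set I := RingHom.ker (MvPolynomial.aeval (R := k) ![x, y])
  haveI : I.IsPrime := RingHom.ker_isPrime _
  suffices hI : I ≠ ⊥ by
    obtain ⟨f, hf, hfp⟩ := Ideal.IsPrime.exists_mem_prime_of_ne_bot ‹I.IsPrime› hI
    exact ⟨f, hfp.irreducible, hf⟩
  intro hbot
  have hinj : Function.Injective (MvPolynomial.aeval (R := k) ![x, y]) := (RingHom.injective_iff_ker_eq_bot _).2 hbot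
  have hx : Transcendental k x := by
    refine transcendental_of_not_mem hK ?_
    rintro ⟨b, hb⟩
    have : (MvPolynomial.X 0 : MvPolynomial (Fin 2) k) = MvPolynomial.C b := hinj (by simp [hb])
    have := congrArg (MvPolynomial.coeff (Finsupp.single 0 1)) this
    simp [MvPolynomial.coeff_C, MvPolynomial.coeff_X, eq_comm, Finsupp.single_eq_zero] at this
  haveI := finite_adjoin hK hx
  set m := Module.finrank (IntermediateField.adjoin k ({x} : Set K)) K
  have hli : LinearIndependent (IntermediateField.adjoin k ({x} : Set K)) fun j : Fin (m + 1) => y ^ (j : ℕ) := by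
    refine linearIndependent_adjoin hx _ fun c g h => ?_
    let F : MvPolynomial (Fin 2) k := (∑ j : Fin (m + 1), MvPolynomial.C (c j) * MvPolynomial.X 1 ^ (j : ℕ)) +
      MvPolynomial.X 0 * ∑ j : Fin (m + 1), Polynomial.aeval (MvPolynomial.X 0) (g j) * MvPolynomial.X 1 ^ (j : ℕ)
    have hF : F = 0 := hinj (by
      rw [map_zero, ← h]
      simp only [F, map_add, map_mul, map_sum, map_pow, MvPolynomial.aeval_X, MvPolynomial.aeval_C,
        ← Polynomial.aeval_algHom_apply, Matrix.cons_val_zero, Matrix.cons_val_one, Algebra.smul_def])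
    have := congrArg (MvPolynomial.aeval ![(0 : Polynomial k), Polynomial.X]) hF
    simp only [F, map_add, map_mul, map_sum, map_pow, MvPolynomial.aeval_X, MvPolynomial.aeval_C, map_zero,
      Matrix.cons_val_zero, Matrix.cons_val_one, zero_mul, add_zero, Polynomial.algebraMap_apply,
      Algebra.algebraMap_self, RingHom.id_apply] at this
    funext j
    have := congrArg (fun p => Polynomial.coeff p (j : ℕ)) this
    simpa [Polynomial.finsetSum_coeff, Polynomial.coeff_C_mul, Polynomial.coeff_X_pow, Fin.val_inj] using this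
  have := hli.fintype_card_le_finrank
  simp at this
  omega

theorem two_genus_le : 2 * (genus k K : ℤ) ≤
    ((mapDiv k ![(1 : K), x, y]).deg - 1) * ((mapDiv k ![(1 : K), x, y]).deg - 2) := by
  classical
  obtain ⟨f, hf, hfxy⟩ := exists_relation hK hxy
  obtain ⟨c, x', -, hx', htr, hE, hfr, hli⟩ := plane_data hK hxy f hf hfxy
  rw [deg_plane hK hxy f hf hfxy]
  set d := f.totalDegree
  haveI := finite_adjoin hK htr
  have hd : 0 < d := hfr ▸ Module.finrank_pos
  set E := mapDiv k ![(1 : K), x, y] with hEdef
  have hdegE : E.deg = d := deg_plane hK hxy f hf hfxy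
  set n := d + 2 * genus k K
  let xL : IntermediateField.adjoin k ({x'} : Set K) := ⟨x', IntermediateField.mem_adjoin_simple_self k x'⟩
  let ι := Σ j : Fin d, Fin (n + 1 - (j : ℕ))
  let z : ι → K := fun a => (xL ^ (a.2 : ℕ)) • y ^ (a.1 : ℕ)
  have hz : LinearIndependent k z := by
    have hxi : LinearIndependent k fun i : Fin (n + 1) => xL ^ (i : ℕ) := by
      rw [Fintype.linearIndependent_iff]
      intro b hb i
      by_contra hne
      refine htr ⟨∑ l : Fin (n + 1), Polynomial.monomial (l : ℕ) (b l), fun hp => hne ?_, ?_⟩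
      · have := congrArg (fun p => Polynomial.coeff p (i : ℕ)) hp
        simpa [Polynomial.finsetSum_coeff, Polynomial.coeff_monomial, Fin.val_inj] using this
      · have := congrArg (fun w : IntermediateField.adjoin k ({x'} : Set K) => (w : K)) hb
        simp only [AddSubmonoidClass.coe_finsetSum, IntermediateField.coe_smul, SubmonoidClass.coe_pow,
          ZeroMemClass.coe_zero] at this
        simpa [Polynomial.aeval_monomial, Algebra.smul_def, xL] using this
    have h := linearIndependent_smul hxi hli
    refine h.comp (fun a : ι => ((⟨(a.2 : ℕ), by have := a.2.2; omega⟩ : Fin (n + 1)), a.1)) ?_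
    rintro ⟨j, i⟩ ⟨j', i'⟩ e
    simp only [Prod.mk.injEq, Fin.mk.injEq] at e
    obtain ⟨e1, rfl⟩ := e
    exact congrArg (Sigma.mk j) (Fin.ext e1)
  have hmem : ∀ a, z a ∈ L (n • E) := fun a P => by
    have hx1 : P.1 x' ≤ exp (E P) := by
      rw [hx']
      refine (P.1.map_sub _ _).trans (max_le (val_le_exp_mapDiv hK ![(1 : K), x, y] P 1) ?_)
      rw [map_mul]
      exact (mul_le_mul' (P.2.1 c) (val_le_exp_mapDiv hK ![(1 : K), x, y] P 2)).trans_eq (one_mul _)
    simp only [z, Algebra.smul_def, map_mul, map_pow]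
    refine (mul_le_mul' (pow_le_pow_left' hx1 _) (pow_le_pow_left' (val_le_exp_mapDiv hK ![(1 : K), x, y] P 2) _)).trans ?_
    rw [← exp_nsmul, ← exp_nsmul, ← exp_add, exp_le_exp, Finsupp.smul_apply, ← add_nsmul]
    exact nsmul_le_nsmul_left (plane_mapDiv_nonneg hK P) (by have := a.2.2; omega)
  have hcard := card_le_ell hK hz hmem
  have hcount : 2 * (Fintype.card ι : ℤ) = d * (2 * (n : ℤ) + 3 - d) := by
    rw [Fintype.card_sigma]
    simp only [Fintype.card_fin]
    rw [Fin.sum_univ_eq_sum_range (fun j => n + 1 - j)]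
    have : ∀ e : ℕ, e ≤ n + 1 → 2 * ((∑ j ∈ range e, (n + 1 - j) : ℕ) : ℤ) = e * (2 * (n : ℤ) + 3 - e) := by
      intro e he
      induction e with
      | zero => simp
      | succ e ih =>
        rw [Finset.sum_range_succ, Nat.cast_add, mul_add, ih (by omega), Nat.cast_sub (by omega)]
        push_cast; ring
    exact this d (by omega)
  have hRR := ell_eq_of_deg_ge hK (D := n • E) (by
    rw [deg_nsmul, hdegE]
    have : (n : ℤ) ≤ n * d := le_mul_of_one_le_right (by positivity) (by exact_mod_cast hd)
    omega)
  rw [deg_nsmul, hdegE] at hRR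
  nlinarith

end Groth.Agent.FunFld
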