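import Groth.Agent.FunFld.Dim
import Mathlib.FieldTheory.Minpoly.Field
import Mathlib.LinearAlgebra.LinearIndependent.Basic
import Mathlib.RingTheory.AlgebraTower

/-! The degree of a principal divisor and the Riemann inequality. -/

namespace Groth.Agent.FunFld

open _root_.FunFld WithZero IsLocalRing Polynomial Finset

variable {k K : Type*} [Field k] [Field K] [Algebra k K] (hK : IsFunctionField k K)

variable (k) in
/-- The divisor of poles. -/
noncomputable def poles (x : K) : Divisor k K := div k x⁻¹ ⊔ 0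

/-- `deg D + 1 - ℓ(D)`. -/
noncomputable def delta (D : Divisor k K) : ℤ := D.deg + 1 - ell D

include hK

theorem poles_apply (x : K) (P : Place k K) : poles k x P = max (-P.ord x) 0 := by
  rw [poles, Finsupp.sup_apply, div_apply hK, ord_inv, Finsupp.coe_zero, Pi.zero_apply]

theorem finrank_adjoin_inv (x : K) :
    Module.finrank (IntermediateField.adjoin k ({x⁻¹} : Set K)) K
      = Module.finrank (IntermediateField.adjoin k ({x} : Set K)) K := by
  have e : IntermediateField.adjoin k ({x⁻¹} : Set K) = IntermediateField.adjoin k ({x} : Set K) :=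
    le_antisymm (IntermediateField.adjoin_simple_le_iff.2
        (inv_mem (IntermediateField.mem_adjoin_simple_self k x)))
      (IntermediateField.adjoin_simple_le_iff.2 (by
        have := inv_mem (IntermediateField.mem_adjoin_simple_self k x⁻¹)
        rwa [inv_inv] at this))
  rw [e]

theorem deg_poles_le {x : K} (hx : Transcendental k x) :
    (poles k x).deg ≤ Module.finrank (IntermediateField.adjoin k ({x} : Set K)) K := by
  classical
  have hx' : Transcendental k x⁻¹ := fun h => hx (inv_inv x ▸ h.inv)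
  have hx0 : x⁻¹ ≠ 0 := fun e => hx' (e ▸ isAlgebraic_zero)
  have hpos : ∀ P ∈ (poles k x).support, 0 < P.ord x⁻¹ := fun P hP => by
    rw [Finsupp.mem_support_iff, poles_apply hK] at hP
    rw [ord_inv]; omega
  have h := sum_ord_mul_deg_le hK hx' (poles k x).support fun P hP => (ord_pos_iff P hx0).1 (hpos P hP)
  rw [finrank_adjoin_inv hK] at h
  refine le_of_eq_of_le ?_ (Int.ofNat_le.2 h)
  rw [Divisor.deg, Finsupp.sum, Nat.cast_sum]
  refine sum_congr rfl fun P hP => ?_
  have := hpos P hP
  rw [Nat.cast_mul, Int.toNat_of_nonneg this.le, poles_apply hK, ord_inv, max_eq_left]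
  rw [ord_inv] at this; omega

/-- A divisor bounding finitely many elements. -/
theorem exists_bound {ι : Type*} [Fintype ι] (z : ι → K) :
    ∃ C : Divisor k K, 0 ≤ C ∧ ∀ i, z i ∈ L C := by
  classical
  refine ⟨∑ i, poles k (z i), sum_nonneg fun i _ => le_sup_right, fun i P => ?_⟩
  rcases eq_or_ne (z i) 0 with h | h
  · simp [h]
  rw [le_exp_iff P h, Finsupp.coe_finsetSum, Finset.sum_apply]
  have h1 := single_le_sum (f := fun j => poles k (z j) P)
    (fun j _ => (le_sup_right : (0 : Divisor k K) ≤ poles k (z j)) P) (mem_univ i)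
  simp only [poles_apply hK] at h1 ⊢
  omega

theorem pow_mul_mem {x : K} {C : Divisor k K} {z : K} (hz : z ∈ L C) (l j : ℕ) (hj : j ≤ l) :
    x ^ j * z ∈ L (l • poles k x + C) := by
  intro P
  rw [map_mul, map_pow, Finsupp.add_apply, exp_add]
  refine mul_le_mul' ?_ (hz P)
  rcases eq_or_ne x 0 with rfl | hx
  · rcases Nat.eq_zero_or_pos j with rfl | h
    · rw [pow_zero, ← exp_zero, exp_le_exp, Finsupp.smul_apply, nsmul_eq_mul, poles_apply hK]
      positivity
    · simp [h.ne']
  rw [← map_pow, le_exp_iff P (pow_ne_zero _ hx), ord_pow, Finsupp.smul_apply, nsmul_eq_mul, poles_apply hK]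
  rcases le_or_gt 0 (P.ord x) with h | h
  · have : (0 : ℤ) ≤ (l : ℤ) * max (-P.ord x) 0 := by positivity
    nlinarith
  · rw [max_eq_left (by omega)]
    have : (j : ℤ) ≤ l := by exact_mod_cast hj
    nlinarith

theorem card_le_ell {ι : Type*} [Fintype ι] {D : Divisor k K} {z : ι → K}
    (hli : LinearIndependent k z) (hz : ∀ i, z i ∈ L D) : Fintype.card ι ≤ ell D := by
  have := L_finite hK D
  have : LinearIndependent k fun i => (⟨z i, hz i⟩ : L D) :=
    LinearIndependent.of_comp (L D).subtype hli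
  exact this.fintype_card_le_finrank

theorem exists_pole_bound {x : K} (hx : Transcendental k x) :
    ∃ C : Divisor k K, 0 ≤ C ∧ ∀ l : ℕ,
      (Module.finrank (IntermediateField.adjoin k ({x} : Set K)) K : ℤ) * (l + 1)
        ≤ ell (l • poles k x + C) := by
  have := finite_adjoin hK hx
  set L' := IntermediateField.adjoin k ({x} : Set K)
  let b := Module.finBasis L' K
  obtain ⟨C, hC, hbC⟩ := exists_bound hK b
  refine ⟨C, hC, fun l => ?_⟩
  let x' : L' := ⟨x, IntermediateField.mem_adjoin_simple_self k x⟩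
  have hxi : LinearIndependent k fun j : Fin (l + 1) => x' ^ (j : ℕ) := by
    rw [Fintype.linearIndependent_iff]
    intro c hc j
    have hp : (∑ i : Fin (l + 1), Polynomial.monomial (i : ℕ) (c i)) = 0 := by
      by_contra hne
      refine hx ⟨_, hne, ?_⟩
      rw [map_sum]
      have := congrArg (fun a : L' => (a : K)) hc
      simp only [AddSubmonoidClass.coe_finsetSum, IntermediateField.coe_smul,
        SubmonoidClass.coe_pow, ZeroMemClass.coe_zero] at this
      simpa [aeval_monomial, Algebra.smul_def, x'] using this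
    have := congrArg (fun p => coeff p (j : ℕ)) hp
    simpa [finsetSum_coeff, coeff_monomial, Fin.val_inj] using this
  have hli : LinearIndependent k fun p : Fin (l + 1) × Fin (Module.finrank L' K) =>
      (x' ^ (p.1 : ℕ)) • b p.2 := linearIndependent_smul hxi b.linearIndependent
  have := card_le_ell hK hli (D := l • poles k x + C) fun p => by
    rw [Algebra.smul_def, map_pow]
    exact pow_mul_mem hK (hbC p.2) l p.1 (by omega)
  rw [Fintype.card_prod, Fintype.card_fin, Fintype.card_fin] at this
  have h2 : ((l + 1) * Module.finrank L' K : ℤ) ≤ (ell (l • poles k x + C) : ℤ) := by exact_mod_cast this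
  linarith

theorem deg_poles {x : K} (hx : Transcendental k x) :
    (poles k x).deg = Module.finrank (IntermediateField.adjoin k ({x} : Set K)) K := by
  have := finite_adjoin hK hx
  refine le_antisymm (deg_poles_le hK hx) ?_
  obtain ⟨C, hC, hl⟩ := exists_pole_bound hK hx
  set n := Module.finrank (IntermediateField.adjoin k ({x} : Set K)) K
  have hn : 0 < n := Module.finrank_pos
  by_contra hlt
  push Not at hlt
  have h0 := deg_nonneg hC
  have h1 := hl (1 + C.deg.toNat)
  have h2 := ell_sub_le hK (D := 0) (E := (1 + C.deg.toNat) • poles k x + C)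
    (add_nonneg (nsmul_nonneg le_sup_right _) hC)
  rw [deg_add, deg_nsmul, deg_zero, ell_zero hK] at h2
  push_cast at h1 h2
  rw [Int.toNat_of_nonneg h0] at h1 h2
  nlinarith [mul_le_mul_of_nonneg_left (show (poles k x).deg ≤ (n : ℤ) - 1 by omega)
    (show (0 : ℤ) ≤ 1 + C.deg by omega)]

theorem exists_delta_bound {x : K} (hx : Transcendental k x) :
    ∃ c : ℤ, ∀ l : ℕ, delta (l • poles k x) ≤ c := by
  obtain ⟨C, hC, hl⟩ := exists_pole_bound hK hx
  refine ⟨1 + C.deg - Module.finrank (IntermediateField.adjoin k ({x} : Set K)) K, fun l => ?_⟩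
  have h1 := hl l
  have h2 := ell_sub_le hK (le_add_of_nonneg_right hC : l • poles k x ≤ l • poles k x + C)
  rw [deg_add] at h2
  rw [delta, deg_nsmul, deg_poles hK hx]
  linarith

theorem deg_div (x : K) : (div k x).deg = 0 := by
  by_cases hx : Transcendental k x
  · have hx' : Transcendental k x⁻¹ := fun h => hx (inv_inv x ▸ h.inv)
    have e : div k x = poles k x⁻¹ - poles k x := by
      ext P
      rw [Finsupp.sub_apply, poles_apply hK, poles_apply hK, div_apply hK, ord_inv]; omega
    rw [e, deg_sub, deg_poles hK hx, deg_poles hK hx', finrank_adjoin_inv hK, sub_self]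
  · obtain ⟨c, rfl⟩ := hK.2 x (not_not.1 hx)
    rw [show div k (algebraMap k K c) = (0 : Divisor k K) from Finsupp.ext fun P => by
      rw [div_apply hK, ord_algebraMap]; rfl, deg_zero]

theorem div_mul {x y : K} (hx : x ≠ 0) (hy : y ≠ 0) :
    div k (x * y) = (div k x + div k y : Divisor k K) :=
  Finsupp.ext fun P => by simp only [Finsupp.add_apply, div_apply hK, ord_mul P hx hy]

theorem div_inv (x : K) : div k x⁻¹ = -(div k x : Divisor k K) :=
  Finsupp.ext fun P => by simp only [Finsupp.neg_apply, div_apply hK, ord_inv]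

theorem val_le_exp_div {x : K} (hx : x ≠ 0) (P : Place k K) :
    P.1 x = exp (-div k x P) := by
  rw [div_apply hK, val_eq_exp P hx]

theorem mul_mem_L_iff {D : Divisor k K} {x y : K} (hx : x ≠ 0) :
    x * y ∈ L D ↔ y ∈ L (D + div k x) := by
  refine forall_congr' fun P => ?_
  rcases eq_or_ne y 0 with rfl | hy
  · simp
  rw [le_exp_iff P (mul_ne_zero hx hy), le_exp_iff P hy, ord_mul P hx hy, Finsupp.add_apply,
    div_apply hK]
  omega

theorem ell_add_div (D : Divisor k K) {x : K} (hx : x ≠ 0) : ell (D + div k x) = ell D := by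
  let e : L (D + div k x) ≃ₗ[k] L D :=
    { toFun := fun y => ⟨x * y, (mul_mem_L_iff hK hx).2 y.2⟩
      invFun := fun y => ⟨x⁻¹ * y, (mul_mem_L_iff hK hx).1 (by rw [mul_inv_cancel_left₀ hx]; exact y.2)⟩
      left_inv := fun y => Subtype.ext (inv_mul_cancel_left₀ hx _)
      right_inv := fun y => Subtype.ext (mul_inv_cancel_left₀ hx _)
      map_add' := fun a b => Subtype.ext (mul_add x _ _)
      map_smul' := fun c a => Subtype.ext (Algebra.mul_smul_comm c x _) }
  exact e.finrank_eq

theorem delta_mono {D E : Divisor k K} (h : D ≤ E) : delta D ≤ delta E := by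
  have := ell_sub_le hK h
  rw [delta, delta]; omega

theorem delta_add_div (D : Divisor k K) {x : K} (hx : x ≠ 0) :
    delta (D + div k x) = delta D := by
  rw [delta, delta, ell_add_div hK D hx, deg_add, deg_div hK, add_zero]

theorem exists_le_nsmul_poles {x : K} (htr : Transcendental k x) (D : Divisor k K) :
    ∃ u : K, u ≠ 0 ∧ ∃ l : ℕ, D + div k u ≤ l • poles k x := by
  classical
  have hx0 : x ≠ 0 := fun e => htr (e ▸ isAlgebraic_zero)
  have hf : ∀ P : Place k K, ∃ p : k[X], p ≠ 0 ∧ (0 ≤ P.ord x → 0 < P.ord (aeval x p)) := by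
    intro P
    by_cases hP : 0 ≤ P.ord x
    · have := residue_finite hK P
      set a : P.O := ⟨x, (ord_nonneg_iff P hx0).1 hP⟩
      set p := minpoly k (residue P.O a)
      have hp0 : p ≠ 0 := minpoly.ne_zero (by
        haveI : Module.Finite k (ResidueField P.O) := residue_finite hK P
        exact @IsIntegral.of_finite k (ResidueField P.O) _ _ _ (residue_finite hK P) _)
      have hval : aeval x p ≠ 0 := fun e => htr ⟨p, hp0, e⟩
      refine ⟨p, hp0, fun _ => (ord_pos_iff P hval).2 ?_⟩
      have h0 : aeval (residue P.O a) p = 0 := minpoly.aeval k _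
      rw [aeval_def, show algebraMap k (ResidueField P.O) = (residue P.O).comp (algebraMap k P.O) from rfl,
        ← hom_eval₂] at h0
      have hmem : P.1 (aeval x p) ≤ 1 := val_aeval_le P ((ord_nonneg_iff P hx0).1 hP) p
      rw [← resL_eq_zero P ⟨_, hmem⟩]
      refine Eq.trans (congrArg (residue P.O) (Subtype.ext ?_)) h0
      show aeval x p = _
      rw [aeval_def]
      exact (hom_eval₂ p (algebraMap k P.O) P.O.subtype a).symm
    · exact ⟨1, one_ne_zero, fun h => absurd h hP⟩
  choose p hp0 hp using hf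
  let v : K := ∏ P ∈ D.support.filter (fun P => 0 ≤ P.ord x), aeval x (p P) ^ (D P).toNat
  have hne : ∀ P, aeval x (p P) ≠ 0 := fun P e => htr ⟨p P, hp0 P, e⟩
  have hv0 : v ≠ 0 := prod_ne_zero_iff.2 fun P _ => pow_ne_zero _ (hne P)
  have hord : ∀ (Q : Place k K) (s : Finset (Place k K)),
      Q.ord (∏ P ∈ s, aeval x (p P) ^ (D P).toNat)
        = ∑ P ∈ s, ((D P).toNat : ℤ) * Q.ord (aeval x (p P)) := by
    intro Q s
    induction s using Finset.induction_on with
    | empty => simpa using ord_algebraMap Q (1 : k)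
    | @insert R s hR ih =>
      rw [prod_insert hR, sum_insert hR, ord_mul Q (pow_ne_zero _ (hne R))
        (prod_ne_zero_iff.2 fun P _ => pow_ne_zero _ (hne P)), ord_pow, ih]
  have hnn : ∀ Q : Place k K, 0 ≤ Q.ord x → ∀ P, 0 ≤ Q.ord (aeval x (p P)) := fun Q hQ P =>
    (ord_nonneg_iff Q (hne P)).2 (val_aeval_le Q ((ord_nonneg_iff Q hx0).1 hQ) _)
  set E := D + div k v⁻¹
  refine ⟨v⁻¹, inv_ne_zero hv0, (∑ Q ∈ E.support, (E Q).natAbs), fun Q => ?_⟩
  show E Q ≤ _
  rw [Finsupp.smul_apply, nsmul_eq_mul, poles_apply hK]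
  rcases le_or_gt 0 (Q.ord x) with hQ | hQ
  · rw [max_eq_right (by omega), mul_zero]
    have he : E Q = D Q - Q.ord v := by
      simp only [E, Finsupp.add_apply, div_apply hK, ord_inv, sub_eq_add_neg]
    rw [he, hord]
    by_cases hD : 0 < D Q
    · have hmem : Q ∈ D.support.filter fun P => 0 ≤ P.ord x :=
        mem_filter.2 ⟨Finsupp.mem_support_iff.2 hD.ne', hQ⟩
      have := single_le_sum (f := fun P => ((D P).toNat : ℤ) * Q.ord (aeval x (p P)))
        (fun P _ => mul_nonneg (Int.natCast_nonneg _) (hnn Q hQ P)) hmem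
      rw [Int.toNat_of_nonneg hD.le] at this
      nlinarith [hp Q hQ]
    · have : 0 ≤ ∑ P ∈ D.support.filter (fun P => 0 ≤ P.ord x),
          ((D P).toNat : ℤ) * Q.ord (aeval x (p P)) :=
        sum_nonneg fun P _ => mul_nonneg (Int.natCast_nonneg _) (hnn Q hQ P)
      omega
  · rw [max_eq_left (by omega)]
    by_cases hE : E Q = 0
    · rw [hE]; exact mul_nonneg (Int.natCast_nonneg _) (by omega)
    have h1 : (E Q).natAbs ≤ ∑ R ∈ E.support, (E R).natAbs :=
      single_le_sum (f := fun R => (E R).natAbs) (fun _ _ => Nat.zero_le _) (Finsupp.mem_support_iff.2 hE)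
    have h2 : ((E Q).natAbs : ℤ) ≤ ((∑ R ∈ E.support, (E R).natAbs : ℕ) : ℤ) := by exact_mod_cast h1
    have h3 : (1 : ℤ) ≤ -Q.ord x := by omega
    calc E Q ≤ ((E Q).natAbs : ℤ) := Int.le_natAbs
      _ ≤ ((∑ R ∈ E.support, (E R).natAbs : ℕ) : ℤ) * 1 := by rw [mul_one]; exact h2
      _ ≤ _ := mul_le_mul_of_nonneg_left h3 (Int.natCast_nonneg _)

theorem delta_bddAbove :
    BddAbove (Set.range fun D : Divisor k K => (D.deg + 1 - (ell D : ℤ)).toNat) := by
  obtain ⟨x₀, hx₀, -⟩ := hK.1
  obtain ⟨c, hc⟩ := exists_delta_bound hK hx₀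
  refine ⟨c.toNat, ?_⟩
  rintro _ ⟨D, rfl⟩
  obtain ⟨u, hu, l, hl⟩ := exists_le_nsmul_poles hK hx₀ D
  have h := (delta_mono hK hl).trans (hc l)
  rw [delta_add_div hK D hu, delta] at h
  exact Int.toNat_le_toNat h

theorem delta_le_genus (D : Divisor k K) : delta D ≤ genus k K := by
  have h : (D.deg + 1 - (ell D : ℤ)).toNat ≤ genus k K :=
    le_csSup (delta_bddAbove hK) ⟨D, rfl⟩
  rw [delta]; omega

theorem delta_zero : delta (0 : Divisor k K) = 0 := by
  rw [delta, deg_zero, ell_zero hK]; norm_num

theorem exists_delta_eq_genus : ∃ D : Divisor k K, 0 ≤ D ∧ delta D = genus k K := by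
  obtain ⟨D, hD⟩ := Nat.sSup_mem (Set.range_nonempty _) (delta_bddAbove hK)
  change _ = genus k K at hD
  refine ⟨D ⊔ 0, le_sup_right, le_antisymm (delta_le_genus hK _) ?_⟩
  rcases Nat.eq_zero_or_pos (genus k K) with h | h
  · rw [h]; exact (delta_zero hK).symm.le.trans (delta_mono hK le_sup_right)
  · refine le_trans ?_ (delta_mono hK (le_sup_left : D ≤ D ⊔ 0))
    simp only at hD
    rw [delta]; omega

theorem exists_deg_bound :
    ∃ N : ℤ, ∀ D : Divisor k K, N ≤ D.deg → delta D = genus k K := by
  obtain ⟨D₀, -, hD₀⟩ := exists_delta_eq_genus hK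
  refine ⟨D₀.deg + genus k K, fun D hD => le_antisymm (delta_le_genus hK D) ?_⟩
  have h := delta_le_genus hK (D - D₀)
  rw [delta, deg_sub] at h
  have hpos : 0 < ell (D - D₀) := by omega
  have : L (D - D₀) ≠ ⊥ := fun e => by rw [ell, e, finrank_bot] at hpos; omega
  obtain ⟨u, hu, hu0⟩ := Submodule.exists_mem_ne_zero_of_ne_bot this
  have hle : D₀ ≤ D + div k u := fun P => by
    have := hu P
    rw [le_exp_iff P hu0, Finsupp.sub_apply] at this
    rw [Finsupp.add_apply, div_apply hK]; omega
  rw [← hD₀, ← delta_add_div hK D hu0]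
  exact delta_mono hK hle

end Groth.Agent.FunFld
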