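import Groth.Agent.FunFld.Wr.DiffDeg
import Groth.Agent.FunFld.Plane
import Groth.Agent.FunFld.Geometric
import Groth.Agent.FunFld.Riemann

/-! The divisor of a differential, and divisors of maps under a linear change of coordinates. -/

namespace Groth.Agent.FunFld

open _root_.FunFld WithZero Finset
open scoped LaurentSeries

variable {k K : Type*} [Field k] [IsAlgClosed k] [Field K] [Algebra k K] (hK : IsFunctionField k K)
include hK

/-- A derivation `δ` with values in `K` and a divisor `T` describing every divisor `(a dv)`. -/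
theorem exists_divDiff_formula (Φ : Place k K → (K →ₐ[k] LaurentSeries k))
    (hΦ : ∀ P : Place k K, LocRes.IsExpansionAt P.1 (Φ P)) :
    ∃ (δ : Derivation k K K) (T : Divisor k K),
      (∀ v, KaehlerDifferential.D k K v ≠ 0 → δ v ≠ 0) ∧
      ∀ a v : K, a ≠ 0 → δ v ≠ 0 → divDiff Φ a v = div k (a * δ v) + T := by
  classical
  obtain ⟨P₀⟩ := exists_place_any hK
  obtain ⟨t, ht⟩ := exists_val P₀ (-1)
  obtain ⟨H, hH⟩ := exists_hasse_at hK ht
  have happ := (divDiff_facts hK hH Φ hΦ).1
  refine ⟨hasseDer hH, divDiff Φ 1 t, fun v hv h0 => ?_, fun a v ha hv => ?_⟩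
  · have := (separable_of_val hK ht).2
    have hspan := span_D_eq_top (k := k) (K := K) (y := t)
    obtain ⟨c, hc⟩ := Submodule.mem_span_singleton.1
      (hspan ▸ Submodule.mem_top (x := KaehlerDifferential.D k K v))
    have h1 := congrArg (hasseDer hH).liftKaehlerDifferential hc
    rw [map_smul, Derivation.liftKaehlerDifferential_comp_D, Derivation.liftKaehlerDifferential_comp_D,
      hasseDer_self, h0, smul_eq_mul, mul_one] at h1
    rw [h1, zero_smul] at hc
    exact hv hc.symm
  · have hord : ∀ P : Place k K, LocRes.ordDiff (Φ P) a v =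
        P.ord (a * hasseDer hH v) + LocRes.ordDiff (Φ P) 1 t := by
      intro P
      obtain ⟨s, hs⟩ := exists_val P (-1)
      obtain ⟨Hs, hHs⟩ := exists_hasse_at hK hs
      have hDt : LocRes.D k (Φ P t) ≠ 0 := by
        intro h
        have h2 := D_expansion hK ht hH (Φ P) s
        rw [h, mul_zero] at h2
        have h3 := valuation_D_param (hΦ P) hs
        rw [h2, map_zero] at h3
        exact zero_ne_one h3
      have hne : Valued.v (Φ P (a * LocRes.hasseD H 1 v)) ≠ (0 : WithZero (Multiplicative ℤ)) := by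
        rw [(hΦ P).1]; exact P.1.ne_zero_iff.2 (mul_ne_zero ha hv)
      rw [ordDiff_def', ordDiff_def', LocRes.vDiff, LocRes.vDiff, D_expansion hK ht hH (Φ P) v, map_one, one_mul,
        ← mul_assoc, ← map_mul, map_mul Valued.v, log_mul hne
          (fun h => hDt ((Valuation.zero_iff _).1 h)), (hΦ P).1, hasseDer_apply, Place.ord]
      ring
    have hfun : (fun P : Place k K => LocRes.ordDiff (Φ P) a v) =
        fun P => (div k (a * hasseDer hH v) + divDiff Φ 1 t : Divisor k K) P := by
      funext P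
      rw [hord, Finsupp.add_apply, div_apply hK, happ]
    have hfin : (Function.support fun P : Place k K => LocRes.ordDiff (Φ P) a v).Finite := by
      rw [hfun]; exact Finsupp.finite_support _
    rw [divDiff, dif_pos hfin]
    exact Finsupp.ext fun P => congrFun hfun P

/-- With a coordinate equal to one, the divisor of the map is the largest value. -/
theorem exists_val_eq_exp_mapDiv {ι : Type*} [Fintype ι] [Nonempty ι] (φ : ι → K) {i₀ : ι} (h₀ : φ i₀ = 1)
    (P : Place k K) : ∃ i, P.1 (φ i) = exp (mapDiv k φ P) := by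
  obtain ⟨i, -, hi⟩ := Finset.exists_mem_eq_inf' Finset.univ_nonempty (fun i => P.ord (φ i))
  rw [mapDiv_apply hK, hi]
  by_cases hz : φ i = 0
  · exact ⟨i₀, by rw [h₀, hz, ord_zero, neg_zero, map_one, exp_zero]⟩
  · exact ⟨i, val_eq_exp P hz⟩

/-- A linear change of coordinates changes the divisor of a map by the divisor of the new zeroth coordinate. -/
theorem mapDiv_coord_change {n : ℕ} (A : Matrix (Fin (n + 1)) (Fin (n + 1)) k) (hA : A.det ≠ 0)
    (φ u v : Fin (n + 1) → K) (hφ0 : φ 0 = 1) (hu : ∀ i, ∑ j, algebraMap k K (A i j) * u j = φ i)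
    (hu0 : u 0 ≠ 0) (hv0 : v 0 = 1) (hv : ∀ j, u j = u 0 * v j) :
    mapDiv k v = mapDiv k φ + div k (u 0) := by
  classical
  have hinv : ∀ j, u j = ∑ i, algebraMap k K (A⁻¹ j i) * φ i := by
    intro j
    have h1 : (A.map (algebraMap k K)).mulVec u = φ := funext fun i => hu i
    have h2 : (A⁻¹.map (algebraMap k K)).mulVec φ = u := by
      rw [← h1, Matrix.mulVec_mulVec, ← Matrix.map_mul,
        Matrix.nonsing_inv_mul A (isUnit_iff_ne_zero.2 hA), Matrix.map_one _ (map_zero _) (map_one _),
        Matrix.one_mulVec]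
    exact (congrFun h2 j).symm
  refine Finsupp.ext fun P => ?_
  rw [Finsupp.add_apply, div_apply hK]
  have hsc : ∀ (c : k) (z : K), P.1 (algebraMap k K c * z) ≤ P.1 z := fun c z => by
    rw [map_mul]; exact (mul_le_mul' (P.2.1 c) le_rfl).trans_eq (one_mul _)
  obtain ⟨i, hi⟩ := exists_val_eq_exp_mapDiv hK φ hφ0 P
  obtain ⟨j, hj⟩ := exists_val_eq_exp_mapDiv hK v hv0 P
  have h1 : exp (mapDiv k v P) * P.1 (u 0) ≤ exp (mapDiv k φ P) := by
    rw [← hj, mul_comm, ← map_mul, ← hv, hinv]
    exact P.1.map_sum_le fun l _ => (hsc _ _).trans (val_le_exp_mapDiv hK φ P l)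
  have h2 : exp (mapDiv k φ P) ≤ exp (mapDiv k v P) * P.1 (u 0) := by
    rw [← hi, ← hu]
    refine P.1.map_sum_le fun l _ => (hsc _ _).trans ?_
    rw [hv l, map_mul, mul_comm]
    exact mul_le_mul' (val_le_exp_mapDiv hK v P l) le_rfl
  rw [val_eq_exp P hu0, ← exp_add, exp_le_exp] at h1 h2
  omega

end Groth.Agent.FunFld
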