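import Mathlib

/-! Differentials of a plane curve under a projective change of coordinates. -/

namespace Groth.Agent.FunFld.CoordChange

open MvPolynomial

theorem derivation_aeval {R A M σ : Type*} [CommRing R] [CommRing A] [Algebra R A] [Fintype σ] [AddCommGroup M]
    [Module R M] [Module A M] [IsScalarTower R A M] (D : Derivation R A M) (v : σ → A) (p : MvPolynomial σ R) :
    D (aeval v p) = ∑ i, aeval v (pderiv i p) • D (v i) := by
  classical
  induction p using MvPolynomial.induction_on with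
  | C a => simp
  | add p q hp hq => simp [hp, hq, add_smul, Finset.sum_add_distrib]
  | mul_X p i hp =>
    simp only [map_mul, aeval_X, Derivation.leibniz, hp, smul_eq_mul, map_add, add_smul, Finset.sum_add_distrib,
      Finset.smul_sum, smul_smul]
    congr 1
    rw [Finset.sum_eq_single i (fun j _ hj => by simp [pderiv_X, Pi.single_eq_of_ne hj.symm]) (by simp)]
    simp

theorem aeval_mul_left {R A σ : Type*} [CommRing R] [CommRing A] [Algebra R A] {g : MvPolynomial σ R} {n : ℕ}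
    (hg : g.IsHomogeneous n) (c : A) (v : σ → A) : aeval (fun i => c * v i) g = c ^ n * aeval v g := by
  simp only [aeval_def, eval₂_eq, Finset.mul_sum]
  refine Finset.sum_congr rfl fun d hd => ?_
  rw [Finset.prod_congr rfl (fun i _ => mul_pow c (v i) (d i)), Finset.prod_mul_distrib, Finset.prod_pow_eq_pow_sum,
    show ∑ i ∈ d.support, d i = n from by
      rw [← hg (mem_support_iff.1 hd), Finsupp.weight_apply, Finsupp.sum]; simp]
  ring

theorem cross_id {R M : Type*} [CommRing R] [AddCommGroup M] [Module R M] (a : Matrix (Fin 3) (Fin 3) R)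
    (u : Fin 3 → R) (w : Fin 3 → M) :
    a 0 2 • ((∑ j, a 1 j * u j) • (∑ j, a 2 j • w j) - (∑ j, a 2 j * u j) • (∑ j, a 1 j • w j)) +
    a 1 2 • ((∑ j, a 2 j * u j) • (∑ j, a 0 j • w j) - (∑ j, a 0 j * u j) • (∑ j, a 2 j • w j)) +
    a 2 2 • ((∑ j, a 0 j * u j) • (∑ j, a 1 j • w j) - (∑ j, a 1 j * u j) • (∑ j, a 0 j • w j)) =
    a.det • (u 0 • w 1 - u 1 • w 0) := by
  simp only [Fin.sum_univ_three, Matrix.det_fin_three]
  module

theorem main (k K : Type*) [Field k] [Field K] [Algebra k K] (f : MvPolynomial (Fin 3) k) (e : ℕ)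
    (hf : f.IsHomogeneous e) (x y : K) (hfxy : aeval ![(1 : K), x, y] f = 0) (A : Matrix (Fin 3) (Fin 3) k)
    (u : Fin 3 → K) (hu : ∀ i, ∑ j, algebraMap k K (A i j) * u j = ![(1 : K), x, y] i) (hu0 : u 0 ≠ 0)
    (hfy : aeval ![(1 : K), x, y] (pderiv 2 f) ≠ 0)
    (hfy' : aeval ![(1 : K), u 1 / u 0, u 2 / u 0]
      (pderiv 2 (aeval (fun i : Fin 3 => ∑ j, C (A i j) * X j) f)) ≠ 0) :
    (aeval ![(1 : K), x, y] (pderiv 2 f))⁻¹ • KaehlerDifferential.D k K x =
      (algebraMap k K A.det * (u 0)⁻¹ ^ ((e : ℤ) - 3) *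
        (aeval ![(1 : K), u 1 / u 0, u 2 / u 0]
          (pderiv 2 (aeval (fun i : Fin 3 => ∑ j, C (A i j) * X j) f)))⁻¹) • KaehlerDifferential.D k K (u 1 / u 0) := by
  classical
  set D := KaehlerDifferential.D k K
  set f0 := aeval ![(1 : K), x, y] (pderiv 0 f) with hf0
  set f1 := aeval ![(1 : K), x, y] (pderiv 1 f) with hf1
  set f2 := aeval ![(1 : K), x, y] (pderiv 2 f) with hf2
  rcases Nat.eq_zero_or_pos e with rfl | he
  · exfalso
    refine hfy ?_
    rw [hf2]
    have hC : f = C (coeff 0 f) := by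
      rw [← homogeneousComponent_zero, homogeneousComponent_eq_self hf]
    rw [hC, pderiv_C, map_zero]
  have euler : f0 + x * f1 + y * f2 = 0 := by
    have h := congrArg (aeval ![(1 : K), x, y]) hf.sum_X_mul_pderiv
    simpa [hfxy, Fin.sum_univ_three, ← hf0, ← hf1, ← hf2] using h
  have hdiff : f1 • D x + f2 • D y = 0 := by
    have h := derivation_aeval D ![(1 : K), x, y] f
    rw [hfxy] at h
    simpa [Fin.sum_univ_three, ← hf1, ← hf2] using h.symm
  have hX' : ![(1 : K), u 1 / u 0, u 2 / u 0] = fun j => u j / u 0 := by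
    funext j; fin_cases j <;> simp [hu0]
  have hl : (fun i : Fin 3 => aeval ![(1 : K), u 1 / u 0, u 2 / u 0] (∑ j, C (A i j) * X j)) =
      fun i => (u 0)⁻¹ * ![(1 : K), x, y] i := by
    funext i
    rw [← hu i, hX', map_sum, Finset.mul_sum]
    refine Finset.sum_congr rfl fun j _ => ?_
    rw [map_mul, aeval_C, aeval_X]; ring
  have hF : aeval ![(1 : K), u 1 / u 0, u 2 / u 0] (pderiv 2 (aeval (fun i : Fin 3 => ∑ j, C (A i j) * X j) f)) =
      (u 0)⁻¹ ^ (e - 1) * (algebraMap k K (A 0 2) * f0 + algebraMap k K (A 1 2) * f1 + algebraMap k K (A 2 2) * f2) := by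
    rw [derivation_aeval (pderiv 2) (fun i : Fin 3 => ∑ j, C (A i j) * X j) f, map_sum]
    simp only [smul_eq_mul, map_mul]
    simp only [← AlgHom.comp_apply (aeval ![(1 : K), u 1 / u 0, u 2 / u 0]) (aeval _), comp_aeval, hl]
    simp only [aeval_mul_left (hf.pderiv), Fin.sum_univ_three, map_sum, map_add, pderiv_C_mul, pderiv_X, map_smul]
    simp [Pi.single_apply, ← hf0, ← hf1, ← hf2, Algebra.smul_def]
    ring
  have hw : ∀ i, D (![(1 : K), x, y] i) = ∑ j, algebraMap k K (A i j) • D (u j) := fun i => by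
    rw [← hu i, map_sum]
    refine Finset.sum_congr rfl fun j _ => ?_
    simp
  set a : Matrix (Fin 3) (Fin 3) K := A.map (algebraMap k K) with ha
  have key : f2 • (algebraMap k K A.det • (u 0 • D (u 1) - u 1 • D (u 0))) =
      (algebraMap k K (A 0 2) * f0 + algebraMap k K (A 1 2) * f1 + algebraMap k K (A 2 2) * f2) • D x := by
    have h := cross_id a u (fun j => D (u j))
    have e1 : ∀ i, ∑ j, a i j * u j = ![(1 : K), x, y] i := fun i => hu i
    have e2 : ∀ i, ∑ j, a i j • D (u j) = D (![(1 : K), x, y] i) := fun i => (hw i).symm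
    simp only [e1, e2] at h
    rw [RingHom.map_det, RingHom.mapMatrix_apply, ← ha, ← h]
    simp only [Matrix.cons_val_zero, Matrix.cons_val_one, Matrix.cons_val_two, Matrix.tail_cons, Matrix.head_cons,
      Derivation.map_one_eq_zero, ha, Matrix.map_apply]
    have hf0' : f0 = -(x * f1) - y * f2 := by linear_combination euler
    have hdx : f1 • D x = -(f2 • D y) := eq_neg_of_add_eq_zero_left hdiff
    rw [hf0']
    linear_combination (norm := module) (x * algebraMap k K (A 0 2) - algebraMap k K (A 1 2)) • hdx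
  rw [hF] at hfy' ⊢
  rw [Derivation.leibniz_div]
  have hs : algebraMap k K (A 0 2) * f0 + algebraMap k K (A 1 2) * f1 + algebraMap k K (A 2 2) * f2 ≠ 0 :=
    right_ne_zero_of_mul hfy'
  set s := algebraMap k K (A 0 2) * f0 + algebraMap k K (A 1 2) * f1 + algebraMap k K (A 2 2) * f2
  have hpow : (u 0)⁻¹ ^ ((e : ℤ) - 3) * (((u 0)⁻¹ ^ (e - 1))⁻¹) * (u 0)⁻¹ ^ 2 = 1 := by
    rw [← zpow_natCast _ (e - 1), ← zpow_natCast _ 2, ← zpow_neg, ← zpow_add₀ (inv_ne_zero hu0),
      ← zpow_add₀ (inv_ne_zero hu0)]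
    convert zpow_zero (u 0)⁻¹ using 2
    omega
  rw [smul_smul, mul_inv,
    show algebraMap k K A.det * (u 0)⁻¹ ^ ((e : ℤ) - 3) * (((u 0)⁻¹ ^ (e - 1))⁻¹ * s⁻¹) * (u 0)⁻¹ ^ 2 =
      algebraMap k K A.det * s⁻¹ * ((u 0)⁻¹ ^ ((e : ℤ) - 3) * (((u 0)⁻¹ ^ (e - 1))⁻¹) * (u 0)⁻¹ ^ 2) by ring,
    hpow, mul_one]
  have h2 := congrArg (fun m => (f2⁻¹ * s⁻¹) • m) key
  simp only [smul_smul] at h2
  rw [show f2⁻¹ * s⁻¹ * s = f2⁻¹ by field_simp,
    show f2⁻¹ * s⁻¹ * (f2 * algebraMap k K A.det) = algebraMap k K A.det * s⁻¹ by field_simp] at h2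
  exact h2.symm

end Groth.Agent.FunFld.CoordChange
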