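import Groth.Agent.FunFld.Basic
import Mathlib.RingTheory.Polynomial.GaussLemma
import Mathlib.RingTheory.Polynomial.UniqueFactorization
import Mathlib.RingTheory.MvPolynomial.Homogeneous
import Mathlib.FieldTheory.Minpoly.Field
import Mathlib.Algebra.MvPolynomial.Equiv
import Mathlib.Algebra.MvPolynomial.NoZeroDivisors

/-! The ideal of a projective plane curve is principal. -/

namespace Groth.Agent.FunFld

open _root_.FunFld MvPolynomial
open scoped nonZeroDivisors

variable {k K : Type*} [Field k] [Field K] [Algebra k K]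

/-- The ideal of homogeneous relations of a tuple. -/
noncomputable def coneHom {σ : Type*} (φ : σ → K) : MvPolynomial σ k →ₐ[k] Polynomial K :=
  aeval fun i => Polynomial.C (φ i) * Polynomial.X

theorem coneHom_monomial {σ : Type*} [Fintype σ] (φ : σ → K) (m : σ →₀ ℕ) (a : k) :
    coneHom φ (monomial m a) = Polynomial.C (aeval φ (monomial m a)) * Polynomial.X ^ m.degree := by
  rw [coneHom, aeval_monomial, aeval_monomial, Finsupp.prod_fintype _ _ (fun _ => pow_zero _),
    Finsupp.prod_fintype _ _ (fun _ => pow_zero _)]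
  simp only [mul_pow, Finset.prod_mul_distrib, Finset.prod_pow_eq_pow_sum, ← Polynomial.C_pow,
    ← map_prod, Finsupp.degree_eq_sum, map_mul]
  rw [IsScalarTower.algebraMap_apply k K (Polynomial K), Polynomial.algebraMap_eq]
  ring

theorem coeff_coneHom {σ : Type*} [Fintype σ] (φ : σ → K) (G : MvPolynomial σ k) (d : ℕ) :
    (coneHom φ G).coeff d = aeval φ (homogeneousComponent d G) := by
  classical
  induction G using MvPolynomial.induction_on' with
  | monomial m a =>
    rw [coneHom_monomial, Polynomial.coeff_C_mul, Polynomial.coeff_X_pow,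
      homogeneousComponent_of_mem (isHomogeneous_monomial a (n := m.degree) rfl)]
    split_ifs <;> simp
  | add p q hp hq => simp only [map_add, Polynomial.coeff_add, hp, hq]

theorem coneHom_eq_zero_iff {σ : Type*} [Fintype σ] (φ : σ → K) (G : MvPolynomial σ k) :
    coneHom φ G = 0 ↔ ∀ d, aeval φ (homogeneousComponent d G) = 0 := by
  simp [Polynomial.ext_iff, coeff_coneHom]

theorem coneHom_eq_zero_of_homogeneous {σ : Type*} [Fintype σ] (φ : σ → K) {G : MvPolynomial σ k} {D : ℕ}
    (hG : G.IsHomogeneous D) (h : aeval φ G = 0) : coneHom φ G = 0 := by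
  rw [coneHom_eq_zero_iff]
  intro d
  rw [homogeneousComponent_of_mem hG]
  split_ifs <;> simp [h]

theorem cone_binary_injective {a b : K} (ha : a ≠ 0) (hr : Transcendental k (b / a)) :
    Function.Injective (coneHom (k := k) ![a, b]) := by
  classical
  rw [injective_iff_map_eq_zero]
  intro G hG
  rw [coneHom_eq_zero_iff] at hG
  rw [← sum_homogeneousComponent G]
  refine Finset.sum_eq_zero fun d _ => ?_
  have hd := hG d
  have hH : (homogeneousComponent d G).IsHomogeneous d := homogeneousComponent_isHomogeneous d G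
  generalize homogeneousComponent d G = H at hd hH
  have hdeg : ∀ m ∈ H.support, m 0 + m 1 = d := fun m hm => by
    have h := hH (mem_support_iff.1 hm)
    rw [show (1 : Fin 2 → ℕ) = fun _ => 1 from rfl, Finsupp.weight_apply,
      Finsupp.sum_fintype _ _ (by simp)] at h
    simpa using h
  let p : Polynomial k := ∑ m ∈ H.support, Polynomial.monomial (m 1) (H.coeff m)
  have hp : Polynomial.aeval (b / a) p = 0 := by
    have e : aeval ![a, b] H = a ^ d * Polynomial.aeval (b / a) p := by
      conv_lhs => rw [H.as_sum]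
      rw [map_sum, map_sum, Finset.mul_sum]
      refine Finset.sum_congr rfl fun m hm => ?_
      rw [aeval_monomial, Finsupp.prod_fintype _ _ (fun _ => pow_zero _), Fin.prod_univ_two,
        Polynomial.aeval_monomial, ← hdeg m hm, div_pow, pow_add]
      simp only [Matrix.cons_val_zero, Matrix.cons_val_one, Matrix.cons_val_fin_one]
      field_simp
    rw [hd] at e
    exact (mul_eq_zero.1 e.symm).resolve_left (pow_ne_zero _ ha)
  have hp0 : p = 0 := by
    by_contra hne
    exact hr ⟨p, hne, hp⟩
  by_contra hne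
  obtain ⟨m, hm⟩ := Finset.nonempty_iff_ne_empty.2 (fun e => hne (support_eq_empty.1 e))
  have h := congrArg (fun q => Polynomial.coeff q (m 1)) hp0
  simp only [p, Polynomial.finsetSum_coeff, Polynomial.coeff_monomial, Polynomial.coeff_zero] at h
  rw [Finset.sum_eq_single m (fun l hl hlm => if_neg fun e => hlm (Finsupp.ext fun i => by
    fin_cases i
    · have h1 := hdeg l hl; have h2 := hdeg m hm; simp only [Fin.isValue] at *; change l 0 = m 0; omega
    · exact e)) (fun h' => absurd hm h'), if_pos rfl] at h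
  exact mem_support_iff.1 hm h

theorem dvd_of_common_root_field {A F L : Type*} [CommRing A] [IsDomain A] [NormalizedGCDMonoid A]
    [Field F] [Algebra A F] [IsFractionRing A F] [Field L] [Algebra F L] {f g : Polynomial A}
    (hf : Irreducible f) (hprim : f.IsPrimitive) (τ : L)
    (hfz : Polynomial.aeval τ (f.map (algebraMap A F)) = 0)
    (hgz : Polynomial.aeval τ (g.map (algebraMap A F)) = 0) : f ∣ g := by
  have hirr : Irreducible (f.map (algebraMap A F)) :=
    (hprim.irreducible_iff_irreducible_map_fraction_map (K := F)).1 hf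
  obtain ⟨q, hq⟩ := minpoly.dvd F τ hfz
  refine hprim.dvd_of_fraction_map_dvd_fraction_map (K := F) ?_
  rcases hirr.isUnit_or_isUnit hq with h | h
  · exact absurd h (minpoly.not_isUnit F τ)
  · rw [hq]
    exact (IsUnit.mul_right_dvd h).2 (minpoly.dvd F τ hgz)

theorem dvd_of_common_root {A B : Type*} [CommRing A] [IsDomain A] [NormalizedGCDMonoid A]
    [CommRing B] [IsDomain B] (θ : A →+* B) (hθ : Function.Injective θ) {f g : Polynomial A}
    (hf : Irreducible f) (τ : B) (hfz : f.eval₂ θ τ = 0) (hgz : g.eval₂ θ τ = 0) : f ∣ g := by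
  have hpos : f.natDegree ≠ 0 := by
    intro h0
    obtain ⟨c, hc⟩ := Polynomial.natDegree_eq_zero.1 h0
    rw [← hc, Polynomial.eval₂_C] at hfz
    have : c = 0 := hθ (hfz.trans (map_zero θ).symm)
    exact hf.ne_zero (by rw [← hc, this, map_zero])
  have hθL : Function.Injective ((algebraMap B (FractionRing B)).comp θ) :=
    (IsFractionRing.injective B (FractionRing B)).comp hθ
  obtain ⟨ψ, hψ⟩ : ∃ ψ : FractionRing A →+* FractionRing B,
      ∀ x, ψ (algebraMap A (FractionRing A) x) = algebraMap B (FractionRing B) (θ x) :=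
    ⟨IsFractionRing.lift hθL, fun x => IsFractionRing.lift_algebraMap hθL x⟩
  have hroot : ∀ h : Polynomial A, h.eval₂ θ τ = 0 →
      (h.map (algebraMap A (FractionRing A))).eval₂ ψ (algebraMap B (FractionRing B) τ) = 0 := by
    intro h hh
    rw [Polynomial.eval₂_map, show ψ.comp (algebraMap A (FractionRing A)) =
      (algebraMap B (FractionRing B)).comp θ from RingHom.ext hψ, ← Polynomial.hom_eval₂, hh, map_zero]
  exact @dvd_of_common_root_field A (FractionRing A) (FractionRing B) _ _ _ _ _ _ _ ψ.toAlgebra f g hf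
    (hf.isPrimitive hpos) (algebraMap B (FractionRing B) τ) (hroot f hfz) (hroot g hgz)

/-- Standard position: an irreducible relation divides every relation. -/
theorem dvd_of_cone_eq_zero_std {φ : Fin 3 → K} (ha : φ 1 ≠ 0) (hr : Transcendental k (φ 2 / φ 1))
    {f G : MvPolynomial (Fin 3) k} (hf : Irreducible f) (hfz : coneHom φ f = 0)
    (hGz : coneHom φ G = 0) : f ∣ G := by
  classical
  let θ : MvPolynomial (Fin 2) k →+* Polynomial K := (coneHom (k := k) ![φ 1, φ 2]).toRingHom
  have hθ : Function.Injective θ := cone_binary_injective ha hr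
  have heval : ∀ H, coneHom φ H = (finSuccEquiv k 2 H).eval₂ θ (Polynomial.C (φ 0) * Polynomial.X) := by
    intro H
    have : (coneHom φ).toRingHom =
        (Polynomial.eval₂RingHom θ (Polynomial.C (φ 0) * Polynomial.X)).comp
          (finSuccEquiv k 2).toAlgHom.toRingHom := by
      refine MvPolynomial.ringHom_ext (fun c => ?_) (fun i => ?_)
      · simp [coneHom, θ, finSuccEquiv_apply, Polynomial.algebraMap_apply]
      · refine Fin.cases ?_ (fun l => ?_) i
        · simp [coneHom, θ, finSuccEquiv_X_zero]
        · simp only [coneHom, θ, RingHom.comp_apply, AlgHom.toRingHom_eq_coe, RingHom.coe_coe,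
            AlgEquiv.coe_toAlgHom, finSuccEquiv_X_succ, Polynomial.coe_eval₂RingHom, Polynomial.eval₂_C,
            aeval_X]
          fin_cases l <;> rfl
    exact RingHom.congr_fun this H
  letI : NormalizedGCDMonoid (MvPolynomial (Fin 2) k) := Classical.choice inferInstance
  refine (map_dvd_iff (finSuccEquiv k 2)).1 ?_
  exact dvd_of_common_root θ hθ ((MulEquiv.irreducible_iff (finSuccEquiv k 2).toMulEquiv).2 hf) _
    ((heval f).symm.trans hfz) ((heval G).symm.trans hGz)

theorem dvd_of_cone_eq_zero {φ : Fin 3 → K} (σ : Equiv.Perm (Fin 3)) (ha : φ (σ 1) ≠ 0)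
    (hr : Transcendental k (φ (σ 2) / φ (σ 1))) {f G : MvPolynomial (Fin 3) k} (hf : Irreducible f)
    (hfz : coneHom φ f = 0) (hGz : coneHom φ G = 0) : f ∣ G := by
  have hren : ∀ H, coneHom (φ ∘ σ) (renameEquiv k σ.symm H) = coneHom φ H := fun H => by
    rw [renameEquiv_apply, coneHom, aeval_rename, coneHom]
    congr 2
    funext i
    simp
  exact (map_dvd_iff (renameEquiv k σ.symm)).1 (dvd_of_cone_eq_zero_std (φ := φ ∘ σ) ha hr
    ((MulEquiv.irreducible_iff (renameEquiv k σ.symm).toMulEquiv).2 hf) (by rwa [hren]) (by rwa [hren]))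

/-- The relations of a nondegenerate plane curve. -/
theorem ker_cone_eq_span (hK : IsFunctionField k K) {φ : Fin 3 → K} (hφ : LinearIndependent k φ)
    {f : MvPolynomial (Fin 3) k} (hf : Irreducible f) {D : ℕ} (hhom : f.IsHomogeneous D)
    (hfφ : aeval φ f = 0) :
    RingHom.ker (coneHom (k := k) φ) = Ideal.span {f} := by
  have hfz := coneHom_eq_zero_of_homogeneous φ hhom hfφ
  have hr : Transcendental k (φ 2 / φ 1) := by
    refine transcendental_of_not_mem hK ?_
    rintro ⟨c, hc⟩
    have e : c • φ 1 = φ 2 := by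
      rw [Algebra.smul_def, hc, div_mul_cancel₀ _ (hφ.ne_zero 1)]
    have := linearIndependent_iff'.1 hφ {1, 2} ![0, c, -1] (by
      rw [Finset.sum_pair (by decide)]
      simp [e]) 2 (by simp)
    simp at this
  refine le_antisymm (fun G hG => ?_) ((Ideal.span_singleton_le_iff_mem _).2 hfz)
  exact Ideal.mem_span_singleton.2
    (dvd_of_cone_eq_zero (Equiv.refl _) (hφ.ne_zero 1) hr hf hfz hG)

/-- Homogenisation with respect to the coordinate `X 0`. -/
noncomputable def homogLift (Q : MvPolynomial (Fin 2) k) : MvPolynomial (Fin 3) k :=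
  ∑ m ∈ Q.support, X 0 ^ (Q.totalDegree - m.degree) * rename Fin.succ (monomial m (Q.coeff m))

theorem isHomogeneous_homogLift (Q : MvPolynomial (Fin 2) k) :
    (homogLift Q).IsHomogeneous Q.totalDegree := by
  refine IsHomogeneous.sum _ _ _ fun m hm => ?_
  have h := (isHomogeneous_X_pow (R := k) (0 : Fin 3) (Q.totalDegree - m.degree)).mul
    ((isHomogeneous_monomial (Q.coeff m) (d := m) (n := m.degree) rfl).rename_isHomogeneous
      (f := Fin.succ))
  rwa [Nat.sub_add_cancel (by rw [Finsupp.degree_apply]; exact le_totalDegree hm)] at h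

theorem aeval_homogLift {S : Type*} [CommRing S] [Algebra k S] (ψ : Fin 3 → S) (hψ : ψ 0 = 1)
    (Q : MvPolynomial (Fin 2) k) : aeval ψ (homogLift Q) = aeval (fun i => ψ i.succ) Q := by
  conv_rhs => rw [Q.as_sum, map_sum]
  simp [homogLift, map_sum, hψ, aeval_rename, Function.comp_def]

/-- Every plane curve has a principal homogeneous ideal. -/
theorem exists_ker_cone_eq_span (hK : IsFunctionField k K) (x y : K)
    (hxy : IntermediateField.adjoin k ({x, y} : Set K) = ⊤) :
    ∃ f : MvPolynomial (Fin 3) k, Irreducible f ∧ f.IsHomogeneous f.totalDegree ∧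
      RingHom.ker (coneHom (k := k) ![(1 : K), x, y]) = Ideal.span {f} := by
  classical
  set φ : Fin 3 → K := ![(1 : K), x, y] with hφ
  -- one of the coordinates is transcendental
  obtain ⟨σ, ha, hr⟩ : ∃ σ : Equiv.Perm (Fin 3), φ (σ 1) = 1 ∧ Transcendental k (φ (σ 2)) := by
    by_cases hx : Transcendental k x
    · exact ⟨(Equiv.swap 1 2).trans (Equiv.swap 0 2), by simp [φ], by
        rw [show ((Equiv.swap (1 : Fin 3) 2).trans (Equiv.swap 0 2)) 2 = 1 by decide]; simpa [φ]⟩
    · by_cases hy : Transcendental k y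
      · exact ⟨Equiv.swap 0 1, by simp [φ], by
          rw [show (Equiv.swap (0 : Fin 3) 1) 2 = 2 by decide]; simpa [φ]⟩
      · exfalso
        obtain ⟨x₀, hx₀, -⟩ := hK.1
        refine hx₀ ?_
        rw [Transcendental, not_not] at hx hy
        obtain ⟨c, hc⟩ := hK.2 x hx
        obtain ⟨d, hd⟩ := hK.2 y hy
        have hmem : x₀ ∈ (⊥ : IntermediateField k K) := by
          have hle : IntermediateField.adjoin k ({x, y} : Set K) ≤ ⊥ := by
            rw [IntermediateField.adjoin_le_iff, Set.pair_subset_iff]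
            exact ⟨IntermediateField.mem_bot.2 ⟨c, hc⟩, IntermediateField.mem_bot.2 ⟨d, hd⟩⟩
          exact hle (hxy.symm ▸ IntermediateField.mem_top)
        obtain ⟨c₀, rfl⟩ := IntermediateField.mem_bot.1 hmem
        exact isAlgebraic_algebraMap c₀
  have hdvd : ∀ f G, Irreducible f → coneHom φ f = 0 → coneHom φ G = 0 → f ∣ G := fun f G =>
    dvd_of_cone_eq_zero σ (by rw [ha]; exact one_ne_zero) (by rwa [ha, div_one])
  -- a nonzero relation
  obtain ⟨H, hH0, hHz⟩ : ∃ H : MvPolynomial (Fin 3) k, H ≠ 0 ∧ coneHom φ H = 0 := by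
    by_contra hcon
    push Not at hcon
    have hinj : Function.Injective (aeval (R := k) (fun i : Fin 2 => φ i.succ)) := by
      rw [injective_iff_map_eq_zero]
      intro Q hQ
      by_contra hQ0
      refine hcon (homogLift Q) ?_ (coneHom_eq_zero_of_homogeneous φ (isHomogeneous_homogLift Q)
        (by rw [aeval_homogLift (k := k) φ (by simp [φ]) Q]; exact hQ))
      intro h0
      have h2 := aeval_homogLift (k := k) (Fin.cases (1 : MvPolynomial (Fin 2) k) X) (by simp) Q
      rw [h0, map_zero] at h2
      apply hQ0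
      simpa [aeval_X_left_apply] using h2.symm
    obtain ⟨x₀, hx₀, hfin⟩ := hK.1
    -- `x` and `y` would be algebraically independent
    have hind : AlgebraicIndependent k (fun i : Fin 2 => φ i.succ) := hinj
    have h1 : Transcendental k x := hind.transcendental 0
    have := finite_adjoin hK h1
    have halg : IsAlgebraic (IntermediateField.adjoin k ({x} : Set K)) y :=
      (IsIntegral.of_finite _ y).isAlgebraic
    have h2 := hind.transcendental_adjoin (s := {0}) (i := 1) (by decide)
    rw [Set.image_singleton] at h2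
    exact h2 ((IntermediateField.isAlgebraic_adjoin_iff).1 halg)
  have hfac : ∀ H : MvPolynomial (Fin 3) k, H ≠ 0 → coneHom (k := k) φ H = 0 →
      ∃ f : MvPolynomial (Fin 3) k, Irreducible f ∧ coneHom φ f = 0 := by
    intro H
    induction H using UniqueFactorizationMonoid.induction_on_prime with
    | h₁ => exact fun h => absurd rfl h
    | h₂ u hu => exact fun _ h => absurd h (hu.map (coneHom (k := k) φ)).ne_zero
    | h₃ a p ha hp ih =>
      intro _ h
      rw [map_mul, mul_eq_zero] at h
      rcases h with h | h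
      · exact ⟨p, hp.irreducible, h⟩
      · exact ih ha h
  obtain ⟨f, hf, hfz⟩ := hfac H hH0 hHz
  refine ⟨f, hf, ?_, le_antisymm (fun G hG => Ideal.mem_span_singleton.2 (hdvd f G hf hfz hG))
    ((Ideal.span_singleton_le_iff_mem _).2 hfz)⟩
  obtain ⟨d, hd⟩ : ∃ d, homogeneousComponent d f ≠ 0 := by
    by_contra hcon
    push Not at hcon
    exact hf.ne_zero (by rw [← sum_homogeneousComponent f]; exact Finset.sum_eq_zero fun i _ => hcon i)
  have hdh := homogeneousComponent_isHomogeneous d f
  obtain ⟨q, hq⟩ := hdvd f _ hf hfz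
    (coneHom_eq_zero_of_homogeneous φ hdh ((coneHom_eq_zero_iff φ f).1 hfz d))
  have hq0 : q ≠ 0 := fun h => hd (by rw [hq, h, mul_zero])
  have h1 := totalDegree_mul_of_isDomain hf.ne_zero hq0
  rw [← hq, hdh.totalDegree hd] at h1
  have hdle : d ≤ f.totalDegree := by
    by_contra hlt
    exact hd (homogeneousComponent_eq_zero d f (by omega))
  obtain ⟨a, rfl⟩ : ∃ a, q = C a := ⟨_, totalDegree_eq_zero_iff_eq_C.1 (by omega)⟩
  have e : f = C a⁻¹ * homogeneousComponent d f := by
    rw [hq, mul_left_comm, ← C_mul, inv_mul_cancel₀ (fun h => hq0 (by rw [h, C_0])), C_1, mul_one]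
  have hh : f.IsHomogeneous d := e ▸ hdh.C_mul a⁻¹
  rwa [hh.totalDegree hf.ne_zero]

end Groth.Agent.FunFld
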