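import Groth.Agent.FunFld.Tangent
import Groth.Agent.FunFld.PlaneRel
import Mathlib.LinearAlgebra.Matrix.Rank

/-! Applications of the Jacobian criterion for image curves. -/

namespace Groth.Agent.FunFld

open _root_.FunFld WithZero IsLocalRing

variable {k K : Type*} [Field k] [Field K] [Algebra k K] [IsAlgClosed k]

omit [IsAlgClosed k] in
theorem residue_eq_const (P : Place k K) (x : P.O) (c : k)
    (h : P.1 ((x : K) - algebraMap k K c) < 1) :
    residue P.O x = algebraMap k (ResidueField P.O) c := by
  show residue P.O x = residue P.O (algebraMap k P.O c)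
  rw [← sub_eq_zero, ← map_sub, IsLocalRing.residue_eq_zero_iff, IsLocalRing.mem_maximalIdeal,
    mem_nonunits_iff]
  intro hu
  obtain ⟨y, hy⟩ := hu.exists_right_inv
  have h1 := congrArg (fun z : P.O => P.1 (z : K)) hy
  have hy1 : P.1 ((y : P.O) : K) ≤ 1 := y.2
  simp only [MulMemClass.coe_mul, OneMemClass.coe_one, map_mul, map_one] at h1
  exact ((mul_le_mul' le_rfl hy1).trans_lt (by rw [mul_one]; exact h)).ne h1

theorem exists_consts (hK : IsFunctionField k K) {ι : Type*} {φ : ι → K} {P : Place k K} {j : ι}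
    (hj0 : φ j ≠ 0) (hj : ∀ i, P.1 (φ i) ≤ P.1 (φ j)) :
    ∃ c : ι → k, ∀ i, P.1 (φ i / φ j - algebraMap k K (c i)) ≤ exp (-1) := by
  choose c hc using fun i => exists_const hK P (ratio_val_le hj0 hj i)
  exact ⟨c, fun i => (lt_one_iff_le P).1 (hc i)⟩

omit [IsAlgClosed k] in
theorem aeval_residue {σ : Type*} (P : Place k K) (a : σ → P.O) (c : σ → k)
    (hc : ∀ i, P.1 ((a i : K) - algebraMap k K (c i)) < 1) (W : MvPolynomial σ k) :
    MvPolynomial.aeval (fun i => residue P.O (a i)) W =
      algebraMap k (ResidueField P.O) (MvPolynomial.eval c W) := by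
  have : (fun i => residue P.O (a i)) = fun i => algebraMap k (ResidueField P.O) (c i) :=
    funext fun i => residue_eq_const P _ _ (hc i)
  rw [this]
  induction W using MvPolynomial.induction_on with
  | C r => simp
  | add p q hp hq => simp only [map_add, hp, hq]
  | mul_X p i hp => simp only [map_mul, MvPolynomial.aeval_X, MvPolynomial.eval_X, hp]

omit [IsAlgClosed k] in
theorem euler_eval {n D : ℕ} {f : MvPolynomial (Fin n) k} (hf : f.IsHomogeneous D) (c : Fin n → k)
    (h0 : MvPolynomial.eval c f = 0) :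
    ∑ l, c l * MvPolynomial.eval c (MvPolynomial.pderiv l f) = 0 := by
  have h := congrArg (MvPolynomial.eval c) hf.sum_X_mul_pderiv
  simpa [map_sum, h0] using h

omit [IsAlgClosed k] in
theorem rel_of_homogeneous {n D : ℕ} {φ : Fin n → K} {j : Fin n} (hj0 : φ j ≠ 0)
    {f : MvPolynomial (Fin n) k} (hf : f.IsHomogeneous D) (h : MvPolynomial.aeval φ f = 0) :
    MvPolynomial.aeval (fun i => φ i / φ j) f = 0 := by
  have e : MvPolynomial.aeval φ f = φ j ^ D * MvPolynomial.aeval (fun i => φ i / φ j) f := by
    rw [MvPolynomial.aeval_def, MvPolynomial.eval₂_eq, MvPolynomial.aeval_def, MvPolynomial.eval₂_eq,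
      Finset.mul_sum]
    refine Finset.sum_congr rfl fun m hm => ?_
    have hdm : ∑ i ∈ m.support, m i = D := by
      have := hf.degree_eq_sum_deg_support hm
      simpa [Finsupp.degree] using this.symm
    rw [mul_left_comm, ← hdm, ← Finset.prod_pow_eq_pow_sum, ← Finset.prod_mul_distrib]
    congr 1
    exact Finset.prod_congr rfl fun i _ => by rw [← mul_pow, mul_div_cancel₀ _ hj0]
  rw [h] at e
  exact (mul_eq_zero.1 e.symm).resolve_left (pow_ne_zero _ hj0)

theorem tangent_line (hK : IsFunctionField k K) {n D : ℕ} (φ : Fin n → K) (hφ : ∀ i, φ i ≠ 0)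
    (f : MvPolynomial (Fin n) k) (hhom : f.IsHomogeneous D) (hfφ : MvPolynomial.aeval φ f = 0)
    (P : Place k K) (j : Fin n) (hj : ∀ i, P.1 (φ i) ≤ P.1 (φ j)) (a : Fin n → P.O)
    (ha : ∀ i, ((a i : P.O) : K) = φ i / φ j) (c : Fin n → k)
    (hc : ∀ i, algebraMap k (ResidueField P.O) (c i) =
      MvPolynomial.aeval (fun l => residue P.O (a l)) (MvPolynomial.pderiv i f)) :
    P.1 (∑ i, c i • (φ i / φ j)) ≤ exp (-2) := by
  classical
  obtain ⟨d, hd⟩ := exists_consts hK (hφ j) hj
  have hlt : (exp (-1) : WithZero (Multiplicative ℤ)) < 1 := by rw [← exp_zero, exp_lt_exp]; omega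
  have hcd : ∀ i, c i = MvPolynomial.eval d (MvPolynomial.pderiv i f) := fun i => by
    have h := hc i
    rw [aeval_residue P a d (fun l => by rw [ha]; exact (hd l).trans_lt hlt)] at h
    exact (algebraMap k (ResidueField P.O)).injective h
  -- reduce to the chart
  obtain ⟨m, rfl⟩ : ∃ m, n = m + 1 := ⟨n - 1, by have := j.2; omega⟩
  have hrel := rel_of_homogeneous (hφ j) hhom hfφ
  have h0 : MvPolynomial.eval d f = 0 := eval_eq_zero_of_rel hd (by rw [hrel]; simp)
  have ht := tangent_val hd hrel h0
  have e : ∑ i, c i • (φ i / φ j) =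
      ∑ l, algebraMap k K (MvPolynomial.eval d (MvPolynomial.pderiv l f)) * (φ l / φ j - algebraMap k K (d l)) := by
    simp only [mul_sub, Finset.sum_sub_distrib, ← map_mul, ← map_sum, hcd, Algebra.smul_def]
    rw [show ∑ l, MvPolynomial.eval d (MvPolynomial.pderiv l f) * d l = 0 from
      (Finset.sum_congr rfl fun l _ => mul_comm _ _).trans (euler_eval hhom d h0), map_zero, sub_zero]
  rw [e]
  exact ht

theorem plane_singular_iff (hK : IsFunctionField k K) (φ : Fin 3 → K) (hφ : LinearIndependent k φ)
    (hbir : IntermediateField.adjoin k (Set.range fun i => φ i / φ 0) = ⊤) {D : ℕ}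
    (f : MvPolynomial (Fin 3) k) (hf : Irreducible f) (hhom : f.IsHomogeneous D)
    (hfφ : MvPolynomial.aeval φ f = 0) (P : Place k K) (j : Fin 3)
    (hj : ∀ i, P.1 (φ i) ≤ P.1 (φ j)) (a : Fin 3 → P.O) (ha : ∀ i, ((a i : P.O) : K) = φ i / φ j) :
    ¬ IsNonsingularAt φ P ↔
      ∀ l : Fin 3, MvPolynomial.aeval (fun i => residue P.O (a i)) (MvPolynomial.pderiv l f) = 0 := by
  classical
  obtain ⟨c, hc⟩ := exists_consts hK (hφ.ne_zero j) hj
  have hlt : (exp (-1) : WithZero (Multiplicative ℤ)) < 1 := by rw [← exp_zero, exp_lt_exp]; omega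
  have hker := ker_cone_eq_span hK hφ hf hhom hfφ
  have hrel := rel_of_homogeneous (hφ.ne_zero j) hhom hfφ
  have h0 : MvPolynomial.eval c f = 0 := eval_eq_zero_of_rel hc (by rw [hrel]; simp)
  have hcj : c j = 1 := by
    have h := hc j
    rw [div_self (hφ.ne_zero j)] at h
    exact (const_unique P (z := (1 : K)) (h.trans_lt hlt) (by simp)).trans rfl
  rw [nonsingular_iff_finrank_grad φ hφ (by omega) hbir P j hj c hc {f}
    (fun g hg => Set.mem_singleton_iff.1 hg ▸ hrel)
    (fun H D' hH hH0 => hker ▸ coneHom_eq_zero_of_homogeneous φ hH hH0), Set.image_singleton]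
  have hres : ∀ l, MvPolynomial.aeval (fun i => residue P.O (a i)) (MvPolynomial.pderiv l f) = 0 ↔
      MvPolynomial.eval c (MvPolynomial.pderiv l f) = 0 := fun l => by
    rw [aeval_residue P a c (fun i => by rw [ha]; exact (hc i).trans_lt hlt),
      map_eq_zero_iff _ (algebraMap k (ResidueField P.O)).injective]
  simp only [hres]
  constructor
  · intro h
    have hg : grad j c f = 0 := by
      by_contra hne
      exact h (by rw [finrank_span_singleton hne])
    intro l
    by_cases hl : l = j
    · subst hl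
      have he := euler_eval hhom c h0
      rw [Finset.sum_eq_single l (fun i _ hi => by
        have := congrFun hg i
        rw [grad_apply, if_neg hi, Pi.zero_apply] at this
        rw [this, mul_zero]) (by simp), hcj, one_mul] at he
      exact he
    · have := congrFun hg l
      rwa [grad_apply, if_neg hl] at this
  · intro h h1
    have hg : grad j c f = 0 := by
      ext l; simp [grad_apply, h l]
    rw [hg, Submodule.span_singleton_eq_bot.2 rfl, finrank_bot] at h1
    omega

theorem jacobian_rank_iff (hK : IsFunctionField k K) {n : ℕ} (hn : 1 ≤ n) (φ : Fin (n + 1) → K)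
    (hφ : LinearIndependent k φ)
    (hbir : IntermediateField.adjoin k (Set.range fun i => φ i / φ 0) = ⊤)
    (P : Place k K) (hP : ∀ i, P.1 (φ i) ≤ P.1 (φ 0)) {r : ℕ}
    (f : Fin r → MvPolynomial (Fin (n + 1)) k) (hhom : ∀ i, (f i).IsHomogeneous (f i).totalDegree)
    (hgen : Ideal.span (Set.range f) = RingHom.ker (coneHom (k := k) φ))
    (M : Matrix (Fin r) (Fin n) P.O)
    (hM : ∀ i j, ((M i j : P.O) : K) =
      MvPolynomial.aeval (fun l => φ l / φ 0) (MvPolynomial.pderiv j.succ (f i))) :
    IsNonsingularAt φ P ↔ (M.map (residue P.O)).rank = n - 1 := by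
  classical
  obtain ⟨c, hc⟩ := exists_consts hK (hφ.ne_zero 0) hP
  have hlt : (exp (-1) : WithZero (Multiplicative ℤ)) < 1 := by rw [← exp_zero, exp_lt_exp]; omega
  have hFφ : ∀ i, MvPolynomial.aeval φ (f i) = 0 := fun i => by
    have h : f i ∈ RingHom.ker (coneHom (k := k) φ) := hgen ▸ Ideal.subset_span ⟨i, rfl⟩
    have h1 := (coneHom_eq_zero_iff φ _).1 h (f i).totalDegree
    rwa [MvPolynomial.homogeneousComponent_of_mem (hhom i), if_pos rfl] at h1
  rw [nonsingular_iff_finrank_grad φ hφ hn hbir P 0 hP c hc (Set.range f)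
    (by rintro _ ⟨i, rfl⟩; exact rel_of_homogeneous (hφ.ne_zero 0) (hhom i) (hFφ i))
    (fun H D' hH hH0 => hgen ▸ coneHom_eq_zero_of_homogeneous φ hH hH0)]
  -- the matrix over `k`
  let Mk : Matrix (Fin r) (Fin n) k := fun i l => MvPolynomial.eval c (MvPolynomial.pderiv l.succ (f i))
  have hMk : M.map (residue P.O) = Mk.map (algebraMap k (ResidueField P.O)) := by
    ext i l
    exact residue_eq_const P _ _ (by rw [hM]; exact (eval_of_rel hc _).trans_lt hlt)
  let E : (Fin n → k) →ₗ[k] (Fin (n + 1) → k) :=
    { toFun := fun v => Fin.cases 0 v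
      map_add' := fun v w => by ext i; refine Fin.cases ?_ (fun l => ?_) i <;> simp
      map_smul' := fun a v => by ext i; refine Fin.cases ?_ (fun l => ?_) i <;> simp }
  have hE : Function.Injective E := fun v w h => funext fun l => by simpa [E] using congrFun h l.succ
  have hspan : Submodule.span k (grad 0 c '' Set.range f) = (Submodule.span k (Set.range Mk)).map E := by
    rw [Submodule.map_span, ← Set.range_comp, ← Set.range_comp]
    congr 2
    funext i l
    refine Fin.cases ?_ (fun l => ?_) l <;> simp [E, Mk, grad_apply, Fin.succ_ne_zero]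
  rw [hspan, ← (Submodule.equivMapOfInjective E hE _).finrank_eq,
    show Module.finrank k (Submodule.span k (Set.range Mk)) = Mk.rank from
      (Matrix.rank_eq_finrank_span_row Mk).symm, hMk]
  have hsurj : Function.Surjective (algebraMap k (ResidueField P.O)) := fun w => by
    obtain ⟨x, rfl⟩ := IsLocalRing.residue_surjective w
    obtain ⟨d, hd⟩ := exists_const hK P (x.2 : P.1 (x : K) ≤ 1)
    exact ⟨d, (residue_eq_const P x d hd).symm⟩
  have hrk : (Mk.map (algebraMap k (ResidueField P.O))).rank = Mk.rank := by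
    haveI : RingHomSurjective (algebraMap k (ResidueField P.O)) := ⟨hsurj⟩
    let e : k ≃+* ResidueField P.O :=
      RingEquiv.ofBijective _ ⟨(algebraMap k (ResidueField P.O)).injective, hsurj⟩
    letI := RingHomInvPair.of_ringEquiv e
    letI := RingHomInvPair.symm (↑e : k →+* ResidueField P.O) ↑e.symm
    rw [Matrix.rank_eq_finrank_span_row, Matrix.rank_eq_finrank_span_row]
    let S : (Fin n → k) ≃ₛₗ[(↑e : k →+* ResidueField P.O)] (Fin n → ResidueField P.O) :=
      { toFun := fun v i => e (v i)
        invFun := fun v i => e.symm (v i)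
        left_inv := fun v => funext fun i => e.symm_apply_apply _
        right_inv := fun v => funext fun i => e.apply_symm_apply _
        map_add' := fun v w => funext fun i => map_add e _ _
        map_smul' := fun a v => funext fun i => map_mul e _ _ }
    have hmap : (Submodule.span k (Set.range Mk.row)).map (S : (Fin n → k) →ₛₗ[(↑e : k →+* ResidueField P.O)] _) =
        Submodule.span (ResidueField P.O) (Set.range (Mk.map (algebraMap k (ResidueField P.O))).row) := by
      rw [Submodule.map_span, ← Set.range_comp]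
      rfl
    rw [← hmap]
    have h := lift_rank_eq_of_equiv_equiv (R := k) (R' := ResidueField P.O) (fun a => e a)
      (S.submoduleMap (Submodule.span k (Set.range Mk.row))).toAddEquiv e.bijective
      (fun a x => map_smulₛₗ (S.submoduleMap (Submodule.span k (Set.range Mk.row))) a x)
    have h2 := congrArg Cardinal.toNat h
    simp only [Cardinal.toNat_lift] at h2
    exact h2.symm
  rw [hrk]
  have hle : Mk.rank ≤ n := Matrix.rank_le_width Mk
  omega

end Groth.Agent.FunFld
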