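import Groth.Agent.FunFld.RatBelow
import Groth.Agent.FunFld.Wr.Basis
import Mathlib.FieldTheory.Minpoly.IsIntegrallyClosed

/-! `k[x, y]` as an intersection of the rings `O_P[y]`. -/

namespace Groth.Agent.FunFld

open _root_.FunFld WithZero Polynomial

variable {k K : Type*} [Field k] [IsAlgClosed k] [Field K] [Algebra k K]

theorem adjoin_pair_eq_iInter (hK : IsFunctionField k K) (x y : K) (hx : Transcendental k x)
    (hy : IsIntegral (Algebra.adjoin k ({x} : Set K)) y) :
    (Algebra.adjoin k ({x, y} : Set K) : Set K) =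
      ⋂ (P : Place k (IntermediateField.adjoin k ({x} : Set K)))
        (_ : P.1 ⟨x, IntermediateField.mem_adjoin_simple_self k x⟩ ≤ 1),
        (Subring.closure
          ((algebraMap (IntermediateField.adjoin k ({x} : Set K)) K '' (P.O : Set _)) ∪ {y}) :
          Set K) := by
  classical
  haveI := finite_adjoin hK hx
  set K0 := IntermediateField.adjoin k ({x} : Set K) with hK0def
  have hint : IsIntegral K0 y := IsIntegral.of_finite K0 y
  set M := minpoly K0 y with hM
  have hMmon : M.Monic := minpoly.monic hint
  have hxle : ∀ P : Place k K0, P.1 (genOf k x) ≤ 1 → ∀ p : k[X], P.1 (aeval (genOf k x) p) ≤ 1 := fun P hP p => by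
    rw [aeval_eq_sum_range]
    exact P.1.map_sum_le fun i _ => by
      rw [Algebra.smul_def, map_mul, map_pow]; exact mul_le_one' (P.2.1 _) (pow_le_one' hP _)
  -- the minimal polynomial has coefficients integral at the finite places
  have hMc : ∀ P : Place k K0, P.1 (genOf k x) ≤ 1 → ∀ i, P.1 (M.coeff i) ≤ 1 := by
    intro P hP i
    obtain ⟨h, hh, hhy⟩ := hy
    letI : Algebra P.O K := ((algebraMap K0 K).comp P.O.subtype).toAlgebra
    haveI : IsScalarTower P.O K0 K := IsScalarTower.of_algebraMap_eq fun _ => rfl
    have hmem : ∀ z : Algebra.adjoin k ({x} : Set K), ∃ p : k[X], (z : K) = aeval x p := fun z => by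
      obtain ⟨p, hp⟩ := ((Algebra.adjoin_singleton_eq_range_aeval k x).le z.2)
      exact ⟨p, hp.symm⟩
    choose f hf using hmem
    let θ : Algebra.adjoin k ({x} : Set K) → P.O := fun z => ⟨aeval (genOf k x) (f z), hxle P hP _⟩
    have hθ : ∀ z, algebraMap P.O K (θ z) = (z : K) := fun z => by
      rw [hf z]
      show algebraMap K0 K (aeval (genOf k x) (f z)) = _
      rw [← aeval_algebraMap_apply]
      rfl
    let θ' : Algebra.adjoin k ({x} : Set K) →+* P.O :=
      { toFun := θ
        map_one' := Subtype.ext ((algebraMap K0 K).injective ((hθ 1).trans (map_one (algebraMap K0 K)).symm))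
        map_mul' := fun a b => Subtype.ext ((algebraMap K0 K).injective ((hθ (a * b)).trans (by
          show ((a * b : Algebra.adjoin k ({x} : Set K)) : K) = algebraMap K0 K ((θ a : K0) * (θ b : K0))
          rw [map_mul, Subalgebra.coe_mul, ← hθ a, ← hθ b]; rfl)))
        map_zero' := Subtype.ext ((algebraMap K0 K).injective ((hθ 0).trans (map_zero (algebraMap K0 K)).symm))
        map_add' := fun a b => Subtype.ext ((algebraMap K0 K).injective ((hθ (a + b)).trans (by
          show ((a + b : Algebra.adjoin k ({x} : Set K)) : K) = algebraMap K0 K ((θ a : K0) + (θ b : K0))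
          rw [map_add, Subalgebra.coe_add, ← hθ a, ← hθ b]; rfl))) }
    have hyP : IsIntegral P.O y := by
      refine ⟨h.map θ', hh.map _, ?_⟩
      rw [eval₂_map, show (algebraMap P.O K).comp θ' = algebraMap (Algebra.adjoin k ({x} : Set K)) K from
        RingHom.ext hθ]
      exact hhy
    rw [hM, minpoly.isIntegrallyClosed_eq_field_fractions' K0 hyP, coeff_map]
    exact ((minpoly P.O y).coeff i).2
  refine Set.Subset.antisymm (fun z hz => ?_) fun z hz => ?_
  · refine Set.mem_iInter₂.2 fun P hP => ?_
    set C := Subring.closure ((algebraMap K0 K '' (P.O : Set K0)) ∪ {y}) with hC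
    have hk : ∀ c : k, algebraMap k K c ∈ C := fun c => Subring.subset_closure
      (Or.inl ⟨algebraMap k K0 c, P.2.1 c, rfl⟩)
    refine Algebra.adjoin_induction (p := fun w _ => w ∈ C) ?_ hk (fun a b _ _ => add_mem) (fun a b _ _ => mul_mem) hz
    rintro w (rfl | rfl)
    · exact Subring.subset_closure (Or.inl ⟨genOf k w, hP, rfl⟩)
    · exact Subring.subset_closure (Or.inr rfl)
  · have hrep : ∀ P : Place k K0, P.1 (genOf k x) ≤ 1 →
        ∃ q : Polynomial K0, (∀ i, P.1 (q.coeff i) ≤ 1) ∧ q.degree < M.degree ∧ aeval y q = z := by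
      intro P hP
      have h := Set.mem_iInter₂.1 hz P hP
      letI : Algebra P.O K := ((algebraMap K0 K).comp P.O.subtype).toAlgebra
      obtain ⟨q, hq⟩ : ∃ q : Polynomial P.O, aeval y q = z := by
        have hle : Subring.closure ((algebraMap K0 K '' (P.O : Set K0)) ∪ {y}) ≤ (aeval (R := P.O) y).range.toSubring := by
          rw [Subring.closure_le]
          rintro w (⟨a, ha, rfl⟩ | rfl)
          · exact ⟨Polynomial.C ⟨a, ha⟩, by simp; rfl⟩
          · exact ⟨Polynomial.X, aeval_X w⟩
        exact hle h
      let MP : Polynomial P.O := ∑ i ∈ Finset.range (M.natDegree + 1), monomial i ⟨M.coeff i, hMc P hP i⟩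
      have hMP : MP.map P.O.subtype = M := by
        simp only [MP, Polynomial.map_sum, map_monomial]
        exact (M.as_sum_range).symm
      have hMPmon : MP.Monic := monic_of_injective Subtype.val_injective (f := P.O.subtype) (by rw [hMP]; exact hMmon)
      refine ⟨(q %ₘ MP).map P.O.subtype, fun i => ?_, ?_, ?_⟩
      · rw [coeff_map]; exact ((q %ₘ MP).coeff i).2
      · calc ((q %ₘ MP).map P.O.subtype).degree ≤ (q %ₘ MP).degree := degree_map_le
          _ < MP.degree := degree_modByMonic_lt q hMPmon
          _ = (MP.map P.O.subtype).degree := (hMPmon.degree_map _).symm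
          _ = M.degree := by rw [hMP]
      · have hev : ∀ g : Polynomial P.O, aeval y (g.map P.O.subtype) = aeval y g := fun g => by
          rw [aeval_def, eval₂_map, aeval_def]; rfl
        have h0 := congrArg (aeval y) (modByMonic_add_div q MP)
        rw [map_add, map_mul, ← hev MP, hMP, hM, minpoly.aeval, zero_mul, add_zero, hq] at h0
        rw [hev]
        exact h0
    obtain ⟨P0, hP0⟩ := exists_rat_zero hK hx 0
    obtain ⟨q, -, hqd, hqz⟩ := hrep P0 (by rw [map_zero, sub_zero] at hP0; exact hP0.le)
    have hq : ∀ i, ∃ r : k[X], q.coeff i = aeval (genOf k x) r := fun i => rat_polynomial hK hx fun P hP => by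
      obtain ⟨q', hq', hqd', hqz'⟩ := hrep P hP
      have : q' = q := by
        by_contra hne
        refine not_le.2 ((degree_sub_le q' q).trans_lt (max_lt hqd' hqd)) ?_
        rw [hM]
        exact minpoly.degree_le_of_ne_zero K0 y (sub_ne_zero.2 hne) (by rw [map_sub, hqz, hqz', sub_self])
      exact this ▸ hq' i
    rw [← hqz, aeval_eq_sum_range]
    refine sum_mem fun i _ => ?_
    obtain ⟨r, hr⟩ := hq i
    rw [Algebra.smul_def, hr, ← aeval_algebraMap_apply, show algebraMap K0 K (genOf k x) = x from rfl]
    refine mul_mem ?_ (pow_mem (Algebra.subset_adjoin (show y ∈ ({x, y} : Set K) from Set.mem_insert_of_mem x rfl)) i)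
    exact Algebra.adjoin_mono (Set.singleton_subset_iff.2 (Set.mem_insert x {y})) (aeval_mem_adjoin_singleton k x)

end Groth.Agent.FunFld
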