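import Groth.Agent.FunFld.Geometric
import Groth.Agent.FunFld.Ext.Const
import Mathlib.RingTheory.TensorProduct.Maps
import Mathlib.LinearAlgebra.Dual.Lemmas

/-! Constant extensions of geometric function fields; weakly separable extensions. -/

namespace Groth.Agent.FunFld

open _root_.FunFld IntermediateField TensorProduct

universe u v

variable {k k' : Type u} {K K' : Type v} [Field k] [Field k'] [Field K] [Field K'] [Algebra k k']
  [Algebra k K] [Algebra K K'] [Algebra k' K'] [Algebra k K'] [IsScalarTower k k' K']
  [IsScalarTower k K K']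

theorem weaklySeparable (hK : IsFunctionField k K) (hg : IsGeometric k K)
    (hK' : IsFunctionField k' K') (hg' : IsGeometric k' K') [FiniteDimensional K K']
    (hw : Function.Injective (KaehlerDifferential.map k k' K K')) :
    Algebra.IsSeparable (IntermediateField.adjoin K (Set.range (algebraMap k' K'))) K' := by
  obtain ⟨x, hx, hsep⟩ := exists_separating hK hg
  set E := IntermediateField.adjoin K (Set.range (algebraMap k' K'))
  obtain hc | ⟨p, hp, hpk⟩ := CharP.exists' K'
  · haveI : CharZero E := ((algebraMap E K').charZero_iff (algebraMap E K').injective).2 hc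
    infer_instance
  set x' := algebraMap K K' x
  have hD : KaehlerDifferential.D k' K' x' ≠ 0 := by
    intro h
    refine D_ne_zero hK (y := x) (hw ?_)
    rw [map_zero, KaehlerDifferential.map_D]
    exact h
  haveI : Algebra.IsSeparable (IntermediateField.adjoin k' ({x'} : Set K')) K' :=
    separable_of_not_mem p hK' hg' fun h => hD (D_eq_zero_of_mem p h)
  set L := IntermediateField.adjoin k' ({x'} : Set K')
  have hmem : ∀ a ∈ L, a ∈ E := by
    intro a ha
    induction ha using IntermediateField.adjoin_induction with
    | mem w hw => rw [Set.mem_singleton_iff.1 hw]; exact E.algebraMap_mem x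
    | algebraMap c => exact subset_adjoin _ _ ⟨c, rfl⟩
    | add a b _ _ ha hb => exact add_mem ha hb
    | inv a _ ha => exact inv_mem ha
    | mul a b _ _ ha hb => exact mul_mem ha hb
  letI : Algebra L E := ((algebraMap L K').codRestrict E fun a => hmem a a.2).toAlgebra
  haveI : IsScalarTower L E K' := IsScalarTower.of_algebraMap_eq fun _ => rfl
  exact Algebra.isSeparable_tower_top_of_isSeparable L E K'

variable [FiniteDimensional k k']
  (h : Function.Bijective (Algebra.TensorProduct.productMap (IsScalarTower.toAlgHom k k' K')
    (IsScalarTower.toAlgHom k K K')))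

include h

theorem finiteDimensional_constExt : FiniteDimensional K K' := by
  classical
  let b := Module.finBasis k k'
  refine Module.Finite.of_fg_top ⟨Finset.univ.image fun i => algebraMap k' K' (b i), ?_⟩
    |> fun h => h
  refine top_le_iff.1 fun z _ => ?_
  obtain ⟨w, rfl⟩ := h.2 z
  induction w using TensorProduct.induction_on with
  | zero => rw [map_zero]; exact Submodule.zero_mem _
  | add a c ha hc => rw [map_add]; exact Submodule.add_mem _ (ha trivial) (hc trivial)
  | tmul a c =>
    rw [Algebra.TensorProduct.productMap_apply_tmul, IsScalarTower.coe_toAlgHom',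
      IsScalarTower.coe_toAlgHom', mul_comm, ← Algebra.smul_def]
    refine Submodule.smul_mem _ _ ?_
    rw [← b.sum_repr a, map_sum]
    refine Submodule.sum_mem _ fun i _ => ?_
    rw [Algebra.smul_def, map_mul, ← IsScalarTower.algebraMap_apply,
      IsScalarTower.algebraMap_apply k K K', ← Algebra.smul_def]
    exact Submodule.smul_mem _ _ (Submodule.subset_span (by simp))

theorem algebraicallyClosed_constExt (hg : IsGeometric k K) (y : K') (hy : IsAlgebraic k' y) :
    y ∈ Set.range (algebraMap k' K') := by
  have hyi : IsIntegral k' y := hy.isIntegral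
  let f := minpoly k' y
  haveI : Fact (Irreducible f) := ⟨minpoly.irreducible hyi⟩
  haveI : FiniteDimensional k' (AdjoinRoot f) := (AdjoinRoot.powerBasis (minpoly.ne_zero hyi)).finite
  haveI : FiniteDimensional k (AdjoinRoot f) := Module.Finite.trans k' (AdjoinRoot f)
  let φ : AdjoinRoot f →ₐ[k'] K' := AdjoinRoot.liftAlgHom f (Algebra.ofId k' K') y (minpoly.aeval k' y)
  letI : Field (AdjoinRoot f ⊗[k] K) := (hg (AdjoinRoot f) inferInstance).toField
  let ψ : AdjoinRoot f ⊗[k] K →ₐ[k] K' :=
    Algebra.TensorProduct.productMap (φ.restrictScalars k) (IsScalarTower.toAlgHom k K K')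
  have hψ : Function.Injective ψ := ψ.toRingHom.injective
  let ι : k' ⊗[k] K →ₗ[k] AdjoinRoot f ⊗[k] K :=
    LinearMap.rTensor K (IsScalarTower.toAlgHom k k' (AdjoinRoot f)).toLinearMap
  have hcomp : ∀ w, ψ (ι w) = Algebra.TensorProduct.productMap (IsScalarTower.toAlgHom k k' K')
      (IsScalarTower.toAlgHom k K K') w := by
    intro w
    induction w using TensorProduct.induction_on with
    | zero => simp
    | add a c ha hc => simp only [map_add, ha, hc]
    | tmul a c => simp [ι, ψ, ← AdjoinRoot.algebraMap_eq]
  have hroot : AdjoinRoot.root f ∈ LinearMap.range (Algebra.linearMap k' (AdjoinRoot f)) := by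
    by_contra hne
    obtain ⟨π, hπ, hπ'⟩ := Submodule.exists_le_ker_of_notMem
      (p := (LinearMap.range (Algebra.linearMap k' (AdjoinRoot f))).restrictScalars k) hne
    obtain ⟨w, hw⟩ := h.2 (ψ (AdjoinRoot.root f ⊗ₜ[k] (1 : K)))
    rw [← hcomp] at hw
    have h0 : ∀ w, TensorProduct.lid k K (LinearMap.rTensor K π (ι w)) = 0 := by
      intro w
      induction w using TensorProduct.induction_on with
      | zero => simp
      | add a c ha hc => simp only [map_add, ha, hc, add_zero]
      | tmul a c =>
        have : π (algebraMap k' (AdjoinRoot f) a) = 0 := hπ' ⟨a, rfl⟩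
        simp [ι, ← AdjoinRoot.algebraMap_eq, this]
    have h1 := h0 w
    rw [hψ hw, LinearMap.rTensor_tmul, TensorProduct.lid_tmul] at h1
    exact (smul_ne_zero hπ one_ne_zero) h1
  obtain ⟨c, hc⟩ := hroot
  refine ⟨c, ?_⟩
  rw [← φ.commutes c, ← Algebra.linearMap_apply, hc]
  exact AdjoinRoot.liftAlgHom_root _ _ _ _

theorem constExt (hK : IsFunctionField k K) (hg : IsGeometric k K) :
    IsFunctionField k' K' ∧ IsGeometric k' K' := by
  refine ⟨⟨?_, algebraicallyClosed_constExt h hg⟩, ?_⟩
  · haveI := finiteDimensional_constExt h
    obtain ⟨x, hx, hfin⟩ := exists_transcendental (K' := K') hK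
    refine ⟨x, fun halg => hx (isIntegral_trans x halg.isIntegral).isAlgebraic, ?_⟩
    set L := IntermediateField.adjoin k ({x} : Set K')
    set L' := IntermediateField.adjoin k' ({x} : Set K')
    have hmem : L ≤ L'.restrictScalars k := by
      rw [adjoin_simple_le_iff]; exact mem_adjoin_simple_self k' x
    letI : Algebra L L' := (IntermediateField.inclusion hmem).toRingHom.toAlgebra
    haveI : IsScalarTower L L' K' := IsScalarTower.of_algebraMap_eq fun _ => rfl
    exact Module.Finite.of_restrictScalars_finite L L' K'
  · intro k'' _ _ hfin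
    letI : Algebra k k'' := ((algebraMap k' k'').comp (algebraMap k k')).toAlgebra
    haveI : IsScalarTower k k' k'' := IsScalarTower.of_algebraMap_eq fun _ => rfl
    haveI : FiniteDimensional k k'' := Module.Finite.trans k' k''
    letI : Field (k'' ⊗[k] K) := (hg k'' inferInstance).toField
    let Φ : k'' ⊗[k] K →ₐ[k] k'' ⊗[k'] K' :=
      Algebra.TensorProduct.productMap ((Algebra.TensorProduct.includeLeft : k'' →ₐ[k'] k'' ⊗[k'] K').restrictScalars k)
        (((Algebra.TensorProduct.includeRight : K' →ₐ[k'] k'' ⊗[k'] K').restrictScalars k).comp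
          (IsScalarTower.toAlgHom k K K'))
    have hΦ : Function.Surjective Φ := by
      intro z
      induction z using TensorProduct.induction_on with
      | zero => exact ⟨0, map_zero _⟩
      | add a c ha hc =>
        obtain ⟨u, rfl⟩ := ha; obtain ⟨w, rfl⟩ := hc
        exact ⟨u + w, map_add _ _ _⟩
      | tmul a b =>
        obtain ⟨w, rfl⟩ := h.2 b
        induction w using TensorProduct.induction_on with
        | zero => exact ⟨0, by simp⟩
        | add u w hu hw =>
          obtain ⟨u', hu'⟩ := hu; obtain ⟨w', hw'⟩ := hw
          exact ⟨u' + w', by rw [map_add, hu', hw', map_add, tmul_add]⟩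
        | tmul c x =>
          refine ⟨(c • a) ⊗ₜ[k] x, ?_⟩
          simp only [Φ, Algebra.TensorProduct.productMap_apply_tmul, AlgHom.comp_apply,
            AlgHom.restrictScalars_apply, Algebra.TensorProduct.includeLeft_apply,
            Algebra.TensorProduct.includeRight_apply, IsScalarTower.coe_toAlgHom',
            Algebra.TensorProduct.tmul_mul_tmul, mul_one, one_mul]
          rw [← Algebra.smul_def, smul_tmul]
    haveI : Nontrivial (k'' ⊗[k'] K') :=
      (Algebra.TensorProduct.includeRight_injective (R := k') (A := k'') (B := K')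
        (algebraMap k' k'').injective).nontrivial
    exact MulEquiv.isField (Field.toIsField (k'' ⊗[k] K))
      (RingEquiv.ofBijective Φ.toRingHom ⟨Φ.toRingHom.injective, hΦ⟩).symm.toMulEquiv

end Groth.Agent.FunFld
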