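import Groth.Agent.FunFld.ConstDisc
import Groth.Agent.FunFld.Ext.Quad
import Groth.Agent.FunFld.ZetaExp
import Mathlib.FieldTheory.Finite.Basic
import Mathlib.LinearAlgebra.Dimension.OrzechProperty

/-! Point counts in constant extensions of function fields over finite fields. -/

namespace Groth.Agent.FunFld

set_option linter.style.haveILetI false

open _root_.FunFld WithZero IsLocalRing TensorProduct

section

variable {k k' K K' : Type*} [Field k] [Field k'] [Field K] [Field K']
  [Algebra k k'] [FiniteDimensional k k'] [Algebra k K] [Algebra K K'] [Algebra k' K'] [Algebra k K']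
  [IsScalarTower k k' K'] [IsScalarTower k K K']

theorem bijective_of_constExt (hadj : Algebra.adjoin K (Set.range (algebraMap k' K')) = ⊤)
    (hfr : Module.finrank K K' = Module.finrank k k') :
    Function.Bijective (Algebra.TensorProduct.productMap (IsScalarTower.toAlgHom k k' K')
      (IsScalarTower.toAlgHom k K K')) := by
  classical
  set φ := Algebra.TensorProduct.productMap (IsScalarTower.toAlgHom k k' K') (IsScalarTower.toAlgHom k K K')
  set β := Module.finBasis k k'
  let v : Fin (Module.finrank k k') → K' := fun i => algebraMap k' K' (β i)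
  have hrange : ∀ a : k', algebraMap k' K' a ∈ Submodule.span K (Set.range v) := fun a => by
    rw [← β.sum_repr a, map_sum]
    refine Submodule.sum_mem _ fun i _ => ?_
    rw [Algebra.smul_def, map_mul, ← IsScalarTower.algebraMap_apply, IsScalarTower.algebraMap_apply k K K',
      ← Algebra.smul_def]
    exact Submodule.smul_mem _ _ (Submodule.subset_span ⟨i, rfl⟩)
  have hspan : ⊤ ≤ Submodule.span K (Set.range v) := by
    rw [← Algebra.top_toSubmodule, ← hadj, Algebra.adjoin_eq_span, Submodule.span_le]
    intro z hz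
    have : z ∈ Set.range (algebraMap k' K') :=
      (Submonoid.closure_le (S := MonoidHom.mrange (algebraMap k' K' : k' →* K'))).2 (fun w hw => hw) hz
    obtain ⟨a, rfl⟩ := this
    exact hrange a
  have hfin : 0 < Module.finrank k k' := Module.finrank_pos
  haveI : FiniteDimensional K K' := Module.finite_of_finrank_pos (hfr ▸ hfin)
  have hli : LinearIndependent K v :=
    linearIndependent_of_top_le_span_of_card_eq_finrank hspan (by rw [Fintype.card_fin, hfr])
  have hv : ∀ c : Fin (Module.finrank k k') →₀ K, φ (c.sum fun i m => β i ⊗ₜ[k] m) = ∑ i, c i • v i := fun c => by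
    rw [Finsupp.sum_fintype _ _ (fun _ => tmul_zero _ _), map_sum]
    refine Finset.sum_congr rfl fun j _ => ?_
    rw [Algebra.TensorProduct.productMap_apply_tmul, Algebra.smul_def, mul_comm]; rfl
  refine ⟨?_, fun z => ?_⟩
  · rw [injective_iff_map_eq_zero]
    intro w hw
    obtain ⟨c, rfl⟩ := TensorProduct.eq_repr_basis_left β w
    rw [hv] at hw
    have : c = 0 := Finsupp.ext fun i => (Fintype.linearIndependent_iff.1 hli) (fun i => c i) hw i
    rw [this, Finsupp.sum_zero_index]
  · obtain ⟨c, hc⟩ := (Submodule.mem_span_range_iff_exists_fun K).1 (hspan (Submodule.mem_top (x := z)))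
    exact ⟨(Finsupp.equivFunOnFinite.symm c).sum fun i m => β i ⊗ₜ[k] m, by rw [hv]; exact hc⟩

variable [Finite k]
  (h : Function.Bijective (Algebra.TensorProduct.productMap (IsScalarTower.toAlgHom k k' K')
    (IsScalarTower.toAlgHom k K K')))
include h

theorem deg_le_of_dvd_const (hK : IsFunctionField k K) {P : Place k K} {M : ℕ} (hM : M ≠ 0)
    (hn : Module.finrank k k' ∣ M) (hd : P.deg ∣ M) {Q : Place k K'} (hQ : IsOver Q P) :
    P.deg ∣ Q.deg ∧ Q.deg ≤ M := by
  classical
  obtain ⟨b, -⟩ := exists_const_basis h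
  haveI := Module.Finite.of_basis b
  haveI : Finite k' := Module.finite_of_finite k
  haveI : Algebra.IsSeparable k k' := inferInstance
  letI : Algebra P.O K' := ((algebraMap K K').comp P.O.subtype).toAlgebra
  haveI : IsScalarTower P.O K K' := IsScalarTower.of_algebraMap_eq fun _ => rfl
  obtain ⟨hclos, -⟩ := sep_const_disc h hK P Q hQ
  haveI := residue_finite' (K' := K') hK Q
  haveI := residue_finite hK P
  haveI : Finite (ResidueField P.O) := Module.finite_of_finite k
  haveI : Finite (ResidueField Q.O) := Module.finite_of_finite k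
  let ι₀ : P.O →+* Q.O :=
    ((algebraMap K K').comp P.O.subtype).codRestrict Q.O fun c => (val_le_one_iff hQ (c : K)).2 c.2
  haveI : IsLocalHom ι₀ := ⟨fun c hc => by
    by_contra hn
    have h1 : P.1 (c : K) < 1 := (Valuation.Integer.not_isUnit_iff_valuation_lt_one (v := P.1) (x := c)).1 hn
    exact (Valuation.Integer.not_isUnit_iff_valuation_lt_one (v := Q.1) (x := ι₀ c)).2
      ((val_lt_one_iff hQ (c : K)).2 h1) hc⟩
  have hcP : Nat.card (ResidueField P.O) = Nat.card k ^ P.deg := Module.natCard_eq_pow_finrank (K := k)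
  have hcQ : Nat.card (ResidueField Q.O) = Nat.card k ^ Q.deg := Module.natCard_eq_pow_finrank (K := k)
  refine ⟨?_, ?_⟩
  · letI iPQ : Algebra (ResidueField P.O) (ResidueField Q.O) := (ResidueField.map ι₀).toAlgebra
    letI := iPQ.toModule
    have hc := Module.natCard_eq_pow_finrank (K := ResidueField P.O) (V := ResidueField Q.O)
    rw [hcP, hcQ, ← pow_mul] at hc
    exact ⟨_, Nat.pow_right_injective Finite.one_lt_card hc⟩
  have hc' : Nat.card k' = Nat.card k ^ Module.finrank k k' := Module.natCard_eq_pow_finrank (K := k)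
  set N := Nat.card k ^ M with hN
  obtain ⟨p, hp⟩ := CharP.exists k
  have hpP : p.Prime := (CharP.char_is_prime_or_zero k p).resolve_right (CharP.char_ne_zero_of_finite k p)
  haveI := Fact.mk hpP
  haveI : CharP (ResidueField Q.O) p := charP_of_injective_algebraMap (algebraMap k _).injective p
  haveI := Fintype.ofFinite k
  obtain ⟨m, -, hm⟩ := FiniteField.card k p
  have hNp : N = p ^ ((m : ℕ) * M) := by rw [hN, Nat.card_eq_fintype_card, hm, ← pow_mul]
  have hfix : ∀ r : ResidueField Q.O, r ^ N = r := by
    intro r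
    obtain ⟨a, rfl⟩ := residue_surjective r
    obtain ⟨w, hw⟩ := exists_approx (placesOver hK K' P) (fun R => if R = Q then (a : K') else 0) (-1)
    have hwQ := hw Q ((mem_placesOver hK).2 hQ)
    rw [if_pos rfl] at hwQ
    have hwle : ∀ R, IsOver R P → R.1 w ≤ 1 := fun R hR => by
      have h1 := hw R ((mem_placesOver hK).2 hR)
      have hlt : exp (-1 : ℤ) ≤ 1 := by rw [← exp_zero, exp_le_exp]; omega
      by_cases hRQ : R = Q
      · subst hRQ
        rw [← sub_add_cancel w (a : K')]
        exact (R.1.map_add _ _).trans (max_le (hwQ.trans hlt) a.2)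
      · rw [if_neg hRQ, sub_zero] at h1
        exact h1.trans hlt
    have hwmem : w ∈ Algebra.adjoin P.O (Set.range (algebraMap k' K')) := by
      have : w ∈ (integralClosure P.O K').toSubring := by
        show w ∈ integralClosure P.O K'
        rw [integralClosure_eq hK P]
        exact fun R hR => hwle R ((mem_placesOver hK).1 hR)
      rw [hclos] at this
      exact this
    have hres : residue Q.O a = residue Q.O ⟨w, hwle Q hQ⟩ := by
      rw [← sub_eq_zero, ← map_sub, residue_eq_zero_iff, mem_maximalIdeal, mem_nonunits_iff]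
      refine Valuation.Integer.not_isUnit_iff_valuation_lt_one.2 ?_
      show Q.1 ((a : K') - w) < 1
      rw [Valuation.map_sub_swap]
      exact hwQ.trans_lt (by rw [← exp_zero, exp_lt_exp]; omega)
    rw [hres]
    have hbr : Algebra.adjoin P.O (Set.range (algebraMap k' K')) ≤ Bring hK P K' :=
      Algebra.adjoin_le (by rintro _ ⟨b, rfl⟩ R _; exact val_const_le R b)
    suffices H : ∀ x ∈ Algebra.adjoin P.O (Set.range (algebraMap k' K')), ∀ (hz : Q.1 x ≤ 1),
        residue Q.O ⟨x, hz⟩ ^ N = residue Q.O ⟨x, hz⟩ from H w hwmem _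
    intro x hxmem
    clear hres hwmem hwle hwQ hw
    induction hxmem using Algebra.adjoin_induction with
    | mem x hx =>
      obtain ⟨c, rfl⟩ := hx
      intro hz
      rw [← map_pow]
      congr 1
      refine Subtype.ext ?_
      show algebraMap k' K' c ^ N = algebraMap k' K' c
      rw [← map_pow]
      congr 1
      obtain ⟨j, hj⟩ := hn
      haveI := Fintype.ofFinite k'
      rw [hN, hj, pow_mul, ← hc', Nat.card_eq_fintype_card, FiniteField.pow_card_pow]
    | algebraMap c =>
      intro hz
      show ResidueField.map ι₀ (residue P.O c) ^ N = ResidueField.map ι₀ (residue P.O c)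
      rw [← map_pow]
      congr 1
      haveI := Fintype.ofFinite (ResidueField P.O)
      obtain ⟨j, hj⟩ := hd
      rw [hN, hj, pow_mul, ← hcP, Nat.card_eq_fintype_card, FiniteField.pow_card_pow]
    | add x y hx hy ihx ihy =>
      intro hz
      have hxv : Q.1 x ≤ 1 := hbr hx Q ((mem_placesOver hK).2 hQ)
      have hyv : Q.1 y ≤ 1 := hbr hy Q ((mem_placesOver hK).2 hQ)
      rw [show (⟨x + y, hz⟩ : Q.O) = ⟨x, hxv⟩ + ⟨y, hyv⟩ from rfl, map_add, hNp, add_pow_char_pow, ← hNp,
        ihx hxv, ihy hyv]
    | mul x y hx hy ihx ihy =>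
      intro hz
      have hxv : Q.1 x ≤ 1 := hbr hx Q ((mem_placesOver hK).2 hQ)
      have hyv : Q.1 y ≤ 1 := hbr hy Q ((mem_placesOver hK).2 hQ)
      rw [show (⟨x * y, hz⟩ : Q.O) = ⟨x, hxv⟩ * ⟨y, hyv⟩ from rfl, map_mul, mul_pow, ihx hxv, ihy hyv]
  haveI := Fintype.ofFinite (ResidueField Q.O)
  have hN1 : 1 < N := Nat.one_lt_pow hM Finite.one_lt_card
  have hcard : Fintype.card (ResidueField Q.O) ≤ N := by
    have hne : (Polynomial.X ^ N - Polynomial.X : Polynomial (ResidueField Q.O)) ≠ 0 :=
      FiniteField.X_pow_card_sub_X_ne_zero _ hN1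
    calc Fintype.card (ResidueField Q.O) = (Finset.univ : Finset (ResidueField Q.O)).card := rfl
      _ ≤ (Polynomial.X ^ N - Polynomial.X : Polynomial (ResidueField Q.O)).natDegree :=
          Polynomial.card_le_degree_of_subset_roots (fun r _ => by
            rw [Polynomial.mem_roots hne, Polynomial.IsRoot.def]
            simp [hfix r])
      _ = N := FiniteField.X_pow_card_sub_X_natDegree_eq _ hN1
  rw [← Nat.card_eq_fintype_card, hcQ, hN] at hcard
  exact (Nat.pow_le_pow_iff_right Finite.one_lt_card).1 hcard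

theorem countN_constExt [Finite k'] (hK : IsFunctionField k K) (hK' : IsFunctionField k' K') {m : ℕ}
    (hm : m ≠ 0) : countN hK' m = countN hK (Module.finrank k k' * m) := by
  classical
  obtain ⟨b, -⟩ := exists_const_basis h
  haveI := Module.Finite.of_basis b
  set n := Module.finrank k k'
  have hn0 : 0 < n := Module.finrank_pos
  have hfr : Module.finrank K K' = n := by rw [Module.finrank_eq_card_basis b, Fintype.card_fin]
  let up : Place k K' → Place k' K' := fun Q => ⟨Q.1, val_const_le Q, Q.2.2⟩
  let down : Place k' K' → Place k K' := fun R => ⟨R.1, fun c => by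
    rw [IsScalarTower.algebraMap_apply k k' K']; exact R.2.1 _, R.2.2⟩
  have hud : ∀ R, up (down R) = R := fun R => rfl
  have hdu : ∀ Q, down (up Q) = Q := fun Q => rfl
  have hdeg : ∀ Q : Place k K', n * (up Q).deg = Q.deg := fun Q => by
    let R := ResidueField (up Q).O
    let iK : Algebra k R := Place.algRes Q
    let iC : Algebra k' R := Place.algRes (up Q)
    have hT : @IsScalarTower k k' R Algebra.toSMul iC.toSMul iK.toSMul :=
      IsScalarTower.of_algebraMap_eq fun c => congrArg (residue (up Q).O)
        (Subtype.ext (IsScalarTower.algebraMap_apply k k' K' c))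
    exact @Module.finrank_mul_finrank k k' R _ _ _ _ iC.toModule iK.toModule hT _ _ _ _
  have hlcm : ∀ {Q : Place k K'} {P : Place k K}, IsOver Q P → Q.deg = Nat.lcm n P.deg := by
    intro Q P hQ
    have hd0 := deg_pos hK P
    obtain ⟨h1, h2⟩ := deg_le_of_dvd_const h hK (M := Nat.lcm n P.deg)
      (Nat.lcm_ne_zero hn0.ne' hd0.ne') (Nat.dvd_lcm_left _ _) (Nat.dvd_lcm_right _ _) hQ
    refine le_antisymm h2 (Nat.le_of_dvd (hd0.trans_le (deg_le_of_isOver hK hQ)) (Nat.lcm_dvd ⟨_, (hdeg Q).symm⟩ h1))
  choose below hbelow using fun Q : Place k K' => exists_below (K := K) Q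
  have huniq : ∀ {Q : Place k K'} {P P' : Place k K}, IsOver Q P → IsOver Q P' → P = P' :=
    fun ⟨_, a⟩ ⟨_, b⟩ => (IsOverWith.unique a b).1
  rw [countN, countN, ← Finset.sum_filter, ← Finset.sum_filter,
    ← Finset.sum_fiberwise_of_maps_to (t := (finite_places_deg_le hK (n * m)).toFinset.filter fun P => P.deg ∣ n * m)
      (g := fun R => below (down R))]
  · refine Finset.sum_congr rfl fun P hP => ?_
    have hPd := (Finset.mem_filter.1 hP).2
    have hset : ((finite_places_deg_le hK' m).toFinset.filter fun R => R.deg ∣ m).filter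
        (fun R => below (down R) = P) = (placesOver hK K' P).map ⟨up, fun x y e => by
          rw [← hdu x, ← hdu y, e]⟩ := by
      ext R
      simp only [Finset.mem_filter, Finset.mem_map, Set.Finite.mem_toFinset, Set.mem_setOf_eq,
        Function.Embedding.coeFn_mk, mem_placesOver hK]
      constructor
      · rintro ⟨-, e⟩
        exact ⟨down R, e ▸ hbelow (down R), hud R⟩
      · rintro ⟨Q, hQ, rfl⟩
        have hdvd : (up Q).deg ∣ m := by
          refine (Nat.mul_dvd_mul_iff_left hn0).1 ?_
          rw [hdeg Q, hlcm hQ]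
          exact Nat.lcm_dvd (dvd_mul_right n m) hPd
        exact ⟨⟨Nat.le_of_dvd (Nat.pos_of_ne_zero hm) hdvd, hdvd⟩, huniq (hbelow (down (up Q))) hQ⟩
    rw [hset, Finset.sum_map]
    refine Nat.eq_of_mul_eq_mul_left hn0 ?_
    rw [Finset.mul_sum]
    calc ∑ Q ∈ placesOver hK K' P, n * (up Q).deg = ∑ Q ∈ placesOver hK K' P, ramIdx Q P * Q.deg :=
          Finset.sum_congr rfl fun Q hQ => by
            haveI : Finite k' := inferInstance
            letI : Algebra P.O K' := ((algebraMap K K').comp P.O.subtype).toAlgebra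
            haveI : IsScalarTower P.O K K' := IsScalarTower.of_algebraMap_eq fun _ => rfl
            rw [ramIdx_eq (sep_const_disc h hK P Q ((mem_placesOver hK).1 hQ)).2, one_mul, hdeg Q]
      _ = n * P.deg := by rw [sum_ramIdx_mul_deg hK P, hfr]
  · intro R hR
    simp only [Finset.mem_filter, Set.Finite.mem_toFinset, Set.mem_setOf_eq] at hR ⊢
    have h1 : (below (down R)).deg ∣ n * m := by
      obtain ⟨h1, -⟩ := deg_le_of_dvd_const h hK (M := Nat.lcm n (below (down R)).deg)
        (Nat.lcm_ne_zero hn0.ne' (deg_pos hK _).ne') (Nat.dvd_lcm_left _ _) (Nat.dvd_lcm_right _ _)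
        (hbelow (down R))
      refine h1.trans ?_
      rw [← hdeg (down R), hud]
      exact Nat.mul_dvd_mul_left n hR.2
    exact ⟨Nat.le_of_dvd (Nat.mul_pos hn0 (Nat.pos_of_ne_zero hm)) h1, h1⟩

end

theorem numerZ_constExt {k K k' K' : Type*} [Field k] [Finite k] [Field K] [Algebra k K] [Field k'] [Finite k']
    [Field K'] [Algebra k k'] [Algebra K K'] [Algebra k' K'] (hK : IsFunctionField k K)
    (hK' : IsFunctionField k' K') (hce : IsConstExt k K k' K') {ι : Type*} [Fintype ι] (α : ι → ℂ)
    (hα : PowerSeries.map (Int.castRingHom ℂ) (numerZ k K) =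
      ((∏ i, (1 - Polynomial.C (α i) * Polynomial.X) : Polynomial ℂ) : PowerSeries ℂ)) :
    PowerSeries.map (Int.castRingHom ℂ) (numerZ k' K') =
      ((∏ i, (1 - Polynomial.C (α i ^ Module.finrank k k') * Polynomial.X) : Polynomial ℂ) : PowerSeries ℂ) ∧
    (Nat.card {P : Place k' K' // P.deg = 1} : ℂ) =
      1 + (Nat.card k : ℂ) ^ Module.finrank k k' - ∑ i, α i ^ Module.finrank k k' := by
  letI : Algebra k K' := ((algebraMap K K').comp (algebraMap k K)).toAlgebra
  haveI : IsScalarTower k K K' := IsScalarTower.of_algebraMap_eq fun _ => rfl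
  haveI : IsScalarTower k k' K' := IsScalarTower.of_algebraMap_eq fun c => hce.1 c
  haveI : FiniteDimensional k k' := Module.Finite.of_finite
  have h := bijective_of_constExt hce.2.1 hce.2.2
  have hn0 : Module.finrank k k' ≠ 0 := Module.finrank_pos.ne'
  have key : ∀ m, m ≠ 0 → (countN hK' m : ℂ) =
      1 + (Nat.card k' : ℂ) ^ m - ∑ i, (α i ^ Module.finrank k k') ^ m := fun m hm => by
    rw [countN_constExt h hK hK' hm, countN_of_numer hK α hα (Nat.mul_ne_zero hn0 hm),
      Module.natCard_eq_pow_finrank (K := k) (V := k'), Nat.cast_pow]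
    simp only [pow_mul]
  refine ⟨numer_of_countN hK' (fun i => α i ^ Module.finrank k k') key, ?_⟩
  rw [← countN_one hK', countN_constExt h hK hK' one_ne_zero, mul_one, countN_of_numer hK α hα hn0]

end Groth.Agent.FunFld
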