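import Groth.Agent.FunFld.ConstExtZeta
import Groth.Agent.FunFld.Schmidt
import Groth.Agent.FunFld.Weil
import Mathlib.FieldTheory.Finite.GaloisField
import Mathlib.FieldTheory.IntermediateField.Adjoin.Algebra
import Mathlib.FieldTheory.PrimitiveElement

/-! Constant extensions inside an algebraically closed field. -/

namespace Groth.Agent.FunFld

open _root_.FunFld WithZero IntermediateField Polynomial

set_option linter.style.haveILetI false

section kExt

variable (k Ω : Type*) [Field k] [Finite k] [Field Ω] [Algebra k Ω]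

/-- The subfield of `y` with `y ^ (q ^ n) = y`. -/
noncomputable def kExt (n : ℕ) : IntermediateField k Ω :=
  haveI := Fintype.ofFinite k
  (AlgHom.equalizer ((FiniteField.frobeniusAlgHom k Ω) ^ n) (AlgHom.id k Ω)).toIntermediateField fun x hx => by
    simp only [AlgHom.mem_equalizer, AlgHom.id_apply] at hx ⊢
    rw [map_inv₀, hx]

theorem mem_kExt {n : ℕ} {y : Ω} : y ∈ kExt k Ω n ↔ y ^ (Nat.card k ^ n) = y := by
  letI := Fintype.ofFinite k
  have h : ∀ (m : ℕ) (x : Ω), ((FiniteField.frobeniusAlgHom k Ω) ^ m) x = x ^ (Nat.card k ^ m) := by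
    intro m
    induction m with
    | zero => intro x; simp
    | succ m ih => intro x; rw [pow_succ, AlgHom.mul_apply, ih, FiniteField.frobeniusAlgHom_apply, ← pow_mul,
        ← Nat.card_eq_fintype_card, pow_succ']
  change y ∈ AlgHom.equalizer _ _ ↔ _
  rw [AlgHom.mem_equalizer]
  have := h n y
  exact ⟨fun e => this.symm.trans e, fun e => this.trans e⟩

theorem mem_kExt_of_dvd {m n : ℕ} (h : m ∣ n) {y : Ω} (hy : y ^ (Nat.card k ^ m) = y) : y ∈ kExt k Ω n := by
  obtain ⟨c, rfl⟩ := h
  rw [mem_kExt, pow_mul]
  induction c with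
  | zero => rw [pow_zero, pow_one]
  | succ c ih => rw [pow_succ, pow_mul, ih, hy]

theorem card_kExt [IsAlgClosed Ω] {n : ℕ} (hn : n ≠ 0) :
    Nat.card (kExt k Ω n) = Nat.card k ^ n ∧ Module.finrank k (kExt k Ω n) = n := by
  classical
  obtain ⟨p, hp⟩ := CharP.exists k
  haveI : Fact p.Prime := ⟨(CharP.char_is_prime_or_zero k p).resolve_right (CharP.char_ne_zero_of_finite k p)⟩
  haveI : CharP Ω p := charP_of_injective_algebraMap (algebraMap k Ω).injective p
  haveI := Fintype.ofFinite k
  obtain ⟨m, -, hm⟩ := FiniteField.card k p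
  set Q := Nat.card k ^ n with hQ
  have hQ1 : 1 < Q := Nat.one_lt_pow hn Finite.one_lt_card
  have hdvd : p ∣ Q := by
    rw [hQ, Nat.card_eq_fintype_card, hm, ← pow_mul]
    exact dvd_pow_self _ (Nat.mul_ne_zero m.2.ne' hn)
  have hset : (kExt k Ω n : Set Ω) = (X ^ Q - X : Polynomial Ω).rootSet Ω := by
    ext y
    rw [mem_rootSet_of_ne (FiniteField.X_pow_card_sub_X_ne_zero Ω hQ1), SetLike.mem_coe, mem_kExt]
    simp [sub_eq_zero, hQ]
  have hc : Nat.card (kExt k Ω n) = Q := by
    show Nat.card ((kExt k Ω n : Set Ω)) = Q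
    rw [hset, Nat.card_eq_fintype_card, card_rootSet_eq_natDegree (galois_poly_separable p Q hdvd)
      (IsAlgClosed.splits _), FiniteField.X_pow_card_sub_X_natDegree_eq _ hQ1]
  haveI : Finite (kExt k Ω n) := Nat.finite_of_card_ne_zero (by omega)
  refine ⟨hc, ?_⟩
  have := Module.natCard_eq_pow_finrank (K := k) (V := kExt k Ω n)
  rw [hc] at this
  exact (Nat.pow_right_injective Finite.one_lt_card this).symm

end kExt

section comp

variable (k L k' Ω : Type*) [Field k] [Field L] [Field k'] [Field Ω] [Algebra k L] [Algebra L Ω] [Algebra k Ω]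
  [IsScalarTower k L Ω] [Algebra k k'] [Algebra k' Ω] [IsScalarTower k k' Ω]

/-- The compositum `L k'` inside `Ω`. -/
abbrev constComp : IntermediateField L Ω := IntermediateField.adjoin L (Set.range (algebraMap k' Ω))

noncomputable instance constCompAlg : Algebra k' (constComp L k' Ω) :=
  ((algebraMap k' Ω).codRestrict (constComp L k' Ω) fun c => subset_adjoin L _ ⟨c, rfl⟩).toAlgebra

instance constComp_tower : IsScalarTower k k' (constComp L k' Ω) :=
  IsScalarTower.of_algebraMap_eq fun c => Subtype.ext (IsScalarTower.algebraMap_apply k k' Ω c)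

variable [Finite k] [FiniteDimensional k k'] {k L k' Ω}

theorem finrank_adjoin_constField (hL : IsFunctionField k L) (B : IntermediateField k Ω) [FiniteDimensional k B] :
    Module.finrank L (IntermediateField.adjoin L (B : Set Ω)) = Module.finrank k B := by
  obtain ⟨η, hη⟩ := Field.exists_primitive_element k B
  have hint : IsIntegral k η := IsIntegral.of_finite k η
  have hintΩ : IsIntegral k (η : Ω) := hint.map B.val
  have hmin : minpoly k (η : Ω) = minpoly k η := minpoly.algebraMap_eq (algebraMap B Ω).injective η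
  have hirr := irreducible_map_of_algClosed hL.2 (minpoly.irreducible hintΩ) (minpoly.monic hintΩ)
  have hminL : minpoly L (η : Ω) = (minpoly k (η : Ω)).map (algebraMap k L) :=
    (minpoly.eq_of_irreducible_of_monic hirr (by rw [aeval_map_algebraMap, minpoly.aeval])
      ((minpoly.monic hintΩ).map _)).symm
  have hB : (B : Set Ω) ⊆ IntermediateField.adjoin L ({(η : Ω)} : Set Ω) := by
    intro z hz
    have hz' : (⟨z, hz⟩ : B) ∈ IntermediateField.adjoin k ({η} : Set B) := hη ▸ IntermediateField.mem_top
    rw [← IntermediateField.mem_toSubalgebra,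
      adjoin_simple_toSubalgebra_of_isAlgebraic hint.isAlgebraic] at hz'
    rw [Algebra.adjoin_singleton_eq_range_aeval] at hz'
    obtain ⟨r, hr⟩ := hz'
    have : aeval (η : Ω) (r.map (algebraMap k L)) = z := by
      rw [aeval_map_algebraMap, show (η : Ω) = B.val η from rfl, Polynomial.aeval_algHom_apply]
      exact congrArg Subtype.val hr
    rw [← this]
    exact algebra_adjoin_le_adjoin L _ (by rw [Algebra.adjoin_singleton_eq_range_aeval]; exact ⟨_, rfl⟩)
  rw [show IntermediateField.adjoin L (B : Set Ω) = IntermediateField.adjoin L ({(η : Ω)} : Set Ω) from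
    le_antisymm (adjoin_le_iff.2 hB) (adjoin.mono L _ _ (Set.singleton_subset_iff.2 η.2)),
    adjoin.finrank hintΩ.tower_top, hminL, natDegree_map, hmin, ← adjoin.finrank hint, hη, finrank_top']

theorem constComp_spec (hL : IsFunctionField k L) :
    FiniteDimensional L (constComp L k' Ω) ∧
    Module.finrank L (constComp L k' Ω) = Module.finrank k k' ∧
    IsFunctionField k' (constComp L k' Ω) ∧
    Function.Bijective (Algebra.TensorProduct.productMap (IsScalarTower.toAlgHom k k' (constComp L k' Ω))
      (IsScalarTower.toAlgHom k L (constComp L k' Ω))) := by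
  classical
  set B := (IsScalarTower.toAlgHom k k' Ω).fieldRange with hB
  have hBset : (B : Set Ω) = Set.range (algebraMap k' Ω) := by
    rw [hB, AlgHom.coe_fieldRange]; rfl
  let eB : k' ≃ₐ[k] B := AlgEquiv.ofInjectiveField (IsScalarTower.toAlgHom k k' Ω)
  haveI : FiniteDimensional k B := Module.Finite.equiv eB.toLinearEquiv
  have hfr : Module.finrank L (constComp L k' Ω) = Module.finrank k k' := by
    have := finrank_adjoin_constField hL B
    rw [hBset] at this
    exact this.trans eB.toLinearEquiv.finrank_eq.symm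
  have hfin : FiniteDimensional L (constComp L k' Ω) :=
    Module.finite_of_finrank_pos (by rw [hfr]; exact Module.finrank_pos)
  haveI := hfin
  refine ⟨hfin, hfr, ⟨?_, fun y hy => ?_⟩, bijective_of_constExt ?_ hfr⟩
  · obtain ⟨x, hx, hfin'⟩ := exists_transcendental (K' := constComp L k' Ω) hL
    refine ⟨x, fun halg => hx (isIntegral_trans x halg.isIntegral).isAlgebraic, ?_⟩
    set M := IntermediateField.adjoin k ({x} : Set (constComp L k' Ω))
    set M' := IntermediateField.adjoin k' ({x} : Set (constComp L k' Ω))
    have hmem : M ≤ M'.restrictScalars k := by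
      rw [adjoin_simple_le_iff]; exact mem_adjoin_simple_self k' x
    letI : Algebra M M' := (IntermediateField.inclusion hmem).toRingHom.toAlgebra
    haveI : IsScalarTower M M' (constComp L k' Ω) := IsScalarTower.of_algebraMap_eq fun _ => rfl
    exact Module.Finite.of_restrictScalars_finite M M' (constComp L k' Ω)
  · haveI : Algebra.IsAlgebraic k k' := Algebra.IsAlgebraic.of_finite k k'
    have hyk : IsIntegral k (y : Ω) :=
      (isIntegral_trans y hy.isIntegral).map ((constComp L k' Ω).val.restrictScalars k)
    set B' := IntermediateField.adjoin k ((B : Set Ω) ∪ {(y : Ω)}) with hB'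
    haveI : FiniteDimensional k B' := by
      rw [hB', adjoin_union, adjoin_self]
      haveI := adjoin.finiteDimensional hyk
      exact IntermediateField.finiteDimensional_sup _ _
    have hle : B ≤ B' := fun z hz => subset_adjoin k _ (Or.inl hz)
    have heq : IntermediateField.adjoin L (B' : Set Ω) = constComp L k' Ω := by
      refine le_antisymm (adjoin_le_iff.2 fun z hz => ?_) (adjoin.mono L _ _ (hBset ▸ hle))
      have : B' ≤ (constComp L k' Ω).restrictScalars k := adjoin_le_iff.2 (by
        rintro w (hw | hw)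
        · rw [hBset] at hw; exact subset_adjoin L _ hw
        · rw [Set.mem_singleton_iff.1 hw]; exact y.2)
      exact this hz
    have h1 := finrank_adjoin_constField hL B'
    rw [heq, hfr, eB.toLinearEquiv.finrank_eq] at h1
    have hBB : B = B' := IntermediateField.eq_of_le_of_finrank_eq hle h1
    have hy' : (y : Ω) ∈ B' := subset_adjoin k _ (Or.inr rfl)
    rw [← hBB, ← SetLike.mem_coe, hBset] at hy'
    obtain ⟨c, hc⟩ := hy'
    exact ⟨c, Subtype.ext hc⟩
  · refine Algebra.eq_top_iff.2 fun y => ?_
    have halg : ∀ z ∈ Set.range (algebraMap k' Ω), IsAlgebraic L z := by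
      rintro _ ⟨c, rfl⟩
      exact ((IsIntegral.of_finite k c).map (IsScalarTower.toAlgHom k k' Ω)).tower_top.isAlgebraic
    have hy : (y : Ω) ∈ Algebra.adjoin L (Set.range (algebraMap k' Ω)) := by
      rw [← adjoin_toSubalgebra_of_isAlgebraic halg]; exact y.2
    have himg : Set.range (algebraMap k' Ω) = (constComp L k' Ω).val '' Set.range (algebraMap k' (constComp L k' Ω)) := by
      rw [← Set.range_comp]; rfl
    rw [himg, Algebra.adjoin_image] at hy
    obtain ⟨y', hy', e⟩ := hy
    rwa [← (Subtype.ext e : y' = y)]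

end comp

section genus

variable {k k' L L' : Type*} [Field k] [Field k'] [Field L] [Field L']
  [Algebra k k'] [FiniteDimensional k k'] [Algebra k L] [Algebra L L'] [Algebra k' L'] [Algebra k L']
  [IsScalarTower k k' L'] [IsScalarTower k L L'] [Finite k]
  (h : Function.Bijective (Algebra.TensorProduct.productMap (IsScalarTower.toAlgHom k k' L')
    (IsScalarTower.toAlgHom k L L')))
include h

theorem genus_constExt_le (hL : IsFunctionField k L) (hL' : IsFunctionField k' L') (P : Place k L)
    (hdvd : P.deg ∣ Module.finrank k k') :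
    genus k' L' ≤ genus k L ∧ ∃ Q : Place k' L', Q.deg = 1 := by
  classical
  set n := Module.finrank k k' with hn
  obtain ⟨b, hb⟩ := exists_const_basis h
  haveI := Module.Finite.of_basis b
  haveI : Finite k' := Module.finite_of_finite k
  have hn0 : 0 < n := Module.finrank_pos
  have hfr : Module.finrank L L' = n := by rw [Module.finrank_eq_card_basis b, Fintype.card_fin]
  let up : Place k L' → Place k' L' := fun Q => ⟨Q.1, val_const_le Q, Q.2.2⟩
  have hup : Function.Injective up := fun a b e => Subtype.ext (congrArg (fun R : Place k' L' => R.1) e)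
  have hdeg : ∀ Q : Place k L', n * (up Q).deg = Q.deg := fun Q => by
    let R := IsLocalRing.ResidueField (up Q).O
    let iK : Algebra k R := Place.algRes Q
    let iC : Algebra k' R := Place.algRes (up Q)
    have hT : @IsScalarTower k k' R Algebra.toSMul iC.toSMul iK.toSMul :=
      IsScalarTower.of_algebraMap_eq fun c => congrArg (IsLocalRing.residue (up Q).O)
        (Subtype.ext (IsScalarTower.algebraMap_apply k k' L' c))
    exact @Module.finrank_mul_finrank k k' R _ _ _ _ iC.toModule iK.toModule hT _ _ _ _
  have he : ∀ Q : Place k L', IsOver Q P → IsOverWith Q P 1 := fun Q hQ => by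
    letI : Algebra P.O L' := ((algebraMap L L').comp P.O.subtype).toAlgebra
    haveI : IsScalarTower P.O L L' := IsScalarTower.of_algebraMap_eq fun _ => rfl
    exact (sep_const_disc h hL P Q hQ).2
  have hd1 : ∀ Q : Place k L', IsOver Q P → (up Q).deg = 1 := fun Q hQ => by
    obtain ⟨-, h2⟩ := deg_le_of_dvd_const h hL hn0.ne' dvd_rfl hdvd hQ
    rw [← hdeg Q] at h2
    have h3 : (up Q).deg ≤ 1 := Nat.le_of_mul_le_mul_left (by rwa [mul_one]) hn0
    have := deg_pos hL' (up Q)
    omega
  obtain ⟨Q₀, hQ₀⟩ := exists_over (K' := L') hL P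
  refine ⟨?_, up Q₀, hd1 Q₀ hQ₀⟩
  set S := placesOver hL L' P
  have hcard : S.card = P.deg := by
    have := sum_ramIdx_mul_deg (K' := L') hL P
    rw [Finset.sum_eq_card_nsmul (b := n) (fun Q hQ => by
      have hQ' := (mem_placesOver hL).1 hQ
      rw [ramIdx_eq (he Q hQ'), one_mul, ← hdeg Q, hd1 Q hQ', mul_one]), smul_eq_mul, hfr, mul_comm] at this
    exact Nat.eq_of_mul_eq_mul_left hn0 this
  set r : ℕ := 2 * genus k L + 2 * genus k' L' + 1 with hr
  set D' : Divisor k' L' := ∑ Q ∈ S, Finsupp.single (up Q) (r : ℤ) with hD'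
  have hD'deg : D'.deg = ((r * P.deg : ℕ) : ℤ) := by
    have hadd : ∀ s : Finset (Place k L'), (∀ Q ∈ s, IsOver Q P) →
        Divisor.deg (∑ Q ∈ s, Finsupp.single (up Q) (r : ℤ)) = ((r * s.card : ℕ) : ℤ) := by
      intro s
      induction s using Finset.induction_on with
      | empty => intro _; rw [Finset.sum_empty, deg_zero]; simp
      | insert a s ha ih =>
        intro hs
        rw [Finset.sum_insert ha, deg_add, ih fun Q hQ => hs Q (Finset.mem_insert_of_mem hQ), deg_single,
          hd1 a (hs a (Finset.mem_insert_self _ _)), Finset.card_insert_of_notMem ha]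
        push_cast; ring
    rw [hD', hadd S fun Q hQ => (mem_placesOver hL).1 hQ, hcard]
  haveI := L_finite hL (Finsupp.single P (r : ℤ))
  haveI := L_finite hL' D'
  set t := Module.finBasis k (_root_.FunFld.L (Finsupp.single P (r : ℤ)))
  have hmem : ∀ j, algebraMap L L' (t j : L) ∈ _root_.FunFld.L D' := by
    intro j R
    let Q : Place k L' := ⟨R.1, fun c => by
      rw [IsScalarTower.algebraMap_apply k k' L']; exact R.2.1 _, R.2.2⟩
    have hRQ : up Q = R := rfl
    obtain ⟨P', hP'⟩ := exists_below (K := L) Q
    have hval := isOverWith_of_isOver hP'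
    show Q.1 (algebraMap L L' (t j : L)) ≤ exp (D' R)
    rw [hD', Finsupp.finsetSum_apply]
    rcases eq_or_ne P' P with rfl | hne
    · rw [Finset.sum_eq_single Q (fun Q' _ hne => Finsupp.single_eq_of_ne fun e => hne (hup (hRQ.trans e)).symm)
        (fun hn => absurd ((mem_placesOver hL).2 hP') hn), hRQ, Finsupp.single_eq_same, (he Q hP') (t j : L),
        pow_one]
      simpa using (t j).2 P'
    · rw [hval (t j : L), Finset.sum_eq_zero fun Q' hQ' => Finsupp.single_eq_of_ne fun e => hne ?_, exp_zero]
      · refine pow_le_one₀ zero_le ?_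
        have := (t j).2 P'
        rwa [Finsupp.single_eq_of_ne hne, exp_zero] at this
      · obtain ⟨e', he'⟩ := hP'
        obtain ⟨e'', he''⟩ := (mem_placesOver hL).1 hQ'
        rw [← hup (hRQ.trans e)] at he''
        exact (IsOverWith.unique he' he'').1
  have hli : LinearIndependent k' (fun j => (⟨_, hmem j⟩ : _root_.FunFld.L D')) := by
    refine LinearIndependent.of_comp (Submodule.subtype _) ?_
    rw [Fintype.linearIndependent_iff]
    intro c hc j
    set β := Module.finBasis k k'
    have hcj : ∀ j, algebraMap k' L' (c j) = ∑ i, algebraMap k L (β.repr (c j) i) • b i := fun j => by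
      conv_lhs => rw [← β.sum_repr (c j), map_sum]
      refine Finset.sum_congr rfl fun i _ => ?_
      rw [hb, Algebra.smul_def, map_mul, ← IsScalarTower.algebraMap_apply, Algebra.smul_def,
        ← IsScalarTower.algebraMap_apply]
    have hz : ∑ i, (∑ j, β.repr (c j) i • (t j : L)) • b i = 0 := by
      rw [← hc]
      simp only [Finset.sum_smul, Function.comp_apply, Submodule.subtype_apply]
      rw [Finset.sum_comm]
      refine Finset.sum_congr rfl fun j _ => ?_
      rw [Algebra.smul_def (c j), hcj j, Finset.sum_mul]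
      refine Finset.sum_congr rfl fun i _ => ?_
      rw [Algebra.smul_def (β.repr (c j) i), Algebra.smul_def, Algebra.smul_def, map_mul]
      ring
    refine β.ext_elem fun i => ?_
    rw [map_zero, Finsupp.zero_apply]
    have hi := Fintype.linearIndependent_iff.1 b.linearIndependent _ hz i
    have hli : LinearIndependent k (fun j => (t j : L)) :=
      t.linearIndependent.map' (Submodule.subtype _) (Submodule.ker_subtype _)
    exact (Fintype.linearIndependent_iff.1 hli) _ hi j
  have hle := hli.fintype_card_le_finrank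
  rw [Fintype.card_fin] at hle
  have hd := deg_pos hL P
  have hle' : (ell (Finsupp.single P (r : ℤ)) : ℤ) ≤ (ell D' : ℤ) := by exact_mod_cast hle
  have h1 : (Divisor.deg (Finsupp.single P (r : ℤ) : Divisor k L)) = ((r * P.deg : ℕ) : ℤ) := by
    rw [deg_single]; push_cast; ring
  have hr1 : r ≤ r * P.deg := Nat.le_mul_of_pos_right r hd
  rw [ell_eq_of_deg_ge hL (by rw [h1]; omega), ell_eq_of_deg_ge hL' (D := D') (by rw [hD'deg]; omega), h1, hD'deg] at hle'
  omega

end genus

end Groth.Agent.FunFld
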