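import Groth.Agent.FunFld.Extra
import Groth.Prelude.Def_W4bk4goldsch45
import Mathlib.RingTheory.Nakayama
import Mathlib.RingTheory.IntegralClosure.IsIntegralClosure.Basic
import Mathlib.RingTheory.IntegralClosure.Algebra.Basic

/-! Local rings of projective maps of function fields; criteria for nonsingularity. -/

namespace Groth.Agent.FunFld

open _root_.FunFld WithZero IsLocalRing Finset

variable {k K : Type*} [Field k] [Field K] [Algebra k K]

/-! ### Subalgebras at a place -/

theorem exists_const [IsAlgClosed k] (hK : IsFunctionField k K) (P : Place k K) {z : K}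
    (hz : P.1 z ≤ 1) : ∃ c : k, P.1 (z - algebraMap k K c) < 1 := by
  have h1 : P.deg = 1 := deg_eq_one hK P
  have hne : resL P ⟨(1 : K), by show P.1 1 ≤ 1; simp⟩ ≠ 0 := fun e => by
    rw [resL_eq_zero] at e
    simp at e
  obtain ⟨c, hc⟩ := (finrank_eq_one_iff_of_nonzero' _ hne).1 h1 (resL P ⟨z, hz⟩)
  refine ⟨c, ?_⟩
  rw [← map_smul, ← sub_eq_zero, ← map_sub, resL_eq_zero] at hc
  rw [Valuation.map_sub_swap]
  simpa [Algebra.smul_def] using hc

theorem const_unique (P : Place k K) {z : K} {c c' : k} (h : P.1 (z - algebraMap k K c) < 1)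
    (h' : P.1 (z - algebraMap k K c') < 1) : c = c' := by
  by_contra hne
  have h2 := (P.1.map_sub (z - algebraMap k K c') (z - algebraMap k K c)).trans_lt (max_lt h' h)
  rw [show z - algebraMap k K c' - (z - algebraMap k K c) = algebraMap k K (c - c') by rw [map_sub]; ring,
    val_algebraMap P (sub_ne_zero.2 hne)] at h2
  exact lt_irrefl _ h2

theorem val_const_ne_zero {P : Place k K} {w : K} {c : k} (h : P.1 (w - algebraMap k K c) < 1)
    (hw : P.1 w = 1) : c ≠ 0 := by
  rintro rfl
  rw [map_zero, sub_zero, hw] at h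
  exact lt_irrefl _ h

theorem val_eq_one_of_const {P : Place k K} {w : K} {c : k} (h : P.1 (w - algebraMap k K c) < 1)
    (hc : c ≠ 0) : P.1 w = 1 := by
  have h2 : P.1 (w - algebraMap k K c) < P.1 (algebraMap k K c) := by rwa [val_algebraMap P hc]
  rw [← sub_add_cancel w (algebraMap k K c), P.1.map_add_eq_of_lt_right h2, val_algebraMap P hc]

/-- The valuation ring of a place as a `k`-subalgebra. -/
def valAlg (P : Place k K) : Subalgebra k K where
  carrier := {x | P.1 x ≤ 1}
  mul_mem' {x y} hx hy := by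
    show P.1 (x * y) ≤ 1
    rw [map_mul]; exact mul_le_one' hx hy
  add_mem' {x y} hx hy := (P.1.map_add x y).trans (max_le hx hy)
  algebraMap_mem' c := P.2.1 c

theorem mem_valAlg {P : Place k K} {x : K} : x ∈ valAlg P ↔ P.1 x ≤ 1 := Iff.rfl

/-- Quotients `u / w` of polynomials in `r` with `w` a unit at `P`. -/
def locRing {ι : Type*} (r : ι → K) (P : Place k K) : Subalgebra k K where
  carrier := {z | ∃ u ∈ Algebra.adjoin k (Set.range r), ∃ w ∈ Algebra.adjoin k (Set.range r),
    P.1 w = 1 ∧ z * w = u}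
  mul_mem' := by
    rintro x y ⟨u, hu, w, hw, hw1, e⟩ ⟨u', hu', w', hw', hw1', e'⟩
    refine ⟨u * u', mul_mem hu hu', w * w', mul_mem hw hw', by rw [map_mul, hw1, hw1', one_mul], ?_⟩
    rw [← e, ← e']; ring
  add_mem' := by
    rintro x y ⟨u, hu, w, hw, hw1, e⟩ ⟨u', hu', w', hw', hw1', e'⟩
    refine ⟨u * w' + u' * w, add_mem (mul_mem hu hw') (mul_mem hu' hw), w * w', mul_mem hw hw',
      by rw [map_mul, hw1, hw1', one_mul], ?_⟩
    rw [← e, ← e']; ring
  algebraMap_mem' c :=
    ⟨algebraMap k K c, Subalgebra.algebraMap_mem _ c, 1, one_mem _, map_one _, mul_one _⟩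

section locRing

variable {ι : Type*} {r : ι → K} {P : Place k K}

theorem mem_locRing_of_adjoin {z : K} (hz : z ∈ Algebra.adjoin k (Set.range r)) : z ∈ locRing r P :=
  ⟨z, hz, 1, one_mem _, map_one _, mul_one _⟩

theorem coord_mem_locRing (i : ι) : r i ∈ locRing r P :=
  mem_locRing_of_adjoin (Algebra.subset_adjoin ⟨i, rfl⟩)

theorem adjoin_le_valAlg (hr : ∀ i, P.1 (r i) ≤ 1) : Algebra.adjoin k (Set.range r) ≤ valAlg P := by
  rw [Algebra.adjoin_le_iff]
  rintro _ ⟨i, rfl⟩
  exact hr i

theorem locRing_val_le (hr : ∀ i, P.1 (r i) ≤ 1) {z : K} (hz : z ∈ locRing r P) : P.1 z ≤ 1 := by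
  obtain ⟨u, hu, w, -, hw1, e⟩ := hz
  have h := adjoin_le_valAlg hr hu
  rw [← e, mem_valAlg, map_mul, hw1, mul_one] at h
  exact h

theorem inv_mem_locRing {z : K} (hz : z ∈ locRing r P) (h1 : P.1 z = 1) : z⁻¹ ∈ locRing r P := by
  obtain ⟨u, hu, w, hw, hw1, e⟩ := hz
  have hz0 : z ≠ 0 := fun e => by simp [e] at h1
  refine ⟨w, hw, u, hu, by rw [← e, map_mul, h1, hw1, one_mul], ?_⟩
  rw [← e, inv_mul_cancel_left₀ hz0]

theorem mul_inv_mem_locRing {u w : K} (hu : u ∈ locRing r P) (hw : w ∈ locRing r P) (h1 : P.1 w = 1) :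
    u / w ∈ locRing r P := by
  rw [div_eq_mul_inv]; exact mul_mem hu (inv_mem_locRing hw h1)

theorem const_locRing {Q : Place k K} {e e' : WithZero (Multiplicative ℤ)} (he : e < 1) (he' : e' < 1)
    (hr : ∀ i, ∃ c : k, P.1 (r i - algebraMap k K c) ≤ e ∧ Q.1 (r i - algebraMap k K c) ≤ e') {z : K}
    (hz : z ∈ locRing r P) : ∃ c : k, P.1 (z - algebraMap k K c) ≤ e ∧ Q.1 (z - algebraMap k K c) ≤ e' := by
  let C : Subalgebra k K :=
    { carrier := {x | ∃ c : k, P.1 (x - algebraMap k K c) ≤ e ∧ Q.1 (x - algebraMap k K c) ≤ e'}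
      mul_mem' := by
        rintro x y ⟨c, h1, h2⟩ ⟨d, h3, h4⟩
        have key : ∀ (R : Place k K) (f : WithZero (Multiplicative ℤ)), f < 1 →
            R.1 (x - algebraMap k K c) ≤ f → R.1 (y - algebraMap k K d) ≤ f →
            R.1 (x * y - algebraMap k K (c * d)) ≤ f := by
          intro R f hf hx hy
          have hyy : R.1 y ≤ 1 := by
            rw [← sub_add_cancel y (algebraMap k K d)]
            exact (R.1.map_add _ _).trans (max_le (hy.trans hf.le) (R.2.1 d))
          rw [show x * y - algebraMap k K (c * d) =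
            (x - algebraMap k K c) * y + algebraMap k K c * (y - algebraMap k K d) by rw [map_mul]; ring]
          refine (R.1.map_add _ _).trans (max_le ?_ ?_)
          · rw [map_mul]; exact (mul_le_mul' hx hyy).trans_eq (mul_one _)
          · rw [map_mul]; exact (mul_le_mul' (R.2.1 c) hy).trans_eq (one_mul _)
        exact ⟨c * d, key P e he h1 h3, key Q e' he' h2 h4⟩
      add_mem' := by
        rintro x y ⟨c, h1, h2⟩ ⟨d, h3, h4⟩
        refine ⟨c + d, ?_⟩
        rw [map_add, add_sub_add_comm]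
        exact ⟨(P.1.map_add _ _).trans (max_le h1 h3), (Q.1.map_add _ _).trans (max_le h2 h4)⟩
      algebraMap_mem' := fun c => ⟨c, by simp⟩ }
  have hle : Algebra.adjoin k (Set.range r) ≤ C := by
    rw [Algebra.adjoin_le_iff]
    rintro _ ⟨i, rfl⟩
    exact hr i
  obtain ⟨u, hu, w, hw, hw1, hzw⟩ := hz
  obtain ⟨a, ha, ha'⟩ := hle hu
  obtain ⟨b, hb, hb'⟩ := hle hw
  have hb0 := val_const_ne_zero (hb.trans_lt he) hw1
  have hQw : Q.1 w = 1 := val_eq_one_of_const (hb'.trans_lt he') hb0
  refine ⟨a / b, ?_⟩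
  have e0 : (z - algebraMap k K (a / b)) * w =
      (u - algebraMap k K a) - algebraMap k K (a / b) * (w - algebraMap k K b) := by
    rw [sub_mul, hzw, mul_sub, ← map_mul, div_mul_cancel₀ _ hb0]; ring
  have key : ∀ (R : Place k K) (f : WithZero (Multiplicative ℤ)), R.1 w = 1 →
      R.1 (u - algebraMap k K a) ≤ f → R.1 (w - algebraMap k K b) ≤ f →
      R.1 (z - algebraMap k K (a / b)) ≤ f := by
    intro R f hR h1 h2
    have h := congrArg R.1 e0
    rw [map_mul, hR, mul_one] at h
    rw [h]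
    refine (R.1.map_sub _ _).trans (max_le h1 ?_)
    rw [map_mul]; exact (mul_le_mul' (R.2.1 _) h2).trans_eq (one_mul _)
  exact ⟨key P e hw1 ha hb, key Q e' hQw ha' hb'⟩

end locRing

/-- Over an algebraically closed field a local subalgebra inside `O_Q` is dominated by it. -/
theorem lt_one_iff_of_le [IsAlgClosed k] (hK : IsFunctionField k K) {A : Subalgebra k K}
    {P Q : Place k K} (hinv : ∀ a ∈ A, P.1 a = 1 → a⁻¹ ∈ A) (hP : ∀ a ∈ A, P.1 a ≤ 1)
    (hQ : ∀ a ∈ A, Q.1 a ≤ 1) {a : K} (ha : a ∈ A) : Q.1 a < 1 ↔ P.1 a < 1 := by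
  have hunit : ∀ b ∈ A, P.1 b = 1 → Q.1 b = 1 := fun b hb h1 => by
    refine le_antisymm (hQ b hb) ?_
    have hb0 : b ≠ 0 := fun e => by simp [e] at h1
    have := mul_le_mul' (le_refl (Q.1 b)) (hQ _ (hinv b hb h1))
    rwa [mul_one, ← map_mul, mul_inv_cancel₀ hb0, map_one] at this
  constructor
  · intro h
    refine (hP a ha).lt_of_ne fun e => ?_
    rw [hunit a ha e] at h
    exact lt_irrefl _ h
  · intro h
    obtain ⟨c, hc⟩ := exists_const hK Q (hQ a ha)
    by_contra hne
    have hc0 : c ≠ 0 := by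
      rintro rfl
      rw [map_zero, sub_zero] at hc
      exact hne hc
    have hmem : a - algebraMap k K c ∈ A := sub_mem ha (Subalgebra.algebraMap_mem _ c)
    have hP1 : P.1 (a - algebraMap k K c) = 1 := by
      rw [Valuation.map_sub_swap, P.1.map_sub_eq_of_lt_left (by rwa [val_algebraMap P hc0]),
        val_algebraMap P hc0]
    rw [hunit _ hmem hP1] at hc
    exact lt_irrefl _ hc

section lattice

variable (hK : IsFunctionField k K)
include hK

theorem nsmul_poles_apply (t : K) (n : ℕ) (R : Place k K) :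
    (n • poles k t : Divisor k K) R = n * max (-R.ord t) 0 := by
  rw [Finsupp.smul_apply, poles_apply hK, nsmul_eq_mul]

theorem L_le_of_stable {t : K} (ht : Transcendental k t) :
    ∃ N : ℕ, ∀ S : Submodule k K, L (N • poles k t) ≤ S → (∀ x ∈ S, t * x ∈ S) →
      ∀ n : ℕ, L (n • poles k t) ≤ S := by
  classical
  have ht0 : t ≠ 0 := fun e => ht (e ▸ isAlgebraic_zero)
  set E := poles k t with hE
  have hd : 1 ≤ E.deg := by
    rw [hE, deg_poles hK ht]
    have := finite_adjoin hK ht
    exact_mod_cast Module.finrank_pos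
  have hE0 : (0 : Divisor k K) ≤ E := le_sup_right
  refine ⟨2 * genus k K + 1, fun S hS hst n => ?_⟩
  induction n with
  | zero => exact (L_mono (nsmul_le_nsmul_left hE0 (Nat.zero_le _))).trans hS
  | succ n ih =>
    rcases Nat.lt_or_ge n (2 * genus k K + 1) with hn | hn
    · exact (L_mono (nsmul_le_nsmul_left hE0 hn)).trans hS
    let μ := LinearMap.mulLeft k t
    have hμ : Function.Injective μ := mul_right_injective₀ ht0
    have hvt : ∀ R : Place k K, R.1 t = exp (-R.ord t) := fun R => val_eq_exp R ht0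
    have hsup : (L (n • E)).map μ ⊔ L (n • E) ≤ L ((n + 1) • E) := by
      refine sup_le ?_ (L_mono (nsmul_le_nsmul_left hE0 n.le_succ))
      rintro _ ⟨y, hy, rfl⟩ R
      show R.1 (t * y) ≤ _
      rw [map_mul, hvt R, hE, nsmul_poles_apply hK]
      refine (mul_le_mul' le_rfl (hy R)).trans ?_
      rw [hE, nsmul_poles_apply hK, ← exp_add, exp_le_exp]
      push_cast
      nlinarith [le_max_left (-R.ord t) 0]
    have hinf : (L (n • E)).map μ ⊓ L (n • E) ≤ (L ((n - 1) • E)).map μ := by
      rintro _ ⟨⟨y, hy, rfl⟩, hty⟩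
      refine ⟨y, fun R => ?_, rfl⟩
      have h1 := hty R
      have h2 := hy R
      change R.1 (t * y) ≤ _ at h1
      rw [map_mul, hvt R, hE, nsmul_poles_apply hK] at h1
      rw [hE, nsmul_poles_apply hK] at h2
      rw [hE, nsmul_poles_apply hK]
      rcases le_or_gt (-R.ord t) 0 with hp | hp
      · rw [max_eq_right hp, mul_zero] at *
        exact h2
      · rw [max_eq_left hp.le] at *
        rcases eq_or_ne y 0 with rfl | hy0
        · simp
        rw [val_eq_exp R hy0, ← exp_add, exp_le_exp] at h1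
        rw [val_eq_exp R hy0, exp_le_exp]
        rw [Nat.cast_sub (by omega : 1 ≤ n)]
        push_cast
        linarith
    have hfin := fun m : ℕ => L_finite hK (m • E)
    have := hfin n
    have := hfin (n - 1)
    have := hfin (n + 1)
    have hmap : ∀ m : ℕ, Module.finrank k ((L (m • E)).map μ) = ell (m • E) := fun m =>
      (Submodule.equivMapOfInjective μ hμ _).finrank_eq.symm
    have hdim := Submodule.finrank_sup_add_finrank_inf_eq ((L (n • E)).map μ) (L (n • E))
    rw [hmap] at hdim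
    have hle := Submodule.finrank_mono hinf
    rw [hmap] at hle
    have hbig : ∀ m : ℕ, n ≤ m + 1 → (ell (m • E) : ℤ) = m * E.deg + 1 - genus k K := fun m hm => by
      rw [ell_eq_of_deg_ge hK, deg_nsmul]
      rw [deg_nsmul]
      have : ((m : ℤ)) ≤ m * E.deg := le_mul_of_one_le_right (by positivity) hd
      omega
    have e1 := hbig n (by omega)
    have e2 := hbig (n - 1) (by omega)
    have e3 := hbig (n + 1) (by omega)
    rw [Nat.cast_sub (by omega : 1 ≤ n)] at e2
    have heq : (L (n • E)).map μ ⊔ L (n • E) = L ((n + 1) • E) := by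
      refine Submodule.eq_of_le_of_finrank_le hsup ?_
      have hℓ : ell (n • E) = Module.finrank k (L (n • E)) := rfl
      have hℓ' : ell ((n + 1) • E) = Module.finrank k (L ((n + 1) • E)) := rfl
      push_cast at e1 e2 e3
      nlinarith [hdim, hle, e1, e2, e3]
    rw [← heq]
    refine sup_le ?_ ih
    rintro _ ⟨y, hy, rfl⟩
    exact hst y (ih hy)

theorem isIntegral_of_mem_L {A : Subalgebra k K} {t : K} (htA : t ∈ A) (ht : Transcendental k t)
    {n : ℕ} {z : K} (hz : z ∈ L (n • poles k t)) : IsIntegral A z := by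
  obtain ⟨N, hN⟩ := L_le_of_stable hK ht
  have hE0 : (0 : Divisor k K) ≤ poles k t := le_sup_right
  have := L_finite hK (N • poles k t)
  obtain ⟨F, hF⟩ := (Submodule.fg_iff_finiteDimensional (L (N • poles k t))).2 this
  let S : Submodule A K := Submodule.span A (F : Set K)
  have hbase : ∀ x ∈ L (N • poles k t), x ∈ S := fun x hx => by
    rw [← hF] at hx
    exact Submodule.span_le_restrictScalars k A (F : Set K) hx
  have hall : ∀ m : ℕ, ∀ x ∈ L (m • poles k t), x ∈ S :=
    fun m x hx => hN (S.restrictScalars k) hbase (fun y hy => S.smul_mem ⟨t, htA⟩ hy) m hx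
  have h1 : (1 : K) ∈ L (N • poles k t) := fun R => by
    rw [map_one, nsmul_poles_apply hK, ← exp_zero, exp_le_exp]; positivity
  refine isIntegral_of_smul_mem_submodule S (fun e => ?_) ⟨F, rfl⟩ z fun x hx => ?_
  · have := hbase 1 h1
    rw [e, Submodule.mem_bot] at this
    exact one_ne_zero this
  · induction hx using Submodule.span_induction with
    | mem x hx =>
      refine hall (n + N) _ fun R => ?_
      have hxL : x ∈ L (N • poles k t) := hF ▸ Submodule.subset_span hx
      show R.1 (z * x) ≤ _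
      rw [map_mul]
      refine (mul_le_mul' (hz R) (hxL R)).trans_eq ?_
      rw [← exp_add, nsmul_poles_apply hK, nsmul_poles_apply hK, nsmul_poles_apply hK]
      push_cast; ring_nf
    | zero => rw [smul_zero]; exact S.zero_mem
    | add a b _ _ ha hb => rw [smul_add]; exact S.add_mem ha hb
    | smul a x _ hx => rw [smul_comm]; exact S.smul_mem a hx

theorem exists_poles_at {A : Subalgebra k K} {g : K} (hgA : g ∈ A) (hg : Transcendental k g)
    (s : Finset (Place k K)) (hs : ∀ Q ∈ s, ∃ a ∈ A, 1 < Q.1 a) :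
    ∃ t ∈ A, Transcendental k t ∧ ∀ Q ∈ s, 1 < Q.1 t := by
  classical
  induction s using Finset.induction_on with
  | empty => exact ⟨g, hgA, hg, by simp⟩
  | insert Q₀ s hQ₀ ih =>
    obtain ⟨t, htA, ht, hts⟩ := ih fun Q hQ => hs Q (Finset.mem_insert_of_mem hQ)
    obtain ⟨a, haA, ha⟩ := hs Q₀ (Finset.mem_insert_self _ _)
    have ht0 : t ≠ 0 := fun e => ht (e ▸ isAlgebraic_zero)
    set N : ℕ := ∑ Q ∈ insert Q₀ s, (Q.ord t).natAbs + 1 with hN
    have hbig : ∀ Q ∈ insert Q₀ s, 1 < Q.1 a → Q.1 t < Q.1 (a ^ N) := fun Q hQ h => by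
      have ha0 : a ≠ 0 := fun e => by simp [e] at h
      have := Finset.single_le_sum (f := fun Q : Place k K => (Q.ord t).natAbs)
        (fun _ _ => Nat.zero_le _) hQ
      rw [val_eq_exp Q ht0, val_pow_eq Q ha0, exp_lt_exp]
      rw [val_eq_exp Q ha0, ← exp_zero, exp_lt_exp] at h
      have h2 : (N : ℤ) ≤ -(N * Q.ord a) := by nlinarith
      omega
    have hval : ∀ Q ∈ insert Q₀ s, 1 < Q.1 (t + a ^ N) := fun Q hQ => by
      rcases le_or_gt (Q.1 a) 1 with h | h
      · have hQs : Q ∈ s := by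
          rcases Finset.mem_insert.1 hQ with rfl | h'
          · exact absurd h (not_le.2 ha)
          · exact h'
        have h1 : Q.1 (a ^ N) < Q.1 t := by
          rw [map_pow]; exact lt_of_le_of_lt (pow_le_one' h N) (hts Q hQs)
        rw [Q.1.map_add_eq_of_lt_left h1]; exact hts Q hQs
      · rw [Q.1.map_add_eq_of_lt_right (hbig Q hQ h), map_pow]
        exact one_lt_pow' h (by omega)
    refine ⟨t + a ^ N, add_mem htA (pow_mem haA N), transcendental_of_not_mem hK ?_, hval⟩
    rintro ⟨c, hc⟩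
    have := hval Q₀ (Finset.mem_insert_self _ _)
    rw [← hc] at this
    exact absurd (Q₀.2.1 c) (not_le.2 this)

theorem exists_denominator [IsAlgClosed k] {t : K} (ht : Transcendental k t) {P : Place k K}
    (htP : P.1 t ≤ 1) {z : K} (hz : P.1 z ≤ 1) :
    ∃ (n : ℕ) (s : K), s ∈ L (n • poles k t) ∧ P.1 s = 1 ∧ z * s ∈ L (n • poles k t) := by
  classical
  set E := poles k t with hE
  have hd : 1 ≤ E.deg := by
    rw [hE, deg_poles hK ht]
    have := finite_adjoin hK ht
    exact_mod_cast Module.finrank_pos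
  set D := poles k z with hD
  have hD0 : (0 : Divisor k K) ≤ D := le_sup_right
  have hDP : D P = 0 := by
    rw [hD, poles_apply hK]
    rcases eq_or_ne z 0 with rfl | hz0
    · simp [ord_zero]
    have := (ord_nonneg_iff P hz0).2 hz
    omega
  set n : ℕ := 2 * genus k K + 1 + D.deg.toNat with hn
  have hEP : E P = 0 := by
    rw [hE, poles_apply hK]
    have := (ord_nonneg_iff P (x := t) fun e => ht (e ▸ isAlgebraic_zero)).2 htP
    omega
  set D' : Divisor k K := n • E - D with hD'
  have hdeg : 2 * (genus k K : ℤ) ≤ D'.deg := by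
    rw [hD', deg_sub, deg_nsmul]
    have h0 := deg_nonneg hD0
    have : ((n : ℤ)) ≤ n * E.deg := le_mul_of_one_le_right (by positivity) hd
    omega
  have h1 := ell_eq_of_deg_ge hK (D := D') (by omega)
  have h2 := ell_eq_of_deg_ge hK (D := D' - Finsupp.single P 1)
    (by rw [deg_sub, deg_single, deg_eq_one hK P]; push_cast; omega)
  rw [deg_sub, deg_single, deg_eq_one hK P] at h2
  obtain ⟨s, hs, hs'⟩ : ∃ s ∈ L D', s ∉ L (D' - Finsupp.single P 1) := by
    by_contra hcon
    push Not at hcon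
    have h3 := ell_mono hK (D := D' - Finsupp.single P 1) (E := D')
      (sub_le_self _ (Finsupp.single_nonneg.2 zero_le_one))
    have : L D' = L (D' - Finsupp.single P 1) :=
      le_antisymm hcon (L_mono (sub_le_self _ (Finsupp.single_nonneg.2 zero_le_one)))
    have : ell D' = ell (D' - Finsupp.single P 1) := by rw [ell, ell, this]
    omega
  have hD'P : D' P = 0 := by rw [hD', Finsupp.sub_apply, Finsupp.smul_apply, hEP, hDP]; simp
  have hsP : P.1 s = 1 := by
    refine le_antisymm ((hs P).trans_eq (by rw [hD'P, exp_zero])) (not_lt.1 fun hlt => hs' fun R => ?_)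
    rcases eq_or_ne R P with rfl | hR
    · rw [Finsupp.sub_apply, hD'P, Finsupp.single_eq_same, zero_sub]
      exact (lt_one_iff_le R).1 hlt
    · rw [Finsupp.sub_apply, Finsupp.single_eq_of_ne hR, sub_zero]
      exact hs R
  refine ⟨n, s, L_mono (sub_le_self _ hD0) hs, hsP, fun R => ?_⟩
  rcases eq_or_ne z 0 with rfl | hz0
  · simp
  rw [map_mul, val_eq_exp R hz0]
  refine (mul_le_mul' le_rfl (hs R)).trans ?_
  rw [← exp_add, exp_le_exp, hD', Finsupp.sub_apply, hD, poles_apply hK]
  have := le_max_left (-R.ord z) 0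
  omega

end lattice

theorem inv_mem_adjoin_of_isIntegral {R : Type*} [CommRing R] [Algebra R K] {s : K} (hs : s ≠ 0)
    (h : IsIntegral R s⁻¹) {M : Subalgebra R K} (hsM : s ∈ M) : s⁻¹ ∈ M := by
  obtain ⟨p, hp, hp0⟩ := h
  rw [← Polynomial.aeval_def] at hp0
  rcases Nat.eq_zero_or_pos p.natDegree with hd | hd
  · rw [hp.natDegree_eq_zero.1 hd, map_one] at hp0
    exact absurd hp0 one_ne_zero
  rw [Polynomial.aeval_eq_sum_range, sum_range_succ, hp.coeff_natDegree, one_smul] at hp0
  have e : s⁻¹ = -∑ i ∈ range p.natDegree, p.coeff i • (s ^ (p.natDegree - 1 - i)) := by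
    have h1 := congrArg (· * s ^ (p.natDegree - 1)) hp0
    simp only [add_mul, zero_mul, Finset.sum_mul] at h1
    have h2 : s⁻¹ ^ p.natDegree * s ^ (p.natDegree - 1) = s⁻¹ := by
      conv_lhs => rw [show p.natDegree = (p.natDegree - 1) + 1 by omega, pow_succ',
        Nat.add_sub_cancel]
      rw [mul_assoc, ← mul_pow, inv_mul_cancel₀ hs, one_pow, mul_one]
    rw [h2, add_comm] at h1
    rw [eq_neg_of_add_eq_zero_left h1]
    refine congrArg Neg.neg (sum_congr rfl fun i hi => ?_)
    have hi' := mem_range.1 hi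
    rw [smul_mul_assoc, show p.natDegree - 1 = i + (p.natDegree - 1 - i) by omega, pow_add, ← mul_assoc,
      ← mul_pow, inv_mul_cancel₀ hs, one_pow, one_mul, Nat.add_sub_cancel_left]
  rw [e]
  exact neg_mem (sum_mem fun i _ => M.smul_mem (pow_mem hsM _) _)

/-- A local subalgebra at `P` which separates `P` from the other places and contains a local
parameter is the whole valuation ring. -/
theorem mem_of_separates [IsAlgClosed k] (hK : IsFunctionField k K) {A : Subalgebra k K}
    {P : Place k K} (hP : ∀ a ∈ A, P.1 a ≤ 1) (hinv : ∀ a ∈ A, P.1 a = 1 → a⁻¹ ∈ A)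
    {g : K} (hgA : g ∈ A) (hg : P.1 g = exp (-1))
    (hsep : ∀ Q : Place k K, (∀ a ∈ A, Q.1 a ≤ 1) → Q = P) {z : K} (hz : P.1 z ≤ 1) : z ∈ A := by
  classical
  have hg0 := ne_zero_of_val P hg
  have hgtr : Transcendental k g := transcendental_of_not_mem hK fun h => by
    obtain ⟨c, rfl⟩ := h
    have hc : c ≠ 0 := fun e => hg0 (by rw [e, map_zero])
    rw [val_algebraMap P hc, ← exp_zero, exp_inj] at hg
    omega
  have hint : ∀ y : K, P.1 y ≤ 1 → IsIntegral A y := by
    intro y hy
    have hfin := (finite_support hK y)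
    obtain ⟨t, htA, ht, hts⟩ := exists_poles_at hK hgA hgtr
      (hfin.toFinset.filter fun Q => 1 < Q.1 y) fun Q hQ => by
        rw [Finset.mem_filter] at hQ
        by_contra hcon
        push Not at hcon
        rw [hsep Q hcon] at hQ
        exact absurd hy (not_le.2 hQ.2)
    let m : ℕ := ∑ Q ∈ hfin.toFinset, (Q.ord y).natAbs
    refine isIntegral_of_mem_L hK htA ht (n := m) fun R => ?_
    rw [nsmul_poles_apply hK]
    rcases le_or_gt (R.1 y) 1 with h | h
    · refine h.trans ?_
      rw [← exp_zero, exp_le_exp]; positivity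
    have hy0 : y ≠ 0 := fun e => by simp [e] at h
    have h' := h
    rw [val_eq_exp R hy0, ← exp_zero, exp_lt_exp] at h'
    have hR : R ∈ hfin.toFinset := hfin.mem_toFinset.2 (by show R.ord y ≠ 0; omega)
    have h2 := hts R (Finset.mem_filter.2 ⟨hR, h⟩)
    rw [val_eq_exp R (x := t) (fun e => ht (e ▸ isAlgebraic_zero)), ← exp_zero, exp_lt_exp] at h2
    have h3 := Finset.single_le_sum (f := fun Q : Place k K => (Q.ord y).natAbs)
      (fun _ _ => Nat.zero_le _) hR
    rw [val_eq_exp R hy0, exp_le_exp]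
    have : (m : ℤ) * 1 ≤ m * max (-R.ord t) 0 := mul_le_mul_of_nonneg_left (by omega) (by positivity)
    omega
  obtain ⟨N, hN⟩ := L_le_of_stable hK hgtr
  have hgP : P.1 g ≤ 1 := hP g hgA
  have := L_finite hK (N • poles k g)
  obtain ⟨F, hF⟩ := (Submodule.fg_iff_finiteDimensional (L (N • poles k g))).2 this
  have hLP : ∀ n : ℕ, ∀ x ∈ L (n • poles k g), P.1 x ≤ 1 := fun n x hx => by
    refine (hx P).trans_eq ?_
    rw [nsmul_poles_apply hK, max_eq_right, mul_zero, exp_zero]
    have := (ord_nonneg_iff P hg0).2 hgP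
    omega
  let M : Subalgebra A K := Algebra.adjoin A (F : Set K)
  have hMfg : M.toSubmodule.FG := fg_adjoin_of_finite F.finite_toSet fun x hx =>
    hint x (hLP N x (hF ▸ Submodule.subset_span hx))
  have hML : ∀ n : ℕ, ∀ x ∈ L (n • poles k g), x ∈ M := by
    refine fun n x hx => hN (M.toSubmodule.restrictScalars k) ?_
      (fun y hy => M.smul_mem hy ⟨g, hgA⟩) n hx
    rw [← hF, Submodule.span_le]
    exact Algebra.subset_adjoin
  have hOM : ∀ y : K, P.1 y ≤ 1 → y ∈ M := by
    intro y hy
    obtain ⟨n, s, hs, hsP, hys⟩ := exists_denominator hK hgtr hgP hy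
    have hs0 : s ≠ 0 := fun e => by simp [e] at hsP
    have h1 : s⁻¹ ∈ M :=
      inv_mem_adjoin_of_isIntegral hs0 (hint _ (by rw [map_inv₀, hsP, inv_one])) (hML n s hs)
    have := mul_mem (hML n _ hys) h1
    rwa [mul_assoc, mul_inv_cancel₀ hs0, mul_one] at this
  have hMP : ∀ x ∈ M, P.1 x ≤ 1 := fun x hx => by
    induction hx using Algebra.adjoin_induction with
    | mem x hx => exact hLP N x (hF ▸ Submodule.subset_span hx)
    | algebraMap a => exact hP a a.2
    | add a b _ _ ha hb => exact (P.1.map_add a b).trans (max_le ha hb)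
    | mul a b _ _ ha hb => rw [map_mul]; exact mul_le_one' ha hb
  let I : Ideal A :=
    { carrier := {a | P.1 (a : K) < 1}
      add_mem' := fun {a b} ha hb => (P.1.map_add _ _).trans_lt (max_lt ha hb)
      zero_mem' := by simp
      smul_mem' := fun a {b} hb => by
        show P.1 ((a : K) * b) < 1
        rw [map_mul]
        exact lt_of_le_of_lt (mul_le_of_le_one_left' (hP a a.2)) hb }
  have hI : I ≤ Ideal.jacobson ⊥ := fun a ha => by
    rw [Ideal.mem_jacobson_bot]
    intro b
    have h1 : P.1 ((a : K) * b) < 1 := by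
      rw [map_mul]; exact lt_of_le_of_lt (mul_le_of_le_one_right' (hP b b.2)) ha
    have h2 : P.1 ((a : K) * b + 1) = 1 := by
      rw [P.1.map_add_eq_of_lt_right (by rwa [map_one]), map_one]
    have hne : (a : K) * b + 1 ≠ 0 := fun e => by simp [e] at h2
    refine IsUnit.of_mul_eq_one ⟨_, hinv _ (a * b + 1).2 h2⟩ (Subtype.ext ?_)
    exact mul_inv_cancel₀ hne
  let N₁ : Submodule A K := Submodule.span A {(1 : K)}
  have hle : M.toSubmodule ≤ N₁ := by
    refine Submodule.le_of_le_smul_of_le_jacobson_bot hMfg hI fun x hx => ?_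
    obtain ⟨c, hc⟩ := exists_const hK P (hMP x hx)
    set y := (x - algebraMap k K c) * g⁻¹
    have hy : P.1 y ≤ 1 := by
      rw [map_mul, map_inv₀, hg, ← exp_neg, neg_neg]
      refine (mul_le_mul' ((lt_one_iff_le P).1 hc) le_rfl).trans_eq ?_
      rw [← exp_add]; simp
    have e : x = (⟨_, Subalgebra.algebraMap_mem A c⟩ : A) • (1 : K) + (⟨g, hgA⟩ : A) • y := by
      show x = algebraMap k K c * 1 + g * y
      rw [mul_one, mul_comm g y, inv_mul_cancel_right₀ hg0, add_sub_cancel]
    rw [e]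
    exact Submodule.add_mem_sup (Submodule.smul_mem _ _ (Submodule.mem_span_singleton_self _))
      (Submodule.smul_mem_smul (show P.1 g < 1 by rw [hg, ← exp_zero, exp_lt_exp]; omega) (hOM y hy))
  obtain ⟨a, ha⟩ := Submodule.mem_span_singleton.1 (hle (hOM z hz))
  rw [← ha]
  show (a : K) * 1 ∈ A
  rw [mul_one]; exact a.2

end Groth.Agent.FunFld
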