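import Groth.Agent.FunFld.Curve
import Groth.Agent.FunFld.Plane

/-! Criteria for nonsingularity of projective maps. -/

namespace Groth.Agent.FunFld

open _root_.FunFld WithZero IsLocalRing Finset

variable {k K : Type*} [Field k] [Field K] [Algebra k K] [IsAlgClosed k]

theorem val_eq_of_not_le {P : Place k K} {x : K} {n : ℤ} (h : P.1 x ≤ exp n)
    (h' : ¬ P.1 x ≤ exp (n - 1)) : P.1 x = exp n := by
  rcases eq_or_ne x 0 with rfl | hx
  · simp at h'
  rw [val_eq_exp P hx, exp_le_exp] at h h'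
  rw [val_eq_exp P hx, exp_inj]; omega

section ratios

variable {ι : Type*} {φ : ι → K} {P : Place k K} {j : ι}

omit [IsAlgClosed k] in
theorem ratio_val_le (hj0 : φ j ≠ 0) (hj : ∀ i, P.1 (φ i) ≤ P.1 (φ j)) (i : ι) :
    P.1 (φ i / φ j) ≤ 1 := by
  rw [map_div₀]
  exact div_le_one_of_le₀ (hj i) zero_le

omit [IsAlgClosed k] in
theorem div_mem_adjoin {w : K} (hw : w ∈ Submodule.span k (Set.range φ)) :
    w / φ j ∈ Algebra.adjoin k (Set.range fun i => φ i / φ j) := by
  induction hw using Submodule.span_induction with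
  | mem x hx => obtain ⟨i, rfl⟩ := hx; exact Algebra.subset_adjoin ⟨i, rfl⟩
  | zero => rw [zero_div]; exact zero_mem _
  | add a b _ _ ha hb => rw [add_div]; exact add_mem ha hb
  | smul c a _ ha => rw [smul_div_assoc]; exact Subalgebra.smul_mem _ ha c

omit [IsAlgClosed k] in
theorem inLocRing_iff (hj0 : φ j ≠ 0) (hj : ∀ i, P.1 (φ i) ≤ P.1 (φ j)) {z : K} :
    InLocRing φ P z ↔ z ∈ locRing (fun i => φ i / φ j) P := by
  constructor
  · rintro ⟨j', hj'0, hj', u, hu, w, hw, hw1, e⟩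
    have hone : P.1 (φ j' / φ j) = 1 := by
      rw [map_div₀, le_antisymm (hj j') (hj' j), div_self (P.1.ne_zero_iff.2 hj0)]
    have hle : Algebra.adjoin k (Set.range fun i => φ i / φ j') ≤ locRing (fun i => φ i / φ j) P := by
      rw [Algebra.adjoin_le_iff]
      rintro _ ⟨i, rfl⟩
      show φ i / φ j' ∈ locRing _ P
      rw [← div_div_div_cancel_right₀ hj0]
      exact mul_inv_mem_locRing (coord_mem_locRing i) (coord_mem_locRing j') hone
    have hw0 : w ≠ 0 := fun e => by simp [e] at hw1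
    rw [show z = u / w by rw [← e, mul_div_assoc, div_self hw0, mul_one]]
    exact mul_inv_mem_locRing (hle hu) (hle hw) hw1
  · rintro ⟨u, hu, w, hw, hw1, e⟩
    exact ⟨j, hj0, hj, u, hu, w, hw, hw1, e⟩

variable (hK : IsFunctionField k K)
include hK

theorem nonsingular_of_locRing (hj0 : φ j ≠ 0) (hj : ∀ i, P.1 (φ i) ≤ P.1 (φ j))
    {g : K} (hgA : g ∈ locRing (fun i => φ i / φ j) P) (hg : P.1 g = exp (-1))
    (hsep : ∀ Q : Place k K, (∀ a ∈ locRing (fun i => φ i / φ j) P, Q.1 a ≤ 1) → Q = P) :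
    IsNonsingularAt φ P := fun _ hz =>
  (inLocRing_iff hj0 hj).2 (mem_of_separates hK (fun _ => locRing_val_le (ratio_val_le hj0 hj))
    (fun _ => inv_mem_locRing) hgA hg hsep hz)

theorem locRing_const {Q : Place k K} (hc : ∀ i, ∃ c : k, P.1 (φ i / φ j - algebraMap k K c) < 1 ∧
    Q.1 (φ i / φ j - algebraMap k K c) < 1) {z : K} (hz : z ∈ locRing (fun i => φ i / φ j) P) :
    ∃ c : k, P.1 (z - algebraMap k K c) < 1 ∧ Q.1 (z - algebraMap k K c) < 1 := by
  have h1 : (exp (-1) : WithZero (Multiplicative ℤ)) < 1 := by rw [← exp_zero, exp_lt_exp]; omega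
  obtain ⟨c, h, h'⟩ := const_locRing (Q := Q) h1 h1 (fun i => by
    obtain ⟨c, h, h'⟩ := hc i
    exact ⟨c, (lt_one_iff_le P).1 h, (lt_one_iff_le Q).1 h'⟩) hz
  exact ⟨c, h.trans_lt h1, h'.trans_lt h1⟩

theorem locRing_val_of_sameImage {Q : Place k K}
    (hc : ∀ i, ∃ c : k, P.1 (φ i / φ j - algebraMap k K c) < 1 ∧
      Q.1 (φ i / φ j - algebraMap k K c) < 1) {z : K} (hz : z ∈ locRing (fun i => φ i / φ j) P) :
    Q.1 z ≤ 1 ∧ (Q.1 z < 1 ↔ P.1 z < 1) := by
  obtain ⟨c, h, h'⟩ := locRing_const hK hc hz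
  rcases eq_or_ne c 0 with rfl | hc0
  · rw [map_zero, sub_zero] at h h'
    exact ⟨h'.le, iff_of_true h' h⟩
  · rw [val_eq_one_of_const h hc0, val_eq_one_of_const h' hc0]
    exact ⟨le_rfl, Iff.rfl⟩

theorem sameImage_of_locRing (hj0 : φ j ≠ 0) (hj : ∀ i, P.1 (φ i) ≤ P.1 (φ j)) {Q : Place k K}
    (hQ : ∀ a ∈ locRing (fun i => φ i / φ j) P, Q.1 a ≤ 1) : SameImage φ P Q := by
  refine ⟨j, hj0, hj, fun i => ?_, fun i => ?_⟩
  · have := hQ _ (coord_mem_locRing i)
    rwa [map_div₀, div_le_one₀ (zero_lt_iff.2 (Q.1.ne_zero_iff.2 hj0))] at this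
  · obtain ⟨c, hc⟩ := exists_const hK P (ratio_val_le hj0 hj i)
    exact ⟨c, hc, (lt_one_iff_of_le hK (fun _ => inv_mem_locRing)
      (fun _ => locRing_val_le (ratio_val_le hj0 hj)) hQ
      (sub_mem (coord_mem_locRing i) (Subalgebra.algebraMap_mem _ c))).2 hc⟩

theorem exists_sub_val (hj0 : φ j ≠ 0) (hj : ∀ i, P.1 (φ i) ≤ P.1 (φ j)) {g : K}
    (hgA : g ∈ locRing (fun i => φ i / φ j) P) (hg : P.1 g = exp (-1)) :
    ∃ i, ∃ c : k, P.1 (φ i / φ j - algebraMap k K c) = exp (-1) := by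
  by_contra hcon
  push Not at hcon
  have h2 : (exp (-2) : WithZero (Multiplicative ℤ)) < 1 := by rw [← exp_zero, exp_lt_exp]; omega
  have h1 : (exp (-1) : WithZero (Multiplicative ℤ)) < 1 := by rw [← exp_zero, exp_lt_exp]; omega
  obtain ⟨c, hc, -⟩ := const_locRing (Q := P) h2 h2 (fun i => by
    obtain ⟨c, hc⟩ := exists_const hK P (ratio_val_le hj0 hj i)
    have : P.1 (φ i / φ j - algebraMap k K c) ≤ exp (-2) := by
      by_contra hne
      exact hcon i c (val_eq_of_not_le ((lt_one_iff_le P).1 hc) hne)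
    exact ⟨c, this, this⟩) hgA
  rcases eq_or_ne c 0 with rfl | hc0
  · rw [map_zero, sub_zero, hg, exp_le_exp] at hc
    omega
  · rw [val_eq_one_of_const (hc.trans_lt h2) hc0, ← exp_zero, exp_inj] at hg
    omega

end ratios

section finite

variable {n : ℕ} (hK : IsFunctionField k K) (φ : Fin (n + 1) → K) (h0 : ∀ i, φ i ≠ 0)
include hK h0

theorem exists_least (P : Place k K) :
    ∃ j, P.1 (φ j) = exp (mapDiv k φ P) ∧ ∀ i, P.1 (φ i) ≤ P.1 (φ j) := by
  obtain ⟨j, -, hj⟩ := Finset.exists_mem_eq_inf' Finset.univ_nonempty (fun i => P.ord (φ i))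
  have : P.1 (φ j) = exp (mapDiv k φ P) := by
    rw [val_eq_exp P (h0 j), mapDiv_apply hK, hj]
  exact ⟨j, this, fun i => this ▸ val_le_exp_mapDiv hK φ P i⟩

theorem val_of_least (P : Place k K) {j : Fin (n + 1)} (hj : ∀ i, P.1 (φ i) ≤ P.1 (φ j)) :
    P.1 (φ j) = exp (mapDiv k φ P) := by
  obtain ⟨j', h, hj'⟩ := exists_least hK φ h0 P
  rw [← h]
  exact le_antisymm (hj' j) (hj j')

omit h0 in
theorem span_val_le {w : K} (hw : w ∈ Submodule.span k (Set.range φ)) (P : Place k K) :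
    P.1 w ≤ exp (mapDiv k φ P) := by
  induction hw using Submodule.span_induction with
  | mem x hx => obtain ⟨i, rfl⟩ := hx; exact val_le_exp_mapDiv hK φ P i
  | zero => simp
  | add a b _ _ ha hb => exact (P.1.map_add a b).trans (max_le ha hb)
  | smul c a _ ha => exact (val_smul_le P c a).trans ha

theorem nonsingular_of_sep (P : Place k K)
    (hg : ∃ w ∈ Submodule.span k (Set.range φ), P.1 w = exp (mapDiv k φ P - 1))
    (hQ : ∀ Q : Place k K, Q ≠ P → ∃ w ∈ Submodule.span k (Set.range φ),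
      P.1 w ≤ exp (mapDiv k φ P - 1) ∧ Q.1 w = exp (mapDiv k φ Q)) : IsNonsingularAt φ P := by
  obtain ⟨j, hjv, hj⟩ := exists_least hK φ h0 P
  obtain ⟨w, hw, hwv⟩ := hg
  refine nonsingular_of_locRing hK (h0 j) hj (g := w / φ j)
    (mem_locRing_of_adjoin (div_mem_adjoin hw)) ?_ fun Q hA => ?_
  · rw [map_div₀, hwv, hjv, ← exp_sub]; congr 1; ring
  by_contra hne
  obtain ⟨w', hw', hwP, hwQ⟩ := hQ Q hne
  obtain ⟨j', hj'0, hj', hj'Q, hc⟩ := sameImage_of_locRing hK (h0 j) hj hA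
  have h1 := (locRing_val_of_sameImage hK hc (z := w' / φ j')
    (mem_locRing_of_adjoin (div_mem_adjoin hw'))).2
  rw [map_div₀, map_div₀, hwQ, val_of_least hK φ h0 Q hj'Q, val_of_least hK φ h0 P hj', div_self exp_ne_zero] at h1
  refine lt_irrefl (1 : WithZero (Multiplicative ℤ)) (h1.2 ?_)
  rw [div_lt_one₀ exp_pos]
  exact hwP.trans_lt (exp_lt_exp.2 (by omega))

theorem exists_span_ord (P : Place k K) (h : IsNonsingularAt φ P) :
    ∃ w ∈ Submodule.span k (Set.range φ), P.1 w = exp (mapDiv k φ P - 1) := by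
  obtain ⟨j, hjv, hj⟩ := exists_least hK φ h0 P
  obtain ⟨g, hg⟩ := exists_val P (-1)
  obtain ⟨i, c, hc⟩ := exists_sub_val hK (h0 j) hj ((inLocRing_iff (h0 j) hj).1
    (h g (by rw [hg, ← exp_zero, exp_le_exp]; omega))) hg
  refine ⟨φ i - c • φ j, sub_mem (Submodule.subset_span ⟨i, rfl⟩)
    (Submodule.smul_mem _ _ (Submodule.subset_span ⟨j, rfl⟩)), ?_⟩
  rw [show φ i - c • φ j = (φ i / φ j - algebraMap k K c) * φ j by
    rw [sub_mul, div_mul_cancel₀ _ (h0 j), Algebra.smul_def], map_mul, hc, hjv, ← exp_add]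
  congr 1; ring

omit h0 in
theorem eq_of_sameImage {P Q : Place k K} (h : IsNonsingularAt φ P) (hsame : SameImage φ P Q) :
    Q = P := by
  obtain ⟨j, hj0, hj, -, hc⟩ := hsame
  exact (eq_of_le fun x hx => (locRing_val_of_sameImage hK hc ((inLocRing_iff hj0 hj).1 (h x hx))).1).symm

theorem exists_span_sep (P : Place k K) (h : IsNonsingularAt φ P) (Q : Place k K) (hne : Q ≠ P) :
    ∃ w ∈ Submodule.span k (Set.range φ),
      P.1 w ≤ exp (mapDiv k φ P - 1) ∧ Q.1 w = exp (mapDiv k φ Q) := by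
  obtain ⟨j, hjv, hj⟩ := exists_least hK φ h0 P
  by_contra hcon
  push Not at hcon
  have hlow : ∀ w ∈ Submodule.span k (Set.range φ), P.1 w ≤ exp (mapDiv k φ P - 1) →
      Q.1 w ≤ exp (mapDiv k φ Q - 1) := fun w hw hwP => by
    by_contra hq
    exact hcon w hw hwP (val_eq_of_not_le (span_val_le hK φ hw Q) hq)
  choose c hc using fun i => exists_const hK P (ratio_val_le (h0 j) hj i)
  have hsub : ∀ i, φ i - c i • φ j = (φ i / φ j - algebraMap k K (c i)) * φ j := fun i => by
    rw [sub_mul, div_mul_cancel₀ _ (h0 j), Algebra.smul_def]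
  have hQlow : ∀ i, Q.1 (φ i - c i • φ j) ≤ exp (mapDiv k φ Q - 1) := fun i => by
    refine hlow _ (sub_mem (Submodule.subset_span ⟨i, rfl⟩)
      (Submodule.smul_mem _ _ (Submodule.subset_span ⟨j, rfl⟩))) ?_
    rw [hsub, map_mul, hjv]
    refine (mul_le_mul' ((lt_one_iff_le P).1 (hc i)) le_rfl).trans_eq ?_
    rw [← exp_add]; congr 1; ring
  have hjQ : Q.1 (φ j) = exp (mapDiv k φ Q) := by
    refine val_eq_of_not_le (val_le_exp_mapDiv hK φ Q j) fun hle => ?_
    obtain ⟨i, hi, -⟩ := exists_least hK φ h0 Q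
    have : Q.1 (φ i) ≤ exp (mapDiv k φ Q - 1) := by
      rw [← sub_add_cancel (φ i) (c i • φ j)]
      exact (Q.1.map_add _ _).trans (max_le (hQlow i) ((val_smul_le Q _ _).trans hle))
    rw [hi, exp_le_exp] at this
    omega
  refine hne (eq_of_sameImage hK φ h ⟨j, h0 j, hj, fun i => hjQ ▸ val_le_exp_mapDiv hK φ Q i,
    fun i => ⟨c i, hc i, ?_⟩⟩)
  have hh := hQlow i
  rw [hsub, map_mul, hjQ, ← le_div_iff₀ exp_pos, ← exp_sub] at hh
  refine hh.trans_lt ?_
  rw [← exp_zero, exp_lt_exp]; omega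

omit h0 in
theorem inf_L_step (D : Divisor k K) (R : Place k K) :
    Module.finrank k ↥(Submodule.span k (Set.range φ) ⊓ L D) ≤
      Module.finrank k ↥(Submodule.span k (Set.range φ) ⊓ L (D - Finsupp.single R 1)) + 1 := by
  set W := Submodule.span k (Set.range φ)
  have := L_finite hK D
  have := L_finite hK (D - Finsupp.single R 1)
  have : FiniteDimensional k W := FiniteDimensional.span_of_finite k (Set.finite_range φ)
  have hle : L (D - Finsupp.single R 1) ≤ L D := L_mono (sub_le_self _ (Finsupp.single_nonneg.2 zero_le_one))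
  have h1 := Submodule.finrank_sup_add_finrank_inf_eq (W ⊓ L D) (L (D - Finsupp.single R 1))
  rw [inf_assoc, inf_eq_right.2 hle] at h1
  have h2 : Module.finrank k ↥((W ⊓ L D) ⊔ L (D - Finsupp.single R 1)) ≤ ell D :=
    Submodule.finrank_mono (sup_le inf_le_right hle)
  have h3 := (ell_add_single_le hK (D - Finsupp.single R 1) R).2
  rw [sub_add_cancel, deg_eq_one hK R] at h3
  rw [ell] at h2 h3
  rw [ell] at h3
  omega

theorem codim_two_iff (P Q : Place k K) :
    Module.finrank k ↥(Submodule.span k (Set.range φ) ⊓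
        L (mapDiv k φ - Finsupp.single P 1 - Finsupp.single Q 1)) + 2 =
      Module.finrank k ↥(Submodule.span k (Set.range φ)) ↔
    ∃ w ∈ Submodule.span k (Set.range φ), P.1 w ≤ exp (mapDiv k φ P - 1) ∧
      Q.1 w = exp ((mapDiv k φ - Finsupp.single P 1 : Divisor k K) Q) := by
  classical
  set W := Submodule.span k (Set.range φ) with hW
  set D := mapDiv k φ with hD
  have hWfin : FiniteDimensional k W := FiniteDimensional.span_of_finite k (Set.finite_range φ)
  have hWD : W ⊓ L D = W := inf_eq_left.2 fun w hw R => span_val_le hK φ hw R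
  have hmem : ∀ w ∈ W, (w ∈ L (D - Finsupp.single P 1) ↔ P.1 w ≤ exp (D P - 1)) := fun w hw =>
    ⟨fun h => by simpa [Finsupp.sub_apply] using h P, fun h R => by
      rcases eq_or_ne R P with rfl | hR
      · simpa [Finsupp.sub_apply] using h
      · simpa [Finsupp.sub_apply, Finsupp.single_eq_of_ne hR] using span_val_le hK φ hw R⟩
  have h1 := inf_L_step hK φ D P
  have h2 := inf_L_step hK φ (D - Finsupp.single P 1) Q
  rw [← hW, hWD] at h1
  rw [← hW] at h2
  have hlt : Module.finrank k ↥(W ⊓ L (D - Finsupp.single P 1)) < Module.finrank k W := by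
    obtain ⟨j, hjv, -⟩ := exists_least hK φ h0 P
    refine Submodule.finrank_lt_finrank_of_lt (lt_of_le_of_ne inf_le_left fun e => ?_)
    have hjW : φ j ∈ W := Submodule.subset_span ⟨j, rfl⟩
    have := (hmem _ hjW).1 ((e.symm ▸ hjW : φ j ∈ W ⊓ L (D - Finsupp.single P 1)).2)
    rw [hjv, exp_le_exp, hD] at this
    omega
  have hle : W ⊓ L (D - Finsupp.single P 1 - Finsupp.single Q 1) ≤ W ⊓ L (D - Finsupp.single P 1) :=
    inf_le_inf_left _ (L_mono (sub_le_self _ (Finsupp.single_nonneg.2 zero_le_one)))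
  have : FiniteDimensional k ↥(W ⊓ L (D - Finsupp.single P 1)) :=
    Submodule.finiteDimensional_of_le inf_le_left
  constructor
  · intro h
    have hne : ¬ W ⊓ L (D - Finsupp.single P 1) ≤ W ⊓ L (D - Finsupp.single P 1 - Finsupp.single Q 1) :=
      fun hge => by rw [le_antisymm hge hle] at h1 hlt; omega
    obtain ⟨w, ⟨hw, hw1⟩, hw2⟩ := SetLike.not_le_iff_exists.1 hne
    refine ⟨w, hw, (hmem w hw).1 hw1, val_eq_of_not_le (hw1 Q) fun hq => hw2 ⟨hw, fun R => ?_⟩⟩
    rcases eq_or_ne R Q with rfl | hR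
    · simpa [Finsupp.sub_apply] using hq
    · simpa [Finsupp.sub_apply, Finsupp.single_eq_of_ne hR] using hw1 R
  · rintro ⟨w, hw, hwP, hwQ⟩
    have hne : W ⊓ L (D - Finsupp.single P 1 - Finsupp.single Q 1) ≠ W ⊓ L (D - Finsupp.single P 1) := by
      intro e
      have := (e.symm ▸ (⟨hw, (hmem w hw).2 hwP⟩ : w ∈ W ⊓ L (D - Finsupp.single P 1)) :
        w ∈ W ⊓ L (D - Finsupp.single P 1 - Finsupp.single Q 1)).2 Q
      rw [hwQ, exp_le_exp] at this
      simp [Finsupp.sub_apply] at this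
    have h3 := Submodule.finrank_lt_finrank_of_lt (lt_of_le_of_ne hle hne)
    omega

theorem mapDiv_eq_of_span {D : Divisor k K} (hspan : Submodule.span k (Set.range φ) = L D)
    (hbpf : ∀ R : Place k K, ell (D - Finsupp.single R 1) < ell D) : mapDiv k φ = D := by
  refine Finsupp.ext fun R => le_antisymm ?_ ?_
  · obtain ⟨j, hjv, -⟩ := exists_least hK φ h0 R
    have hj : φ j ∈ L D := hspan ▸ Submodule.subset_span ⟨j, rfl⟩
    have := hj R
    rwa [hjv, exp_le_exp] at this
  · obtain ⟨w, hw, hw'⟩ : ∃ w ∈ L D, w ∉ L (D - Finsupp.single R 1) := by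
      by_contra hcon
      push Not at hcon
      have := L_finite hK (D - Finsupp.single R 1)
      have h1 : ell D ≤ ell (D - Finsupp.single R 1) := Submodule.finrank_mono hcon
      have := hbpf R
      omega
    have h2 : R.1 w = exp (D R) := val_eq_of_not_le (hw R) fun hle => hw' fun S => by
      rcases eq_or_ne S R with rfl | hS
      · simpa [Finsupp.sub_apply] using hle
      · simpa [Finsupp.sub_apply, Finsupp.single_eq_of_ne hS] using hw S
    have h3 := span_val_le hK φ (hspan.symm ▸ hw : w ∈ Submodule.span k (Set.range φ)) R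
    rwa [h2, exp_le_exp] at h3

theorem nonsingular_of_ell {D : Divisor k K} (hspan : Submodule.span k (Set.range φ) = L D)
    (hbpf : ∀ R : Place k K, ell (D - Finsupp.single R 1) < ell D) (P : Place k K)
    (hsep : ∀ Q : Place k K,
      ell (D - Finsupp.single P 1 - Finsupp.single Q 1) < ell (D - Finsupp.single P 1)) :
    IsNonsingularAt φ P := by
  have hmap := mapDiv_eq_of_span hK φ h0 hspan hbpf
  have key : ∀ Q : Place k K, ∃ w ∈ Submodule.span k (Set.range φ),
      P.1 w ≤ exp (mapDiv k φ P - 1) ∧ Q.1 w = exp ((mapDiv k φ - Finsupp.single P 1 : Divisor k K) Q) := fun Q => by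
    refine (codim_two_iff hK φ h0 P Q).1 ?_
    rw [hmap, hspan]
    have hm : ∀ E : Divisor k K, E ≤ D → Module.finrank k ↥(L D ⊓ L E) = ell E := fun E hE => by
      rw [inf_eq_right.2 (L_mono hE)]; rfl
    rw [hm _ ((sub_le_self _ (Finsupp.single_nonneg.2 zero_le_one)).trans
      (sub_le_self _ (Finsupp.single_nonneg.2 zero_le_one)))]
    have h1 := hsep Q
    have h2 := hbpf P
    have h3 := (ell_add_single_le hK (D - Finsupp.single P 1) P).2
    have h4 := (ell_add_single_le hK (D - Finsupp.single P 1 - Finsupp.single Q 1) Q).2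
    rw [sub_add_cancel, deg_eq_one hK] at h3 h4
    show _ + 2 = ell D
    omega
  refine nonsingular_of_sep hK φ h0 P ?_ fun Q hne => ?_
  · obtain ⟨w, hw, -, h⟩ := key P
    exact ⟨w, hw, by simpa [Finsupp.sub_apply] using h⟩
  · obtain ⟨w, hw, h, h'⟩ := key Q
    exact ⟨w, hw, h, by simpa [Finsupp.sub_apply, Finsupp.single_eq_of_ne hne] using h'⟩

omit h0 in
theorem sameImage_finite (hn : 1 ≤ n) (hφ : LinearIndependent k φ) (P : Place k K) :
    {Q : Place k K | SameImage φ P Q}.Finite := by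
  classical
  have : Nontrivial (Fin (n + 1)) := Fin.nontrivial_iff_two_le.2 (by omega)
  choose i hi using fun j : Fin (n + 1) => exists_ne j
  let C : Fin (n + 1) → k := fun j =>
    if h : ∃ c : k, P.1 (φ (i j) / φ j - algebraMap k K c) < 1 then h.choose else 0
  refine (Set.finite_iUnion fun j => finite_zeros hK (φ (i j) / φ j - algebraMap k K (C j))).subset ?_
  rintro Q ⟨j, hj0, -, -, hc⟩
  obtain ⟨c, hcP, hcQ⟩ := hc (i j)
  have hC : C j = c := by
    have hex : ∃ c : k, P.1 (φ (i j) / φ j - algebraMap k K c) < 1 := ⟨c, hcP⟩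
    show dite _ _ _ = c
    rw [dif_pos hex]
    exact const_unique P hex.choose_spec hcP
  refine Set.mem_iUnion.2 ⟨j, ?_⟩
  show 0 < Q.ord (φ (i j) / φ j - algebraMap k K (C j))
  rw [hC, ord_pos_iff Q]
  · exact hcQ
  · intro e
    have e1 : φ (i j) = c • φ j := by
      rw [sub_eq_zero, div_eq_iff hj0] at e
      rw [e, Algebra.smul_def]
    have h := linearIndependent_iff_notMem_span.1 hφ (i j)
    exact h (e1 ▸ Submodule.smul_mem _ c (Submodule.subset_span
      ⟨j, ⟨Set.mem_univ j, fun e => hi j e.symm⟩, rfl⟩))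

end finite

end Groth.Agent.FunFld
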