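import Groth.Agent.FunFld.Curve
import Mathlib.RingTheory.Etale.Kaehler
import Mathlib.RingTheory.Etale.Field
import Mathlib.RingTheory.Kaehler.Basic
import Mathlib.FieldTheory.Perfect
import Mathlib.LinearAlgebra.Matrix.ToLinearEquiv
import Mathlib.LinearAlgebra.Matrix.Adjugate

/-! The derivation `d/dx` of a function field in characteristic zero; Wronskians. -/

namespace Groth.Agent.FunFld

open _root_.FunFld WithZero IsLocalRing Finset
open Polynomial (aeval C X)

variable {k K : Type*} [Field k] [Field K] [Algebra k K]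

section CharZero

variable [CharZero k] (hK : IsFunctionField k K)
include hK

theorem exists_derivation {x : K} (hx : Transcendental k x) :
    ∃ D : Derivation k K K, D x = 1 := by
  have : CharZero K := charZero_of_injective_algebraMap (algebraMap k K).injective
  have hfin := finite_adjoin hK hx
  let A := Algebra.adjoin k ({x} : Set K)
  let F := IntermediateField.adjoin k ({x} : Set K)
  open scoped IntermediateField.algebraAdjoinAdjoin in
  have hAF : Algebra.FormallyEtale A F :=
    Algebra.FormallyEtale.of_isLocalization (nonZeroDivisors A)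
  have : CharZero F := charZero_of_injective_algebraMap (algebraMap k F).injective
  have hFK : Algebra.FormallyEtale F K := Algebra.FormallyEtale.of_isSeparable F K
  open scoped IntermediateField.algebraAdjoinAdjoin in
  have hAK : Algebra.FormallyEtale A K := Algebra.FormallyEtale.comp A F K
  let π : Polynomial k →ₐ[k] A := (aeval x).codRestrict A fun p => Polynomial.aeval_mem_adjoin_singleton k x
  have hπ : Function.Bijective π := by
    refine ⟨fun p q e => ?_, fun a => ?_⟩
    · have h : aeval x p = aeval x q := congrArg Subtype.val e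
      by_contra hne
      exact hx ⟨p - q, sub_ne_zero.2 hne, by rw [map_sub, h, sub_self]⟩
    · have ha := a.2
      have : (A : Subalgebra k K) = (aeval (R := k) x).range := Algebra.adjoin_singleton_eq_range_aeval k x
      obtain ⟨p, hp⟩ := (SetLike.ext_iff.1 this (a : K)).1 ha
      exact ⟨p, Subtype.ext hp⟩
  let e : Polynomial k ≃ₐ[k] A := AlgEquiv.ofBijective π hπ
  have he : ∀ a : A, aeval x (e.symm a) = (a : K) := fun a =>
    congrArg Subtype.val (e.apply_symm_apply a)
  let d : Derivation k A K :=
    Derivation.mk'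
      { toFun := fun a => aeval x (Polynomial.derivative (e.symm a))
        map_add' := fun a b => by rw [map_add, map_add, map_add]
        map_smul' := fun c a => by rw [map_smul, Polynomial.derivative_smul, map_smul]; rfl }
      fun a b => by
        show aeval x (Polynomial.derivative (e.symm (a * b))) =
          (a : K) * aeval x (Polynomial.derivative (e.symm b)) + (b : K) * aeval x (Polynomial.derivative (e.symm a))
        rw [map_mul, Polynomial.derivative_mul, map_add, map_mul, map_mul, he, he]
        ring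
  let Ψ : TensorProduct A K (Ω[A⁄k]) →ₗ[K] K := LinearMap.liftBaseChange K d.liftKaehlerDifferential
  refine ⟨((Ψ.comp (KaehlerDifferential.tensorKaehlerEquivOfFormallyEtale k A K).symm.toLinearMap).compDer
    (KaehlerDifferential.D k K)), ?_⟩
  show Ψ ((KaehlerDifferential.tensorKaehlerEquivOfFormallyEtale k A K).symm (KaehlerDifferential.D k K x)) = 1
  have hxA : x ∈ A := Algebra.subset_adjoin (Set.mem_singleton x)
  have h := KaehlerDifferential.tensorKaehlerEquivOfFormallyEtale_symm_D_algebraMap k A K ⟨x, hxA⟩
  refine (congrArg Ψ h).trans ?_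
  rw [LinearMap.liftBaseChange_tmul, one_smul, Derivation.liftKaehlerDifferential_comp_D]
  show aeval x (Polynomial.derivative (e.symm ⟨x, hxA⟩)) = 1
  rw [show e.symm ⟨x, hxA⟩ = X from e.injective (by
    rw [e.apply_symm_apply]; exact Subtype.ext (Polynomial.aeval_X x).symm)]
  simp

theorem derivation_ker {D : Derivation k K K} {x : K} (hDx : D x = 1) {z : K} (hz : D z = 0) :
    z ∈ Set.range (algebraMap k K) := by
  by_contra hzk
  have htr : Transcendental k z := transcendental_of_not_mem hK hzk
  have : CharZero K := charZero_of_injective_algebraMap (algebraMap k K).injective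
  let C : IntermediateField k K :=
    { carrier := {a | D a = 0}
      mul_mem' := fun {a b} (ha : D a = 0) (hb : D b = 0) => by
        show D (a * b) = 0
        rw [D.leibniz, ha, hb, smul_zero, smul_zero, add_zero]
      add_mem' := fun {a b} (ha : D a = 0) (hb : D b = 0) => by
        show D (a + b) = 0
        rw [map_add, ha, hb, add_zero]
      algebraMap_mem' := fun c => D.map_algebraMap c
      inv_mem' := fun a (ha : D a = 0) => by
        show D a⁻¹ = 0
        rw [Derivation.leibniz_inv, ha, smul_zero] }
  have := finite_adjoin hK htr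
  have hle : IntermediateField.adjoin k ({z} : Set K) ≤ C := by
    rw [IntermediateField.adjoin_le_iff, Set.singleton_subset_iff]; exact hz
  let _ : Algebra (IntermediateField.adjoin k ({z} : Set K)) C := (IntermediateField.inclusion hle).toRingHom.toAlgebra
  have : IsScalarTower (IntermediateField.adjoin k ({z} : Set K)) C K := IsScalarTower.of_algebraMap_eq fun a => rfl
  have : FiniteDimensional C K := Module.Finite.right (IntermediateField.adjoin k ({z} : Set K)) C K
  have : CharZero C := charZero_of_injective_algebraMap (algebraMap k C).injective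
  have : Algebra.FormallyEtale C K := Algebra.FormallyEtale.of_isSeparable C K
  let D' : Derivation C K K :=
    Derivation.mk'
      { toFun := D
        map_add' := map_add D
        map_smul' := fun c a => by
          show D ((c : K) * a) = (c : K) * D a
          rw [D.leibniz, show D (c : K) = 0 from c.2, smul_zero, add_zero]; rfl }
      fun a b => D.leibniz a b
  have h0 : D'.liftKaehlerDifferential (KaehlerDifferential.D C K x) = 0 := by
    rw [Subsingleton.elim (KaehlerDifferential.D C K x) 0, map_zero]
  rw [Derivation.liftKaehlerDifferential_comp_D] at h0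
  exact one_ne_zero (hDx.symm.trans h0)

theorem finite_unstable [IsAlgClosed k] (D : Derivation k K K) {x : K} (hx : Transcendental k x) (hDx : D x = 1) :
    {Q : Place k K | ¬ ∀ y : K, Q.1 y ≤ 1 → Q.1 (D y) ≤ 1}.Finite := by
  classical
  obtain ⟨N, hN⟩ := L_le_of_stable hK hx
  have := L_finite hK (N • poles k x)
  obtain ⟨G, hG⟩ := (Submodule.fg_iff_finiteDimensional (L (N • poles k x))).2 this
  refine ((finite_support hK x).union (G.finite_toSet.biUnion fun g _ =>
    finite_support hK (D g))).subset fun Q hQ => ?_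
  by_contra hcon
  simp only [Set.mem_union, Set.mem_iUnion, Function.mem_support, not_or, not_exists, not_not] at hcon
  have hx0 : x ≠ 0 := fun e => hx (e ▸ isAlgebraic_zero)
  have hQx : Q.1 x ≤ 1 := by rw [val_eq_exp Q hx0, hcon.1, neg_zero, exp_zero]
  let S : Submodule k K :=
    { carrier := {y | Q.1 y ≤ 1 ∧ Q.1 (D y) ≤ 1}
      add_mem' := fun {a b} ha hb => ⟨(Q.1.map_add _ _).trans (max_le ha.1 hb.1), by
        rw [map_add]; exact (Q.1.map_add _ _).trans (max_le ha.2 hb.2)⟩
      zero_mem' := by simp
      smul_mem' := fun c a ha => ⟨(val_smul_le Q c a).trans ha.1, by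
        rw [D.map_smul]; exact (val_smul_le Q c _).trans ha.2⟩ }
  have hB : ∀ n : ℕ, ∀ y ∈ L (n • poles k x), Q.1 (D y) ≤ 1 := by
    have key : ∀ n : ℕ, L (n • poles k x) ≤ S := by
      refine hN S ?_ fun y hy => ⟨by rw [map_mul]; exact mul_le_one' hQx hy.1, ?_⟩
      · rw [← hG, Submodule.span_le]
        intro g hg
        refine ⟨?_, ?_⟩
        · have hgL : g ∈ L (N • poles k x) := hG ▸ Submodule.subset_span hg
          refine (hgL Q).trans_eq ?_
          rw [nsmul_poles_apply hK, hcon.1, neg_zero, max_self, mul_zero, exp_zero]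
        · rcases eq_or_ne (D g) 0 with h | h
          · simp [h]
          · rw [val_eq_exp Q h, hcon.2 g hg, neg_zero, exp_zero]
      · rw [D.leibniz, hDx, smul_eq_mul, smul_eq_mul, mul_one]
        exact (Q.1.map_add _ _).trans (max_le (by rw [map_mul]; exact mul_le_one' hQx hy.2) hy.1)
    exact fun n y hy => (key n hy).2
  refine hQ fun y hy => ?_
  obtain ⟨n, s, hs, hsQ, hys⟩ := exists_denominator hK hx hQx hy
  have h1 := hB n _ hys
  rw [D.leibniz, smul_eq_mul, smul_eq_mul] at h1
  have h2 : Q.1 (s * D y) ≤ 1 := by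
    have h3 : Q.1 (y * D s) ≤ 1 := by rw [map_mul]; exact mul_le_one' hy (hB n s hs)
    have := (Q.1.map_sub (y * D s + s * D y) (y * D s)).trans (max_le h1 h3)
    rwa [add_sub_cancel_left] at this
  rwa [map_mul, hsQ, one_mul] at h2

end CharZero

theorem val_derivation {D : Derivation k K K} {Q : Place k K} (hD : ∀ y : K, Q.1 y ≤ 1 → Q.1 (D y) ≤ 1)
    {y : K} {e : ℕ} (hy : Q.1 y ≤ exp (-((e : ℤ) + 1))) : Q.1 (D y) ≤ exp (-(e : ℤ)) := by
  obtain ⟨p, hp⟩ := exists_val Q (-1)
  have hp0 := ne_zero_of_val Q hp
  have hp1 : Q.1 p ≤ 1 := by rw [hp, ← exp_zero, exp_le_exp]; omega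
  have hpe : ∀ n : ℕ, Q.1 (p ^ n) = exp (-(n : ℤ)) := fun n => by
    rw [map_pow, hp, ← exp_nsmul, nsmul_eq_mul]; simp
  set u := y / p ^ (e + 1)
  have hu : Q.1 u ≤ 1 := by
    rw [map_div₀, hpe]
    refine div_le_one_of_le₀ (hy.trans_eq ?_) zero_le
    push_cast; rfl
  have hyu : y = p ^ (e + 1) * u := (mul_div_cancel₀ _ (pow_ne_zero _ hp0)).symm
  rw [hyu, D.leibniz, D.leibniz_pow, smul_eq_mul, smul_eq_mul, Nat.add_sub_cancel]
  refine (Q.1.map_add _ _).trans (max_le ?_ ?_)
  · rw [map_mul, hpe]
    refine (mul_le_mul' le_rfl (hD u hu)).trans ?_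
    rw [mul_one, exp_le_exp]; omega
  · rw [nsmul_eq_mul, smul_eq_mul, map_mul, map_mul, map_mul, hpe]
    have hn : Q.1 ((e + 1 : ℕ) : K) ≤ 1 := by
      rw [← map_natCast (algebraMap k K)]; exact Q.2.1 _
    exact (mul_le_mul' hu (mul_le_mul' hn (mul_le_mul' le_rfl (hD p hp1)))).trans_eq (by
      rw [one_mul, one_mul, mul_one])

/-- Functions linearly independent over the constants have invertible Wronskian. -/
theorem wronskian_aux (D : Derivation k K K) (hker : ∀ z : K, D z = 0 → z ∈ Set.range (algebraMap k K)) :
    ∀ (m : ℕ) (φ : Fin m → K), LinearIndependent k φ → ∀ a : Fin m → K,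
      (∀ j < m, ∑ i, a i * ((D : K →ₗ[k] K) ^ j) (φ i) = 0) → a = 0 := by
  intro m
  induction m with
  | zero => intro φ _ a _; exact funext fun i => i.elim0
  | succ m ih =>
    intro φ hφ a ha
    have hφ' := hφ.comp Fin.castSucc (Fin.castSucc_injective m)
    by_cases hl : a (Fin.last m) = 0
    · have h := ih _ hφ' (a ∘ Fin.castSucc) fun j hj => by
        have := ha j (by omega)
        rw [Fin.sum_univ_castSucc, hl, zero_mul, add_zero] at this
        exact this
      funext i
      induction i using Fin.lastCases with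
      | last => exact hl
      | cast i => exact congrFun h i
    exfalso
    set b : Fin (m + 1) → K := fun i => a i * (a (Fin.last m))⁻¹ with hb
    have hb1 : b (Fin.last m) = 1 := mul_inv_cancel₀ hl
    have hbrel : ∀ j < m + 1, ∑ i, b i * ((D : K →ₗ[k] K) ^ j) (φ i) = 0 := fun j hj => by
      have := congrArg (fun v => (a (Fin.last m))⁻¹ * v) (ha j hj)
      simp only [mul_zero, Finset.mul_sum] at this
      rw [← this]
      exact Finset.sum_congr rfl fun i _ => by simp only [hb]; ring
    have hDb := ih _ hφ' (fun i => D (b i.castSucc)) fun j hj => by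
      have h1 := congrArg D (hbrel j (by omega))
      rw [map_zero, map_sum] at h1
      have h2 : ∀ i, D (b i * ((D : K →ₗ[k] K) ^ j) (φ i)) =
          D (b i) * ((D : K →ₗ[k] K) ^ j) (φ i) + b i * ((D : K →ₗ[k] K) ^ (j + 1)) (φ i) := fun i => by
        rw [D.leibniz, pow_succ', Module.End.mul_apply, smul_eq_mul, smul_eq_mul]
        show b i * D _ + _ = _ + b i * D _
        ring
      simp only [h2, Finset.sum_add_distrib, hbrel (j + 1) (by omega), add_zero] at h1
      rw [Fin.sum_univ_castSucc, hb1, D.map_one_eq_zero, zero_mul, add_zero] at h1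
      exact h1
    choose c hc using fun i => hker (b i) (by
      induction i using Fin.lastCases with
      | last => rw [hb1, D.map_one_eq_zero]
      | cast i => exact congrFun hDb i)
    have hzero := Fintype.linearIndependent_iff.1 hφ c (by
      have := hbrel 0 (by omega)
      simp only [pow_zero, Module.End.one_apply] at this
      rw [← this]
      exact Finset.sum_congr rfl fun i _ => by rw [Algebra.smul_def, hc])
    have := hc (Fin.last m)
    rw [hzero, map_zero, hb1] at this
    exact zero_ne_one this

theorem wronskian_ne_zero (D : Derivation k K K) (hker : ∀ z : K, D z = 0 → z ∈ Set.range (algebraMap k K))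
    {m : ℕ} (φ : Fin m → K) (hφ : LinearIndependent k φ) :
    (Matrix.of fun i j : Fin m => ((D : K →ₗ[k] K) ^ (j : ℕ)) (φ i)).det ≠ 0 := by
  intro h
  obtain ⟨a, ha0, ha⟩ := Matrix.exists_vecMul_eq_zero_iff.2 h
  exact ha0 (wronskian_aux D hker m φ hφ a fun j hj => congrFun ha ⟨j, hj⟩)

/-- At a place where `D` is integral, a zero of order `m` of `Σ cᵢ φᵢ` is a zero of the Wronskian. -/
theorem wronskian_lt_one {D : Derivation k K K} {Q : Place k K} (hD : ∀ y : K, Q.1 y ≤ 1 → Q.1 (D y) ≤ 1)
    {m : ℕ} (φ : Fin m → K) (hφ : ∀ i, Q.1 (φ i) ≤ 1) (c : Fin m → k) (hc : c ≠ 0)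
    (hzero : Q.1 (∑ i, c i • φ i) ≤ exp (-(m : ℤ))) :
    Q.1 (Matrix.of fun i j : Fin m => ((D : K →ₗ[k] K) ^ (j : ℕ)) (φ i)).det < 1 := by
  have hint : ∀ (j : ℕ) (y : K), Q.1 y ≤ 1 → Q.1 (((D : K →ₗ[k] K) ^ j) y) ≤ 1 := by
    intro j
    induction j with
    | zero => intro y hy; simpa using hy
    | succ j ih => intro y hy; rw [pow_succ', Module.End.mul_apply]; exact hD _ (ih y hy)
  have hv : ∀ j : ℕ, j ≤ m → Q.1 (((D : K →ₗ[k] K) ^ j) (∑ i, c i • φ i)) ≤ exp (-((m - j : ℕ) : ℤ)) := by
    intro j
    induction j with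
    | zero => intro _; simpa using hzero
    | succ j ih =>
      intro hj
      rw [pow_succ', Module.End.mul_apply]
      refine val_derivation hD ((ih (by omega)).trans ?_)
      rw [exp_le_exp]; omega
  set M : Matrix (Fin m) (Fin m) K := Matrix.of fun i j : Fin m => ((D : K →ₗ[k] K) ^ (j : ℕ)) (φ i) with hM
  let M₀ : Matrix (Fin m) (Fin m) Q.O := Matrix.of fun i j => ⟨M i j, hint _ _ (hφ i)⟩
  have hM₀ : M = M₀.map Q.O.subtype := rfl
  have hadj : ∀ i j, Q.1 (M.adjugate i j) ≤ 1 := by
    intro i j
    rw [hM₀]
    have := congrFun (congrFun (RingHom.map_adjugate Q.O.subtype M₀) i) j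
    rw [RingHom.mapMatrix_apply, RingHom.mapMatrix_apply] at this
    rw [← this]
    exact (M₀.adjugate i j).2
  obtain ⟨i, hi⟩ := Function.ne_iff.1 hc
  set cv : Fin m → K := fun l => algebraMap k K (c l)
  have hvec : ∀ j : Fin m, Q.1 (Matrix.vecMul cv M j) < 1 := by
    intro j
    have e : Matrix.vecMul cv M j = ((D : K →ₗ[k] K) ^ (j : ℕ)) (∑ l, c l • φ l) := by
      rw [map_sum]
      simp only [Matrix.vecMul, dotProduct, hM, Matrix.of_apply, cv]
      exact Finset.sum_congr rfl fun l _ => by rw [map_smul, Algebra.smul_def]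
    rw [e]
    refine (hv j j.2.le).trans_lt ?_
    rw [← exp_zero, exp_lt_exp]
    have := j.2
    omega
  have e : M.det * cv i = Matrix.vecMul (Matrix.vecMul cv M) M.adjugate i := by
    rw [Matrix.vecMul_vecMul, Matrix.mul_adjugate, Matrix.vecMul_smul, Matrix.vecMul_one]
    rfl
  have h1 : Q.1 (M.det * cv i) < 1 := by
    rw [e]
    simp only [Matrix.vecMul, dotProduct]
    refine Valuation.map_sum_lt Q.1 one_ne_zero fun j _ => ?_
    rw [map_mul]
    exact lt_of_le_of_lt (mul_le_of_le_one_right' (hadj j i)) (hvec j)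
  rwa [map_mul, val_algebraMap Q hi, mul_one] at h1

end Groth.Agent.FunFld
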