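import Groth.Agent.FunFld.Geometric
import Groth.Agent.FunFld.Place
import Groth.Agent.FunFld.Ext.Below
import Groth.Prelude.Def_LocRes

/-! The different exponent does not depend on the differential. -/

namespace Groth.Agent.FunFld

open _root_.FunFld WithZero
open scoped LaurentSeries

variable {k K : Type*} [Field k] [Field K] [Algebra k K] {F : Type*} [Field F] [Algebra k F]

theorem vDiff_zero_of_D {φ : K →ₐ[k] F⸨X⸩} {x : K} (h : KaehlerDifferential.D k K x = 0) :
    LocRes.vDiff φ 1 x = 0 := by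
  letI := φ.toRingHom.toAlgebra
  haveI : IsScalarTower k K F⸨X⸩ := LocRes.isScalarTower_exp φ
  have h2 : (LocRes.dExp φ).liftKaehlerDifferential (KaehlerDifferential.D k K x) = LocRes.D F (φ x) :=
    Derivation.liftKaehlerDifferential_comp_D _ x
  rw [h, map_zero] at h2
  rw [LocRes.vDiff, ← h2, mul_zero, map_zero]

theorem D_expansion_of_smul (φ : K →ₐ[k] F⸨X⸩) {h x x' : K}
    (e : h • KaehlerDifferential.D k K x = KaehlerDifferential.D k K x') :
    LocRes.D F (φ x') = φ h * LocRes.D F (φ x) := by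
  letI := φ.toRingHom.toAlgebra
  haveI : IsScalarTower k K F⸨X⸩ := LocRes.isScalarTower_exp φ
  have h2 := congrArg (LocRes.dExp φ).liftKaehlerDifferential e
  rw [map_smul, Derivation.liftKaehlerDifferential_comp_D, Derivation.liftKaehlerDifferential_comp_D] at h2
  exact h2.symm

theorem diffExp_indep {K' : Type*} [Field K'] [Algebra K K'] [Algebra k K'] [IsScalarTower k K K']
    (hK : IsFunctionField k K) (hg : IsGeometric k K) {F' : Type*} [Field F'] [Algebra k F']
    (P : Place k K) (Q : Place k K') (e : ℕ) (he : IsOverWith Q P e)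
    (φ : K →ₐ[k] F⸨X⸩) (hφ : LocRes.IsExpansionAt P.1 φ)
    (ψ : K' →ₐ[k] F'⸨X⸩) (hψ : LocRes.IsExpansionAt Q.1 ψ)
    (x : K) (hx : LocRes.vDiff φ 1 x ≠ 0) (hx' : LocRes.vDiff ψ 1 (algebraMap K K' x) ≠ 0)
    (x' : K) (hx2 : LocRes.vDiff φ 1 x' ≠ 0) :
    LocRes.diffExp φ ψ e x = LocRes.diffExp φ ψ e x' := by
  have hDx : KaehlerDifferential.D k K x ≠ 0 := fun h => hx (vDiff_zero_of_D h)
  obtain ⟨h, hh⟩ := (finrank_eq_one_iff_of_nonzero' (KaehlerDifferential.D k K x) hDx).1
    (finrank_kaehler hK hg) (KaehlerDifferential.D k K x')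
  have hh0 : h ≠ 0 := fun h0 => hx2 (vDiff_zero_of_D (by rw [← hh, h0, zero_smul]))
  have h1 := D_expansion_of_smul φ hh
  have hh' : algebraMap K K' h • KaehlerDifferential.D k K' (algebraMap K K' x) =
      KaehlerDifferential.D k K' (algebraMap K K' x') := by
    have h2 := congrArg (KaehlerDifferential.map k k K K') hh
    rw [map_smul, KaehlerDifferential.map_D, KaehlerDifferential.map_D] at h2
    rw [algebraMap_smul]
    exact h2
  have h2 := D_expansion_of_smul ψ hh'
  have hv1 : LocRes.vDiff φ 1 x' = exp (-P.ord h) * LocRes.vDiff φ 1 x := by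
    rw [LocRes.vDiff, LocRes.vDiff, h1, map_one, one_mul, one_mul, map_mul, hφ.1, val_eq_exp P hh0]
  have hv2 : LocRes.vDiff ψ 1 (algebraMap K K' x') =
      exp (-(e * P.ord h)) * LocRes.vDiff ψ 1 (algebraMap K K' x) := by
    rw [LocRes.vDiff, LocRes.vDiff, h2, map_one, one_mul, one_mul, map_mul, hψ.1, he h, val_eq_exp P hh0,
      ← exp_nsmul, nsmul_eq_mul, mul_neg]
  simp only [LocRes.diffExp, LocRes.ordDiff, hv1, hv2]
  rw [log_mul exp_ne_zero hx, log_mul exp_ne_zero hx', log_exp, log_exp]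
  ring

end Groth.Agent.FunFld
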