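import Groth.Agent.FunFld.DiffExpIndep
import Groth.Agent.FunFld.RatPlaces
import Groth.Agent.FunFld.Ext.Quad

/-! Different exponents in the tame case and for Artin–Schreier extensions in characteristic two. -/

namespace Groth.Agent.FunFld

open _root_.FunFld WithZero
open scoped LaurentSeries

section Series

variable {F : Type*} [Field F]

theorem v_D_le {f : F⸨X⸩} {n : ℤ} (hf : Valued.v f ≤ exp (-n)) : Valued.v (LocRes.D F f) ≤ exp (-(n - 1)) := by
  rw [LaurentSeries.valuation_le_iff_coeff_lt_eq_zero F] at hf ⊢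
  intro j hj
  rw [LocRes.D_coeff, hf (j + 1) (by omega), smul_zero]

theorem v_D_le_of_cast_eq_zero {f : F⸨X⸩} {n : ℤ} (hn : (n : F) = 0) (hf : Valued.v f ≤ exp (-n)) :
    Valued.v (LocRes.D F f) ≤ exp (-n) := by
  rw [LaurentSeries.valuation_le_iff_coeff_lt_eq_zero F] at hf ⊢
  intro j hj
  rw [LocRes.D_coeff]
  rcases eq_or_ne (j + 1) n with h | h
  · rw [h, zsmul_eq_mul, hn, zero_mul]
  · rw [hf (j + 1) (by omega), smul_zero]

theorem v_D_eq {f : F⸨X⸩} {n : ℤ} (hn : (n : F) ≠ 0) (hf : Valued.v f = exp (-n)) :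
    Valued.v (LocRes.D F f) = exp (-(n - 1)) := by
  have hle := (LaurentSeries.valuation_le_iff_coeff_lt_eq_zero F).mp hf.le
  have hc : f.coeff n ≠ 0 := fun h => by
    have : Valued.v f ≤ exp (-(n + 1)) := by
      rw [LaurentSeries.valuation_le_iff_coeff_lt_eq_zero F]
      intro j hj
      rcases eq_or_ne j n with rfl | hne
      · exact h
      · exact hle j (by omega)
    rw [hf, exp_le_exp] at this; omega
  refine le_antisymm (v_D_le hf.le) (not_lt.mp fun h => ?_)
  have h2 : Valued.v (LocRes.D F f) ≤ exp (-n) := by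
    rcases eq_or_ne (Valued.v (LocRes.D F f)) 0 with h0 | h0
    · rw [h0]; exact zero_le
    · rw [← exp_log h0] at h ⊢
      rw [exp_lt_exp] at h; rw [exp_le_exp]; omega
  have h3 := (LaurentSeries.valuation_le_iff_coeff_lt_eq_zero F).mp h2 (n - 1) (by omega)
  rw [LocRes.D_coeff, sub_add_cancel, zsmul_eq_mul] at h3
  exact mul_ne_zero hn hc h3

end Series

section Expansion

variable {k K : Type*} [Field k] [Field K] [Algebra k K] {F : Type*} [Field F] [Algebra k F]

theorem vDiff_one (φ : K →ₐ[k] F⸨X⸩) (x : K) : LocRes.vDiff φ 1 x = Valued.v (LocRes.D F (φ x)) := by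
  rw [LocRes.vDiff, map_one, one_mul]

theorem vDiff_transfer (hK : IsFunctionField k K) (hg : IsGeometric k K) {K' : Type*} [Field K'] [Algebra K K']
    [Algebra k K'] [IsScalarTower k K K'] {F' : Type*} [Field F'] [Algebra k F']
    (φ : K →ₐ[k] F⸨X⸩) (ψ : K' →ₐ[k] F'⸨X⸩) {x x' : K} (hx' : LocRes.vDiff ψ 1 (algebraMap K K' x) ≠ 0)
    (hx2 : LocRes.vDiff φ 1 x' ≠ 0) : LocRes.vDiff ψ 1 (algebraMap K K' x') ≠ 0 := by
  have hD : KaehlerDifferential.D k K x' ≠ 0 := fun h => hx2 (vDiff_zero_of_D h)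
  obtain ⟨c, hc⟩ := (finrank_eq_one_iff_of_nonzero' (KaehlerDifferential.D k K x') hD).1
    (finrank_kaehler hK hg) (KaehlerDifferential.D k K x)
  intro h0
  apply hx'
  have hc' : algebraMap K K' c • KaehlerDifferential.D k K' (algebraMap K K' x') =
      KaehlerDifferential.D k K' (algebraMap K K' x) := by
    have h2 := congrArg (KaehlerDifferential.map k k K K') hc
    rw [map_smul, KaehlerDifferential.map_D, KaehlerDifferential.map_D] at h2
    rw [algebraMap_smul]
    exact h2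
  rw [vDiff_one] at h0 ⊢
  rw [D_expansion_of_smul ψ hc', map_mul, h0, mul_zero]

theorem cast_ne_zero_iff_not_ringChar_dvd (φ : K →ₐ[k] F⸨X⸩) (e : ℕ) : (e : F) ≠ 0 ↔ ¬ ringChar K ∣ e := by
  rw [← ringChar.spec, not_iff_not, ← map_eq_zero_iff φ φ.toRingHom.injective, map_natCast,
    ← map_natCast (HahnSeries.C : F →+* F⸨X⸩), map_eq_zero_iff _ HahnSeries.C_injective]

variable {K' : Type*} [Field K'] [Algebra K K'] [Algebra k K'] [IsScalarTower k K K'] {F' : Type*} [Field F']
  [Algebra k F']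

theorem diffExp_tame (hK : IsFunctionField k K) (hg : IsGeometric k K)
    (P : Place k K) (Q : Place k K') (e : ℕ) (he : IsOverWith Q P e)
    (φ : K →ₐ[k] F⸨X⸩) (hφ : LocRes.IsExpansionAt P.1 φ)
    (ψ : K' →ₐ[k] F'⸨X⸩) (hψ : LocRes.IsExpansionAt Q.1 ψ)
    (x : K) (hx : LocRes.vDiff φ 1 x ≠ 0) (hx' : LocRes.vDiff ψ 1 (algebraMap K K' x) ≠ 0) :
    (¬ (ringChar K ∣ e) → LocRes.diffExp φ ψ e x = (e : ℤ) - 1) ∧
    (ringChar K ∣ e → (e : ℤ) ≤ LocRes.diffExp φ ψ e x) := by
  obtain ⟨t, ht⟩ := hφ.2.2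
  have h1 : LocRes.vDiff φ 1 t = exp 0 := by
    rw [vDiff_one, v_D_eq (n := 1) (by norm_num) (by rw [hφ.1, ht])]; simp
  have ht1 : LocRes.vDiff φ 1 t ≠ 0 := by rw [h1]; exact exp_ne_zero
  have ht2 := vDiff_transfer hK hg φ ψ hx' ht1
  rw [diffExp_indep hK hg P Q e he φ hφ ψ hψ x hx hx' t ht1, LocRes.diffExp, LocRes.ordDiff, LocRes.ordDiff, h1,
    log_exp, neg_zero, mul_zero, sub_zero]
  have hv : Valued.v (ψ (algebraMap K K' t)) = exp (-(e : ℤ)) := by
    rw [hψ.1, he t, ht, ← exp_nsmul]; simp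
  rw [vDiff_one] at ht2 ⊢
  constructor
  · intro hp
    have hne : (e : F') ≠ 0 := by
      rw [cast_ne_zero_iff_not_ringChar_dvd ψ]
      rwa [← Algebra.ringChar_eq K K']
    rw [v_D_eq (by exact_mod_cast hne) hv, log_exp, neg_neg]
  · intro hp
    have hze : (e : F') = 0 := by
      by_contra h
      rw [← ne_eq, cast_ne_zero_iff_not_ringChar_dvd ψ, ← Algebra.ringChar_eq K K'] at h
      exact h hp
    have := v_D_le_of_cast_eq_zero (by exact_mod_cast hze) hv.le
    rw [← exp_log ht2, exp_le_exp] at this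
    omega

end Expansion

section ArtinSchreier

variable {k K : Type*} [Field k] [Field K] [Algebra k K] [Algebra (RatFunc k) K] [IsScalarTower k (RatFunc k) K]
  {F F' : Type*} [Field F] [Algebra k F] [Field F'] [Algebra k F']

theorem diffExp_artinSchreier [PerfectField k] (h2 : ringChar k = 2) (hK : IsFunctionField k K) (hdeg : Module.finrank (RatFunc k) K = 2)
    (y : K) (f : RatFunc k) (heq : y ^ 2 + y = algebraMap (RatFunc k) K f)
    (p : Place k (RatFunc k)) (hp : 1 < p.1 f) (hodd : Odd (p.ord f))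
    (P : Place k K) (e : ℕ) (he : IsOverWith P p e)
    (φ : RatFunc k →ₐ[k] F⸨X⸩) (hφ : LocRes.IsExpansionAt p.1 φ)
    (ψ : K →ₐ[k] F'⸨X⸩) (hψ : LocRes.IsExpansionAt P.1 ψ)
    (z : RatFunc k) (hz : LocRes.vDiff φ 1 z ≠ 0) (hz' : LocRes.vDiff ψ 1 (algebraMap (RatFunc k) K z) ≠ 0) :
    LocRes.diffExp φ ψ e z = 1 - p.ord f := by
  haveI : CharP k 2 := h2 ▸ ringChar.charP k
  haveI : CharP F 2 := charP_of_injective_algebraMap' k 2
  haveI : CharP F' 2 := charP_of_injective_algebraMap' k 2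
  haveI : FiniteDimensional (RatFunc k) K := Module.finite_of_finrank_eq_succ hdeg
  have hK₀ : IsFunctionField k (RatFunc k) := isFunctionField_ratFunc
  have hg : IsGeometric k (RatFunc k) := isGeometric_of_perfect hK₀
  have hf0 : f ≠ 0 := fun h => by rw [h, map_zero] at hp; exact absurd hp (not_lt.mpr zero_le)
  have hm : p.ord f < 0 := by
    rw [val_eq_exp p hf0, ← exp_zero, exp_lt_exp] at hp; omega
  have hfP : P.1 (algebraMap (RatFunc k) K f) = exp (-((e : ℤ) * p.ord f)) := by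
    rw [he f, val_eq_exp p hf0, ← exp_nsmul]; simp [mul_comm]
  have hepos := IsOverWith.pos he
  have hy1 : 1 < P.1 y := by
    by_contra h
    push Not at h
    have hle : P.1 (algebraMap (RatFunc k) K f) ≤ 1 := by
      rw [← heq]
      exact (P.1.map_add _ _).trans (max_le (by rw [map_pow]; exact pow_le_one' h 2) h)
    rw [hfP, ← exp_zero, exp_le_exp] at hle
    nlinarith
  have hy0 : y ≠ 0 := fun h => by rw [h, map_zero] at hy1; exact absurd hy1 (not_lt.mpr zero_le)
  have hsum : P.1 (y ^ 2 + y) = P.1 (y ^ 2) := by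
    refine P.1.map_add_eq_of_lt_left ?_
    rw [map_pow, sq]
    exact lt_mul_of_one_lt_left (zero_lt_one.trans hy1) hy1
  rw [heq, hfP, val_pow_eq P hy0, exp_inj] at hsum
  have heven : Even e := by
    have hev : Even ((e : ℤ) * p.ord f) := ⟨P.ord y, by push_cast at hsum; linarith⟩
    rcases Int.even_mul.mp hev with h | h
    · exact_mod_cast h
    · exact absurd hodd (Int.not_odd_iff_even.mpr h)
  have he2 : e ≤ 2 := by
    have hPd : 0 < P.deg := deg_pos hK P
    have hover : IsOver P p := ⟨e, he⟩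
    have hle : ramIdx P p * P.deg ≤ Module.finrank (RatFunc k) K * p.deg := by
      rw [← sum_ramIdx_mul_deg hK₀ p]
      exact Finset.single_le_sum (f := fun Q => ramIdx Q p * Q.deg) (fun _ _ => Nat.zero_le _)
        ((mem_placesOver hK₀).mpr hover)
    rw [ramIdx_eq he, hdeg] at hle
    nlinarith [deg_le_of_isOver hK₀ hover]
  obtain rfl : e = 2 := by obtain ⟨r, rfl⟩ := heven; omega
  have hy' : P.ord y = p.ord f := by push_cast at hsum; omega
  have h2m : ¬ ((2 : ℕ) : ℤ) ∣ p.ord f := fun h => Int.not_odd_iff_even.mpr (even_iff_two_dvd.mpr (by simpa using h)) hodd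
  have h1 : LocRes.vDiff φ 1 f = exp (-(p.ord f - 1)) := by
    rw [vDiff_one, v_D_eq (by rwa [ne_eq, CharP.intCast_eq_zero_iff F 2]) (by rw [hφ.1, val_eq_exp p hf0])]
  have hf1 : LocRes.vDiff φ 1 f ≠ 0 := by rw [h1]; exact exp_ne_zero
  have h2' : LocRes.vDiff ψ 1 (algebraMap (RatFunc k) K f) = exp (-(p.ord f - 1)) := by
    haveI : CharP F'⸨X⸩ 2 := charP_of_injective_ringHom (HahnSeries.C_injective) 2
    rw [vDiff_one, ← heq, map_add, map_pow, map_add, Derivation.leibniz_pow, CharTwo.two_nsmul, zero_add,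
      v_D_eq (by rwa [ne_eq, CharP.intCast_eq_zero_iff F' 2]) (by rw [hψ.1, val_eq_exp P hy0, hy'])]
  rw [diffExp_indep hK₀ hg p P 2 he φ hφ ψ hψ z hz hz' f hf1, LocRes.diffExp, LocRes.ordDiff, LocRes.ordDiff, h1,
    h2', log_exp]
  push_cast
  ring

end ArtinSchreier

end Groth.Agent.FunFld
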