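import Groth.Agent.FunFld.Basic
import Mathlib.LinearAlgebra.Dimension.LinearMap
import Mathlib.RingTheory.Finiteness.Basic

/-! Relative dimensions of `A(D)` and `L(D)`. -/

namespace Groth.Agent.FunFld

open _root_.FunFld WithZero IsLocalRing Polynomial Finset

section Idx

variable {k V : Type*} [Field k] [AddCommGroup V] [Module k V]

/-- `B / A` has dimension `d`. -/
structure HasIdx (A B : Submodule k V) (d : ℤ) : Prop where
  le : A ≤ B
  fin : FiniteDimensional k (B ⧸ A.submoduleOf B)
  eq : (Module.finrank k (B ⧸ A.submoduleOf B) : ℤ) = d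

/-- The map `B/A → B'/A'` induced by inclusion. -/
noncomputable def idxMap (A B A' B' : Submodule k V) (hA : A ≤ A') (hB : B ≤ B') :
    (B ⧸ A.submoduleOf B) →ₗ[k] B' ⧸ A'.submoduleOf B' :=
  Submodule.mapQ _ _ (Submodule.inclusion hB) fun _ hx => hA hx

theorem idxMap_mk (A B A' B' : Submodule k V) (hA : A ≤ A') (hB : B ≤ B') (x : B) :
    idxMap A B A' B' hA hB (Submodule.Quotient.mk x)
      = Submodule.Quotient.mk ⟨(x : V), hB x.2⟩ := rfl

theorem idxMap_injective {A B A' B' : Submodule k V} (hA : A ≤ A') (hB : B ≤ B')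
    (h : ∀ x ∈ B, x ∈ A' → x ∈ A) : Function.Injective (idxMap A B A' B' hA hB) := by
  rw [← LinearMap.ker_eq_bot, LinearMap.ker_eq_bot']
  intro q hq
  obtain ⟨x, rfl⟩ := Submodule.Quotient.mk_surjective _ q
  rw [idxMap_mk, Submodule.Quotient.mk_eq_zero] at hq
  rw [Submodule.Quotient.mk_eq_zero]
  exact h x x.2 hq

theorem HasIdx.refl (A : Submodule k V) : HasIdx A A 0 := by
  have : Subsingleton (A ⧸ A.submoduleOf A) := by
    rw [Submodule.Quotient.subsingleton_iff, Submodule.submoduleOf]
    exact eq_top_iff.2 fun x _ => x.2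
  exact ⟨le_rfl, inferInstance, by rw [Module.finrank_zero_of_subsingleton]; rfl⟩

theorem HasIdx.unique {A B : Submodule k V} {d d' : ℤ} (h : HasIdx A B d) (h' : HasIdx A B d') :
    d = d' := h.eq.symm.trans h'.eq

theorem HasIdx.trans {A B C : Submodule k V} {d e : ℤ} (h : HasIdx A B d) (h' : HasIdx B C e) :
    HasIdx A C (d + e) := by
  have := h.fin; have := h'.fin
  let j := idxMap A B A C le_rfl h'.le
  let q := idxMap A C B C h.le le_rfl
  have hj : Function.Injective j := idxMap_injective _ _ fun x _ hx => hx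
  have hq : Function.Surjective q := fun z => by
    obtain ⟨x, rfl⟩ := Submodule.Quotient.mk_surjective _ z
    exact ⟨Submodule.Quotient.mk x, rfl⟩
  have hk : LinearMap.ker q = LinearMap.range j := by
    apply le_antisymm
    · intro z hz
      obtain ⟨x, rfl⟩ := Submodule.Quotient.mk_surjective _ z
      rw [LinearMap.mem_ker, idxMap_mk, Submodule.Quotient.mk_eq_zero] at hz
      exact ⟨Submodule.Quotient.mk ⟨(x : V), hz⟩, rfl⟩
    · rintro _ ⟨z, rfl⟩
      obtain ⟨x, rfl⟩ := Submodule.Quotient.mk_surjective _ z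
      rw [LinearMap.mem_ker, idxMap_mk, idxMap_mk, Submodule.Quotient.mk_eq_zero]
      exact x.2
  have : Module.Finite k (LinearMap.ker q) := by rw [hk]; infer_instance
  have : Module.Finite k ((C ⧸ A.submoduleOf C) ⧸ LinearMap.ker q) :=
    Module.Finite.equiv (q.quotKerEquivOfSurjective hq).symm
  have hfin : Module.Finite k (C ⧸ A.submoduleOf C) :=
    Module.Finite.of_submodule_quotient (LinearMap.ker q)
  refine ⟨h.le.trans h'.le, hfin, ?_⟩
  have h1 := LinearMap.finrank_range_add_finrank_ker q
  rw [LinearMap.range_eq_top.2 hq, finrank_top, hk, LinearMap.finrank_range_of_inj hj] at h1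
  have h2 := h.eq; have h3 := h'.eq
  omega

theorem HasIdx.of_fin {A B : Submodule k V} (h : A ≤ B) [FiniteDimensional k B] :
    HasIdx A B ((Module.finrank k B : ℤ) - Module.finrank k A) := by
  refine ⟨h, inferInstance, ?_⟩
  have h1 := Submodule.finrank_quotient_add_finrank (A.submoduleOf B)
  rw [(Submodule.submoduleOfEquivOfLe h).finrank_eq] at h1
  omega

theorem HasIdx.finiteDimensional {A B : Submodule k V} {d : ℤ} (h : HasIdx A B d)
    [FiniteDimensional k A] : FiniteDimensional k B := by
  have := h.fin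
  have : Module.Finite k (A.submoduleOf B) :=
    Module.Finite.equiv (Submodule.submoduleOfEquivOfLe h.le).symm
  exact Module.Finite.of_submodule_quotient (A.submoduleOf B)

theorem HasIdx.sup_inf {A B : Submodule k V} {d : ℤ} (h : HasIdx A B d) (W : Submodule k V) :
    ∃ e f : ℤ, HasIdx (A ⊔ W) (B ⊔ W) e ∧ HasIdx (A ⊓ W) (B ⊓ W) f ∧ e + f = d := by
  have := h.fin
  let φ := idxMap A B (A ⊔ W) (B ⊔ W) le_sup_left le_sup_left
  let ψ := idxMap (A ⊓ W) (B ⊓ W) A B inf_le_left inf_le_left
  have hψ : Function.Injective ψ := idxMap_injective _ _ fun x hx hxA => ⟨hxA, hx.2⟩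
  have hφ : Function.Surjective φ := fun z => by
    obtain ⟨⟨x, hx⟩, rfl⟩ := Submodule.Quotient.mk_surjective _ z
    obtain ⟨b, hb, w, hw, rfl⟩ := Submodule.mem_sup.1 hx
    refine ⟨Submodule.Quotient.mk ⟨b, hb⟩, ?_⟩
    rw [idxMap_mk, Submodule.Quotient.eq]
    show b - (b + w) ∈ A ⊔ W
    rw [sub_add_cancel_left]
    exact Submodule.mem_sup_right (neg_mem hw)
  have hk : LinearMap.ker φ = LinearMap.range ψ := by
    apply le_antisymm
    · intro z hz
      obtain ⟨x, rfl⟩ := Submodule.Quotient.mk_surjective _ z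
      rw [LinearMap.mem_ker, idxMap_mk, Submodule.Quotient.mk_eq_zero] at hz
      obtain ⟨a, ha, w, hw, haw⟩ := Submodule.mem_sup.1 hz
      replace haw : a + w = (x : V) := haw
      refine ⟨Submodule.Quotient.mk ⟨w, ?_, hw⟩, ?_⟩
      · rw [show w = (x : V) - a by rw [← haw, add_sub_cancel_left]]
        exact sub_mem x.2 (h.le ha)
      · rw [idxMap_mk, Submodule.Quotient.eq]
        show w - (x : V) ∈ A
        rw [← haw, sub_add_cancel_right]; exact neg_mem ha
    · rintro _ ⟨z, rfl⟩
      obtain ⟨x, rfl⟩ := Submodule.Quotient.mk_surjective _ z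
      rw [LinearMap.mem_ker, idxMap_mk, idxMap_mk, Submodule.Quotient.mk_eq_zero]
      exact Submodule.mem_sup_right x.2.2
  have hf1 : FiniteDimensional k ((B ⊔ W : Submodule k V) ⧸ (A ⊔ W).submoduleOf (B ⊔ W)) :=
    Module.Finite.of_surjective φ hφ
  have hf2 : FiniteDimensional k ((B ⊓ W : Submodule k V) ⧸ (A ⊓ W).submoduleOf (B ⊓ W)) :=
    FiniteDimensional.of_injective ψ hψ
  refine ⟨_, _, ⟨sup_le_sup_right h.le W, hf1, rfl⟩, ⟨inf_le_inf_right W h.le, hf2, rfl⟩, ?_⟩
  have h1 := LinearMap.finrank_range_add_finrank_ker φ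
  rw [LinearMap.range_eq_top.2 hφ, finrank_top, hk, LinearMap.finrank_range_of_inj hψ] at h1
  have h2 := h.eq
  omega

end Idx

variable {k K : Type*} [Field k] [Field K] [Algebra k K]

theorem deg_add (D E : Divisor k K) : (D + E).deg = D.deg + E.deg :=
  Finsupp.sum_add_index' (fun _ => by simp) fun _ _ _ => by ring

theorem deg_single (P : Place k K) (n : ℤ) : Divisor.deg (Finsupp.single P n) = n * P.deg :=
  Finsupp.sum_single_index (by simp)

theorem deg_zero : (0 : Divisor k K).deg = 0 := Finsupp.sum_zero_index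

theorem deg_neg (D : Divisor k K) : (-D).deg = -D.deg := by
  have := deg_add D (-D)
  rw [add_neg_cancel, deg_zero] at this
  linarith

theorem deg_sub (D E : Divisor k K) : (D - E).deg = D.deg - E.deg := by
  rw [sub_eq_add_neg, deg_add, deg_neg]; ring

theorem deg_nsmul (D : Divisor k K) (l : ℕ) : (l • D).deg = l * D.deg := by
  induction l with
  | zero => simp [deg_zero]
  | succ l ih => rw [succ_nsmul, deg_add, ih]; push_cast; ring

theorem deg_nonneg {D : Divisor k K} (h : 0 ≤ D) : 0 ≤ D.deg :=
  sum_nonneg fun P _ => mul_nonneg (h P) (Int.natCast_nonneg _)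

theorem AD_mono {D E : Divisor k K} (h : D ≤ E) : AD D ≤ AD E :=
  fun _ ha P => (ha P).trans (exp_le_exp.2 (h P))

theorem L_mono {D E : Divisor k K} (h : D ≤ E) : L D ≤ L E :=
  fun _ ha P => (ha P).trans (exp_le_exp.2 (h P))

/-- `L(D)` as the constant repartitions in `A(D)`. -/
theorem inf_range_diag (D : Divisor k K) :
    AD D ⊓ LinearMap.range (diag k K) = (L D).map (diag k K) := by
  ext a
  constructor
  · rintro ⟨h, x, rfl⟩; exact ⟨x, h, rfl⟩
  · rintro ⟨x, hx, rfl⟩; exact ⟨hx, x, rfl⟩

section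

variable (hK : IsFunctionField k K)
include hK

theorem diag_injective : Function.Injective (diag k K) := fun x y h => by
  obtain ⟨P⟩ := exists_place_any hK
  exact congrFun h P

theorem AD_step (P : Place k K) (D : Divisor k K) :
    HasIdx (AD D) (AD (D + Finsupp.single P 1)) P.deg := by
  have := residue_finite hK P
  have hle : AD D ≤ AD (D + Finsupp.single P 1) :=
    AD_mono (le_add_of_nonneg_right (Finsupp.single_nonneg.2 zero_le_one))
  obtain ⟨t, ht⟩ := exists_val P (-(D P + 1))
  have ht0 := ne_zero_of_val P ht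
  have hmem : ∀ a : AD (D + Finsupp.single P 1), t * (a : Place k K → K) P ∈ intK P := fun a => by
    show P.1 _ ≤ 1
    rw [map_mul, ht]
    refine (mul_le_mul' le_rfl (a.2 P)).trans ?_
    rw [← exp_add, ← exp_zero, exp_le_exp]; simp
  let g : AD (D + Finsupp.single P 1) →ₗ[k] intK P :=
    { toFun := fun a => ⟨_, hmem a⟩
      map_add' := fun a b => Subtype.ext (mul_add t _ _)
      map_smul' := fun c a => Subtype.ext (by
        show t * (c • (a : Place k K → K) P) = c • (t * (a : Place k K → K) P)
        rw [Algebra.mul_smul_comm]) }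
  let φ := (resL P).comp g
  have hsurj : Function.Surjective φ := fun r => by
    classical
    obtain ⟨u, hu⟩ := resL_surjective P r
    refine ⟨⟨Function.update 0 P (t⁻¹ * u), fun Q => ?_⟩, ?_⟩
    · rcases eq_or_ne Q P with rfl | hQ
      · rw [Function.update_self, map_mul, map_inv₀, ht]
        refine (mul_le_mul' le_rfl u.2).trans ?_
        rw [mul_one, ← exp_neg, exp_le_exp]; simp
      · rw [Function.update_of_ne hQ]; simp
    · show resL P (g _) = r
      refine (congrArg (resL P) (Subtype.ext ?_)).trans hu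
      show t * Function.update (0 : Place k K → K) P (t⁻¹ * (u : K)) P = u
      rw [Function.update_self, mul_inv_cancel_left₀ ht0]
  have hker : LinearMap.ker φ = (AD D).submoduleOf (AD (D + Finsupp.single P 1)) := by
    ext a
    rw [LinearMap.mem_ker]
    show resL P (g a) = 0 ↔ (a : Place k K → K) ∈ AD D
    rw [resL_eq_zero, show ((g a : intK P) : K) = t * (a : Place k K → K) P from rfl, map_mul, ht,
      lt_one_iff_le' P]
    constructor
    · intro h Q
      rcases eq_or_ne Q P with rfl | hQ
      · exact h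
      · have := a.2 Q
        rwa [Finsupp.add_apply, Finsupp.single_eq_of_ne hQ, add_zero] at this
    · exact fun h => h P
  let e := (Submodule.quotEquivOfEq _ _ hker.symm).trans (φ.quotKerEquivOfSurjective hsurj)
  exact ⟨hle, Module.Finite.equiv e.symm, by rw [e.finrank_eq]; rfl⟩
where
  lt_one_iff_le' (P : Place k K) {n : ℤ} {w : WithZero (Multiplicative ℤ)} :
      exp (-(n + 1)) * w < 1 ↔ w ≤ exp n := by
    rcases eq_or_ne w 0 with rfl | hw
    · simp
    · rw [← exp_log hw, ← exp_add, ← exp_zero, exp_lt_exp, exp_le_exp]; omega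

theorem AD_idx {D E : Divisor k K} (h : D ≤ E) : HasIdx (AD D) (AD E) (E.deg - D.deg) := by
  classical
  suffices ∀ f : Place k K →₀ ℕ,
      HasIdx (AD D) (AD (D + f.mapRange (fun n : ℕ => (n : ℤ)) Nat.cast_zero))
        (Divisor.deg (k := k) (K := K) (f.mapRange (fun n : ℕ => (n : ℤ)) Nat.cast_zero)) by
    have h1 := this ((E - D).mapRange Int.toNat rfl)
    have e : D + (((E - D).mapRange Int.toNat rfl).mapRange (fun n : ℕ => (n : ℤ)) Nat.cast_zero) = E := by
      ext Q
      have := h Q
      simp only [Finsupp.add_apply, Finsupp.mapRange_apply, Finsupp.sub_apply]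
      omega
    rw [e] at h1
    rwa [show E.deg - D.deg = Divisor.deg (((E - D).mapRange Int.toNat rfl).mapRange
      (fun n : ℕ => (n : ℤ)) Nat.cast_zero) by nth_rw 1 [← e]; rw [deg_add]; ring]
  intro f
  induction f using Finsupp.induction with
  | zero => simpa [deg_zero] using HasIdx.refl (AD D)
  | single_add P n f _ hn ih =>
    rw [Finsupp.mapRange_add (by simp), Finsupp.mapRange_single, deg_add, deg_single]
    have h' : HasIdx (AD (D + f.mapRange (fun n : ℕ => (n : ℤ)) Nat.cast_zero))
        (AD (D + Finsupp.single P (n : ℤ) + f.mapRange (fun n : ℕ => (n : ℤ)) Nat.cast_zero))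
        ((n : ℤ) * P.deg) := by
      clear ih hn
      induction n with
      | zero => simpa using HasIdx.refl _
      | succ n ih' =>
        have := ih'.trans (AD_step hK P _)
        rw [show D + Finsupp.single P ((n + 1 : ℕ) : ℤ) + f.mapRange (fun n : ℕ => (n : ℤ)) Nat.cast_zero
          = D + Finsupp.single P (n : ℤ) + f.mapRange (fun n : ℕ => (n : ℤ)) Nat.cast_zero
            + Finsupp.single P 1 by rw [Nat.cast_succ, Finsupp.single_add]; abel,
          show ((n + 1 : ℕ) : ℤ) * (P.deg : ℤ) = n * P.deg + P.deg by push_cast; ring]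
        exact this
    have := ih.trans h'
    rw [← add_assoc, add_comm ((n : ℤ) * _)]
    exact this

theorem L_zero : L (0 : Divisor k K) = 1 := by
  ext x
  rw [Submodule.mem_one]
  constructor
  · intro hx
    exact val_le_one_of_all hK fun P => by simpa using hx P
  · rintro ⟨c, rfl⟩ P
    simpa using P.2.1 c

theorem L_finite (D : Divisor k K) : FiniteDimensional k (L D) := by
  obtain ⟨P⟩ := exists_place_any hK
  set D₀ : Divisor k K := D ⊓ -Finsupp.single P 1
  have h0 : L D₀ = ⊥ := by
    rw [eq_bot_iff]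
    intro x hx
    have hle : D₀ ≤ 0 := inf_le_right.trans (neg_nonpos.2 (Finsupp.single_nonneg.2 zero_le_one))
    obtain ⟨c, rfl⟩ := val_le_one_of_all hK fun Q => (hx Q).trans (by
      rw [← exp_zero, exp_le_exp]; exact hle Q)
    rcases eq_or_ne c 0 with rfl | hc
    · simp
    · have h1 := hx P
      rw [val_algebraMap P hc, ← exp_zero, exp_le_exp] at h1
      have h2 : D₀ P ≤ -1 := by
        have := (inf_le_right : D₀ ≤ -Finsupp.single P 1) P
        rwa [Finsupp.neg_apply, Finsupp.single_eq_same] at this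
      omega
  obtain ⟨e, f, -, hf, -⟩ := (AD_idx hK (inf_le_left : D₀ ≤ D)).sup_inf (LinearMap.range (diag k K))
  rw [inf_range_diag, inf_range_diag, h0, Submodule.map_bot] at hf
  have := hf.finiteDimensional
  exact Module.Finite.equiv (Submodule.equivMapOfInjective _ (diag_injective hK) (L D)).symm

theorem sup_idx {D E : Divisor k K} (h : D ≤ E) :
    HasIdx (AD D ⊔ LinearMap.range (diag k K)) (AD E ⊔ LinearMap.range (diag k K))
      ((E.deg - D.deg) - ((ell E : ℤ) - ell D)) := by
  obtain ⟨e, f, he, hf, hef⟩ := (AD_idx hK h).sup_inf (LinearMap.range (diag k K))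
  rw [inf_range_diag, inf_range_diag] at hf
  have := L_finite hK E
  have hf' := hf.unique (HasIdx.of_fin (Submodule.map_mono (L_mono h)))
  rw [← (Submodule.equivMapOfInjective _ (diag_injective hK) (L E)).finrank_eq,
    ← (Submodule.equivMapOfInjective _ (diag_injective hK) (L D)).finrank_eq] at hf'
  rw [show (E.deg - D.deg) - ((ell E : ℤ) - ell D) = e by rw [← hef, hf', ell, ell]; ring]
  exact he

theorem ell_sub_le {D E : Divisor k K} (h : D ≤ E) :
    (ell E : ℤ) - ell D ≤ E.deg - D.deg := by
  have := (sup_idx hK h).eq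
  omega

theorem ell_zero : ell (0 : Divisor k K) = 1 := by
  rw [ell, L_zero hK, Submodule.one_eq_span, finrank_span_singleton one_ne_zero]

theorem ell_mono {D E : Divisor k K} (h : D ≤ E) : ell D ≤ ell E :=
  haveI := L_finite hK E; Submodule.finrank_mono (L_mono h)

theorem deg_eq_zero_iff {D : Divisor k K} (h : 0 ≤ D) : D.deg = 0 ↔ D = 0 := by
  refine ⟨fun hd => Finsupp.ext fun P => ?_, fun e => e ▸ deg_zero⟩
  by_contra hne
  have hmem : P ∈ D.support := Finsupp.mem_support_iff.2 hne
  have := (sum_eq_zero_iff_of_nonneg fun Q _ => mul_nonneg (h Q) (Int.natCast_nonneg _)).1 hd P hmem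
  rcases mul_eq_zero.1 this with h1 | h1
  · exact hne h1
  · exact (deg_pos hK P).ne' (by exact_mod_cast h1)

theorem eq_of_le_of_deg {D E : Divisor k K} (h : D ≤ E) (hd : E.deg ≤ D.deg) : D = E := by
  have h0 : 0 ≤ E - D := sub_nonneg.2 h
  have h1 := deg_nonneg h0
  rw [deg_sub] at h1
  exact (sub_eq_zero.1 ((deg_eq_zero_iff hK h0).1 (by rw [deg_sub]; omega))).symm

end

end Groth.Agent.FunFld
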