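import Groth.Agent.FunFld.RatBelow
import Groth.Agent.FunFld.Ext.Disc
import Groth.Agent.FunFld.Geometric
import Groth.Agent.FunFld.Wr.Basis

/-! A generator whose span with `1, x` contains local parameters everywhere. -/

namespace Groth.Agent.FunFld

open _root_.FunFld WithZero Polynomial

variable {k K : Type*} [Field k] [IsAlgClosed k] [Field K] [Algebra k K]

theorem ramIdx_one_of_surjective {K0 : Type*} [Field K0] [Algebra k K0] [Algebra K0 K] [IsScalarTower k K0 K]
    {Q : Place k K} {P : Place k K0} (h : IsOver Q P) (hs : Function.Surjective (Q.1.comap (algebraMap K0 K))) :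
    ramIdx Q P = 1 := by
  obtain ⟨z, hz⟩ := hs (exp (-1))
  rw [Valuation.comap_apply, isOverWith_of_isOver h] at hz
  have h0 : P.1 z ≠ 0 := fun h0 => by
    rw [h0] at hz
    rcases Nat.eq_zero_or_pos (ramIdx Q P) with hr | hr
    · rw [hr, pow_zero, ← exp_zero, exp_inj] at hz; omega
    · rw [zero_pow hr.ne'] at hz; exact exp_ne_zero hz.symm
  rw [← exp_log h0, ← exp_nsmul, exp_inj, nsmul_eq_mul] at hz
  have : (ramIdx Q P : ℤ) ∣ 1 := ⟨-WithZero.log (P.1 z), by rw [mul_neg, hz]; norm_num⟩
  have := Int.eq_one_of_dvd_one (Int.natCast_nonneg _) this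
  omega

theorem exists_generator_unif (hK : IsFunctionField k K) (x : K)
    (hsep : Algebra.IsSeparable (IntermediateField.adjoin k ({x} : Set K)) K) :
    ∃ y : K, IntermediateField.adjoin k ({x, y} : Set K) = ⊤ ∧
      ∀ P : Place k K, ∃ f ∈ Submodule.span k ({1, x, y} : Set K), P.1 f = exp (-1) := by
  classical
  have hx : Transcendental k x := by
    refine transcendental_of_not_mem hK ?_
    rintro ⟨c, rfl⟩
    obtain ⟨z, hz, -⟩ := hK.1
    haveI : FiniteDimensional k (IntermediateField.adjoin k ({algebraMap k K c} : Set K)) :=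
      IntermediateField.adjoin.finiteDimensional isIntegral_algebraMap
    exact hz (isIntegral_trans z (Algebra.IsSeparable.isSeparable
      (IntermediateField.adjoin k ({algebraMap k K c} : Set K)) z).isIntegral).isAlgebraic
  haveI := hsep
  haveI := finite_adjoin hK hx
  set K0 := IntermediateField.adjoin k ({x} : Set K) with hK0def
  have hK0 : IsFunctionField k K0 := isFunctionField_rat hK hx
  have hcast : algebraMap K0 K (genOf k x) = x := rfl
  have hres : ∀ Q : Place k K, Q.1 x ≤ 1 → ∃ c, Q.1 (x - algebraMap k K c) < 1 := fun Q hQ => exists_const hK Q hQ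
  set ram : Set (Place k K) := {Q | ¬ Function.Surjective (Q.1.comap (algebraMap K0 K))}
  have hram : ram.Finite := finite_ramified hK0
  set pol : Set (Place k K) := {Q | 1 < Q.1 x}
  have hpol : pol.Finite := (finite_support hK x).subset fun Q hQ => by
    show Q.ord x ≠ 0
    intro h
    rw [Set.mem_setOf_eq, val_eq_exp Q (ne_zero_of_tr hx), h, neg_zero, exp_zero] at hQ
    exact lt_irrefl _ hQ
  obtain ⟨c0, hc0⟩ : ∃ c : k, ∀ Q ∈ ram, ¬ Q.1 (x - algebraMap k K c) < 1 := by
    have hfin : {c : k | ∃ Q ∈ ram, Q.1 (x - algebraMap k K c) < 1}.Finite := by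
      refine (hram.biUnion fun Q _ => (Set.Subsingleton.finite (s := {c : k | Q.1 (x - algebraMap k K c) < 1})
        fun a ha b hb => const_unique Q ha hb)).subset fun c ⟨Q, hQ, hc⟩ => ?_
      exact Set.mem_biUnion hQ hc
    obtain ⟨c, hc⟩ := hfin.infinite_compl.nonempty
    exact ⟨c, fun Q hQ h => hc ⟨Q, hQ, h⟩⟩
  obtain ⟨P, hP⟩ := exists_rat_zero hK hx c0
  set T := placesOver hK0 K P
  have hTx : ∀ Q ∈ T, Q.1 (x - algebraMap k K c0) < 1 := fun Q hQ => by
    have := (val_lt_one_iff ((mem_placesOver hK0).1 hQ) _).2 hP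
    rwa [map_sub, hcast, ← IsScalarTower.algebraMap_apply] at this
  have hTe : ∀ Q ∈ T, ramIdx Q P = 1 := fun Q hQ => by
    refine ramIdx_one_of_surjective ((mem_placesOver hK0).1 hQ) ?_
    by_contra h
    exact hc0 Q h (hTx Q hQ)
  have hcard : T.card = Module.finrank K0 K := by
    have h := sum_ramIdx_mul_deg (K' := K) hK0 P
    rw [Finset.sum_congr rfl (fun Q hQ => by rw [hTe Q hQ, deg_eq_one hK Q, one_mul]), deg_eq_one hK0 P,
      mul_one, Finset.sum_const, smul_eq_mul, mul_one] at h
    exact h
  choose s hs using fun Q : Place k K => exists_val Q (-1)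
  let a : Place k K → k := fun Q => if h : Q ∈ T then Infinite.natEmbedding k (T.equivFin ⟨Q, h⟩) else 0
  have ha : Set.InjOn a T := fun Q hQ Q' hQ' h => by
    simp only [Finset.mem_coe] at hQ hQ'
    simp only [a, dif_pos hQ, dif_pos hQ'] at h
    exact congrArg Subtype.val (T.equivFin.injective (Fin.val_injective ((Infinite.natEmbedding k).injective h)))
  set S := (hram.toFinset ∪ hpol.toFinset)
  obtain ⟨y, hy⟩ := exists_approx (S ∪ T) (fun Q => if Q ∈ T then algebraMap k K (a Q) else s Q) (-2)
  have hTS : ∀ Q ∈ S, Q ∉ T := fun Q hQ hQT => by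
    rcases Finset.mem_union.1 hQ with h | h
    · exact hc0 Q (hram.mem_toFinset.1 h) (hTx Q hQT)
    · have h1 : 1 < Q.1 x := hpol.mem_toFinset.1 h
      have h2 : Q.1 x ≤ 1 := by
        rw [← sub_add_cancel x (algebraMap k K c0)]
        exact (Q.1.map_add _ _).trans (max_le (hTx Q hQT).le (Q.2.1 c0))
      exact absurd h1 (not_lt.2 h2)
  refine ⟨y, ?_, fun Q => ?_⟩
  · have hyT : ∀ Q ∈ T, Q.1 (y - algebraMap k K (a Q)) < 1 := fun Q hQ => by
      have := hy Q (Finset.mem_union_right _ hQ)
      rw [if_pos hQ] at this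
      exact this.trans_lt (by rw [← exp_zero, exp_lt_exp]; omega)
    have hint : IsIntegral K0 y := IsIntegral.of_finite K0 y
    set m := minpoly K0 y with hm
    obtain ⟨i, -, hi⟩ := Finset.exists_max_image (Finset.range (m.natDegree + 1)) (fun i => P.1 (m.coeff i))
      ⟨0, by simp⟩
    have hall : ∀ j, P.1 (m.coeff j) ≤ P.1 (m.coeff i) := fun j => by
      by_cases hj : j ∈ Finset.range (m.natDegree + 1)
      · exact hi j hj
      · rw [Finset.mem_range, not_lt] at hj
        rw [coeff_eq_zero_of_natDegree_lt (by omega), map_zero]; exact zero_le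
    have hci : m.coeff i ≠ 0 := fun h => by
      have := hall m.natDegree
      rw [(minpoly.monic hint).coeff_natDegree, h, map_one, map_zero] at this
      exact not_lt.2 this zero_lt_one
    have hb : ∀ j, P.1 ((m.coeff i)⁻¹ * m.coeff j) ≤ 1 := fun j => by
      rw [map_mul, map_inv₀, inv_mul_le_one₀ (zero_lt_iff.2 (by simpa using hci))]
      exact hall j
    choose γ hγ using fun j => exists_const hK0 P (hb j)
    set p : k[X] := ∑ j ∈ Finset.range (m.natDegree + 1), monomial j (γ j) with hp
    have hpi : p.coeff i = 1 := by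
      have hi' : i < m.natDegree + 1 := by
        by_contra h
        exact hci (coeff_eq_zero_of_natDegree_lt (by omega))
      rw [hp, finsetSum_coeff, Finset.sum_eq_single i (fun j _ hj => by rw [coeff_monomial, if_neg hj])
        (fun h => absurd (Finset.mem_range.2 hi') h), coeff_monomial, if_pos rfl]
      refine const_unique P (hγ i) ?_
      rw [inv_mul_cancel₀ hci, map_one, sub_self, map_zero]
      exact zero_lt_one
    have hp0 : p ≠ 0 := fun h => by rw [h, coeff_zero] at hpi; exact zero_ne_one hpi
    have hroot : ∀ Q ∈ T, p.eval (a Q) = 0 := fun Q hQ => by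
      by_contra hne
      have hlt : Q.1 (aeval y p - algebraMap k K (p.eval (a Q))) < 1 := val_aeval_sub_lt (hyT Q hQ) p
      have hp1 := val_eq_one_of_const hlt hne
      have hyle : Q.1 y ≤ 1 := by
        rw [← sub_add_cancel y (algebraMap k K (a Q))]
        exact (Q.1.map_add _ _).trans (max_le (hyT Q hQ).le (Q.2.1 _))
      have e : aeval y p = -∑ j ∈ Finset.range (m.natDegree + 1),
          algebraMap K0 K ((m.coeff i)⁻¹ * m.coeff j - algebraMap k K0 (γ j)) * y ^ j := by
        have h0 : ∑ j ∈ Finset.range (m.natDegree + 1), algebraMap K0 K (m.coeff j) * y ^ j = 0 := by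
          have := minpoly.aeval K0 y
          rw [aeval_eq_sum_range] at this
          rw [← this]
          exact Finset.sum_congr rfl fun j _ => (Algebra.smul_def _ _).symm
        simp only [map_sub, sub_mul, Finset.sum_sub_distrib, map_mul, mul_assoc, ← Finset.mul_sum, h0, mul_zero,
          zero_sub, neg_neg, hp, map_sum, aeval_monomial, ← IsScalarTower.algebraMap_apply]
      rw [e, Valuation.map_neg] at hp1
      refine (Valuation.map_sum_lt Q.1 one_ne_zero fun j _ => ?_).ne hp1
      rw [map_mul, map_pow]
      refine lt_of_le_of_lt (mul_le_mul' le_rfl (pow_le_one' hyle j)) ?_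
      rw [mul_one, val_lt_one_iff ((mem_placesOver hK0).1 hQ)]
      exact hγ j
    have hle : T.card ≤ m.natDegree := by
      calc T.card = (T.image a).card := (Finset.card_image_of_injOn ha).symm
        _ ≤ p.natDegree := card_le_degree_of_subset_roots fun r hr => by
            obtain ⟨Q, hQ, rfl⟩ := Finset.mem_image.1 hr
            exact (mem_roots hp0).2 (hroot Q hQ)
        _ ≤ m.natDegree := natDegree_sum_le_of_forall_le _ _ fun j hj =>
            (natDegree_monomial_le _).trans (Nat.lt_succ_iff.1 (Finset.mem_range.1 hj))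
    have htop : IntermediateField.adjoin K0 ({y} : Set K) = ⊤ := by
      refine IntermediateField.eq_of_le_of_finrank_le le_top ?_
      rw [IntermediateField.finrank_top', IntermediateField.adjoin.finrank hint, ← hm, ← hcard]
      exact hle
    have h := congrArg (IntermediateField.restrictScalars k) htop
    rw [IntermediateField.adjoin_adjoin_left, Set.singleton_union, IntermediateField.restrictScalars_top] at h
    exact h
  · by_cases hQ : Q ∈ S
    · refine ⟨y, Submodule.subset_span (by simp), ?_⟩
      have h1 := hy Q (Finset.mem_union_left _ hQ)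
      rw [if_neg (hTS Q hQ)] at h1
      rw [show y = s Q + (y - s Q) by ring, Valuation.map_add_eq_of_lt_left, hs]
      rw [hs]
      exact h1.trans_lt (exp_lt_exp.2 (by omega))
    · simp only [S, Finset.mem_union, not_or, Set.Finite.mem_toFinset] at hQ
      obtain ⟨c, hc⟩ := hres Q (not_lt.1 hQ.2)
      refine ⟨x - c • 1, sub_mem (Submodule.subset_span (by simp)) (Submodule.smul_mem _ _ (Submodule.subset_span (by simp))), ?_⟩
      rw [← Algebra.algebraMap_eq_smul_one]
      obtain ⟨R, hR⟩ := exists_below (K := K0) Q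
      have hlt : R.1 (genOf k x - algebraMap k K0 c) < 1 := (val_lt_one_iff hR _).1 (by
        rw [map_sub, hcast, ← IsScalarTower.algebraMap_apply]; exact hc)
      have h := isOverWith_of_isOver hR (genOf k x - algebraMap k K0 c)
      rw [(rat_zero_props hK hx c hlt).1, ramIdx_one_of_surjective hR (not_not.1 hQ.1), pow_one, map_sub, hcast,
        ← IsScalarTower.algebraMap_apply] at h
      exact h

end Groth.Agent.FunFld
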