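import Groth.Agent.FunFld.Weierstrass
import Groth.Agent.FunFld.LimSer.Basic

/-! Linear systems `L(mA - nQ)` in genus one. -/

namespace Groth.Agent.FunFld

open _root_.FunFld WithZero IsLocalRing Finset

variable {k K : Type*} [Field k] [IsAlgClosed k] [Field K] [Algebra k K] (hK : IsFunctionField k K)
  (hg : genus k K = 1)
include hK

theorem ell_of_deg_zero {D : Divisor k K} (h : D.deg = 0) :
    ell D ≤ 1 ∧ (0 < ell D → ∃ x : K, x ≠ 0 ∧ div k x = -D) := by
  rcases Nat.eq_zero_or_pos (ell D) with h0 | h0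
  · exact ⟨by omega, fun h' => absurd h' (by omega)⟩
  obtain ⟨x, hx, hle⟩ := exists_pos_of_ell hK h0
  have e : D + div k x = 0 := (deg_eq_zero_iff hK hle).1 (by rw [deg_add, h, deg_div hK, add_zero])
  refine ⟨?_, fun _ => ⟨x, hx, eq_neg_of_add_eq_zero_right e⟩⟩
  rw [← ell_add_div hK D hx, e, ell_zero hK]

include hg

theorem ell_single_sub_eq (A Q : Place k K) {m n : ℕ} (h : n < m) :
    ell (Finsupp.single A (m : ℤ) - Finsupp.single Q (n : ℤ)) = m - n := by
  have hd : Divisor.deg (Finsupp.single A (m : ℤ) - Finsupp.single Q (n : ℤ) : Divisor k K) = m - n := by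
    rw [deg_sub, deg_single, deg_single, deg_eq_one hK, deg_eq_one hK]; push_cast; ring
  have := ell_eq_of_deg_ge hK (D := Finsupp.single A (m : ℤ) - Finsupp.single Q (n : ℤ))
    (by rw [hd, hg]; omega)
  rw [hd, hg] at this
  omega

omit hg in
theorem ell_single_sub_zero (A Q : Place k K) {m n : ℕ} (h : m < n) :
    ell (Finsupp.single A (m : ℤ) - Finsupp.single Q (n : ℤ)) = 0 := by
  rw [ell, ell_eq_zero_of_deg_neg hK, finrank_bot]
  rw [deg_sub, deg_single, deg_single, deg_eq_one hK, deg_eq_one hK]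
  push_cast; omega

theorem not_both_principal {A Q : Place k K} (hne : Q ≠ A) {g : ℕ} (hodd : Odd g) (h3 : 3 ≤ g)
    (h1 : 0 < ell (Finsupp.single A (g : ℤ) - Finsupp.single Q (g : ℤ)))
    (h2 : 0 < ell (Finsupp.single A ((g - 2 : ℕ) : ℤ) - Finsupp.single Q ((g - 2 : ℕ) : ℤ))) : False := by
  have hd : ∀ m : ℕ, Divisor.deg (Finsupp.single A (m : ℤ) - Finsupp.single Q (m : ℤ) : Divisor k K) = 0 := fun m => by
    rw [deg_sub, deg_single, deg_single, deg_eq_one hK, deg_eq_one hK]; ring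
  obtain ⟨x, hx, ex⟩ := (ell_of_deg_zero hK (hd g)).2 h1
  obtain ⟨y, hy, ey⟩ := (ell_of_deg_zero hK (hd (g - 2))).2 h2
  obtain ⟨j, hj⟩ := hodd
  set w := x * ((x * y⁻¹) ^ j)⁻¹
  refine hne (place_eq_of_single_sub hK (by omega) (deg_eq_one hK Q) (deg_eq_one hK A) (x := w)
    (Finsupp.ext fun R => ?_))
  have hx' : R.ord x = (-(Finsupp.single A (g : ℤ) - Finsupp.single Q (g : ℤ)) : Divisor k K) R := by
    rw [← ex, div_apply hK]
  have hy' : R.ord y = (-(Finsupp.single A ((g - 2 : ℕ) : ℤ) - Finsupp.single Q ((g - 2 : ℕ) : ℤ)) : Divisor k K) R := by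
    rw [← ey, div_apply hK]
  have hxy : x * y⁻¹ ≠ 0 := mul_ne_zero hx (inv_ne_zero hy)
  rw [div_apply hK, ord_mul R hx (inv_ne_zero (pow_ne_zero _ hxy)), ord_inv, ord_pow,
    ord_mul R hx (inv_ne_zero hy), ord_inv, hx', hy']
  have hs : ∀ (S : Place k K) (a : ℤ), (Finsupp.single S a : Divisor k K) R = a * (Finsupp.single S (1 : ℤ) : Divisor k K) R := by
    intro S a
    rcases eq_or_ne R S with rfl | h
    · simp
    · simp [Finsupp.single_eq_of_ne h]
  simp only [Finsupp.neg_apply, Finsupp.sub_apply]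
  rw [hs A (g : ℤ), hs Q (g : ℤ), hs A ((g - 2 : ℕ) : ℤ), hs Q ((g - 2 : ℕ) : ℤ), Nat.cast_sub (by omega : 2 ≤ g)]
  subst hj
  push_cast
  ring

end Groth.Agent.FunFld
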