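import Groth.Agent.FunFld.Extra

/-! Linear series of low degree on a curve of genus two. -/

namespace Groth.Agent.FunFld

open _root_.FunFld WithZero

variable {k K : Type*} [Field k] [IsAlgClosed k] [Field K] [Algebra k K] (hK : IsFunctionField k K)
include hK

theorem ell_congr {D E : Divisor k K} {x : K} (hx : x ≠ 0) (h : E = D + div k x) : ell E = ell D := by
  rw [h, ell_add_div hK D hx]

omit [IsAlgClosed k] in
theorem principal_of_deg_zero {D : Divisor k K} (hd : D.deg = 0) (hl : 0 < ell D) :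
    ∃ x : K, x ≠ 0 ∧ D + div k x = 0 := by
  obtain ⟨x, hx, hpos⟩ := exists_pos_of_ell hK hl
  exact ⟨x, hx, (eq_of_le_of_deg hK hpos (by rw [deg_add, hd, deg_div hK, deg_zero]; norm_num)).symm⟩

theorem point_of_deg_one {D : Divisor k K} (hd : D.deg = 1) (hl : 0 < ell D) :
    ∃ (x : K) (R : Place k K), x ≠ 0 ∧ D + div k x = Finsupp.single R 1 := by
  classical
  obtain ⟨x, hx, hpos⟩ := exists_pos_of_ell hK hl
  set E := D + div k x
  have hE : E.deg = 1 := by rw [deg_add, hd, deg_div hK, add_zero]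
  obtain ⟨R, hR⟩ : ∃ R, 1 ≤ E R := by
    by_contra hc
    push Not at hc
    have : E = 0 := Finsupp.ext fun R => le_antisymm (by have := hc R; rw [Finsupp.coe_zero, Pi.zero_apply]; omega) (hpos R)
    rw [this, deg_zero] at hE
    omega
  refine ⟨x, R, hx, (eq_of_le_of_deg hK (fun S => ?_) ?_).symm⟩
  · rcases eq_or_ne S R with rfl | hne
    · rw [Finsupp.single_eq_same]; exact hR
    · rw [Finsupp.single_eq_of_ne hne]; exact hpos S
  · rw [hE, deg_single, deg_eq_one hK R]; norm_num

omit [IsAlgClosed k] in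
theorem base_point {E : Divisor k K} {R : Place k K} (h0 : 0 ≤ E) (h : ell E ≤ ell (E - Finsupp.single R 1)) :
    1 ≤ E R := by
  haveI := L_finite hK E
  have hle : L (E - Finsupp.single R 1) ≤ L E := L_mono (fun S => by
    rw [Finsupp.sub_apply]
    rcases eq_or_ne S R with rfl | hne
    · rw [Finsupp.single_eq_same]; omega
    · rw [Finsupp.single_eq_of_ne hne]; omega)
  have heq := Submodule.eq_of_le_of_finrank_le hle h
  have h1 : (1 : K) ∈ L E := fun S => by
    rw [map_one, ← exp_zero, exp_le_exp]; exact h0 S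
  rw [← heq] at h1
  have := h1 R
  rw [map_one, ← exp_zero, exp_le_exp, Finsupp.sub_apply, Finsupp.single_eq_same] at this
  omega

theorem deg_pt (R : Place k K) (n : ℤ) : Divisor.deg (Finsupp.single R n) = n := by
  rw [deg_single, deg_eq_one hK R]; simp

variable (hg : genus k K = 2) {C : Divisor k K} (hC : IsCanonical k K C)
include hg hC

omit [IsAlgClosed k] in
theorem canonical_facts : ell C = 2 ∧ C.deg = 2 := by
  obtain ⟨h1, h2⟩ := ell_canonical hK hC
  rw [hg] at h1 h2
  exact ⟨h1, by rw [h2]; norm_num⟩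

omit [IsAlgClosed k] in
theorem canonical_of_deg_two {D : Divisor k K} (hd : D.deg = 2) (hl : 2 ≤ ell D) :
    ∃ x : K, x ≠ 0 ∧ C = D + div k x := by
  have h := riemann_roch hK hC D
  rw [hd, hg] at h
  obtain ⟨x, hx, e⟩ := principal_of_deg_zero hK (D := C - D)
    (by rw [deg_sub, hd, (canonical_facts hK hg hC).2, sub_self]) (by push_cast at h; omega)
  refine ⟨x⁻¹, inv_ne_zero hx, ?_⟩
  rw [div_inv hK]
  exact sub_eq_zero.1 (by rw [← e]; abel)

theorem ell_three_point (A : Place k K) : ell (Finsupp.single A (3 : ℤ) : Divisor k K) = 2 := by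
  have h := ell_eq_of_deg_ge hK (D := Finsupp.single A (3 : ℤ)) (by rw [deg_pt hK, hg]; norm_num)
  rw [deg_pt hK, hg] at h
  omega

theorem genus_two_a {A P Q : Place k K} (hA : ell (Finsupp.single A (2 : ℤ) : Divisor k K) = 1) (hQ : Q ≠ A) :
    ¬ (ell (C + Finsupp.single A (2 : ℤ) - Finsupp.single P (1 : ℤ) - Finsupp.single Q (3 : ℤ)) = 1 ∧
       ell (C + Finsupp.single A (2 : ℤ) - Finsupp.single P (1 : ℤ) - Finsupp.single Q (1 : ℤ)) = 2) := by
  rintro ⟨-, h2⟩
  obtain ⟨hlC, hdC⟩ := canonical_facts hK hg hC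
  obtain ⟨x, hx, e⟩ := canonical_of_deg_two hK hg hC
    (by rw [deg_sub, deg_sub, deg_add, hdC, deg_pt hK, deg_pt hK, deg_pt hK]; norm_num) h2.ge
  have e' : Finsupp.single P (1 : ℤ) + Finsupp.single Q 1 = Finsupp.single A (2 : ℤ) + div k x := by
    have := sub_eq_zero.2 e
    rw [← sub_eq_zero, ← this]; abel
  haveI := L_finite hK (Finsupp.single A (2 : ℤ) : Divisor k K)
  have hx1 : x ∈ L (Finsupp.single A (2 : ℤ) : Divisor k K) := fun S => by
    rw [le_exp_iff S hx]
    have := DFunLike.congr_fun e' S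
    simp only [Finsupp.add_apply, div_apply hK] at this
    have h0 : (0 : ℤ) ≤ Finsupp.single P (1 : ℤ) S + Finsupp.single Q (1 : ℤ) S := by
      rcases eq_or_ne S P with rfl | hP <;> rcases eq_or_ne S Q with rfl | hQ' <;>
        simp [Finsupp.single_eq_of_ne, *]
    omega
  have h1 : (1 : K) ∈ L (Finsupp.single A (2 : ℤ) : Divisor k K) := fun S => by
    rw [map_one, ← exp_zero, exp_le_exp]
    rcases eq_or_ne S A with rfl | hS <;> simp [Finsupp.single_eq_of_ne, *]
  obtain ⟨c, hc⟩ := exists_smul_eq_of_finrank_eq_one hA (show (⟨1, h1⟩ : L (Finsupp.single A (2 : ℤ) : Divisor k K)) ≠ 0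
    from fun e => one_ne_zero (congrArg Subtype.val e)) ⟨x, hx1⟩
  have hx' : x = algebraMap k K c := by
    rw [show x = c • (1 : K) from (congrArg Subtype.val hc).symm, Algebra.smul_def, mul_one]
  have := DFunLike.congr_fun e' Q
  rw [Finsupp.add_apply, Finsupp.add_apply, div_apply hK, hx', ord_algebraMap, Finsupp.single_eq_same,
    Finsupp.single_eq_of_ne hQ] at this
  rcases eq_or_ne Q P with rfl | hQP
  · rw [Finsupp.single_eq_same] at this; omega
  · rw [Finsupp.single_eq_of_ne hQP] at this; omega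

theorem genus_two_b {A P Q : Place k K} (hP : P ≠ A) :
    ¬ (ell (C + Finsupp.single A (3 : ℤ) - Finsupp.single P (1 : ℤ) - Finsupp.single Q (4 : ℤ)) = 1 ∧
       ell (C + Finsupp.single A (3 : ℤ) - Finsupp.single P (1 : ℤ) - Finsupp.single Q (2 : ℤ)) = 2) := by
  rintro ⟨h1, h2⟩
  obtain ⟨hlC, hdC⟩ := canonical_facts hK hg hC
  obtain ⟨x, hx, e⟩ := canonical_of_deg_two hK hg hC
    (by rw [deg_sub, deg_sub, deg_add, hdC, deg_pt hK, deg_pt hK, deg_pt hK]; norm_num) h2.ge
  obtain ⟨z, hz, e0⟩ := principal_of_deg_zero hK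
    (D := C + Finsupp.single A (3 : ℤ) - Finsupp.single P (1 : ℤ) - Finsupp.single Q (4 : ℤ))
    (by rw [deg_sub, deg_sub, deg_add, hdC, deg_pt hK, deg_pt hK, deg_pt hK]; norm_num) (by omega)
  set E : Divisor k K := Finsupp.single A (3 : ℤ) - Finsupp.single P 1 with hE
  -- `3A - P = 2Q - div x` and `C = 2Q + …`
  have hEC : C = E + div k (x * x * z⁻¹) := by
    rw [div_mul hK (mul_ne_zero hx hx) (inv_ne_zero hz), div_mul hK hx hx, div_inv hK]
    have hs : (Finsupp.single Q (4 : ℤ) : Divisor k K) = Finsupp.single Q 2 + Finsupp.single Q 2 := by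
      rw [← Finsupp.single_add]; norm_num
    rw [hs] at e0
    have e' := sub_eq_zero.2 e
    rw [← sub_eq_zero, hE]
    linear_combination (norm := abel) (e' + e') + e0
  have hb : ell E = 2 := by rw [← hlC, ← ell_congr hK (by positivity) hEC]
  have h3 := ell_three_point hK hg hC A
  have hbp := base_point hK (E := Finsupp.single A (3 : ℤ)) (R := P) (fun S => by
    rcases eq_or_ne S A with rfl | hS <;> simp [Finsupp.single_eq_of_ne, *]) (by rw [← hE, hb, h3])
  rw [Finsupp.single_eq_of_ne hP] at hbp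
  omega

theorem genus_two_c {B Q : Place k K} (hB : ell (Finsupp.single B (2 : ℤ) : Divisor k K) = 1) (hQ : Q ≠ B) :
    ¬ (ell (C + Finsupp.single B (1 : ℤ) - Finsupp.single Q (2 : ℤ)) = 1 ∧
       ell (C + Finsupp.single B (3 : ℤ) - Finsupp.single Q (4 : ℤ)) = 1) := by
  rintro ⟨h1, h2⟩
  obtain ⟨hlC, hdC⟩ := canonical_facts hK hg hC
  obtain ⟨x, R, hx, e⟩ := point_of_deg_one hK
    (D := C + Finsupp.single B (1 : ℤ) - Finsupp.single Q (2 : ℤ))
    (by rw [deg_sub, deg_add, hdC, deg_pt hK, deg_pt hK]; norm_num) (by omega)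
  obtain ⟨z, S, hz, e2⟩ := point_of_deg_one hK
    (D := C + Finsupp.single B (3 : ℤ) - Finsupp.single Q (4 : ℤ))
    (by rw [deg_sub, deg_add, hdC, deg_pt hK, deg_pt hK]; norm_num) (by omega)
  set E : Divisor k K := Finsupp.single Q 2 + Finsupp.single R 1
  have hE : E = C + Finsupp.single B 1 + div k x := by rw [← sub_eq_zero]; simp only [E]; linear_combination (norm := abel) -e
  have hlE : ell E = 2 := by
    have h := ell_eq_of_deg_ge hK (D := E) (by rw [deg_add, deg_pt hK, deg_pt hK, hg]; norm_num)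
    rw [deg_add, deg_pt hK, deg_pt hK, hg] at h
    omega
  have hbp := base_point hK (E := E) (R := B) (fun S' => by
    rw [Finsupp.add_apply, Finsupp.coe_zero, Pi.zero_apply]
    rcases eq_or_ne S' Q with rfl | hS1 <;> rcases eq_or_ne S' R with rfl | hS2 <;>
      simp [Finsupp.single_eq_of_ne, *])
    (by rw [hlE, ← hlC, ell_congr hK (D := C) (E := E - Finsupp.single B 1) hx (by rw [hE]; abel)])
  rw [Finsupp.add_apply, Finsupp.single_eq_of_ne (Ne.symm hQ), zero_add] at hbp
  have hRB : R = B := by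
    by_contra hne
    rw [Finsupp.single_eq_of_ne (Ne.symm hne)] at hbp
    omega
  subst hRB
  have hCQ : C + div k x = Finsupp.single Q 2 := by rw [← sub_eq_zero]; linear_combination (norm := abel) sub_eq_zero.2 e
  have hsub : Finsupp.single R (3 : ℤ) - Finsupp.single S 1 = C + div k (x * x * z⁻¹) := by
    rw [div_mul hK (mul_ne_zero hx hx) (inv_ne_zero hz), div_mul hK hx hx, div_inv hK]
    have hs : (Finsupp.single Q (4 : ℤ) : Divisor k K) = Finsupp.single Q 2 + Finsupp.single Q 2 := by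
      rw [← Finsupp.single_add]; norm_num
    rw [hs, ← hCQ] at e2
    rw [← sub_eq_zero]
    linear_combination (norm := abel) sub_eq_zero.2 e2
  have h3 := ell_three_point hK hg hC R
  have hl : ell (Finsupp.single R (3 : ℤ) - Finsupp.single S 1 : Divisor k K) = 2 := by
    rw [ell_congr hK (by positivity) hsub, hlC]
  have hbp2 := base_point hK (E := Finsupp.single R (3 : ℤ)) (R := S) (fun S' => by
    rcases eq_or_ne S' R with rfl | hS <;> simp [Finsupp.single_eq_of_ne, *]) (by rw [hl, h3])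
  have hSR : S = R := by
    by_contra hne
    rw [Finsupp.single_eq_of_ne hne] at hbp2
    omega
  rw [hSR, ← Finsupp.single_sub] at hl
  norm_num at hl
  omega

end Groth.Agent.FunFld
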