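import Groth.Agent.FunFld.SepExt
import Groth.Agent.FunFld.RatPlaces
import Mathlib.RingTheory.PolynomialAlgebra

/-! The rational function field is geometric over any field. -/

namespace Groth.Agent.FunFld

open _root_.FunFld TensorProduct Polynomial

universe u v

variable {k : Type u} [Field k]

theorem isGeometric_ratFunc : IsGeometric k (RatFunc k) := by
  intro k' _ _ hfin
  let ψ : k[X] →+* RatFunc k' := (algebraMap k'[X] (RatFunc k')).comp (Polynomial.mapRingHom (algebraMap k k'))
  have hψ : Function.Injective ψ :=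
    (RatFunc.algebraMap_injective k').comp (Polynomial.map_injective _ (algebraMap k k').injective)
  let ι : RatFunc k →+* RatFunc k' := IsFractionRing.lift hψ
  have hι : ∀ q : k[X], ι (algebraMap k[X] (RatFunc k) q) = ψ q := fun q => IsFractionRing.lift_algebraMap hψ q
  haveI : IsScalarTower k k' (RatFunc k') := IsScalarTower.of_algebraMap_eq fun c => by
    rw [IsScalarTower.algebraMap_apply k k'[X] (RatFunc k'), IsScalarTower.algebraMap_apply k' k'[X] (RatFunc k'),
      IsScalarTower.algebraMap_apply k k' k'[X]]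
  let ι' : RatFunc k →ₐ[k] RatFunc k' :=
    { ι with
      commutes' := fun c => by
        show ι (algebraMap k (RatFunc k) c) = algebraMap k (RatFunc k') c
        rw [IsScalarTower.algebraMap_apply k k' (RatFunc k')]
        rw [IsScalarTower.algebraMap_apply k k[X] (RatFunc k), hι]
        show algebraMap k'[X] (RatFunc k') ((C c).map (algebraMap k k')) = _
        rw [Polynomial.map_C, ← Polynomial.algebraMap_eq, ← IsScalarTower.algebraMap_apply] }
  let Φ : k' ⊗[k] RatFunc k →ₐ[k] RatFunc k' :=
    Algebra.TensorProduct.productMap (IsScalarTower.toAlgHom k k' (RatFunc k')) ι'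
  let inc : k' ⊗[k] k[X] →ₐ[k] k' ⊗[k] RatFunc k :=
    Algebra.TensorProduct.map (AlgHom.id k k') (IsScalarTower.toAlgHom k k[X] (RatFunc k))
  have hclear : ∀ z : k' ⊗[k] RatFunc k, ∃ s : k[X], s ≠ 0 ∧
      ∃ w, inc w = (1 ⊗ₜ algebraMap k[X] (RatFunc k) s) * z := by
    intro z
    induction z using TensorProduct.induction_on with
    | zero => exact ⟨1, one_ne_zero, 0, by simp⟩
    | tmul a r =>
      refine ⟨r.denom, r.denom_ne_zero, a ⊗ₜ r.num, ?_⟩
      simp only [inc, Algebra.TensorProduct.map_tmul, AlgHom.id_apply, IsScalarTower.coe_toAlgHom',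
        Algebra.TensorProduct.tmul_mul_tmul, one_mul]
      congr 1
      conv_rhs => rw [mul_comm, ← RatFunc.num_div_denom r, RatFunc.num_div_denom r]
      nth_rewrite 2 [← RatFunc.num_div_denom r]
      rw [div_mul_cancel₀ _ (algebraMap_poly_ne_zero r.denom_ne_zero)]
    | add x y hx hy =>
      obtain ⟨s, hs, w, hw⟩ := hx
      obtain ⟨s', hs', w', hw'⟩ := hy
      refine ⟨s * s', mul_ne_zero hs hs', (1 ⊗ₜ s') * w + (1 ⊗ₜ s) * w', ?_⟩
      rw [map_add, map_mul, map_mul, hw, hw', map_mul]
      simp only [inc, Algebra.TensorProduct.map_tmul, AlgHom.id_apply, IsScalarTower.coe_toAlgHom', map_one]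
      rw [← mul_assoc, ← mul_assoc, Algebra.TensorProduct.tmul_mul_tmul, Algebra.TensorProduct.tmul_mul_tmul, one_mul,
        mul_comm (algebraMap k[X] (RatFunc k) s'), mul_add]
  have hincpoly : ∀ w : k' ⊗[k] k[X],
      Φ (inc w) = algebraMap k'[X] (RatFunc k') ((polyEquivTensor k k').symm w) := by
    intro w
    induction w using TensorProduct.induction_on with
    | zero => simp
    | add x y hx hy => simp only [map_add, hx, hy]
    | tmul a q =>
      simp only [inc, Φ, Algebra.TensorProduct.map_tmul, AlgHom.id_apply, IsScalarTower.coe_toAlgHom',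
        Algebra.TensorProduct.productMap_apply_tmul, polyEquivTensor_symm_apply_tmul_eq_smul]
      rw [Algebra.smul_def, map_mul, ← IsScalarTower.algebraMap_apply]
      congr 1
      exact hι q
  have hinj : Function.Injective Φ := by
    rw [injective_iff_map_eq_zero]
    intro z hz
    obtain ⟨s, hs, w, hw⟩ := hclear z
    have hw0 : w = 0 := by
      have := hincpoly w
      rw [hw, map_mul, hz, mul_zero] at this
      have h0 := (map_eq_zero_iff _ (RatFunc.algebraMap_injective k')).1 this.symm
      exact (polyEquivTensor k k').symm.injective (by rw [h0, map_zero])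
    rw [hw0, map_zero] at hw
    have hu : IsUnit ((1 : k') ⊗ₜ[k] algebraMap k[X] (RatFunc k) s) :=
      (isUnit_iff_ne_zero.2 (algebraMap_poly_ne_zero hs)).map
        (Algebra.TensorProduct.includeRight : RatFunc k →ₐ[k] k' ⊗[k] RatFunc k)
    exact (hu.mul_right_eq_zero).1 hw.symm
  haveI : IsDomain (k' ⊗[k] RatFunc k) := Function.Injective.isDomain Φ.toRingHom hinj
  let ir : RatFunc k →+* k' ⊗[k] RatFunc k :=
    (Algebra.TensorProduct.includeRight : RatFunc k →ₐ[k] k' ⊗[k] RatFunc k).toRingHom
  letI : Algebra (RatFunc k) (k' ⊗[k] RatFunc k) := ir.toAlgebra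
  haveI : Module.Finite (RatFunc k) (k' ⊗[k] RatFunc k) := by
    classical
    let b := Module.finBasis k k'
    refine ⟨⟨Finset.univ.image fun i => b i ⊗ₜ[k] (1 : RatFunc k), ?_⟩⟩
    refine top_le_iff.1 fun z _ => ?_
    induction z using TensorProduct.induction_on with
    | zero => exact Submodule.zero_mem _
    | add a c ha hc => exact Submodule.add_mem _ (ha trivial) (hc trivial)
    | tmul a r =>
      rw [← b.sum_repr a, TensorProduct.sum_tmul]
      refine Submodule.sum_mem _ fun i _ => ?_
      rw [TensorProduct.smul_tmul]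
      have : b i ⊗ₜ[k] (b.repr a i • r) = (b.repr a i • r) • (b i ⊗ₜ[k] (1 : RatFunc k)) := by
        show _ = (1 ⊗ₜ[k] (b.repr a i • r)) * (b i ⊗ₜ[k] (1 : RatFunc k))
        rw [Algebra.TensorProduct.tmul_mul_tmul, one_mul, mul_one]
      rw [this]
      exact Submodule.smul_mem _ _ (Submodule.subset_span (by simp))
  exact isField_of_isIntegral_of_isField' (Field.toIsField (RatFunc k))

theorem isGeometric_congr {K₀ : Type*} [Field K₀] [Algebra k K₀] {L : Type*} [Field L] [Algebra k L]
    (e : K₀ ≃ₐ[k] L) (h : IsGeometric k K₀) : IsGeometric k L := fun k' _ _ hfin =>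
  MulEquiv.isField (h k' hfin) (Algebra.TensorProduct.congr (AlgEquiv.refl : k' ≃ₐ[k] k') e.symm).toMulEquiv

theorem isGeometric_of_separable_ratFunc {K : Type v} [Field K] [Algebra k K] [Algebra (RatFunc k) K]
    [IsScalarTower k (RatFunc k) K] [FiniteDimensional (RatFunc k) K] [Algebra.IsSeparable (RatFunc k) K]
    (hK : IsFunctionField k K) : IsGeometric k K := by
  let L : IntermediateField k K := (IsScalarTower.toAlgHom k (RatFunc k) K).fieldRange
  let e : RatFunc k ≃ₐ[k] L := AlgEquiv.ofInjectiveField (IsScalarTower.toAlgHom k (RatFunc k) K)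
  have he : ∀ r, ((e r : L) : K) = algebraMap (RatFunc k) K r := fun r => rfl
  have hgL : IsGeometric k L := isGeometric_congr e isGeometric_ratFunc
  have hL : IsFunctionField k L := by
    obtain ⟨⟨x, hx, -⟩, hconst⟩ := id hK
    refine ⟨?_, fun y hy => ?_⟩
    · have htr : Transcendental k (RatFunc.X : RatFunc k) := RatFunc.transcendental_X
      refine ⟨e RatFunc.X, fun h => htr ((isAlgebraic_algHom_iff e.toAlgHom e.injective).1 h), ?_⟩
      have htop : IntermediateField.adjoin k ({e RatFunc.X} : Set L) = ⊤ := by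
        have h := congrArg (IntermediateField.map e.toAlgHom) (RatFunc.adjoin_X (K := k))
        rw [IntermediateField.adjoin_map, Set.image_singleton] at h
        refine top_le_iff.1 fun z _ => ?_
        obtain ⟨r, rfl⟩ := e.surjective z
        show e r ∈ IntermediateField.adjoin k ({e.toAlgHom RatFunc.X} : Set L)
        rw [h]
        exact ⟨r, IntermediateField.mem_top, rfl⟩
      rw [htop]
      exact Module.Finite.of_surjective (Algebra.linearMap (⊤ : IntermediateField k L) L) fun z =>
        ⟨⟨z, IntermediateField.mem_top⟩, rfl⟩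
    · obtain ⟨c, hc⟩ := hconst (y : K) (hy.algHom L.val)
      exact ⟨c, Subtype.ext hc⟩
  letI : Algebra (RatFunc k) L := e.toRingEquiv.toRingHom.toAlgebra
  haveI : IsScalarTower (RatFunc k) L K := IsScalarTower.of_algebraMap_eq fun r => (he r).symm
  haveI : Algebra.IsSeparable L K := Algebra.isSeparable_tower_top_of_isSeparable (RatFunc k) L K
  haveI : FiniteDimensional L K := Module.Finite.of_restrictScalars_finite (RatFunc k) L K
  exact isGeometric_separable (k := k) (k' := k) (K := L) hL hgL hK

end Groth.Agent.FunFld
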