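import Groth.Agent.FunFld.Geometric
import Groth.Agent.FunFld.Ext.Fundamental
import Mathlib.Algebra.Module.Submodule.Union
import Mathlib.FieldTheory.PrimitiveElement
import Mathlib.FieldTheory.PurelyInseparable.PerfectClosure
import Mathlib.RingTheory.IntegralClosure.IsIntegralClosure.Basic

/-! Intermediate fields of geometric function fields, maps of differentials, local parameters. -/

namespace Groth.Agent.FunFld

open _root_.FunFld IntermediateField TensorProduct WithZero IsLocalRing

universe u v

section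

variable {k : Type u} {K : Type v} [Field k] [Field K] [Algebra k K]

theorem isFunctionField_intermediate (hK : IsFunctionField k K) (K₀ : IntermediateField k K)
    (h₀ : ∃ x ∈ K₀, Transcendental k x) : IsFunctionField k K₀ := by
  obtain ⟨x, hx0, hx⟩ := h₀
  let x' : K₀ := ⟨x, hx0⟩
  refine ⟨⟨x', fun h => hx (h.algHom K₀.val), ?_⟩, fun y hy => ?_⟩
  · set L := IntermediateField.adjoin k ({x} : Set K)
    set L' := IntermediateField.adjoin k ({x'} : Set K₀)
    haveI := finite_adjoin hK hx
    have hmap : L'.map K₀.val = L := by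
      rw [IntermediateField.adjoin_map, Set.image_singleton]; rfl
    let e : L' ≃ₐ[k] L := (L'.equivMap K₀.val).trans (IntermediateField.equivOfEq hmap)
    haveI : Module.Finite L' K := Module.Finite.of_equiv_equiv e.symm.toRingEquiv (RingEquiv.refl K)
      (RingHom.ext fun z => by
        obtain ⟨w, rfl⟩ := e.surjective z
        simp
        rfl)
    exact FiniteDimensional.of_injective ((IsScalarTower.toAlgHom L' K₀ K).toLinearMap)
      (fun a b hab => Subtype.ext hab)
  · obtain ⟨c, hc⟩ := hK.2 y (hy.algHom K₀.val)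
    exact ⟨c, Subtype.ext hc⟩

theorem isGeometric_intermediate (hg : IsGeometric k K) (K₀ : IntermediateField k K) :
    IsGeometric k K₀ := by
  intro k' _ _ hfin
  letI : Field (k' ⊗[k] K) := (hg k' hfin).toField
  let ι : k' ⊗[k] K₀ →ₐ[k] k' ⊗[k] K := Algebra.TensorProduct.map (AlgHom.id k k') K₀.val
  have hι : Function.Injective ι :=
    Module.Flat.lTensor_preserves_injective_linearMap K₀.val.toLinearMap Subtype.val_injective
  haveI : IsDomain (k' ⊗[k] K₀) := hι.isDomain ι.toRingHom
  let e : k' ⊗[k] K₀ ≃ₐ[k] K₀ ⊗[k] k' := Algebra.TensorProduct.comm k k' K₀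
  haveI : IsDomain (K₀ ⊗[k] k') := e.symm.injective.isDomain e.symm.toAlgHom.toRingHom
  haveI : Algebra.IsIntegral K₀ (K₀ ⊗[k] k') := Algebra.IsIntegral.of_finite K₀ _
  exact MulEquiv.isField
    (isField_of_isIntegral_of_isField' (R := K₀) (S := K₀ ⊗[k] k') (Field.toIsField K₀))
    e.toMulEquiv

theorem subspace_generators [IsAlgClosed k] (hK : IsFunctionField k K) (W : Submodule k K)
    (hW : IntermediateField.adjoin k (W : Set K) = ⊤) :
    (∃ x ∈ W, Algebra.IsSeparable (IntermediateField.adjoin k ({x} : Set K)) K) ∧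
      ∀ x ∈ W, Algebra.IsSeparable (IntermediateField.adjoin k ({x} : Set K)) K →
        ∃ y ∈ W, IntermediateField.adjoin k ({x, y} : Set K) = ⊤ := by
  obtain ⟨⟨x₀, hx₀, -⟩, -⟩ := id hK
  have hgen : ∀ E : IntermediateField k K, E ≠ ⊤ → ∃ z ∈ W, z ∉ E := by
    intro E hE
    by_contra hc
    push Not at hc
    exact hE (top_le_iff.1 (hW ▸ adjoin_le_iff.2 hc))
  constructor
  · obtain hc | ⟨p, hp, hpk⟩ := CharP.exists' K
    · obtain ⟨x, hxW, hxk⟩ := hgen ⊥ fun h => hx₀ (by
        have : x₀ ∈ (⊥ : IntermediateField k K) := by rw [h]; trivial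
        obtain ⟨c, rfl⟩ := mem_bot.1 this
        exact isAlgebraic_algebraMap c)
      haveI : CharZero (IntermediateField.adjoin k ({x} : Set K)) :=
        ((algebraMap (IntermediateField.adjoin k ({x} : Set K)) K).charZero_iff
          (algebraMap (IntermediateField.adjoin k ({x} : Set K)) K).injective).2 hc
      haveI := finite_adjoin hK (transcendental_of_not_mem hK (x := x) fun ⟨c, hc⟩ =>
        hxk (mem_bot.2 ⟨c, hc⟩))
      exact ⟨x, hxW, inferInstance⟩
    · have hg := isGeometric_of_perfect hK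
      obtain ⟨x, hxW, hx⟩ := hgen (kKp k K p) fun h => by
        have h1 := finrank_kKp p hK hg
        rw [show kKp k K p = ⊤ from h] at h1
        rw [IntermediateField.finrank_top] at h1
        exact hp.out.one_lt.ne h1
      exact ⟨x, hxW, separable_of_not_mem p hK hg hx⟩
  · intro x hxW hsep
    have hxtr : Transcendental k x := fun h => by
      obtain ⟨c, rfl⟩ := hK.2 x h
      have hbot : IntermediateField.adjoin k ({algebraMap k K c} : Set K) = ⊥ :=
        adjoin_simple_eq_bot_iff.2 (mem_bot.2 ⟨c, rfl⟩)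
      obtain ⟨q, hq, hq0⟩ := (Algebra.IsSeparable.isSeparable
        (IntermediateField.adjoin k ({algebraMap k K c} : Set K)) x₀).isIntegral
      have hint : IsIntegral (IntermediateField.adjoin k ({algebraMap k K c} : Set K)) x₀ := ⟨q, hq, hq0⟩
      haveI : Algebra.IsIntegral k (IntermediateField.adjoin k ({algebraMap k K c} : Set K)) := by
        rw [hbot]; exact Algebra.IsIntegral.of_finite k _
      exact hx₀ (isIntegral_trans x₀ hint).isAlgebraic
    set L := IntermediateField.adjoin k ({x} : Set K)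
    haveI := finite_adjoin hK hxtr
    haveI : Finite (IntermediateField L K) :=
      Field.finite_intermediateField_of_exists_primitive_element L K (Field.exists_primitive_element L K)
    let ι := {E : IntermediateField L K // E ≠ ⊤}
    let pr : ι → Submodule k W := fun E =>
      ((E.1.restrictScalars k).toSubalgebra.toSubmodule).comap W.subtype
    obtain ⟨y, hy⟩ := Submodule.exists_forall_notMem_of_forall_ne_top pr fun E h => by
      obtain ⟨z, hzW, hz⟩ := hgen (E.1.restrictScalars k) fun h' => E.2 (by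
        refine top_le_iff.1 fun a _ => ?_
        have : a ∈ E.1.restrictScalars k := by rw [h']; trivial
        exact this)
      have : (⟨z, hzW⟩ : W) ∈ pr E := by rw [h]; trivial
      exact hz this
    refine ⟨y, y.2, ?_⟩
    have htop : IntermediateField.adjoin L ({(y : K)} : Set K) = ⊤ := by
      by_contra hne
      exact hy ⟨_, hne⟩ (mem_adjoin_simple_self L (y : K))
    rw [show ({x, (y : K)} : Set K) = {x} ∪ {(y : K)} from Set.insert_eq _ _, ← adjoin_adjoin_left]
    rw [htop, IntermediateField.restrictScalars_top]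

theorem D_ne_zero_of_parameter (hK : IsFunctionField k K) (hg : IsGeometric k K) (P : Place k K)
    [Algebra.IsSeparable k (ResidueField P.O)] {t : K} (ht : P.1 t = exp (-1 : ℤ)) :
    KaehlerDifferential.D k K t ≠ 0 := by
  have hord : P.ord t = 1 := by rw [ord_eq_of_val P ht, neg_neg]
  have htr : Transcendental k t := mem_range_of_ord hK (by rw [hord]; exact one_ne_zero)
  obtain hc | ⟨p, hp, hpk⟩ := CharP.exists' K
  · haveI : CharZero (IntermediateField.adjoin k ({t} : Set K)) :=
      ((algebraMap (IntermediateField.adjoin k ({t} : Set K)) K).charZero_iff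
        (algebraMap (IntermediateField.adjoin k ({t} : Set K)) K).injective).2 hc
    haveI := finite_adjoin hK htr
    exact D_ne_zero hK
  intro hdt
  set L₀ := kKp k K p
  have htL : t ∈ L₀ := ((mem_kKp_iff p hK hg t).1).2 hdt
  have hK₀ : IsFunctionField k L₀ := isFunctionField_intermediate hK L₀ ⟨t, htL, htr⟩
  have hr := finrank_kKp p hK hg
  haveI : FiniteDimensional L₀ K := FiniteDimensional.of_finrank_pos (by rw [hr]; exact hp.out.pos)
  obtain ⟨P₀, hover⟩ := exists_below (K := L₀) P
  have he := isOverWith_of_isOver hover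
  have he1 : ramIdx P P₀ = 1 := by
    have := IsOverWith.ord he ⟨t, htL⟩
    rw [show algebraMap L₀ K ⟨t, htL⟩ = t from rfl, hord] at this
    have h1 : (ramIdx P P₀ : ℤ) = 1 := Int.eq_one_of_mul_eq_one_right (by positivity) this.symm
    exact_mod_cast h1
  have huniq : ∀ Q : Place k K, IsOver Q P₀ → Q = P := by
    intro Q hQ
    refine (eq_of_le fun x hx => ?_)
    have h1 : Q.1 (x ^ p) ≤ 1 := by rw [map_pow]; exact pow_le_one' hx p
    have h2 : P.1 (x ^ p) ≤ 1 := (val_le_one_iff hover ⟨x ^ p, pow_mem_kKp p x⟩).2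
      ((val_le_one_iff hQ ⟨x ^ p, pow_mem_kKp p x⟩).1 h1)
    rwa [map_pow, pow_le_one_iff hp.out.ne_zero] at h2
  have hsum := sum_ramIdx_mul_deg (K' := K) hK₀ P₀
  rw [Finset.sum_eq_single P (fun Q hQ hne => absurd (huniq Q ((mem_placesOver hK₀).1 hQ)) hne)
    (fun h => absurd ((mem_placesOver hK₀).2 hover) h), he1, one_mul, hr] at hsum
  -- the residue fields agree
  let ψ : intK P₀ →ₗ[k] ResidueField P.O :=
    { toFun := fun x => resL P ⟨((x : L₀) : K), (val_le_one_iff hover (x : L₀)).2 x.2⟩
      map_add' := fun a b => by rw [← map_add]; rfl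
      map_smul' := fun c a => by rw [← map_smul]; rfl }
  have hker : LinearMap.ker (resL P₀) ≤ LinearMap.ker ψ := fun x hx => by
    rw [LinearMap.mem_ker, resL_eq_zero] at hx
    exact (resL_eq_zero P _).2 ((val_lt_one_iff hover (x : L₀)).2 hx)
  let φ : ResidueField P₀.O →ₗ[k] ResidueField P.O :=
    (Submodule.liftQ _ ψ hker).comp
      ((resL P₀).quotKerEquivOfSurjective (resL_surjective P₀)).symm.toLinearMap
  have hφ : ∀ x : intK P₀, φ (resL P₀ x) = ψ x := fun x => by
    simp only [φ, LinearMap.comp_apply, LinearEquiv.coe_coe]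
    rw [show ((resL P₀).quotKerEquivOfSurjective (resL_surjective P₀)).symm (resL P₀ x) =
      Submodule.Quotient.mk x from (LinearEquiv.symm_apply_eq _).2 rfl]
    rfl
  haveI : FiniteDimensional k (ResidueField P.O) := residue_finite hK P
  haveI : FiniteDimensional k (ResidueField P₀.O) := residue_finite hK₀ P₀
  haveI : CharP k p := (RingHom.charP_iff _ (algebraMap k K).injective p).2 ‹_›
  haveI : ExpChar k p := .prime hp.out
  have hsurj : Function.Surjective φ := by
    rw [← LinearMap.range_eq_top, eq_top_iff]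
    refine (Field.span_map_pow_expChar_pow_eq_top_of_isSeparable p 1
      (Module.finBasis k (ResidueField P.O)).span_eq).ge.trans (Submodule.span_le.2 ?_)
    rintro _ ⟨i, rfl⟩
    obtain ⟨a, ha⟩ := resL_surjective P (Module.finBasis k (ResidueField P.O) i)
    have hap : P₀.1 (⟨(a : K) ^ p, pow_mem_kKp p _⟩ : L₀) ≤ 1 :=
      (val_le_one_iff hover _).1 (by
        change P.1 ((a : K) ^ p) ≤ 1
        rw [map_pow]; exact pow_le_one' a.2 p)
    refine ⟨resL P₀ ⟨_, hap⟩, ?_⟩
    rw [hφ]
    change resL P ⟨(a : K) ^ p, _⟩ = Module.finBasis k (ResidueField P.O) i ^ p ^ 1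
    rw [pow_one, ← ha]
    change residue P.O _ = residue P.O _ ^ p
    rw [← map_pow]
    rfl
  have hle : P.deg ≤ P₀.deg := LinearMap.finrank_le_finrank_of_surjective hsurj
  have hpos := deg_pos hK₀ P₀
  have hp2 := hp.out.two_le
  rw [hsum] at hle
  nlinarith

end

section

variable {k₀ k : Type u} {K₀ K : Type v} [Field k₀] [Field k] [Field K₀] [Field K] [Algebra k₀ k]
  [Algebra k₀ K₀] [Algebra k₀ K] [Algebra k K] [Algebra K₀ K] [IsScalarTower k₀ k K]
  [IsScalarTower k₀ K₀ K]

theorem map_kaehler (p : ℕ) [Fact p.Prime] [CharP K p] (hK : IsFunctionField k K)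
    (hg : IsGeometric k K) (hK₀ : IsFunctionField k₀ K₀) (hg₀ : IsGeometric k₀ K₀) :
    (Set.range (algebraMap K₀ K) ⊆ ↑(kKp k K p) → KaehlerDifferential.map k₀ k K₀ K = 0) ∧
      (¬ Set.range (algebraMap K₀ K) ⊆ ↑(kKp k K p) →
        Function.Injective (KaehlerDifferential.map k₀ k K₀ K)) := by
  refine ⟨fun h => ?_, fun h => ?_⟩
  · refine LinearMap.ext_on_range (KaehlerDifferential.span_range_derivation k₀ K₀) fun y => ?_
    rw [KaehlerDifferential.map_D, LinearMap.zero_apply]
    exact D_eq_zero_of_mem p (h ⟨y, rfl⟩)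
  · obtain ⟨_, ⟨y, rfl⟩, hy⟩ := Set.not_subset.1 h
    have hne : KaehlerDifferential.D k K (algebraMap K₀ K y) ≠ 0 := fun h0 =>
      hy (((mem_kKp_iff p hK hg _).1).2 h0)
    have hne₀ : KaehlerDifferential.D k₀ K₀ y ≠ 0 := fun h0 => hne (by
      rw [← KaehlerDifferential.map_D k₀ k K₀ K, h0, map_zero])
    rw [injective_iff_map_eq_zero]
    intro w hw
    obtain ⟨c, rfl⟩ := (finrank_eq_one_iff_of_nonzero' _ hne₀).1 (finrank_kaehler hK₀ hg₀) w
    rw [map_smul, KaehlerDifferential.map_D, ← algebraMap_smul K c] at hw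
    rcases smul_eq_zero.1 hw with h1 | h1
    · rw [(map_eq_zero _).1 h1, zero_smul]
    · exact absurd h1 hne

end

end Groth.Agent.FunFld
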