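import Groth.Agent.FunFld.Weil
import Groth.Agent.FunFld.Extra
import Mathlib

/-! A function field of genus `≥ 2` has at most one rational subfield of index two. -/

namespace Groth.Agent.FunFld

open _root_.FunFld IntermediateField

variable {k K : Type*} [Field k] [Field K] [Algebra k K] (hK : IsFunctionField k K)
include hK

theorem transcendental_of_finrank_two {x : K} (hx : Module.finrank (adjoin k ({x} : Set K)) K = 2) :
    Transcendental k x := by
  refine transcendental_of_not_mem hK fun hmem => ?_
  obtain ⟨c, rfl⟩ := hmem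
  have hbot : adjoin k ({algebraMap k K c} : Set K) = ⊥ :=
    adjoin_simple_eq_bot_iff.2 (IntermediateField.algebraMap_mem ⊥ c)
  rw [hbot, IntermediateField.finrank_bot'] at hx
  haveI : Module.Finite k K := Module.finite_of_finrank_eq_succ hx
  obtain ⟨y, hy, -⟩ := hK.1
  exact hy (Algebra.IsAlgebraic.isAlgebraic y)

theorem hyper_canonical {C : Divisor k K} (hC : IsCanonical k K C) (hg : 2 ≤ genus k K) {x : K}
    (hx : Module.finrank (adjoin k ({x} : Set K)) K = 2) :
    ∃ u : K, u ≠ 0 ∧ C + div k u = (genus k K - 1) • poles k x ∧ (1 : K) ∈ L (C + div k u) ∧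
      x ∈ L (C + div k u) ∧ ∀ z ∈ L (C + div k u), z ∈ adjoin k ({x} : Set K) := by
  classical
  have hxt := transcendental_of_finrank_two hK hx
  set g := genus k K
  set D := (g - 1) • poles k x with hD
  have hdeg : D.deg = 2 * (g : ℤ) - 2 := by
    rw [hD, deg_nsmul, deg_poles hK hxt, hx]
    push_cast [Nat.cast_sub (show 1 ≤ g by omega)]
    ring
  have hpow : ∀ i ≤ g - 1, x ^ i ∈ L D := fun i hi => by
    have h := pow_mul_mem hK (x := x) (C := 0) (z := 1)
      (fun P => by simp) (g - 1) i hi
    simpa using h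
  have hli : LinearIndependent k fun i : Fin g => x ^ (i : ℕ) := by
    rw [Fintype.linearIndependent_iff]
    intro c hc j
    have hp : (∑ i : Fin g, Polynomial.monomial (i : ℕ) (c i)) = 0 := by
      by_contra hne
      refine hxt ⟨_, hne, ?_⟩
      rw [map_sum]
      simpa [Polynomial.aeval_monomial, Algebra.smul_def] using hc
    have := congrArg (fun p => Polynomial.coeff p (j : ℕ)) hp
    simpa [Polynomial.finsetSum_coeff, Polynomial.coeff_monomial, Fin.val_inj] using this
  haveI := L_finite hK D
  have hell : g ≤ ell D := by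
    have := card_le_ell hK hli (D := D) fun i => hpow _ (by omega)
    simpa using this
  have hrr := riemann_roch hK hC D
  rw [hdeg] at hrr
  have hpos : 0 < ell (C - D) := by omega
  obtain ⟨u, hu, hle⟩ := exists_pos_of_ell hK hpos
  have hzero : C - D + div k u = 0 := by
    refine (deg_eq_zero_iff hK hle).1 ?_
    rw [deg_add, deg_sub, deg_div hK, (ell_canonical hK hC).2, hdeg]
    ring
  have heq : C + div k u = D := by rw [← sub_eq_zero, ← hzero]; abel
  have hellD : ell D = g := by
    rw [← heq, ell_add_div hK C hu, (ell_canonical hK hC).1]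
  refine ⟨u, hu, heq, ?_, ?_, ?_⟩
  · rw [heq]; simpa using hpow 0 (Nat.zero_le _)
  · rw [heq]; simpa using hpow 1 (by omega)
  rw [heq]
  have hspan : L D = Submodule.span k (Set.range fun i : Fin g => x ^ (i : ℕ)) := by
    refine (Submodule.eq_of_le_of_finrank_eq (Submodule.span_le.2 ?_) ?_).symm
    · rintro _ ⟨i, rfl⟩
      exact hpow _ (by omega)
    · rw [finrank_span_eq_card hli, Fintype.card_fin]
      exact hellD.symm
  intro z hz
  rw [hspan] at hz
  induction hz using Submodule.span_induction with
  | mem z hz => obtain ⟨i, rfl⟩ := hz; exact pow_mem (mem_adjoin_simple_self k x) _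
  | zero => exact zero_mem _
  | add a b _ _ iha ihb => exact add_mem iha ihb
  | smul c a _ iha => exact IntermediateField.smul_mem _ iha

theorem hyper_subfield_le (hg : 2 ≤ genus k K) {x x' : K}
    (hx : Module.finrank (adjoin k ({x} : Set K)) K = 2)
    (hx' : Module.finrank (adjoin k ({x'} : Set K)) K = 2) :
    adjoin k ({x'} : Set K) ≤ adjoin k ({x} : Set K) := by
  obtain ⟨C, hC⟩ := exists_canonical hK
  obtain ⟨u, hu, -, -, -, hmem⟩ := hyper_canonical hK hC hg hx
  obtain ⟨v, hv, -, h1, hx'L, -⟩ := hyper_canonical hK hC hg hx'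
  have key : ∀ z ∈ L (C + div k v), v / u * z ∈ adjoin k ({x} : Set K) := fun z hz => by
    refine hmem _ ((mul_mem_L_iff hK hu).1 ?_)
    rw [← mul_assoc, mul_div_cancel₀ v hu]
    exact (mul_mem_L_iff hK hv).2 hz
  have ht := key 1 h1
  rw [mul_one] at ht
  rw [adjoin_simple_le_iff]
  have h := mul_mem (inv_mem ht) (key x' hx'L)
  rwa [inv_mul_cancel_left₀ (div_ne_zero hv hu)] at h

/-- Uniqueness of the rational subfield of index two. -/
theorem hyper_unique (hg : 2 ≤ genus k K) {x x' : K}
    (hx : Module.finrank (adjoin k ({x} : Set K)) K = 2)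
    (hx' : Module.finrank (adjoin k ({x'} : Set K)) K = 2) :
    adjoin k ({x} : Set K) = adjoin k ({x'} : Set K) :=
  le_antisymm (hyper_subfield_le hK hg hx' hx) (hyper_subfield_le hK hg hx hx')

end Groth.Agent.FunFld
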