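import Groth.Agent.FunFld.Inertia

/-! Inertia in towers. -/

namespace Groth.Agent.FunFld

open _root_.FunFld WithZero IsLocalRing
open scoped Pointwise

attribute [-instance] instModuleResidueFieldOfAlgebra

variable {k K K' : Type*} [Field k] [Field K] [Field K'] [Algebra k K] [Algebra K K']
  [Algebra k K'] [IsScalarTower k K K'] [FiniteDimensional K K'] [IsGalois K K'] (hK : IsFunctionField k K)
include hK

/-- The inertia group of `Q` over an intermediate field, and its ramification index. -/
theorem inertia_intermediate (Q : Place k K') [Algebra.IsSeparable k (ResidueField Q.O)]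
    (E : IntermediateField K K') :
    ∃ (Q₁ : Place k E) (e₁ : ℕ), IsOverWith Q Q₁ e₁ ∧
      e₁ = Nat.card ↥((Q.O.inertiaSubgroup K).map (Q.O.decompositionSubgroup K).subtype ⊓ E.fixingSubgroup) := by
  classical
  haveI : IsScalarTower k E K' := IsScalarTower.of_algebraMap_eq fun c => by
    rw [IsScalarTower.algebraMap_apply k K K', IsScalarTower.algebraMap_apply k K E]; rfl
  set C := algebraicClosure k E
  haveI := finite_algebraicClosure (K := K) (K' := E) hK
  have hE := isFunctionField_algebraicClosure (K := K) (K' := E) hK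
  haveI : IsScalarTower C E K' := IsScalarTower.of_algebraMap_eq fun _ => rfl
  haveI : IsScalarTower k C K' := IsScalarTower.of_algebraMap_eq fun c => by
    rw [IsScalarTower.algebraMap_apply k E K', IsScalarTower.algebraMap_apply k C E]; rfl
  let Q' : Place C K' := ⟨Q.1, fun c => by
    haveI : IsScalarTower k Q.O K' := IsScalarTower.of_algebraMap_eq fun _ => rfl
    have h1 : IsIntegral Q.O (algebraMap C K' c) :=
      ((IsIntegral.of_finite k c).map (IsScalarTower.toAlgHom k C K')).tower_top
    obtain ⟨o, ho⟩ := IsIntegrallyClosed.isIntegral_iff.1 h1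
    exact ho ▸ o.2, Q.2.2⟩
  obtain ⟨P', e₁, he₁⟩ := exists_below (K := E) Q'
  let Q₁ : Place k E := ⟨P'.1, fun c => by
    rw [IsScalarTower.algebraMap_apply k C E]; exact P'.2.1 _, P'.2.2⟩
  refine ⟨Q₁, e₁, he₁, ?_⟩
  let R := ResidueField Q'.O
  letI iK : Algebra k R := Place.algRes Q
  haveI : IsScalarTower k C R := IsScalarTower.of_algebraMap_eq fun c => congrArg (residue Q'.O)
    (Subtype.ext (IsScalarTower.algebraMap_apply k C K' c))
  haveI : Algebra.IsSeparable k R := (inferInstance : Algebra.IsSeparable k (ResidueField Q.O))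
  haveI : Algebra.IsSeparable C R := Algebra.isSeparable_tower_top_of_isSeparable k C R
  rw [← card_inertia hE Q' P' e₁ he₁,
    Nat.card_congr (Subgroup.equivMapOfInjective (Q'.O.inertiaSubgroup E) (Q'.O.decompositionSubgroup E).subtype
      (Subgroup.subtype_injective _)).toEquiv]
  have hsm : ∀ τ : K' ≃ₐ[E] K', (τ.restrictScalars K • Q.O = Q.O ↔ τ • Q'.O = Q'.O) := fun τ => by
    have : ∀ x : K', (x ∈ (τ.restrictScalars K • Q.O : ValuationSubring K') ↔ x ∈ (τ • Q'.O : ValuationSubring K')) :=
      fun x => by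
        rw [ValuationSubring.mem_pointwise_smul_iff_inv_smul_mem, ValuationSubring.mem_pointwise_smul_iff_inv_smul_mem]
        exact Iff.rfl
    constructor
    · intro h; ext x; rw [← this x, h]
    · intro h; ext x; rw [this x, h]
  refine Nat.card_congr
    { toFun := fun τ => ⟨τ.1.restrictScalars K, ?_, ?_⟩
      invFun := fun σ => ⟨IntermediateField.fixingSubgroupEquiv E ⟨σ.1, σ.2.2⟩, ?_⟩
      left_inv := fun τ => Subtype.ext (AlgEquiv.ext fun x => rfl)
      right_inv := fun σ => Subtype.ext (AlgEquiv.ext fun x => rfl) }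
  · exact (mem_inertia_iff Q _).2 ⟨(hsm _).2 ((mem_inertia_iff Q' _).1 τ.2).1, ((mem_inertia_iff Q' _).1 τ.2).2⟩
  · exact fun x => τ.1.commutes x
  · have h := (mem_inertia_iff Q _).1 σ.2.1
    refine (mem_inertia_iff Q' _).2 ⟨(hsm _).1 ?_, h.2⟩
    exact h.1

omit hK in
theorem range_comap {F L : Type*} [Field F] [Field L] [Algebra F L] [Algebra k L] [Algebra k F] {Q : Place k L}
    {R : Place k F} {d : ℕ} (hd : IsOverWith Q R d) :
    Set.range (Q.1.comap (algebraMap F L)) = Set.range fun v : WithZero (Multiplicative ℤ) => v ^ d := by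
  ext w
  constructor
  · rintro ⟨x, rfl⟩; exact ⟨R.1 x, (hd x).symm⟩
  · rintro ⟨v, rfl⟩
    obtain ⟨x, rfl⟩ := R.2.2 v
    exact ⟨x, hd x⟩

theorem unramified_iff_le_inertiaField (Q : Place k K') [Algebra.IsSeparable k (ResidueField Q.O)]
    (E : IntermediateField K K') :
    Set.range (Q.1.comap (algebraMap E K')) = Set.range (Q.1.comap (algebraMap K K')) ↔
      E ≤ IntermediateField.fixedField ((Q.O.inertiaSubgroup K).map (Q.O.decompositionSubgroup K).subtype) := by
  classical
  set I := (Q.O.inertiaSubgroup K).map (Q.O.decompositionSubgroup K).subtype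
  obtain ⟨P, e, he⟩ := exists_below (K := K) Q
  obtain ⟨Q₁, e₁, he₁, hcard⟩ := inertia_intermediate hK Q E
  have hI : Nat.card I = e := by
    rw [← card_inertia hK Q P e he]
    exact (Nat.card_congr (Subgroup.equivMapOfInjective _ _ (Subgroup.subtype_injective _)).toEquiv).symm
  rw [range_comap he₁, range_comap he]
  have hdd : ∀ a b : ℕ, Set.range (fun v : WithZero (Multiplicative ℤ) => v ^ a) ⊆ Set.range (fun v => v ^ b) →
      0 < b → b ∣ a := fun a b h hb => by
    obtain ⟨v, hv⟩ := h ⟨exp 1, rfl⟩
    have hv0 : v ≠ 0 := fun e => by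
      simp only [e, zero_pow hb.ne', ← exp_nsmul] at hv
      exact exp_ne_zero hv.symm
    obtain ⟨j, rfl⟩ : ∃ j, exp j = v := ⟨_, exp_log hv0⟩
    simp only [← exp_nsmul, exp_inj, nsmul_eq_mul, mul_one] at hv
    exact Int.natCast_dvd_natCast.1 ⟨j, hv.symm⟩
  have hpos := IsOverWith.pos he
  have hpos₁ := IsOverWith.pos he₁
  rw [IntermediateField.le_iff_le]
  constructor
  · intro h
    have he' : e₁ = e := Nat.dvd_antisymm (hdd _ _ h.symm.subset hpos₁) (hdd _ _ h.subset hpos)
    have hsub : I ⊓ E.fixingSubgroup = I :=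
      Subgroup.eq_of_le_of_card_ge inf_le_left (by rw [hI, ← hcard, he'])
    exact inf_eq_left.1 hsub
  · intro h
    have : e₁ = e := by rw [hcard, inf_eq_left.2 h, hI]
    rw [this]

theorem totally_ramified_inertiaField (Q : Place k K') [Algebra.IsSeparable k (ResidueField Q.O)] :
    ∃ Q₁ : Place k
        (IntermediateField.fixedField ((Q.O.inertiaSubgroup K).map (Q.O.decompositionSubgroup K).subtype)),
      IsOverWith Q Q₁ (Module.finrank
        (IntermediateField.fixedField ((Q.O.inertiaSubgroup K).map (Q.O.decompositionSubgroup K).subtype)) K') := by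
  set I := (Q.O.inertiaSubgroup K).map (Q.O.decompositionSubgroup K).subtype
  obtain ⟨Q₁, e₁, he₁, hcard⟩ := inertia_intermediate hK Q (IntermediateField.fixedField I)
  rw [IntermediateField.fixingSubgroup_fixedField, inf_idem] at hcard
  refine ⟨Q₁, ?_⟩
  rw [IntermediateField.finrank_fixedField_eq_card, ← hcard]
  exact he₁

end Groth.Agent.FunFld
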