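import Groth.Agent.FunFld.CurveCrit
import Mathlib.RingTheory.Ideal.GoingUp
import Mathlib.RingTheory.Polynomial.Basic

/-! The genus of a plane model attains the bound exactly when the model is nonsingular. -/

namespace Groth.Agent.FunFld

open _root_.FunFld WithZero IsLocalRing Finset
open Polynomial (aeval C X)

variable {k K : Type*} [Field k] [IsAlgClosed k] [Field K] [Algebra k K] (hK : IsFunctionField k K)

section

include hK

theorem exists_mem_L_nsmul {t : K} (ht : Transcendental k t) {z : K}
    (hz : ∀ P : Place k K, P.1 t ≤ 1 → P.1 z ≤ 1) : ∃ m : ℕ, z ∈ L (m • poles k t) := by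
  classical
  have hfin := finite_support hK z
  refine ⟨∑ Q ∈ hfin.toFinset, (Q.ord z).natAbs, fun R => ?_⟩
  rw [nsmul_poles_apply hK]
  rcases le_or_gt (R.1 z) 1 with h | h
  · refine h.trans ?_
    rw [← exp_zero, exp_le_exp]; positivity
  have hz0 : z ≠ 0 := fun e => by simp [e] at h
  have h' := h
  rw [val_eq_exp R hz0, ← exp_zero, exp_lt_exp] at h'
  have hR : R ∈ hfin.toFinset := hfin.mem_toFinset.2 (by show R.ord z ≠ 0; omega)
  have h2 : 1 < R.1 t := not_le.1 fun hle => absurd (hz R hle) (not_le.2 h)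
  rw [val_eq_exp R (x := t) (fun e => ht (e ▸ isAlgebraic_zero)), ← exp_zero, exp_lt_exp] at h2
  have h3 := Finset.single_le_sum (f := fun Q : Place k K => (Q.ord z).natAbs)
    (fun _ _ => Nat.zero_le _) hR
  rw [val_eq_exp R hz0, exp_le_exp]
  have := mul_le_mul_of_nonneg_left (show (1 : ℤ) ≤ max (-R.ord t) 0 by omega)
    (Int.natCast_nonneg (∑ Q ∈ hfin.toFinset, (Q.ord z).natAbs))
  omega

theorem val_le_one_of_mem_L {t : K} (ht : Transcendental k t) {m : ℕ} {z : K}
    (hz : z ∈ L (m • poles k t)) {P : Place k K} (hP : P.1 t ≤ 1) : P.1 z ≤ 1 := by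
  refine (hz P).trans_eq ?_
  have := (ord_nonneg_iff P (x := t) fun e => ht (e ▸ isAlgebraic_zero)).2 hP
  rw [nsmul_poles_apply hK, max_eq_right (by omega), mul_zero, exp_zero]

theorem exists_denominator_divisor {E : Divisor k K} (hE : 0 ≤ E) (hd : 1 ≤ E.deg) (P : Place k K)
    {z : K} (hz : P.1 z ≤ 1) (n₀ : ℕ) :
    ∃ (n : ℕ) (s : K), n₀ ≤ n ∧ s ∈ L (n • E) ∧ P.1 s = exp (n * E P) ∧ z * s ∈ L (n • E) := by
  classical
  set D := poles k z with hD
  have hD0 : (0 : Divisor k K) ≤ D := le_sup_right
  have hDP : D P = 0 := by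
    rw [hD, poles_apply hK]
    rcases eq_or_ne z 0 with rfl | hz0
    · simp [ord_zero]
    have := (ord_nonneg_iff P hz0).2 hz
    omega
  set n : ℕ := 2 * genus k K + 1 + D.deg.toNat + n₀ with hn
  set D' : Divisor k K := n • E - D with hD'
  have hdeg : 2 * (genus k K : ℤ) ≤ D'.deg := by
    rw [hD', deg_sub, deg_nsmul]
    have h0 := deg_nonneg hD0
    have : ((n : ℤ)) ≤ n * E.deg := le_mul_of_one_le_right (by positivity) hd
    omega
  have h1 := ell_eq_of_deg_ge hK (D := D') (by omega)
  have h2 := ell_eq_of_deg_ge hK (D := D' - Finsupp.single P 1)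
    (by rw [deg_sub, deg_single, deg_eq_one hK P]; push_cast; omega)
  rw [deg_sub, deg_single, deg_eq_one hK P] at h2
  obtain ⟨s, hs, hs'⟩ : ∃ s ∈ L D', s ∉ L (D' - Finsupp.single P 1) := by
    by_contra hcon
    push Not at hcon
    have : L D' = L (D' - Finsupp.single P 1) :=
      le_antisymm hcon (L_mono (sub_le_self _ (Finsupp.single_nonneg.2 zero_le_one)))
    have : ell D' = ell (D' - Finsupp.single P 1) := by rw [ell, ell, this]
    omega
  have hD'P : D' P = n * E P := by rw [hD', Finsupp.sub_apply, Finsupp.smul_apply, hDP]; simp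
  have hsP : P.1 s = exp (n * E P) := by
    refine val_eq_of_not_le ((hs P).trans_eq (by rw [hD'P])) fun hle => hs' fun R => ?_
    rcases eq_or_ne R P with rfl | hR
    · rw [Finsupp.sub_apply, hD'P, Finsupp.single_eq_same]
      exact hle
    · rw [Finsupp.sub_apply, Finsupp.single_eq_of_ne hR, sub_zero]
      exact hs R
  refine ⟨n, s, Nat.le_add_left _ _, L_mono (sub_le_self _ hD0) hs, hsP, fun R => ?_⟩
  rcases eq_or_ne z 0 with rfl | hz0
  · simp
  rw [map_mul, val_eq_exp R hz0]
  refine (mul_le_mul' le_rfl (hs R)).trans ?_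
  rw [← exp_add, exp_le_exp, hD', Finsupp.sub_apply, hD, poles_apply hK]
  have := le_max_left (-R.ord z) 0
  omega

/-- If every element integral at an affine place is locally a quotient of polynomials in `r`, then
the coordinate ring `k[r]` contains every function with poles only among those of `t`. -/
theorem L_le_adjoin_of_local {ι : Type*} (r : ι → K) {t : K} (ht : Transcendental k t)
    (htR : t ∈ Algebra.adjoin k (Set.range r))
    (hrB : ∀ i (P : Place k K), P.1 t ≤ 1 → P.1 (r i) ≤ 1)
    (hloc : ∀ (P : Place k K) (z : K), P.1 t ≤ 1 → P.1 z ≤ 1 → z ∈ locRing r P)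
    {m : ℕ} {z : K} (hz : z ∈ L (m • poles k t)) : z ∈ Algebra.adjoin k (Set.range r) := by
  classical
  set R := Algebra.adjoin k (Set.range r) with hR
  have hRval : ∀ w ∈ R, ∀ P : Place k K, P.1 t ≤ 1 → P.1 w ≤ 1 := fun w hw P hP =>
    adjoin_le_valAlg (fun i => hrB i P hP) hw
  by_contra hzR
  let I : Ideal R :=
    { carrier := {w | (w : K) * z ∈ R}
      add_mem' := fun {a b} ha hb => by
        show ((a : K) + b) * z ∈ R
        rw [add_mul]; exact add_mem ha hb
      zero_mem' := by show ((0 : R) : K) * z ∈ R; simp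
      smul_mem' := fun a {b} hb => by
        show ((a : K) * b) * z ∈ R
        rw [mul_assoc]; exact mul_mem a.2 hb }
  have hI : I ≠ ⊤ := fun e => hzR (by
    have h : (((1 : R) : K)) * z ∈ R := (e.symm ▸ Submodule.mem_top : (1 : R) ∈ I)
    simpa using h)
  obtain ⟨M, hM, hIM⟩ := I.exists_le_maximal hI
  let B : Subalgebra R K :=
    { carrier := {w | ∀ P : Place k K, P.1 t ≤ 1 → P.1 w ≤ 1}
      mul_mem' := fun {a b} ha hb P hP => by rw [map_mul]; exact mul_le_one' (ha P hP) (hb P hP)
      add_mem' := fun {a b} ha hb P hP => (P.1.map_add a b).trans (max_le (ha P hP) (hb P hP))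
      algebraMap_mem' := fun a P hP => hRval a a.2 P hP }
  have : Algebra.IsIntegral R B := ⟨fun b => by
    obtain ⟨n, hn⟩ := exists_mem_L_nsmul hK ht b.2
    exact (isIntegral_algHom_iff B.val Subtype.val_injective).1 (isIntegral_of_mem_L hK htR ht hn)⟩
  have hker : RingHom.ker (algebraMap R B) ≤ M := fun a ha => by
    rw [show a = 0 from Subtype.ext (congrArg (fun w : B => (w : K)) (RingHom.mem_ker.1 ha))]
    exact zero_mem _
  obtain ⟨Q, hQ, hQM⟩ := Ideal.exists_ideal_over_maximal_of_isIntegral M hker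
  -- the value of `t` at `M`
  obtain ⟨N, hN⟩ := L_le_of_stable hK ht
  have hLB : ∀ n : ℕ, ∀ w ∈ L (n • poles k t), w ∈ B := fun n w hw P hP =>
    val_le_one_of_mem_L hK ht hw hP
  let LN : Submodule k B := (L (N • poles k t)).comap (B.val.restrictScalars k).toLinearMap
  let tB : B := ⟨t, fun P hP => hP⟩
  let μ : B →ₗ[k] B := LinearMap.mulLeft k tB
  -- `k[t] → B / Q` is not injective
  obtain ⟨a, ha⟩ : ∃ a : k, tB - algebraMap k B a ∈ Q := by
    have := L_finite hK (N • poles k t)
    have hLN : FiniteDimensional k LN := by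
      refine FiniteDimensional.of_injective (V₂ := L (N • poles k t))
        (((B.val.restrictScalars k).toLinearMap.comp LN.subtype).codRestrict _ fun w => w.2) ?_
      exact fun w w' e => Subtype.ext (Subtype.ext (congrArg (fun v : L (N • poles k t) => (v : K)) e))
    by_contra hcon
    push Not at hcon
    let _ := Ideal.Quotient.field Q
    let π : B →ₐ[k] B ⧸ Q := Ideal.Quotient.mkₐ k Q
    by_cases halg : IsAlgebraic k (π tB)
    · obtain ⟨a, ha⟩ := minpoly.mem_range_of_degree_eq_one k (π tB)
        (IsAlgClosed.degree_eq_one_of_irreducible k (minpoly.irreducible halg.isIntegral))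
      refine hcon a ?_
      rw [← Ideal.Quotient.eq_zero_iff_mem, ← Ideal.Quotient.mkₐ_eq_mk k, map_sub, AlgHom.commutes]
      exact sub_eq_zero.2 ha.symm
    -- otherwise the field `B / Q` would be finite over `k[t]`
    let T : Subalgebra k (B ⧸ Q) := Algebra.adjoin k {π tB}
    let W : Submodule T (B ⧸ Q) := Submodule.span T (π '' (LN : Set B))
    have hW : ∀ w : B, π w ∈ W := by
      let S : Submodule k K := ((W.restrictScalars k).comap π.toLinearMap).map (B.val.restrictScalars k).toLinearMap
      intro w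
      obtain ⟨n, hn⟩ := exists_mem_L_nsmul hK ht w.2
      have hS : L (n • poles k t) ≤ S := by
        refine hN S (fun v hv => ⟨⟨v, hLB N v hv⟩, Submodule.subset_span ⟨⟨v, hLB N v hv⟩, hv, rfl⟩, rfl⟩) ?_ n
        rintro _ ⟨v, hv, rfl⟩
        refine ⟨tB * v, ?_, rfl⟩
        show π (tB * v) ∈ W
        rw [map_mul]
        exact W.smul_mem ⟨π tB, Algebra.subset_adjoin (Set.mem_singleton _)⟩ hv
      obtain ⟨v, hv, e⟩ := hS hn
      rw [show v = w from Subtype.ext e] at hv
      exact hv
    have hWtop : W = ⊤ := eq_top_iff.2 fun w _ => by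
      obtain ⟨v, rfl⟩ := Ideal.Quotient.mk_surjective w
      exact hW v
    have hfg : W.FG := by
      obtain ⟨F, hF⟩ := (Submodule.fg_iff_finiteDimensional LN).2 hLN
      classical
      refine ⟨F.image π, ?_⟩
      rw [Finset.coe_image]
      refine le_antisymm (Submodule.span_mono (Set.image_mono (hF ▸ Submodule.subset_span))) ?_
      rw [Submodule.span_le]
      rintro _ ⟨v, hv, rfl⟩
      have hv' : v ∈ Submodule.span k (F : Set B) := hF.symm ▸ hv
      have h1 : π v ∈ (Submodule.span k (F : Set B)).map π.toLinearMap := ⟨v, hv', rfl⟩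
      rw [Submodule.map_span] at h1
      exact Submodule.span_le_restrictScalars k T _ h1
    have : Module.Finite T (B ⧸ Q) := ⟨hWtop ▸ hfg⟩
    have hint : IsIntegral T (π tB)⁻¹ := Algebra.IsIntegral.isIntegral _
    have ht0 : π tB ≠ 0 := fun e => halg (e ▸ isAlgebraic_zero)
    have h1 : (π tB)⁻¹ ∈ (⊥ : Subalgebra T (B ⧸ Q)) :=
      inv_mem_adjoin_of_isIntegral (K := B ⧸ Q) ht0 hint
        (M := (⊥ : Subalgebra T (B ⧸ Q))) (Algebra.mem_bot.2 ⟨⟨π tB, Algebra.subset_adjoin (Set.mem_singleton _)⟩, rfl⟩)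
    obtain ⟨⟨u, hu⟩, hu'⟩ := Algebra.mem_bot.1 h1
    change u = (π tB)⁻¹ at hu'
    rw [show T = (Polynomial.aeval (R := k) (π tB)).range from Algebra.adjoin_singleton_eq_range_aeval k _] at hu
    obtain ⟨p, rfl⟩ := hu
    refine halg ⟨p * X - 1, fun e => ?_, ?_⟩
    · have := congrArg (fun q => Polynomial.coeff q 0) e
      simp at this
    · have hu'' : aeval (π tB) p = (π tB)⁻¹ := hu'
      rw [map_sub, map_mul, Polynomial.aeval_X, hu'', inv_mul_cancel₀ ht0, map_one, sub_self]
  set τ : B := tB - algebraMap k B a with hτ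
  have hτK : (τ : K) = t - algebraMap k K a := rfl
  have hτtr : Transcendental k (τ : K) := fun h => ht (by
    have := h.add (isAlgebraic_algebraMap a)
    rwa [hτK, sub_add_cancel] at this)
  have hτ0 : (τ : K) ≠ 0 := fun e => hτtr (e ▸ isAlgebraic_zero)
  have hPt : ∀ P : Place k K, P.1 (τ : K) ≤ 1 → P.1 t ≤ 1 := fun P hP => by
    rw [← sub_add_cancel t (algebraMap k K a)]
    exact (P.1.map_add _ _).trans (max_le hP (P.2.1 a))
  set Z := (finite_zeros hK (τ : K)).toFinset with hZ
  have hZmem : ∀ P, P ∈ Z ↔ P.1 (τ : K) < 1 := fun P => by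
    rw [hZ, Set.Finite.mem_toFinset, Set.mem_setOf_eq, ord_pos_iff P hτ0]
  have hBval : ∀ P ∈ Z, ∀ w : B, P.1 (w : K) ≤ 1 := fun P hP w => w.2 P (hPt P ((hZmem P).1 hP).le)
  let cen : Place k K → Ideal B := fun P =>
    if h : P ∈ Z then
      { carrier := {w | P.1 (w : K) < 1}
        add_mem' := fun {a b} ha hb => (P.1.map_add _ _).trans_lt (max_lt ha hb)
        zero_mem' := by simp
        smul_mem' := fun a {b} hb => by
          show P.1 ((a : K) * b) < 1
          rw [map_mul]; exact lt_of_le_of_lt (mul_le_of_le_one_left' (hBval P h a)) hb }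
    else ⊥
  have hcen : ∀ P ∈ Z, ∀ w : B, w ∈ cen P ↔ P.1 (w : K) < 1 := fun P hP w => by
    simp only [cen, dif_pos hP]; exact Iff.rfl
  have hprime : ∀ P ∈ Z, (cen P).IsPrime := fun P hP => by
    refine ⟨fun e => ?_, fun {u v} huv => ?_⟩
    · have := (hcen P hP 1).1 (e.symm ▸ Submodule.mem_top)
      simp at this
    · rw [hcen P hP, hcen P hP]
      rw [hcen P hP] at huv
      by_contra hcon
      push Not at hcon
      have h1 : P.1 ((u * v : B) : K) = 1 := by
        show P.1 ((u : K) * v) = 1
        rw [map_mul, le_antisymm (hBval P hP u) hcon.1, le_antisymm (hBval P hP v) hcon.2, mul_one]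
      exact absurd h1 huv.ne
  obtain ⟨P, hPZ, hQP⟩ : ∃ P ∈ Z, Q ≤ cen P := by
    by_contra hcon
    obtain ⟨b, hbQ, hb⟩ : ∃ b ∈ Q, ∀ P ∈ Z, P.1 ((b : B) : K) = 1 := by
      by_contra hnone
      push Not at hnone
      rcases Z.eq_empty_or_nonempty with h | ⟨P₀, hP₀⟩
      · obtain ⟨P, hP, -⟩ := hnone 0 Q.zero_mem
        rw [h] at hP
        simp at hP
      have hsub : (Q : Set B) ⊆ ⋃ P ∈ (Z : Set (Place k K)), (cen P : Set B) := fun b hb => by
        obtain ⟨P, hP, h⟩ := hnone b hb
        exact Set.mem_iUnion₂.2 ⟨P, hP, (hcen P hP b).2 ((hBval P hP b).lt_of_ne h)⟩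
      exact hcon ((Ideal.subset_union_prime_finite Z.finite_toSet (f := cen) P₀ P₀
        fun P hP _ _ => hprime P hP).1 hsub)
    -- multiplication by `b` is onto modulo `τ`
    let J : Submodule k B := (Ideal.span {τ}).restrictScalars k
    have hfin : FiniteDimensional k (B ⧸ J) := by
      have := L_finite hK (N • poles k t)
      have hgen : ∀ w : B, ∃ v ∈ L (N • poles k t), ∃ u : B, (w : K) = v + (τ : K) * u := by
        intro w
        obtain ⟨n, hn⟩ := exists_mem_L_nsmul hK ht w.2
        let S : Submodule k K :=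
          L (N • poles k t) ⊔ (LinearMap.range ((LinearMap.mulLeft k (τ : K)).comp (B.val.restrictScalars k).toLinearMap))
        have hS : L (n • poles k t) ≤ S := by
          refine hN S le_sup_left (fun v hv => ?_) n
          obtain ⟨v₁, hv₁, _, ⟨u, rfl⟩, rfl⟩ := Submodule.mem_sup.1 hv
          have e : t * (v₁ + (τ : K) * (u : K)) =
              a • v₁ + (τ : K) * ((⟨v₁, hLB N v₁ hv₁⟩ + tB * u : B) : K) := by
            show t * (v₁ + (t - algebraMap k K a) * u) = a • v₁ + (t - algebraMap k K a) * (v₁ + t * u)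
            rw [Algebra.smul_def]; ring
          show t * (v₁ + (τ : K) * (u : K)) ∈ S
          rw [e]
          exact Submodule.add_mem_sup (Submodule.smul_mem _ _ hv₁) ⟨⟨v₁, hLB N v₁ hv₁⟩ + tB * u, rfl⟩
        obtain ⟨v, hv, _, ⟨u, rfl⟩, e⟩ := Submodule.mem_sup.1 (hS hn)
        exact ⟨v, hv, u, e.symm⟩
      refine Module.Finite.of_surjective
        (J.mkQ.comp ((L (N • poles k t)).subtype.codRestrict
          ((B.restrictScalars k).toSubmodule) fun v => hLB N v v.2)) fun w => ?_
      obtain ⟨w, rfl⟩ := J.mkQ_surjective w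
      obtain ⟨v, hv, u, e⟩ := hgen w
      refine ⟨⟨v, hv⟩, (Submodule.Quotient.eq J).2 ?_⟩
      show (⟨v, hLB N v hv⟩ : B) - w ∈ Ideal.span {τ}
      exact Ideal.mem_span_singleton'.2 ⟨-u, Subtype.ext (by
        show -(u : K) * (τ : K) = v - (w : K)
        rw [e]; ring)⟩
    have hJ : J ≤ J.comap (LinearMap.mulLeft k b) := fun w hw => Ideal.mul_mem_left _ b hw
    have hsurj : Function.Surjective (J.mapQ J (LinearMap.mulLeft k b) hJ) := by
      refine (LinearMap.injective_iff_surjective (K := k)).1 ?_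
      rw [← LinearMap.ker_eq_bot, eq_bot_iff]
      intro w hw
      obtain ⟨w, rfl⟩ := J.mkQ_surjective w
      rw [LinearMap.mem_ker, Submodule.mkQ_apply, Submodule.mapQ_apply, Submodule.Quotient.mk_eq_zero] at hw
      rw [Submodule.mem_bot, Submodule.mkQ_apply, Submodule.Quotient.mk_eq_zero]
      obtain ⟨u, hu⟩ := Ideal.mem_span_singleton'.1 hw
      refine Ideal.mem_span_singleton'.2 ⟨⟨(w : K) / τ, fun P hP => ?_⟩, Subtype.ext (div_mul_cancel₀ _ hτ0)⟩
      rw [map_div₀]
      rcases le_or_gt 1 (P.1 (τ : K)) with h | h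
      · exact div_le_one_of_le₀ ((w.2 P hP).trans h) zero_le
      · have h1 := hb P ((hZmem P).2 h)
        have h2 : P.1 (u : K) * P.1 (τ : K) = P.1 (b : K) * P.1 (w : K) := by
          rw [← map_mul, ← map_mul]; exact congrArg (fun v : B => P.1 (v : K)) hu
        rw [h1, one_mul] at h2
        rw [← h2, mul_div_assoc, div_self (P.1.ne_zero_iff.2 hτ0), mul_one]
        exact u.2 P hP
    obtain ⟨w, hw⟩ := hsurj (J.mkQ 1)
    obtain ⟨w, rfl⟩ := J.mkQ_surjective w
    rw [Submodule.mkQ_apply, Submodule.mapQ_apply, Submodule.mkQ_apply, Submodule.Quotient.eq] at hw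
    refine hQ.ne_top (Q.eq_top_iff_one.2 ?_)
    have h3 : b * w - 1 ∈ Q := by
      obtain ⟨u, hu⟩ := Ideal.mem_span_singleton'.1 (show b * w - 1 ∈ Ideal.span {τ} from hw)
      rw [← hu]
      exact Q.mul_mem_left u ha
    have := Q.sub_mem (Q.mul_mem_right w hbQ) h3
    rwa [sub_sub_cancel] at this
  -- an element of `I` not vanishing at `P`
  have hP := hPt P ((hZmem P).1 hPZ).le
  obtain ⟨u, hu, w, hw, hw1, e⟩ := hloc P z hP (val_le_one_of_mem_L hK ht hz hP)
  have hwI : (⟨w, hw⟩ : R) ∈ I := by
    show w * z ∈ R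
    rw [mul_comm, e]; exact hu
  have h4 : algebraMap R B ⟨w, hw⟩ ∈ cen P := hQP (by rw [← Ideal.mem_comap, hQM]; exact hIM hwI)
  exact absurd hw1 ((hcen P hPZ _).1 h4).ne

end

/-! ### The span of the monomials of bounded degree -/

/-- Span of `a ^ i * b ^ j`, `j < d`, `i + j ≤ m`. -/
def planeSpan (k : Type*) {K : Type*} [Field k] [Field K] [Algebra k K] (a b : K) (d m : ℕ) : Submodule k K :=
  Submodule.span k {w | ∃ i j : ℕ, j < d ∧ i + j ≤ m ∧ w = a ^ i * b ^ j}

section span

variable {a b : K} {d : ℕ}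

omit [IsAlgClosed k]

theorem mon_mem {i j m : ℕ} (hj : j < d) (h : i + j ≤ m) : a ^ i * b ^ j ∈ planeSpan k a b d m :=
  Submodule.subset_span ⟨i, j, hj, h, rfl⟩

theorem planeSpan_mono {m m' : ℕ} (h : m ≤ m') : planeSpan k a b d m ≤ planeSpan k a b d m' :=
  Submodule.span_mono fun _ ⟨i, j, hj, hm, e⟩ => ⟨i, j, hj, hm.trans h, e⟩

theorem fst_mul_mem {m : ℕ} {w : K} (hw : w ∈ planeSpan k a b d m) : a * w ∈ planeSpan k a b d (m + 1) := by
  induction hw using Submodule.span_induction with
  | mem x hx =>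
    obtain ⟨i, j, hj, hm, rfl⟩ := hx
    rw [← mul_assoc, ← pow_succ']
    exact mon_mem hj (by omega)
  | zero => rw [mul_zero]; exact zero_mem _
  | add u v _ _ hu hv => rw [mul_add]; exact add_mem hu hv
  | smul c u _ hu => rw [mul_smul_comm]; exact Submodule.smul_mem _ c hu

theorem fst_pow_mul_mem {m : ℕ} {w : K} (hw : w ∈ planeSpan k a b d m) (i : ℕ) :
    a ^ i * w ∈ planeSpan k a b d (m + i) := by
  induction i with
  | zero => simpa using hw
  | succ i ih => rw [pow_succ', mul_assoc, ← add_assoc]; exact fst_mul_mem ih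

variable (hbd : b ^ d ∈ planeSpan k a b d d)
include hbd

theorem snd_mul_mem {m : ℕ} {w : K} (hw : w ∈ planeSpan k a b d m) : b * w ∈ planeSpan k a b d (m + 1) := by
  induction hw using Submodule.span_induction with
  | mem x hx =>
    obtain ⟨i, j, hj, hm, rfl⟩ := hx
    rw [mul_left_comm, ← pow_succ']
    rcases Nat.lt_or_ge (j + 1) d with h | h
    · exact mon_mem h (by omega)
    · rw [show j + 1 = d by omega]
      exact planeSpan_mono (by omega) (fst_pow_mul_mem hbd i)
  | zero => rw [mul_zero]; exact zero_mem _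
  | add u v _ _ hu hv => rw [mul_add]; exact add_mem hu hv
  | smul c u _ hu => rw [mul_smul_comm]; exact Submodule.smul_mem _ c hu

theorem mul_mem_planeSpan {m n : ℕ} {u w : K} (hu : u ∈ planeSpan k a b d m) (hw : w ∈ planeSpan k a b d n) :
    u * w ∈ planeSpan k a b d (m + n) := by
  induction hu using Submodule.span_induction with
  | mem x hx =>
    obtain ⟨i, j, hj, hm, rfl⟩ := hx
    have : ∀ l : ℕ, b ^ l * w ∈ planeSpan k a b d (n + l) := by
      intro l
      induction l with
      | zero => simpa using hw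
      | succ l ih => rw [pow_succ', mul_assoc, ← add_assoc]; exact snd_mul_mem hbd ih
    rw [mul_assoc]
    exact planeSpan_mono (by omega) (fst_pow_mul_mem (this j) i)
  | zero => rw [zero_mul]; exact zero_mem _
  | add u v _ _ hu hv => rw [add_mul]; exact add_mem hu hv
  | smul c u _ hu => rw [smul_mul_assoc]; exact Submodule.smul_mem _ c hu

end span

omit [IsAlgClosed k] in
theorem mem_planeSpan_iff {a b : K} {d m : ℕ} {w : K} :
    w ∈ planeSpan k a b d m ↔ ∃ g : Fin d → Polynomial k,
      (∀ j : Fin d, g j ∈ Polynomial.degreeLT k (m + 1 - (j : ℕ))) ∧ w = ∑ j, aeval a (g j) * b ^ (j : ℕ) := by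
  classical
  constructor
  · intro hw
    induction hw using Submodule.span_induction with
    | mem x hx =>
      obtain ⟨i, j, hj, hm, rfl⟩ := hx
      refine ⟨Pi.single ⟨j, hj⟩ (X ^ i), fun l => ?_, ?_⟩
      · rcases eq_or_ne l ⟨j, hj⟩ with rfl | hl
        · rw [Pi.single_eq_same, Polynomial.mem_degreeLT, Polynomial.degree_X_pow]
          exact_mod_cast (show i < m + 1 - j by omega)
        · rw [Pi.single_eq_of_ne hl]; exact zero_mem _
      · rw [Finset.sum_eq_single ⟨j, hj⟩ (fun l _ hl => by rw [Pi.single_eq_of_ne hl, map_zero, zero_mul]) (by simp),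
          Pi.single_eq_same, map_pow, Polynomial.aeval_X]
    | zero => exact ⟨0, fun _ => zero_mem _, by simp⟩
    | add u v _ _ hu hv =>
      obtain ⟨g, hg, rfl⟩ := hu
      obtain ⟨g', hg', rfl⟩ := hv
      exact ⟨g + g', fun j => add_mem (hg j) (hg' j),
        by simp only [Pi.add_apply, map_add, add_mul, Finset.sum_add_distrib]⟩
    | smul c u _ hu =>
      obtain ⟨g, hg, rfl⟩ := hu
      exact ⟨c • g, fun j => Submodule.smul_mem _ c (hg j),
        by simp only [Pi.smul_apply, map_smul, smul_mul_assoc, Finset.smul_sum]⟩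
  · rintro ⟨g, hg, rfl⟩
    refine Submodule.sum_mem _ fun j _ => ?_
    rw [Polynomial.aeval_eq_sum_range, Finset.sum_mul]
    refine Submodule.sum_mem _ fun i hi => ?_
    rcases eq_or_ne (g j) 0 with h | h
    · simp [h]
    have h1 := Polynomial.mem_degreeLT.1 (hg j)
    rw [Polynomial.degree_eq_natDegree h] at h1
    have h2 : (g j).natDegree < m + 1 - (j : ℕ) := by exact_mod_cast h1
    have hi' := Finset.mem_range.1 hi
    rw [smul_mul_assoc]
    exact Submodule.smul_mem _ _ (mon_mem j.2 (by omega))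

/-! ### Plane models -/

variable {x y : K} (hxy : IntermediateField.adjoin k ({x, y} : Set K) = ⊤)
include hK hxy

theorem genus_eq_iff_nonsingular : 2 * (genus k K : ℤ) =
      ((mapDiv k ![(1 : K), x, y]).deg - 1) * ((mapDiv k ![(1 : K), x, y]).deg - 2) ↔
    ∀ P : Place k K, IsNonsingularAt ![(1 : K), x, y] P := by
  classical
  obtain ⟨f, hf, hfxy⟩ := exists_relation hK hxy
  obtain ⟨c, x', hc, hx', htr, hE, hfr, hli⟩ := plane_data hK hxy f hf hfxy
  rw [deg_plane hK hxy f hf hfxy]
  set d := f.totalDegree with hddef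
  haveI := finite_adjoin hK htr
  have hd : 0 < d := hfr ▸ Module.finrank_pos
  set φ : Fin 3 → K := ![(1 : K), x, y] with hφ
  have hdegE : (poles k x').deg = d := by rw [deg_poles hK htr, hfr]
  have hx : x = x' + algebraMap k K c * y := by rw [hx']; ring
  -- `y ^ d` reduces
  have hT : ∀ p q : ℕ, x ^ p * y ^ q - c ^ p • y ^ (p + q) ∈
      Submodule.span k {w | ∃ i j : ℕ, 1 ≤ i ∧ i + j ≤ p + q ∧ w = x' ^ i * y ^ j} := by
    intro p q
    induction p with
    | zero => simp
    | succ p ih =>
      set T := fun e : ℕ => Submodule.span k {w | ∃ i j : ℕ, 1 ≤ i ∧ i + j ≤ e ∧ w = x' ^ i * y ^ j}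
      have hmulx : ∀ w ∈ T (p + q), x' * w ∈ T (p + 1 + q) ∧ y * w ∈ T (p + 1 + q) := by
        intro w hw
        induction hw using Submodule.span_induction with
        | mem w hw =>
          obtain ⟨i, j, hi, hij, rfl⟩ := hw
          exact ⟨Submodule.subset_span ⟨i + 1, j, by omega, by omega, by rw [pow_succ]; ring⟩,
            Submodule.subset_span ⟨i, j + 1, hi, by omega, by rw [pow_succ]; ring⟩⟩
        | zero => simp
        | add u v _ _ hu hv => rw [mul_add, mul_add]; exact ⟨add_mem hu.1 hv.1, add_mem hu.2 hv.2⟩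
        | smul e u _ hu =>
          rw [mul_smul_comm, mul_smul_comm]
          exact ⟨Submodule.smul_mem _ e hu.1, Submodule.smul_mem _ e hu.2⟩
      have e : x ^ (p + 1) * y ^ q - c ^ (p + 1) • y ^ (p + 1 + q) =
          x' * (x ^ p * y ^ q - c ^ p • y ^ (p + q)) + c • (y * (x ^ p * y ^ q - c ^ p • y ^ (p + q))) +
            c ^ p • (x' ^ 1 * y ^ (p + q)) := by
        simp only [Algebra.smul_def, map_pow, hx]
        ring
      rw [e]
      exact add_mem (add_mem (hmulx _ ih).1 (Submodule.smul_mem _ c (hmulx _ ih).2))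
        (Submodule.smul_mem _ _ (Submodule.subset_span ⟨1, p + q, le_rfl, by omega, rfl⟩))
  have hbd : y ^ d ∈ planeSpan k x' y d d := by
    have hmon : ∀ m ∈ f.support, f.coeff m • (x ^ m 0 * y ^ m 1) -
        (if m.degree = d then f.coeff m * c ^ m 0 else 0) • y ^ d ∈ planeSpan k x' y d d := by
      intro m hm
      have hmd : m 0 + m 1 ≤ d := by
        have h := MvPolynomial.le_totalDegree hm
        rwa [Finsupp.sum_fintype _ _ (fun _ => rfl), Fin.sum_univ_two] at h
      have h1 : x ^ m 0 * y ^ m 1 - c ^ m 0 • y ^ (m 0 + m 1) ∈ planeSpan k x' y d d := by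
        refine Submodule.span_le.2 ?_ (hT (m 0) (m 1))
        rintro _ ⟨i, j, hi, hij, rfl⟩
        exact mon_mem (by omega) (by omega)
      have h2 := Submodule.smul_mem _ (f.coeff m) h1
      rw [smul_sub, smul_smul] at h2
      split_ifs with h
      · rw [sum_fin_two] at h
        rwa [h] at h2
      · rw [zero_smul, sub_zero]
        rw [sum_fin_two] at h
        have h3 : y ^ (m 0 + m 1) ∈ planeSpan k x' y d d := by
          rw [← one_mul (y ^ (m 0 + m 1)), ← pow_zero x']
          exact mon_mem (by omega) (by omega)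
        have h4 := add_mem h2 (Submodule.smul_mem _ (f.coeff m * c ^ m 0) h3)
        rwa [sub_add_cancel] at h4
    have h := Submodule.sum_mem _ hmon
    rw [Finset.sum_sub_distrib, ← Finset.sum_smul] at h
    have h0 : ∑ m ∈ f.support, f.coeff m • (x ^ m 0 * y ^ m 1) = 0 := by
      rw [← hfxy]
      conv_rhs => rw [f.as_sum, map_sum]
      refine Finset.sum_congr rfl fun m _ => ?_
      rw [MvPolynomial.aeval_monomial, Finsupp.prod_fintype _ _ (fun _ => pow_zero _), Fin.prod_univ_two,
        Algebra.smul_def]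
      simp
    have ha' : ∑ m ∈ f.support, (if m.degree = d then f.coeff m * c ^ m 0 else 0) =
        MvPolynomial.eval ![c, 1] (f.homogeneousComponent d) := by
      rw [MvPolynomial.homogeneousComponent_apply, map_sum, Finset.sum_filter]
      refine Finset.sum_congr rfl fun m _ => ?_
      split_ifs with h
      · rw [MvPolynomial.eval_monomial, Finsupp.prod_fintype _ _ (fun _ => pow_zero _), Fin.prod_univ_two]
        simp
      · rfl
    rw [h0, ha', zero_sub, neg_mem_iff] at h
    exact (Submodule.smul_mem_iff _ hc).1 h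
  -- valuations of the coordinates
  have hvx' : ∀ P : Place k K, P.1 x' ≤ exp (poles k x' P) := fun P => by
    rw [poles_apply hK, le_exp_iff P (x := x') (fun e => htr (e ▸ isAlgebraic_zero))]; omega
  have hvy : ∀ P : Place k K, P.1 y ≤ exp (poles k x' P) := fun P => hE ▸ val_le_exp_mapDiv hK φ P 2
  have hSle : ∀ m : ℕ, planeSpan k x' y d m ≤ L (m • poles k x') := fun m => Submodule.span_le.2 fun w hw P => by
    obtain ⟨i, j, -, hij, rfl⟩ := hw
    rw [map_mul, map_pow, map_pow]
    refine (mul_le_mul' (pow_le_pow_left' (hvx' P) _) (pow_le_pow_left' (hvy P) _)).trans ?_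
    rw [← exp_nsmul, ← exp_nsmul, ← exp_add, exp_le_exp, Finsupp.smul_apply, ← add_nsmul]
    exact nsmul_le_nsmul_left (hE ▸ plane_mapDiv_nonneg hK P) hij
  -- the representation is unique
  have hΨ : ∀ g g' : Fin d → Polynomial k, ∑ j, aeval x' (g j) * y ^ (j : ℕ) = ∑ j, aeval x' (g' j) * y ^ (j : ℕ) →
      g = g' := by
    intro g g' e
    funext j
    have h := Fintype.linearIndependent_iff.1 hli
      (fun l => aeval (⟨x', IntermediateField.mem_adjoin_simple_self k x'⟩ : IntermediateField.adjoin k ({x'} : Set K)) (g l - g' l)) (by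
        rw [← sub_eq_zero, ← Finset.sum_sub_distrib] at e
        refine (Finset.sum_congr rfl fun l _ => ?_).trans e
        rw [← sub_mul, ← map_sub, Algebra.smul_def]
        congr 1
        exact (Polynomial.aeval_algHom_apply (IntermediateField.adjoin k ({x'} : Set K)).val _ _).symm) j
    by_contra hne
    refine htr ⟨g j - g' j, sub_ne_zero.2 hne, ?_⟩
    have := congrArg (IntermediateField.adjoin k ({x'} : Set K)).val h
    rwa [← Polynomial.aeval_algHom_apply, map_zero] at this
  have hrank : ∀ m : ℕ, d ≤ m → 2 * (Module.finrank k (planeSpan k x' y d m) : ℤ) = d * (2 * (m : ℤ) + 3 - d) := by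
    intro m hm
    let Φ : ((j : Fin d) → Polynomial.degreeLT k (m + 1 - (j : ℕ))) →ₗ[k] K :=
      ∑ j : Fin d, (LinearMap.mulRight k (y ^ (j : ℕ))).comp
        ((aeval x').toLinearMap.comp ((Polynomial.degreeLT k (m + 1 - (j : ℕ))).subtype.comp (LinearMap.proj j)))
    have hΦ : ∀ g, Φ g = ∑ j, aeval x' ((g j : Polynomial k)) * y ^ (j : ℕ) := fun g => by
      simp [Φ, LinearMap.sum_apply]
    have hrange : planeSpan k x' y d m = LinearMap.range Φ := by
      ext w
      rw [mem_planeSpan_iff, LinearMap.mem_range]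
      constructor
      · rintro ⟨g, hg, rfl⟩
        exact ⟨fun j => ⟨g j, hg j⟩, hΦ _⟩
      · rintro ⟨g, rfl⟩
        exact ⟨fun j => g j, fun j => (g j).2, hΦ g⟩
    have hinj : Function.Injective Φ := fun g g' e => by
      rw [hΦ, hΦ] at e
      funext j
      exact Subtype.ext (congrFun (hΨ (fun l => g l) (fun l => g' l) e) j)
    rw [hrange, LinearMap.finrank_range_of_inj hinj]
    have hfin : ∀ j : Fin d, Module.Finite k (Polynomial.degreeLT k (m + 1 - (j : ℕ))) :=
      fun j => Module.Finite.equiv (Polynomial.degreeLTEquiv k _).symm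
    rw [Module.finrank_pi_fintype]
    simp only [fun n => (Polynomial.degreeLTEquiv k n).finrank_eq, Module.finrank_fin_fun]
    rw [Fin.sum_univ_eq_sum_range (fun j => m + 1 - j)]
    have : ∀ e : ℕ, e ≤ m + 1 → 2 * ((∑ j ∈ range e, (m + 1 - j) : ℕ) : ℤ) = e * (2 * (m : ℤ) + 3 - e) := by
      intro e he
      induction e with
      | zero => simp
      | succ e ih =>
        rw [Finset.sum_range_succ, Nat.cast_add, mul_add, ih (by omega), Nat.cast_sub (by omega)]
        push_cast; ring
    exact this d (by omega)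
  have hell : ∀ m : ℕ, 2 * genus k K ≤ m → (ell (m • poles k x') : ℤ) = m * d + 1 - genus k K := fun m hm => by
    rw [ell_eq_of_deg_ge hK (D := m • poles k x'), deg_nsmul, hdegE]
    rw [deg_nsmul, hdegE]
    have : (m : ℤ) ≤ m * d := le_mul_of_one_le_right (by positivity) (by exact_mod_cast hd)
    omega
  constructor
  · intro hg P
    obtain ⟨j, hj0, hj, hjv⟩ : ∃ j, φ j ≠ 0 ∧ (∀ i, P.1 (φ i) ≤ P.1 (φ j)) ∧ P.1 (φ j) = exp (mapDiv k φ P) := by
      obtain ⟨j, hj⟩ := Finite.exists_max fun i => P.1 (φ i)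
      have h1 : (1 : WithZero (Multiplicative ℤ)) ≤ P.1 (φ j) := le_trans (by simp [φ]) (hj 0)
      have hj0 : φ j ≠ 0 := fun e => by simp [e] at h1
      refine ⟨j, hj0, hj, le_antisymm (val_le_exp_mapDiv hK φ P j) ?_⟩
      rw [val_eq_exp P hj0, exp_le_exp, mapDiv_apply hK, neg_le_neg_iff]
      refine Finset.le_inf' _ _ fun i _ => ?_
      rcases eq_or_ne (φ i) 0 with e | e
      · rw [e, ord_zero]
        rw [val_eq_exp P hj0, ← exp_zero, exp_le_exp] at h1
        omega
      · have := hj i
        rw [val_eq_exp P e, val_eq_exp P hj0, exp_le_exp] at this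
        omega
    intro z hz
    obtain ⟨n, s, hn, hs, hsv, hzs⟩ := exists_denominator_divisor hK (E := poles k x') le_sup_right
      (by rw [hdegE]; exact_mod_cast hd) P hz (d + 2 * genus k K)
    have hSL : planeSpan k x' y d n = L (n • poles k x') := by
      haveI := L_finite hK (n • poles k x')
      refine Submodule.eq_of_le_of_finrank_le (hSle n) ?_
      have h1 := hrank n (by omega)
      have h2 := hell n (by omega)
      have h3 : ell (n • poles k x') = Module.finrank k (L (n • poles k x')) := rfl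
      nlinarith
    rw [← hSL] at hs hzs
    have hdiv : ∀ w ∈ planeSpan k x' y d n, w / φ j ^ n ∈ Algebra.adjoin k (Set.range fun i => φ i / φ j) := by
      intro w hw
      induction hw using Submodule.span_induction with
      | mem w hw =>
        obtain ⟨i, l, -, hil, rfl⟩ := hw
        obtain ⟨r, rfl⟩ : ∃ r, n = i + l + r := ⟨n - i - l, by omega⟩
        have hone : (1 : K) ∈ Submodule.span k (Set.range φ) := Submodule.subset_span ⟨0, rfl⟩
        have hy' : y ∈ Submodule.span k (Set.range φ) := Submodule.subset_span ⟨2, rfl⟩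
        have hx'' : x' ∈ Submodule.span k (Set.range φ) := by
          rw [hx', ← Algebra.smul_def]
          exact sub_mem (Submodule.subset_span ⟨1, rfl⟩) (Submodule.smul_mem _ _ hy')
        have e : x' ^ i * y ^ l / φ j ^ (i + l + r) = (x' / φ j) ^ i * (y / φ j) ^ l * (1 / φ j) ^ r := by
          rw [div_pow, div_pow, div_pow, one_pow]
          field_simp
          ring
        rw [e]
        exact mul_mem (mul_mem (pow_mem (div_mem_adjoin hx'') _) (pow_mem (div_mem_adjoin hy') _))
          (pow_mem (div_mem_adjoin hone) _)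
      | zero => rw [zero_div]; exact zero_mem _
      | add u v _ _ hu hv => rw [add_div]; exact add_mem hu hv
      | smul e u _ hu => rw [smul_div_assoc]; exact Subalgebra.smul_mem _ hu e
    refine (inLocRing_iff hj0 hj).2 ⟨_, hdiv _ hzs, _, hdiv _ hs, ?_, ?_⟩
    · rw [map_div₀, map_pow, hsv, hjv, ← hE, ← exp_nsmul, nsmul_eq_mul, div_self exp_ne_zero]
    · rw [mul_div_assoc]
  · intro hns
    have hd1 : ∀ P : Place k K, P.1 x' ≤ 1 → ∀ i, P.1 (φ i) ≤ 1 := fun P hP i => by
      refine (val_le_exp_mapDiv hK φ P i).trans_eq ?_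
      have := (ord_nonneg_iff P (x := x') fun e => htr (e ▸ isAlgebraic_zero)).2 hP
      rw [hE, poles_apply hK, max_eq_right (by omega), exp_zero]
    set n := d + 2 * genus k K
    suffices hSL : L (n • poles k x') ≤ planeSpan k x' y d n by
      have h1 := hrank n (by omega)
      have h2 := hell n (by omega)
      rw [le_antisymm (hSle n) hSL] at h1
      rw [ell] at h2
      nlinarith
    intro z hz
    -- affine part: `z` is a polynomial in the coordinates
    have hA : ∀ w ∈ Algebra.adjoin k (Set.range ![x', y]), ∃ m, w ∈ planeSpan k x' y d m := by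
      intro w hw
      induction hw using Algebra.adjoin_induction with
      | mem w hw =>
        obtain ⟨i, rfl⟩ := hw
        have h1 : (1 : K) ∈ planeSpan k x' y d 0 := by
          simpa using (mon_mem (k := k) (a := x') (b := y) (i := 0) (j := 0) hd le_rfl)
        refine ⟨1, ?_⟩
        fin_cases i
        · simpa using fst_mul_mem h1
        · simpa using snd_mul_mem hbd h1
      | algebraMap e =>
        refine ⟨0, ?_⟩
        rw [Algebra.algebraMap_eq_smul_one]
        exact Submodule.smul_mem _ _ (by simpa using (mon_mem (k := k) (a := x') (b := y) (i := 0) (j := 0) hd le_rfl))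
      | add u v _ _ hu hv =>
        obtain ⟨m, hm⟩ := hu
        obtain ⟨m', hm'⟩ := hv
        exact ⟨m + m', add_mem (planeSpan_mono (by omega) hm) (planeSpan_mono (by omega) hm')⟩
      | mul u v _ _ hu hv =>
        obtain ⟨m, hm⟩ := hu
        obtain ⟨m', hm'⟩ := hv
        exact ⟨m + m', mul_mem_planeSpan hbd hm hm'⟩
    have hloc : ∀ {ι : Type} (r : ι → K) (P : Place k K) (w : K), P.1 w ≤ 1 →
        (∀ j, φ j ≠ 0 → (∀ i, P.1 (φ i) ≤ P.1 (φ j)) → ∀ i, φ i / φ j ∈ locRing r P) → w ∈ locRing r P := by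
      intro ι r P w hw h
      obtain ⟨j, hj0, hj, u, hu, v, hv, hv1, e⟩ := hns P w hw
      have hle : Algebra.adjoin k (Set.range fun i => φ i / φ j) ≤ locRing r P := by
        rw [Algebra.adjoin_le_iff]
        rintro _ ⟨i, rfl⟩
        exact h j hj0 hj i
      have hv0 : v ≠ 0 := fun e => by simp [e] at hv1
      rw [show w = u / v by rw [← e, mul_div_assoc, div_self hv0, mul_one]]
      exact mul_inv_mem_locRing (hle hu) (hle hv) hv1
    have hy_aff : ∀ P : Place k K, P.1 x' ≤ 1 → P.1 y ≤ 1 := fun P hP => hd1 P hP 2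
    have hzR : z ∈ Algebra.adjoin k (Set.range ![x', y]) := by
      refine L_le_adjoin_of_local hK ![x', y] htr (Algebra.subset_adjoin ⟨0, rfl⟩) ?_ ?_ hz
      · intro i P hP
        fin_cases i
        · exact hP
        · exact hy_aff P hP
      · intro P w hP hw
        refine hloc _ P w hw fun j hj0 hj i => ?_
        have hmem : ∀ l, φ l ∈ locRing ![x', y] P := by
          intro l
          fin_cases l
          · exact one_mem _
          · show x ∈ locRing _ P
            rw [hx, ← Algebra.smul_def]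
            exact add_mem (coord_mem_locRing (r := ![x', y]) 0)
              (Subalgebra.smul_mem _ (coord_mem_locRing (r := ![x', y]) 1) c)
          · exact coord_mem_locRing (r := ![x', y]) 1
        refine mul_inv_mem_locRing (hmem i) (hmem j) (le_antisymm (hd1 P hP j) ?_)
        simpa [φ] using hj 0
    obtain ⟨p, hp⟩ := hA z hzR
    -- the chart at infinity
    set ℓ := x' with hℓ
    have hℓ0 : ℓ ≠ 0 := fun e => htr (e ▸ isAlgebraic_zero)
    have htr' : Transcendental k ℓ⁻¹ := fun h => htr (by simpa using h.inv)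
    set r : Fin 2 → K := ![ℓ⁻¹, y / ℓ] with hr
    have hvy' : ∀ P : Place k K, P.1 ℓ⁻¹ ≤ 1 → P.1 (y / ℓ) ≤ 1 ∧ P.1 ℓ = exp (poles k x' P) := by
      intro P hP
      have h2 := (ord_nonneg_iff P (inv_ne_zero hℓ0)).2 hP
      rw [ord_inv] at h2
      have hv : P.1 ℓ = exp (poles k x' P) := by
        rw [poles_apply hK, max_eq_left (by omega), val_eq_exp P hℓ0]
      refine ⟨?_, hv⟩
      rw [map_div₀]
      exact div_le_one_of_le₀ ((hvy P).trans hv.ge) zero_le
    have hzinf : z / ℓ ^ n ∈ Algebra.adjoin k (Set.range r) := by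
      refine L_le_adjoin_of_local hK r (m := n) htr' (Algebra.subset_adjoin ⟨0, rfl⟩) ?_ ?_ fun P => ?_
      · intro i P hP
        fin_cases i
        · exact hP
        · exact (hvy' P hP).1
      · intro P w hP hw
        refine hloc _ P w hw fun j hj0 hj i => ?_
        have hmem : ∀ l, φ l / ℓ ∈ locRing r P := by
          intro l
          fin_cases l
          · show (1 : K) / ℓ ∈ locRing r P
            rw [one_div]
            exact coord_mem_locRing (r := r) 0
          · show x / ℓ ∈ locRing r P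
            rw [hx, add_div, div_self hℓ0, mul_div_assoc, ← Algebra.smul_def]
            exact add_mem (one_mem _) (Subalgebra.smul_mem _ (coord_mem_locRing (r := r) 1) c)
          · exact coord_mem_locRing (r := r) 1
        rw [← div_div_div_cancel_right₀ hℓ0]
        refine mul_inv_mem_locRing (hmem i) (hmem j) ?_
        rw [map_div₀, (hvy' P hP).2, ← hE]
        have hjv : P.1 (φ j) = exp (mapDiv k φ P) := by
          refine le_antisymm (val_le_exp_mapDiv hK φ P j) ?_
          rw [hE, ← (hvy' P hP).2, hx']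
          refine (P.1.map_sub _ _).trans (max_le (hj 1) ?_)
          rw [map_mul]
          exact (mul_le_mul' (P.2.1 c) (hj 2)).trans_eq (one_mul _)
        rw [hjv, div_self exp_ne_zero]
      · rcases eq_or_ne z 0 with hz0 | hz0
        · simp [hz0]
        have h1 := hz P
        rw [le_exp_iff P hz0, nsmul_poles_apply hK] at h1
        rw [le_exp_iff P (div_ne_zero hz0 (pow_ne_zero _ hℓ0)), div_eq_mul_inv,
          ord_mul P hz0 (inv_ne_zero (pow_ne_zero _ hℓ0)), ord_inv, ord_pow, nsmul_poles_apply hK, ord_inv, neg_neg]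
        rcases le_total (P.ord ℓ) 0 with h | h
        · rw [max_eq_left (by omega)] at h1
          rw [max_eq_right h]
          simp only [mul_zero, neg_zero]
          linarith
        · rw [max_eq_right (by omega)] at h1
          rw [max_eq_left h]
          linarith
    obtain ⟨q, hq⟩ : ∃ q, z / ℓ ^ n * ℓ ^ q ∈ planeSpan k x' y d q := by
      suffices key : ∀ v ∈ Algebra.adjoin k (Set.range r), ∃ q, v * ℓ ^ q ∈ planeSpan k x' y d q from
        key _ hzinf
      intro v hv
      induction hv using Algebra.adjoin_induction with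
      | mem w hw =>
        obtain ⟨i, rfl⟩ := hw
        refine ⟨1, ?_⟩
        have h1 : (1 : K) ∈ planeSpan k x' y d 1 := by
          simpa using (mon_mem (k := k) (a := x') (b := y) (i := 0) (j := 0) (m := 1) hd (by omega))
        fin_cases i
        · simpa [r, hℓ0] using h1
        · have h0 : (1 : K) ∈ planeSpan k x' y d 0 := by
            simpa using (mon_mem (k := k) (a := x') (b := y) (i := 0) (j := 0) hd le_rfl)
          simpa [r, hℓ0] using snd_mul_mem hbd h0
      | algebraMap e =>
        refine ⟨0, ?_⟩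
        rw [pow_zero, mul_one, Algebra.algebraMap_eq_smul_one]
        exact Submodule.smul_mem _ _ (by simpa using (mon_mem (k := k) (a := x') (b := y) (i := 0) (j := 0) hd le_rfl))
      | add u v _ _ hu hv =>
        obtain ⟨m, hm⟩ := hu
        obtain ⟨m', hm'⟩ := hv
        refine ⟨m + m', ?_⟩
        rw [add_mul]
        refine add_mem ?_ ?_
        · rw [pow_add, ← mul_assoc, mul_comm (u * ℓ ^ m)]
          exact fst_pow_mul_mem hm m'
        · rw [add_comm m m', pow_add, ← mul_assoc, mul_comm (v * ℓ ^ m')]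
          exact fst_pow_mul_mem hm' m
      | mul u v _ _ hu hv =>
        obtain ⟨m, hm⟩ := hu
        obtain ⟨m', hm'⟩ := hv
        refine ⟨m + m', ?_⟩
        rw [show u * v * ℓ ^ (m + m') = (u * ℓ ^ m) * (v * ℓ ^ m') by rw [pow_add]; ring]
        exact mul_mem_planeSpan hbd hm hm'
    -- cancellation
    have hq' : ℓ ^ q * z ∈ planeSpan k x' y d (n + q) := by
      have := fst_pow_mul_mem hq n
      rwa [add_comm q n, show x' ^ n * (z / ℓ ^ n * ℓ ^ q) = ℓ ^ q * z by
        rw [← hℓ]; field_simp] at this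
    obtain ⟨g, hg, rfl⟩ := mem_planeSpan_iff.1 hp
    obtain ⟨g', hg', e⟩ := mem_planeSpan_iff.1 hq'
    have e' : (fun j => X ^ q * g j) = g' := hΨ _ _ (by
      rw [← e, Finset.mul_sum]
      exact Finset.sum_congr rfl fun j _ => by rw [map_mul, map_pow, Polynomial.aeval_X, mul_assoc])
    refine mem_planeSpan_iff.2 ⟨g, fun j => ?_, rfl⟩
    rw [Polynomial.mem_degreeLT]
    rcases eq_or_ne (g j) 0 with h | h
    · rw [h, Polynomial.degree_zero]; exact WithBot.bot_lt_coe _
    have h1 := Polynomial.mem_degreeLT.1 (show X ^ q * g j ∈ Polynomial.degreeLT k (n + q + 1 - (j : ℕ)) by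
      rw [show X ^ q * g j = g' j from congrFun e' j]; exact hg' j)
    rw [Polynomial.degree_mul, Polynomial.degree_X_pow, Polynomial.degree_eq_natDegree h] at h1
    rw [Polynomial.degree_eq_natDegree h]
    have h2 : q + (g j).natDegree < n + q + 1 - (j : ℕ) := by exact_mod_cast h1
    exact_mod_cast (show (g j).natDegree < n + 1 - (j : ℕ) by omega)

end Groth.Agent.FunFld
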