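import Groth.Agent.FunFld.Plane
import Groth.Agent.FunFld.PlaneGenus
import Groth.Agent.FunFld.CurveCrit
import Groth.Agent.FunFld.Ext.Lattice
import Groth.Agent.FunFld.Wr.Basis
import Groth.Agent.FunFld.AdjCoeff.Change
import Mathlib.RingTheory.Localization.AtPrime.Basic

/-! The intersection multiplicity at a point of a plane curve as a length. -/

namespace Groth.Agent.FunFld.InterMult

open _root_.FunFld WithZero Groth.Agent.FunFld

variable {k K : Type*} [Field k] [Field K] [Algebra k K]

theorem idx_split {A M B : Submodule k K} {d : ℤ} (h : HasIdx A B d) (hA : A ≤ M) (hB : M ≤ B) :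
    ∃ e f : ℤ, HasIdx A M e ∧ HasIdx M B f ∧ e + f = d := by
  have := h.fin
  have h1 : FiniteDimensional k (M ⧸ A.submoduleOf M) :=
    FiniteDimensional.of_injective (idxMap A M A B le_rfl hB) (idxMap_injective _ _ fun x _ hx => hx)
  have h2 : FiniteDimensional k (B ⧸ M.submoduleOf B) := Module.Finite.of_surjective (idxMap A B M B hA le_rfl)
    fun z => by
      obtain ⟨x, rfl⟩ := Submodule.Quotient.mk_surjective _ z
      exact ⟨Submodule.Quotient.mk x, rfl⟩
  exact ⟨_, _, ⟨hA, h1, rfl⟩, ⟨hB, h2, rfl⟩,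
    (HasIdx.trans ⟨hA, h1, rfl⟩ ⟨hB, h2, rfl⟩).unique h⟩

theorem idx_map {A B : Submodule k K} {d : ℤ} (h : HasIdx A B d) (μ : K →ₗ[k] K) (hμ : Function.Injective μ) :
    HasIdx (A.map μ) (B.map μ) d := by
  have := h.fin
  let e := Submodule.equivMapOfInjective μ hμ B
  have he : ((A.submoduleOf B).map e.toLinearMap) = (A.map μ).submoduleOf (B.map μ) := by
    ext ⟨y, hy⟩
    simp only [Submodule.mem_map, Submodule.submoduleOf, Submodule.mem_comap, Submodule.subtype_apply]
    constructor
    · rintro ⟨x, hx, he⟩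
      exact ⟨x, hx, congrArg Subtype.val he⟩
    · rintro ⟨x, hx, rfl⟩
      exact ⟨⟨x, h.le hx⟩, hx, Subtype.ext rfl⟩
  let E := Submodule.Quotient.equiv (A.submoduleOf B) ((A.map μ).submoduleOf (B.map μ)) e he
  exact ⟨Submodule.map_mono h.le, Module.Finite.equiv E, by rw [← E.finrank_eq]; exact h.eq⟩

/-- Rational functions regular at the point. -/
def pointRing (r : Fin 2 → K) (c : Fin 2 → k) : Submodule k K where
  carrier := {z | ∃ u w : MvPolynomial (Fin 2) k, MvPolynomial.eval c w ≠ 0 ∧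
    z * MvPolynomial.aeval r w = MvPolynomial.aeval r u}
  zero_mem' := ⟨0, 1, by simp, by simp⟩
  add_mem' := by
    rintro a b ⟨u, w, hw, h⟩ ⟨u', w', hw', h'⟩
    exact ⟨u * w' + u' * w, w * w', by rw [map_mul]; exact mul_ne_zero hw hw', by
      simp only [map_add, map_mul, ← h, ← h']; ring⟩
  smul_mem' := by
    rintro a z ⟨u, w, hw, h⟩
    exact ⟨a • u, w, hw, by rw [map_smul, smul_mul_assoc, h]⟩

theorem pointRing_mul {r : Fin 2 → K} {c : Fin 2 → k} {a b : K} (ha : a ∈ pointRing r c)
    (hb : b ∈ pointRing r c) : a * b ∈ pointRing r c := by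
  obtain ⟨u, w, hw, h⟩ := ha
  obtain ⟨u', w', hw', h'⟩ := hb
  exact ⟨u * u', w * w', by rw [map_mul]; exact mul_ne_zero hw hw', by
    simp only [map_mul, ← h, ← h']; ring⟩

variable [IsAlgClosed k]

theorem poly_const (Q : Place k K) {r : Fin 2 → K} {c : Fin 2 → k}
    (h : ∀ i, Q.1 (r i - algebraMap k K (c i)) < 1) (p : MvPolynomial (Fin 2) k) :
    Q.1 (MvPolynomial.aeval r p - algebraMap k K (MvPolynomial.eval c p)) < 1 := by
  induction p using MvPolynomial.induction_on with
  | C a => simp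
  | add p q hp hq =>
    simp only [map_add]
    rw [add_sub_add_comm]
    exact (Q.1.map_add _ _).trans_lt (max_lt hp hq)
  | mul_X p i hp =>
    simp only [map_mul, MvPolynomial.aeval_X, MvPolynomial.eval_X]
    set a := MvPolynomial.aeval r p
    set b := algebraMap k K (MvPolynomial.eval c p)
    rw [show a * r i - b * algebraMap k K (c i) = (a - b) * r i + b * (r i - algebraMap k K (c i)) by ring]
    refine (Q.1.map_add _ _).trans_lt (max_lt ?_ ?_) <;> rw [map_mul]
    · have hr : Q.1 (r i) ≤ 1 := by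
        rw [← sub_add_cancel (r i) (algebraMap k K (c i))]
        exact (Q.1.map_add _ _).trans (max_le (h i).le (Q.2.1 _))
      exact lt_of_le_of_lt (mul_le_mul' le_rfl hr) (by rwa [mul_one])
    · exact lt_of_le_of_lt (mul_le_mul' (Q.2.1 _) le_rfl) (by rw [one_mul]; exact h i)

omit [IsAlgClosed k] in
theorem poly_le (Q : Place k K) {r : Fin 2 → K} (h : ∀ i, Q.1 (r i) ≤ 1) (p : MvPolynomial (Fin 2) k) :
    Q.1 (MvPolynomial.aeval r p) ≤ 1 := by
  induction p using MvPolynomial.induction_on with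
  | C a => rw [MvPolynomial.aeval_C]; exact Q.2.1 a
  | add p q hp hq => rw [map_add]; exact (Q.1.map_add _ _).trans (max_le hp hq)
  | mul_X p i hp => rw [map_mul, map_mul, MvPolynomial.aeval_X]; exact mul_le_one' hp (h i)

theorem relations_dvd (hK : IsFunctionField k K) {x y : K}
    (hxy : IntermediateField.adjoin k ({x, y} : Set K) = ⊤) {f : MvPolynomial (Fin 2) k} (hf : Irreducible f)
    (hfxy : MvPolynomial.aeval ![x, y] f = 0) {h : MvPolynomial (Fin 2) k}
    (hh : MvPolynomial.aeval ![x, y] h = 0) : f ∣ h := by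
  obtain ⟨g, hg, -, hker⟩ := exists_ker_cone_eq_span hK x y hxy
  have hψ : (fun i : Fin 2 => ![(1 : K), x, y] i.succ) = ![x, y] := by funext i; fin_cases i <;> rfl
  have hdvd : ∀ p : MvPolynomial (Fin 2) k, MvPolynomial.aeval ![x, y] p = 0 → g ∣ homogLift p := fun p hp =>
    Ideal.mem_span_singleton.1 (hker ▸ (RingHom.mem_ker.2
      (coneHom_eq_zero_of_homogeneous _ (isHomogeneous_homogLift p)
        (by rw [aeval_homogLift (k := k) ![(1 : K), x, y] rfl, hψ, hp])) :
        homogLift p ∈ RingHom.ker (coneHom (k := k) ![(1 : K), x, y])))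
  set dh := MvPolynomial.aeval (R := k) (Fin.cases (1 : MvPolynomial (Fin 2) k) MvPolynomial.X) with hdh
  have hdeh : ∀ p, dh (homogLift p) = p := fun p => by
    rw [hdh, aeval_homogLift _ (by simp) p]
    simp [MvPolynomial.aeval_X_left_apply]
  have hassoc := hg.associated_of_dvd (AdjCoeff.irreducible_homogLift hK hxy hf hfxy) (hdvd f hfxy)
  have h1 := map_dvd dh (hassoc.symm.dvd.trans (hdvd h hh))
  rwa [hdeh, hdeh] at h1

theorem exists_fraction {x y : K} (hxy : IntermediateField.adjoin k ({x, y} : Set K) = ⊤) (z : K) :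
    ∃ u w : MvPolynomial (Fin 2) k, MvPolynomial.aeval ![x, y] w ≠ 0 ∧
      z * MvPolynomial.aeval ![x, y] w = MvPolynomial.aeval ![x, y] u := by
  have hmem : z ∈ IntermediateField.adjoin k ({x, y} : Set K) := hxy ▸ IntermediateField.mem_top
  induction hmem using IntermediateField.adjoin_induction with
  | mem v hv =>
    rcases hv with rfl | rfl
    · exact ⟨MvPolynomial.X 0, 1, by simp, by simp⟩
    · exact ⟨MvPolynomial.X 1, 1, by simp, by simp⟩
  | algebraMap a => exact ⟨MvPolynomial.C a, 1, by simp, by simp⟩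
  | add a b _ _ ha hb =>
    obtain ⟨u, w, hw, h⟩ := ha
    obtain ⟨u', w', hw', h'⟩ := hb
    exact ⟨u * w' + u' * w, w * w', by rw [map_mul]; exact mul_ne_zero hw hw', by
      simp only [map_add, map_mul, ← h, ← h']; ring⟩
  | inv a _ ha =>
    obtain ⟨u, w, hw, h⟩ := ha
    rcases eq_or_ne a 0 with rfl | ha0
    · exact ⟨0, 1, by simp, by simp⟩
    · exact ⟨w, u, by rw [← h]; exact mul_ne_zero ha0 hw, by rw [← h, inv_mul_cancel_left₀ ha0]⟩
  | mul a b _ _ ha hb =>
    obtain ⟨u, w, hw, h⟩ := ha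
    obtain ⟨u', w', hw', h'⟩ := hb
    exact ⟨u * u', w * w', by rw [map_mul]; exact mul_ne_zero hw hw', by
      simp only [map_mul, ← h, ← h']; ring⟩

theorem exists_common_denominator {x y : K} (hxy : IntermediateField.adjoin k ({x, y} : Set K) = ⊤)
    (F : Finset K) : ∃ w : MvPolynomial (Fin 2) k, MvPolynomial.aeval ![x, y] w ≠ 0 ∧
      ∀ z ∈ F, ∃ u : MvPolynomial (Fin 2) k, z * MvPolynomial.aeval ![x, y] w = MvPolynomial.aeval ![x, y] u := by
  classical
  induction F using Finset.induction_on with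
  | empty => exact ⟨1, by simp, by simp⟩
  | insert a F _ ih =>
    obtain ⟨w, hw, hF⟩ := ih
    obtain ⟨u', w', hw', h'⟩ := exists_fraction hxy a
    refine ⟨w * w', by rw [map_mul]; exact mul_ne_zero hw hw', fun z hz => ?_⟩
    rcases Finset.mem_insert.1 hz with rfl | hz
    · exact ⟨w * u', by simp only [map_mul, ← h']; ring⟩
    · obtain ⟨u, h⟩ := hF z hz
      exact ⟨u * w', by simp only [map_mul, ← h]; ring⟩

theorem inter_mult (hK : IsFunctionField k K) (x y : K)
    (hxy : IntermediateField.adjoin k ({x, y} : Set K) = ⊤) (f g : MvPolynomial (Fin 2) k)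
    (hf : Irreducible f) (hfxy : MvPolynomial.aeval ![x, y] f = 0)
    (hgxy : MvPolynomial.aeval ![x, y] g ≠ 0) (P : Place k K) (c : Fin 2 → k)
    (hc : ∀ i, P.1 (![x, y] i - algebraMap k K (c i)) < 1)
    (M : Ideal (MvPolynomial (Fin 2) k)) [M.IsMaximal]
    (hM : M = Ideal.span {MvPolynomial.X 0 - MvPolynomial.C (c 0),
      MvPolynomial.X 1 - MvPolynomial.C (c 1)}) :
    ∑ᶠ Q ∈ {Q : Place k K | SameImage ![(1 : K), x, y] P Q}, Q.ord (MvPolynomial.aeval ![x, y] g) =
      (Module.finrank k (Localization.AtPrime M ⧸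
        Ideal.map (algebraMap (MvPolynomial (Fin 2) k) (Localization.AtPrime M))
          (Ideal.span {f, g})) : ℤ) := by
  classical
  set r : Fin 2 → K := ![x, y] with hr
  set φ : Fin 3 → K := ![(1 : K), x, y] with hφ
  obtain ⟨a, x', -, hx', htr, hE, -, -⟩ := plane_data hK hxy f hf hfxy
  haveI := finite_adjoin hK htr
  -- the fibre
  set T : Set (Place k K) := {Q | ∀ i, Q.1 (r i - algebraMap k K (c i)) < 1} with hTdef
  have hTeq : {Q : Place k K | SameImage φ P Q} = T := by
    have hr1 : ∀ Q ∈ T, ∀ i, Q.1 (r i) ≤ 1 := fun Q hQ i => by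
      rw [← sub_add_cancel (r i) (algebraMap k K (c i))]
      exact (Q.1.map_add _ _).trans (max_le (hQ i).le (Q.2.1 _))
    ext Q
    constructor
    · rintro ⟨j, hj0, hj, -, hcj⟩ i
      have hne0 : φ 0 / φ j ∈ locRing (fun l => φ l / φ j) P := coord_mem_locRing (r := fun l => φ l / φ j) 0
      have h1 : P.1 (φ 0 / φ j) = 1 := by
        refine le_antisymm (ratio_val_le hj0 hj 0) ?_
        rw [map_div₀, one_le_div₀ (zero_lt_iff.2 (by simpa using hj0))]
        have hPj : P.1 (φ j) ≤ 1 := by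
          fin_cases j
          · simp [φ]
          · exact hr1 P hc 0
          · exact hr1 P hc 1
        simpa [φ] using hPj
      have hmem : r i - algebraMap k K (c i) ∈ locRing (fun l => φ l / φ j) P := by
        refine sub_mem ?_ (Subalgebra.algebraMap_mem _ _)
        have := mul_inv_mem_locRing (coord_mem_locRing (r := fun l => φ l / φ j) i.succ) hne0 h1
        rw [div_div_div_cancel_right₀ hj0, show φ 0 = 1 from rfl, div_one] at this
        rwa [show r i = φ i.succ by fin_cases i <;> rfl]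
      exact ((locRing_val_of_sameImage (j := j) hK hcj hmem).2).2 (hc i)
    · intro hQ
      refine ⟨0, one_ne_zero, fun i => ?_, fun i => ?_, fun i => ?_⟩
      · refine Fin.cases le_rfl (fun l => ?_) i
        rw [show φ l.succ = r l by fin_cases l <;> rfl, show φ 0 = 1 from rfl, map_one]
        exact hr1 P hc l
      · refine Fin.cases le_rfl (fun l => ?_) i
        rw [show φ l.succ = r l by fin_cases l <;> rfl, show φ 0 = 1 from rfl, map_one]
        exact hr1 Q hQ l
      · refine Fin.cases ⟨1, ?_, ?_⟩ (fun l => ⟨c l, ?_, ?_⟩) i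
        · simp [φ]
        · simp [φ]
        · rw [show φ l.succ = r l by fin_cases l <;> rfl, show φ 0 = 1 from rfl, div_one]; exact hc l
        · rw [show φ l.succ = r l by fin_cases l <;> rfl, show φ 0 = 1 from rfl, div_one]; exact hQ l
  have hx'c : ∀ Q ∈ T, Q.1 (x' - algebraMap k K (c 0 - a * c 1)) < 1 := fun Q hQ => by
    have e : x' - algebraMap k K (c 0 - a * c 1) =
        (r 0 - algebraMap k K (c 0)) - algebraMap k K a * (r 1 - algebraMap k K (c 1)) := by
      rw [hx', map_sub, map_mul]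
      show _ = (x - _) - _ * (y - _)
      ring
    rw [e]
    refine (Q.1.map_sub _ _).trans_lt (max_lt (hQ 0) ?_)
    rw [map_mul]
    exact lt_of_le_of_lt (mul_le_mul' (Q.2.1 a) le_rfl) (by rw [one_mul]; exact hQ 1)
  have hTfin : T.Finite := by
    refine (finite_zeros hK (x' - algebraMap k K (c 0 - a * c 1))).subset fun Q hQ => ?_
    refine (ord_pos_iff Q ?_).2 (hx'c Q hQ)
    intro h
    exact htr (by rw [sub_eq_zero] at h; rw [h]; exact isAlgebraic_algebraMap _)
  rw [hTeq, ← hTfin.coe_toFinset, finsum_mem_coe_finset]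
  set S := hTfin.toFinset with hSdef
  have hSmem : ∀ Q, Q ∈ S ↔ Q ∈ T := fun Q => hTfin.mem_toFinset
  -- the local ring and the ring of integers of the fibre
  set R := pointRing r c
  set B := Ls S 0
  have hres : ∀ Q ∈ S, FiniteDimensional k (IsLocalRing.ResidueField Q.O) := fun Q _ =>
    Module.finite_of_finrank_eq_succ (n := 0) (deg_eq_one hK Q)
  have hunit : ∀ w : MvPolynomial (Fin 2) k, MvPolynomial.eval c w ≠ 0 → ∀ Q ∈ T,
      Q.1 (MvPolynomial.aeval r w) = 1 := fun w hw Q hQ => val_eq_one_of_const (poly_const Q hQ w) hw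
  have hpolle : ∀ u : MvPolynomial (Fin 2) k, ∀ Q ∈ T, Q.1 (MvPolynomial.aeval r u) ≤ 1 := fun u Q hQ => by
    rw [← sub_add_cancel (MvPolynomial.aeval r u) (algebraMap k K (MvPolynomial.eval c u))]
    exact (Q.1.map_add _ _).trans (max_le (poly_const Q hQ u).le (Q.2.1 _))
  have hRB : R ≤ B := by
    rintro z ⟨u, w, hw, h⟩
    rw [mem_Ls_zero]
    intro Q hQ
    have h1 := hpolle u Q ((hSmem Q).1 hQ)
    rwa [← h, map_mul, hunit w hw Q ((hSmem Q).1 hQ), mul_one] at h1
  -- a universal denominator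
  obtain ⟨D, hD0, hDB⟩ : ∃ D : MvPolynomial (Fin 2) k, MvPolynomial.aeval r D ≠ 0 ∧
      ∀ b ∈ B, MvPolynomial.aeval r D * b ∈ R := by
    obtain ⟨N, hN⟩ := L_le_of_stable hK htr
    have := L_finite hK (N • poles k x')
    obtain ⟨F, hF⟩ := (Submodule.fg_iff_finiteDimensional (L (N • poles k x'))).2 this
    obtain ⟨D, hD, hDF⟩ := exists_common_denominator hxy F
    refine ⟨D, hD, fun b hb => ?_⟩
    let S' : Submodule k K :=
      { carrier := {z | ∃ u : MvPolynomial (Fin 2) k, z * MvPolynomial.aeval r D = MvPolynomial.aeval r u}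
        zero_mem' := ⟨0, by simp⟩
        add_mem' := by
          rintro p q ⟨u, h⟩ ⟨u', h'⟩
          exact ⟨u + u', by rw [map_add, add_mul, h, h']⟩
        smul_mem' := by
          rintro e p ⟨u, h⟩
          exact ⟨e • u, by rw [map_smul, smul_mul_assoc, h]⟩ }
    have hS' : ∀ n : ℕ, L (n • poles k x') ≤ S' := hN S' (by rw [← hF, Submodule.span_le]; exact hDF) (by
      rintro p ⟨u, h⟩
      exact ⟨(MvPolynomial.X 0 - MvPolynomial.C a * MvPolynomial.X 1) * u, by
        rw [map_mul, ← h, hx']; simp [r]; ring⟩)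
    -- clear the poles of `b` away from the point
    have hfin : {Q : Place k K | 1 < Q.1 b ∧ Q.1 x' ≤ 1}.Finite := (finite_support hK b).subset fun Q hQ => by
      show Q.ord b ≠ 0
      intro h0
      have hb0 : b ≠ 0 := fun e => by
        have := hQ.1
        rw [e, map_zero] at this
        exact not_lt_zero this
      have := hQ.1
      rw [val_eq_exp Q hb0, h0, neg_zero, exp_zero] at this
      exact lt_irrefl _ this
    obtain ⟨w, hw, hwb⟩ : ∃ w : MvPolynomial (Fin 2) k, MvPolynomial.eval c w ≠ 0 ∧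
        ∀ Q : Place k K, Q.1 x' ≤ 1 → Q.1 (MvPolynomial.aeval r w * b) ≤ 1 := by
      have hr' : ∀ Q : Place k K, Q.1 x' ≤ 1 → ∀ i, Q.1 (r i) ≤ 1 := fun Q hQ i => by
        have h := val_le_exp_mapDiv hK φ Q i.succ
        rw [hE, poles_apply hK, max_eq_right, exp_zero] at h
        · rwa [show φ i.succ = r i by fin_cases i <;> rfl] at h
        · have := (ord_nonneg_iff Q (ne_zero_of_tr htr)).2 hQ
          omega
      have hmain : ∀ s : Finset (Place k K), (∀ Q ∈ s, 1 < Q.1 b ∧ Q.1 x' ≤ 1) →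
          ∃ w : MvPolynomial (Fin 2) k, MvPolynomial.eval c w ≠ 0 ∧
            ∀ Q ∈ s, Q.1 (MvPolynomial.aeval r w * b) ≤ 1 := by
        intro s
        induction s using Finset.induction_on with
        | empty => exact fun _ => ⟨1, by simp, by simp⟩
        | insert Q s _ ih =>
          intro hs
          obtain ⟨w, hw, hws⟩ := ih fun R hR => hs R (Finset.mem_insert_of_mem hR)
          obtain ⟨hQb, hQx⟩ := hs Q (Finset.mem_insert_self _ _)
          have hQT : Q ∉ T := fun h => absurd hQb (not_lt.2 (mem_Ls_zero.1 hb Q ((hSmem Q).2 h)))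
          simp only [T, Set.mem_setOf_eq, not_forall] at hQT
          obtain ⟨i, hi⟩ := hQT
          obtain ⟨d, hd⟩ := exists_const hK Q (hr' Q hQx i)
          have hdc : c i - d ≠ 0 := fun h => hi (by rw [sub_eq_zero.1 h]; exact hd)
          have hb0 : b ≠ 0 := fun e => by rw [e, map_zero] at hQb; exact not_lt_zero hQb
          set m := (Q.ord b).natAbs
          refine ⟨(MvPolynomial.X i - MvPolynomial.C d) ^ m * w, ?_, fun R hR => ?_⟩
          · simp only [map_mul, map_pow, map_sub, MvPolynomial.eval_X, MvPolynomial.eval_C]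
            exact mul_ne_zero (pow_ne_zero _ hdc) hw
          · have hR' : R.1 x' ≤ 1 := (hs R hR).2
            simp only [map_mul, map_pow, map_sub, MvPolynomial.aeval_X, MvPolynomial.aeval_C]
            have hle1 : R.1 (r i - algebraMap k K d) ≤ 1 :=
              (R.1.map_sub _ _).trans (max_le (hr' R hR' i) (R.2.1 d))
            have hwle : R.1 (MvPolynomial.aeval r w) ≤ 1 := poly_le R (hr' R hR') w
            rcases Finset.mem_insert.1 hR with rfl | hRs
            · rw [mul_right_comm]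
              refine mul_le_one' ?_ hwle
              refine (mul_le_mul' (pow_le_pow_left' ((lt_one_iff_le R).1 hd) m) le_rfl).trans ?_
              rw [val_eq_exp R hb0, ← exp_nsmul, ← exp_add, ← exp_zero, exp_le_exp, nsmul_eq_mul]
              omega
            · rw [mul_assoc]
              have h2 := hws R hRs
              rw [map_mul] at h2
              exact mul_le_one' (pow_le_one' hle1 _) h2
      obtain ⟨w, hw, hws⟩ := hmain hfin.toFinset fun Q hQ => hfin.mem_toFinset.1 hQ
      refine ⟨w, hw, fun Q hQ => ?_⟩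
      by_cases hQb : 1 < Q.1 b
      · exact hws Q (hfin.mem_toFinset.2 ⟨hQb, hQ⟩)
      · rw [map_mul]
        exact mul_le_one' (poly_le Q (hr' Q hQ) w) (not_lt.1 hQb)
    obtain ⟨n, hn⟩ : ∃ n : ℕ, MvPolynomial.aeval r w * b ∈ L (n • poles k x') := exists_mem_L_nsmul hK htr hwb
    obtain ⟨u, hu⟩ := hS' n hn
    exact ⟨u, w, hw, by rw [← hu]; ring⟩
  -- indices
  have hg1 : ∀ Q ∈ S, Q.1 (MvPolynomial.aeval r g) ≤ 1 := fun Q hQ => hpolle g Q ((hSmem Q).1 hQ)
  have hlat : ∀ p : K, p ≠ 0 → (∀ Q ∈ S, Q.1 p ≤ 1) →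
      HasIdx (B.map (LinearMap.mulLeft k p)) B (∑ Q ∈ S, Q.ord p) := by
    intro p hp hp1
    have h := Ls_idx S hres fun Q => (Q.ord p).toNat
    have hm : ∀ Q ∈ S, ((Q.ord p).toNat : ℤ) = Q.ord p := fun Q hQ =>
      Int.toNat_of_nonneg ((ord_nonneg_iff Q hp).2 (hp1 Q hQ))
    have e1 : Ls S (fun Q => (Q.ord p).toNat) = B.map (LinearMap.mulLeft k p) := by
      ext z
      simp only [mem_Ls, Submodule.mem_map, LinearMap.mulLeft_apply, B, Pi.zero_apply, Nat.cast_zero, neg_zero,
        exp_zero]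
      constructor
      · intro hz
        refine ⟨p⁻¹ * z, fun Q hQ => ?_, mul_inv_cancel_left₀ hp z⟩
        have h2 := hz Q hQ
        rw [hm Q hQ] at h2
        rw [map_mul, map_inv₀, val_eq_exp Q hp, ← exp_neg, neg_neg]
        refine (mul_le_mul' le_rfl h2).trans_eq ?_
        rw [← exp_add, add_neg_cancel, exp_zero]
      · rintro ⟨w, hw, rfl⟩ Q hQ
        rw [hm Q hQ, map_mul, val_eq_exp Q hp]
        exact (mul_le_mul' le_rfl (hw Q hQ)).trans_eq (mul_one _)
    rw [e1] at h
    refine ⟨h.le, h.fin, h.eq.trans (Finset.sum_congr rfl fun Q hQ => ?_)⟩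
    rw [hm Q hQ, deg_eq_one hK Q, Nat.cast_one, mul_one]
  set G := MvPolynomial.aeval r g
  have h1 := hlat G hgxy hg1
  obtain ⟨-, δ, -, hδ, -⟩ := idx_split (hlat _ hD0 fun Q hQ => hpolle D Q ((hSmem Q).1 hQ))
    (show B.map (LinearMap.mulLeft k (MvPolynomial.aeval r D)) ≤ R from
      Submodule.map_le_iff_le_comap.2 fun b hb => hDB b hb) hRB
  have hμ : Function.Injective (LinearMap.mulLeft k G) := mul_right_injective₀ hgxy
  have h2 := (idx_map hδ _ hμ).trans h1
  have hGR : R.map (LinearMap.mulLeft k G) ≤ R := by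
    rintro _ ⟨b, hb, rfl⟩
    exact pointRing_mul ⟨g, 1, by simp, by simp [G]⟩ hb
  obtain ⟨ε, δ', hε, hδ', hsum⟩ := idx_split h2 hGR hRB
  have hεeq : ε = ∑ Q ∈ S, Q.ord G := by
    have := hδ'.unique hδ
    omega
  rw [← hεeq, ← hε.eq]
  -- comparison with the local ring of the plane
  refine congrArg _ ?_
  set θ0 := MvPolynomial.aeval (R := k) r
  have hMmem : ∀ p : MvPolynomial (Fin 2) k, MvPolynomial.eval c p = 0 ↔ p ∈ M := by
    intro p
    have hle : M ≤ RingHom.ker (MvPolynomial.eval c) := by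
      rw [hM, Ideal.span_le]
      rintro q (rfl | rfl) <;> simp [RingHom.mem_ker]
    have heq := Ideal.IsMaximal.eq_of_le ‹M.IsMaximal› (RingHom.ker_ne_top _) hle
    rw [heq, RingHom.mem_ker]
  have hu : ∀ s : M.primeCompl, IsUnit (θ0 s) := fun s => by
    have h := hunit s (fun h => s.2 ((hMmem _).1 h)) P hc
    exact isUnit_iff_ne_zero.2 fun e => by rw [e, map_zero] at h; exact zero_ne_one h
  let θ : Localization.AtPrime M →ₐ[k] K := IsLocalization.liftAlgHom (M := M.primeCompl) hu
  have hθ : ∀ (p : MvPolynomial (Fin 2) k) (s : M.primeCompl),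
      θ (IsLocalization.mk' (Localization.AtPrime M) p s) * θ0 s = θ0 p := fun p s => by
    have h : θ (algebraMap _ _ (s : MvPolynomial (Fin 2) k)) = θ0 s := IsLocalization.lift_eq hu _
    rw [← h, ← map_mul, IsLocalization.mk'_spec]
    exact IsLocalization.lift_eq hu p
  have hθR : ∀ z, θ z ∈ R := fun z => by
    obtain ⟨p, s, rfl⟩ := IsLocalization.exists_mk'_eq M.primeCompl z
    exact ⟨p, s, fun h => s.2 ((hMmem _).1 h), hθ p s⟩
  let L0 : Localization.AtPrime M →ₗ[k] R := θ.toLinearMap.codRestrict R hθR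
  let L1 : Localization.AtPrime M →ₗ[k] R ⧸ (R.map (LinearMap.mulLeft k G)).submoduleOf R :=
    (Submodule.mkQ _).comp L0
  set J : Ideal (Localization.AtPrime M) := Ideal.map (algebraMap (MvPolynomial (Fin 2) k) (Localization.AtPrime M))
    (Ideal.span {f, g})
  have hgen : ∀ p ∈ ({f, g} : Set (MvPolynomial (Fin 2) k)), algebraMap _ (Localization.AtPrime M) p ∈ J :=
    fun p hp => Ideal.mem_map_of_mem _ (Ideal.subset_span hp)
  have hθg : θ (algebraMap _ (Localization.AtPrime M) g) = G := IsLocalization.lift_eq hu g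
  have hθf : θ (algebraMap _ (Localization.AtPrime M) f) = 0 := (IsLocalization.lift_eq hu f).trans hfxy
  have hker : LinearMap.ker L1 = J.restrictScalars k := by
    ext z
    rw [LinearMap.mem_ker, LinearMap.comp_apply, Submodule.mkQ_apply, Submodule.Quotient.mk_eq_zero,
      Submodule.restrictScalars_mem]
    show θ z ∈ R.map (LinearMap.mulLeft k G) ↔ z ∈ J
    constructor
    · rintro ⟨b, ⟨u, w, hw, hb⟩, hzb⟩
      have hwM : w ∈ M.primeCompl := fun h => hw ((hMmem w).2 h)
      set z' := z - algebraMap _ (Localization.AtPrime M) g * IsLocalization.mk' (Localization.AtPrime M) u ⟨w, hwM⟩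
      have hz' : θ z' = 0 := by
        rw [map_sub, map_mul, hθg, ← hzb, LinearMap.mulLeft_apply, ← mul_sub, mul_eq_zero]
        refine Or.inr (sub_eq_zero.2 (mul_right_cancel₀ ((hu ⟨w, hwM⟩).ne_zero) ?_))
        rw [hθ u ⟨w, hwM⟩]; exact hb
      obtain ⟨p, s, hps⟩ := IsLocalization.exists_mk'_eq M.primeCompl z'
      have hp0 : θ0 p = 0 := by rw [← hθ p s, hps, hz', zero_mul]
      obtain ⟨q, rfl⟩ := relations_dvd hK hxy hf hfxy hp0
      have hz'J : z' ∈ J := by
        rw [← hps, IsLocalization.mk'_eq_mul_mk'_one, map_mul, mul_assoc]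
        exact J.mul_mem_right _ (hgen f (Set.mem_insert _ _))
      have := J.add_mem hz'J (J.mul_mem_right (IsLocalization.mk' (Localization.AtPrime M) u ⟨w, hwM⟩)
        (hgen g (Set.mem_insert_of_mem _ rfl)))
      simpa [z'] using this
    · intro hz
      rw [show J = Ideal.span (algebraMap _ (Localization.AtPrime M) '' {f, g}) from Ideal.map_span _ _,
        Set.image_pair, Ideal.mem_span_pair] at hz
      obtain ⟨p, q, rfl⟩ := hz
      refine ⟨θ q, hθR q, ?_⟩
      rw [map_add, map_mul, map_mul, hθf, hθg, mul_zero, zero_add, LinearMap.mulLeft_apply, mul_comm]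
  have hsurj : Function.Surjective L1 := fun z => by
    obtain ⟨⟨v, u, w, hw, hv⟩, rfl⟩ := Submodule.Quotient.mk_surjective _ z
    have hwM : w ∈ M.primeCompl := fun h => hw ((hMmem w).2 h)
    refine ⟨IsLocalization.mk' (Localization.AtPrime M) u ⟨w, hwM⟩, congrArg (Submodule.Quotient.mk) (Subtype.ext ?_)⟩
    exact mul_right_cancel₀ ((hu ⟨w, hwM⟩).ne_zero) ((hθ u ⟨w, hwM⟩).trans hv.symm)
  exact (((Submodule.quotEquivOfEq _ _ hker.symm).trans (L1.quotKerEquivOfSurjective hsurj)).finrank_eq).symm.trans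
    ((Submodule.Quotient.restrictScalarsEquiv k J).finrank_eq)

end Groth.Agent.FunFld.InterMult
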