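import Groth.Agent.FunFld.ConstDisc
import Mathlib.RingTheory.Unramified.Field
import Mathlib.LinearAlgebra.TensorProduct.RightExactness
import Mathlib.FieldTheory.PurelyInseparable.Basic
import Mathlib.RingTheory.Etale.Field

/-! Separable residue fields give nonsingular places; purely inseparable cases give unique places. -/

namespace Groth.Agent.FunFld

open _root_.FunFld WithZero IsLocalRing TensorProduct

universe u v

attribute [-instance] instModuleResidueFieldOfAlgebra IntermediateField.module'

/-- The residue map as an algebra map. -/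
noncomputable def resA {k K : Type*} [Field k] [Field K] [Algebra k K] (P : Place k K) :
    P.O →ₐ[k] ResidueField P.O :=
  { residue P.O with commutes' := fun _ => rfl }

theorem ker_resA {k K : Type*} [Field k] [Field K] [Algebra k K] (P : Place k K) {t : P.O}
    (ht : P.1 (t : K) = exp (-1)) : RingHom.ker (resA P) = Ideal.span {t} := by
  ext a
  rw [RingHom.mem_ker, Ideal.mem_span_singleton]
  show residue P.O a = 0 ↔ _
  rw [residue_eq_zero_iff, mem_maximalIdeal, mem_nonunits_iff]
  refine (Valuation.Integer.not_isUnit_iff_valuation_lt_one (v := P.1) (x := a)).trans ?_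
  constructor
  · intro h
    have ht0 := ne_zero_of_val P ht
    refine ⟨⟨(t : K)⁻¹ * (a : K), ?_⟩, Subtype.ext (mul_inv_cancel_left₀ ht0 (a : K)).symm⟩
    show P.1 _ ≤ 1
    rw [map_mul, map_inv₀, ht, ← exp_neg]
    refine (mul_le_mul' le_rfl ((lt_one_iff_le P).1 h)).trans ?_
    rw [← exp_add, ← exp_zero, exp_le_exp]; omega
  · rintro ⟨c, rfl⟩
    show P.1 ((t : K) * (c : K)) < 1
    rw [map_mul, ht]
    exact (mul_le_mul' le_rfl c.2).trans_lt (by rw [mul_one, ← exp_zero, exp_lt_exp]; omega)

variable {k k' : Type u} {K K' : Type v} [Field k] [Field k'] [Field K] [Field K']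
  [Algebra k k'] [FiniteDimensional k k'] [Algebra k K] [Algebra K K'] [Algebra k' K'] [Algebra k K']
  [IsScalarTower k k' K'] [IsScalarTower k K K']
  (h : Function.Bijective (Algebra.TensorProduct.productMap (IsScalarTower.toAlgHom k k' K')
    (IsScalarTower.toAlgHom k K K')))

variable (k' K') in
/-- `k' ⊗ O_P → K'`. -/
noncomputable def modelMap (P : Place k K) : k' ⊗[k] P.O →ₐ[k] K' :=
  Algebra.TensorProduct.productMap (IsScalarTower.toAlgHom k k' K')
    ((IsScalarTower.toAlgHom k K K').comp { P.O.subtype with commutes' := fun _ => rfl })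

theorem modelMap_tmul (P : Place k K) (a : k') (c : P.O) :
    modelMap k' K' P (a ⊗ₜ[k] c) = algebraMap k' K' a * algebraMap K K' (c : K) :=
  Algebra.TensorProduct.productMap_apply_tmul _ _ _ _

theorem modelMap_mem (P : Place k K) [Algebra P.O K'] [IsScalarTower P.O K K'] (ω : k' ⊗[k] P.O) :
    modelMap k' K' P ω ∈ Algebra.adjoin P.O (Set.range (algebraMap k' K')) := by
  induction ω using TensorProduct.induction_on with
  | zero => rw [map_zero]; exact zero_mem _
  | tmul a c =>
    rw [modelMap_tmul]
    refine mul_mem (Algebra.subset_adjoin (show _ ∈ Set.range (algebraMap k' K') from ⟨a, rfl⟩)) ?_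
    rw [show algebraMap K K' (c : K) = algebraMap P.O K' c from
      (IsScalarTower.algebraMap_apply P.O K K' c).symm]
    exact Subalgebra.algebraMap_mem _ c
  | add a b ha hb => rw [map_add]; exact add_mem ha hb

theorem exists_model (P : Place k K) [Algebra P.O K'] [IsScalarTower P.O K K'] {z : K'}
    (hz : z ∈ Algebra.adjoin P.O (Set.range (algebraMap k' K'))) : ∃ ω, modelMap k' K' P ω = z := by
  induction hz using Algebra.adjoin_induction with
  | mem x hx =>
    obtain ⟨a, rfl⟩ := hx
    exact ⟨a ⊗ₜ 1, by rw [modelMap_tmul, OneMemClass.coe_one, map_one, mul_one]⟩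
  | algebraMap c =>
    exact ⟨1 ⊗ₜ c, by rw [modelMap_tmul, map_one, one_mul]; exact (IsScalarTower.algebraMap_apply P.O K K' c).symm⟩
  | add x y _ _ hx hy =>
    obtain ⟨a, rfl⟩ := hx; obtain ⟨b, rfl⟩ := hy
    exact ⟨a + b, map_add _ _ _⟩
  | mul x y _ _ hx hy =>
    obtain ⟨a, rfl⟩ := hx; obtain ⟨b, rfl⟩ := hy
    exact ⟨a * b, map_mul _ _ _⟩

include h

theorem modelMap_injective (P : Place k K) : Function.Injective (modelMap k' K' P) := by
  let ι : P.O →ₐ[k] K := { P.O.subtype with commutes' := fun _ => rfl }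
  have : modelMap k' K' P = (Algebra.TensorProduct.productMap (IsScalarTower.toAlgHom k k' K')
      (IsScalarTower.toAlgHom k K K')).comp (Algebra.TensorProduct.map (AlgHom.id k k') ι) :=
    Algebra.TensorProduct.ext' fun a c => by simp [modelMap, ι]
  rw [this, AlgHom.coe_comp]
  exact h.1.comp (Module.Flat.lTensor_preserves_injective_linearMap (M := k') ι.toLinearMap Subtype.val_injective)

theorem exists_scaled_model (P : Place k K) [Algebra P.O K'] [IsScalarTower P.O K K'] {z : K'} :
    ∃ (N : ℕ) (t : P.O), P.1 (t : K) = exp (-1) ∧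
      algebraMap K K' (t : K) ^ N * z ∈ Algebra.adjoin P.O (Set.range (algebraMap k' K')) := by
  obtain ⟨t, ht⟩ := exists_val P (-1)
  have ht1 : P.1 t ≤ 1 := by rw [ht, ← exp_zero, exp_le_exp]; omega
  obtain ⟨w, rfl⟩ := h.2 z
  suffices ∃ N : ℕ, algebraMap K K' t ^ N * (Algebra.TensorProduct.productMap (IsScalarTower.toAlgHom k k' K')
      (IsScalarTower.toAlgHom k K K')) w ∈ Algebra.adjoin P.O (Set.range (algebraMap k' K')) by
    obtain ⟨N, hN⟩ := this; exact ⟨N, ⟨t, ht1⟩, ht, hN⟩
  induction w using TensorProduct.induction_on with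
  | zero => exact ⟨0, by rw [map_zero, mul_zero]; exact zero_mem _⟩
  | tmul a c =>
    refine ⟨(-(P.ord c)).toNat, ?_⟩
    set N := (-(P.ord c)).toNat
    have hm : P.1 (t ^ N * c) ≤ 1 := by
      rcases eq_or_ne c 0 with rfl | hc
      · simp
      · rw [map_mul, map_pow, ht, val_eq_exp P hc, ← exp_nsmul, ← exp_add, ← exp_zero, exp_le_exp]
        simp only [nsmul_eq_mul, mul_neg, mul_one]
        omega
    have := modelMap_mem (K' := K') (k' := k') P (a ⊗ₜ[k] (⟨t ^ N * c, hm⟩ : P.O))
    rw [modelMap_tmul, map_mul, map_pow] at this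
    rw [Algebra.TensorProduct.productMap_apply_tmul, IsScalarTower.coe_toAlgHom', IsScalarTower.coe_toAlgHom']
    rwa [mul_left_comm] at this
  | add a b ha hb =>
    obtain ⟨m, hm⟩ := ha; obtain ⟨n, hn⟩ := hb
    refine ⟨m + n, ?_⟩
    rw [map_add, mul_add, pow_add]
    have htm : algebraMap K K' t ∈ Algebra.adjoin P.O (Set.range (algebraMap k' K')) := by
      rw [show algebraMap K K' t = algebraMap P.O K' ⟨t, ht1⟩ from (IsScalarTower.algebraMap_apply P.O K K' ⟨t, ht1⟩).symm]
      exact Subalgebra.algebraMap_mem _ _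
    refine add_mem ?_ ?_
    · rw [mul_right_comm]; exact mul_mem hm (pow_mem htm n)
    · rw [mul_assoc]; exact mul_mem (pow_mem htm m) hn

theorem nonsingular_of_separable_residue (hK : IsFunctionField k K) (P : Place k K)
    [Algebra.IsSeparable k (ResidueField P.O)] [Algebra P.O K'] [IsScalarTower P.O K K'] :
    (integralClosure P.O K').toSubring = (Algebra.adjoin P.O (Set.range (algebraMap k' K'))).toSubring := by
  classical
  haveI hfin : @Module.Finite k (ResidueField P.O) _ _ Algebra.toModule := residue_finite hK P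
  haveI : Algebra.EssFiniteType k (ResidueField P.O) := inferInstance
  haveI : Algebra.FormallyUnramified k (ResidueField P.O) := Algebra.FormallyUnramified.of_isSeparable k _
  haveI : IsReduced (k' ⊗[k] ResidueField P.O) := Algebra.FormallyUnramified.isReduced_of_field k' _
  haveI := finiteDimensional_constExt h
  set R₀ := Algebra.adjoin P.O (Set.range (algebraMap k' K'))
  have hge : ∀ z ∈ R₀, z ∈ integralClosure P.O K' := by
    intro z hz
    rw [integralClosure_eq hK P]
    refine (show R₀ ≤ Bring hK P K' from Algebra.adjoin_le ?_) hz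
    rintro _ ⟨a, rfl⟩ R _
    exact val_const_le R a
  refine le_antisymm (fun z hz => ?_) (fun z hz => hge z hz)
  change IsIntegral P.O z at hz
  obtain ⟨q, hqm, hqz⟩ := hz
  obtain ⟨N, t, ht, hN⟩ := exists_scaled_model h P (z := z)
  show z ∈ R₀
  induction N with
  | zero => simpa using hN
  | succ N ih =>
    refine ih ?_
    set z' := algebraMap K K' (t : K) ^ N * z with hz'
    have hzint : IsIntegral P.O z' := by
      refine IsIntegral.mul ?_ ⟨q, hqm, hqz⟩
      rw [show algebraMap K K' (t : K) = algebraMap P.O K' t from (IsScalarTower.algebraMap_apply P.O K K' t).symm,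
        ← map_pow]
      exact isIntegral_algebraMap
    rw [pow_succ', mul_assoc] at hN
    obtain ⟨ω, hω⟩ := exists_model P hN
    obtain ⟨p, hpm, hp⟩ := hzint
    set d := p.natDegree
    rw [← Polynomial.aeval_def, Polynomial.aeval_eq_sum_range, Finset.sum_range_succ, hpm.coeff_natDegree,
      one_smul] at hp
    set Z : k' ⊗[k] P.O := ∑ i ∈ Finset.range d,
      ((1 : k') ⊗ₜ[k] (p.coeff i * t ^ (d - i - 1))) * ω ^ i
    have htZ : ω ^ d = ((1 : k') ⊗ₜ[k] t) * (-Z) := by
      refine modelMap_injective h P ?_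
      rw [map_pow, hω, map_mul, modelMap_tmul, map_neg, map_sum, map_one, one_mul, mul_neg, Finset.mul_sum,
        mul_pow, eq_neg_of_add_eq_zero_right hp, mul_neg, Finset.mul_sum, neg_inj]
      refine Finset.sum_congr rfl fun i hi => ?_
      have hid := Finset.mem_range.1 hi
      rw [map_mul, modelMap_tmul, map_one, one_mul, map_pow, hω, MulMemClass.coe_mul,
        SubmonoidClass.coe_pow, map_mul, map_pow, Algebra.smul_def, IsScalarTower.algebraMap_apply P.O K K']
      rw [show d = (d - i - 1) + 1 + i by omega, pow_add, pow_add, pow_one, mul_pow,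
        show (d - i - 1) + 1 + i - i - 1 = d - i - 1 by omega]
      rw [show ((p.coeff i : P.O) : K) = algebraMap P.O K (p.coeff i) from rfl]
      ring
    set π : k' ⊗[k] P.O →ₐ[k] k' ⊗[k] ResidueField P.O :=
      Algebra.TensorProduct.map (AlgHom.id k k') (resA P)
    have hπt : π ((1 : k') ⊗ₜ[k] t) = 0 := by
      rw [Algebra.TensorProduct.map_tmul, show resA P t = 0 from by
        rw [← RingHom.mem_ker, ker_resA P ht]; exact Ideal.mem_span_singleton_self _, tmul_zero]
    have hπω : π ω = 0 := by
      refine IsNilpotent.eq_zero ⟨d, ?_⟩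
      rw [← map_pow, htZ, map_mul, hπt, zero_mul]
    have hker : ω ∈ Ideal.span {((1 : k') ⊗ₜ[k] t)} := by
      have hk := Algebra.TensorProduct.lTensor_ker (R := k) (A := k') (g := resA P)
        (fun r => residue_surjective r)
      have : ω ∈ RingHom.ker π := hπω
      rwa [hk, ker_resA P ht, Ideal.map_span, Set.image_singleton,
        Algebra.TensorProduct.includeRight_apply] at this
    obtain ⟨η, rfl⟩ := Ideal.mem_span_singleton.1 hker
    rw [map_mul, modelMap_tmul, map_one, one_mul] at hω
    rw [hz', ← mul_left_cancel₀ ((map_ne_zero _).2 (ne_zero_of_val P ht)) hω]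
    exact modelMap_mem P η

theorem unique_over_of_purely_inseparable (hK : IsFunctionField k K) (P : Place k K)
    (hpi : IsPurelyInseparable k k' ∨ IsPurelyInseparable k (ResidueField P.O)) :
    ∃! Q : Place k K', IsOver Q P := by
  classical
  haveI := finiteDimensional_constExt h
  letI : Algebra P.O K' := ((algebraMap K K').comp P.O.subtype).toAlgebra
  haveI : IsScalarTower P.O K K' := IsScalarTower.of_algebraMap_eq fun _ => rfl
  haveI hfin : @Module.Finite k (ResidueField P.O) _ _ Algebra.toModule := residue_finite hK P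
  obtain ⟨q, hq⟩ := ExpChar.exists k
  haveI : ExpChar k q := hq
  haveI : ExpChar k' q := expChar_of_injective_algebraMap (algebraMap k k').injective q
  haveI : ExpChar K' q := expChar_of_injective_algebraMap (algebraMap k K').injective q
  set ks := separableClosure k k'
  haveI : IsPurelyInseparable ks k' := separableClosure.isPurelyInseparable k k'
  haveI : ExpChar ks q := expChar_of_injective_algebraMap (algebraMap k ks).injective q
  haveI : Algebra.EssFiniteType k ks := inferInstance
  haveI : Algebra.FormallyUnramified k ks := Algebra.FormallyUnramified.of_isSeparable k _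
  haveI : IsReduced (ResidueField P.O ⊗[k] ks) := Algebra.FormallyUnramified.isReduced_of_field (ResidueField P.O) (ResidueField P.O ⊗[k] ks)
  haveI : IsReduced (ks ⊗[k] ResidueField P.O) :=
    isReduced_of_injective (Algebra.TensorProduct.comm k ks (ResidueField P.O)).toRingHom
      (Algebra.TensorProduct.comm k ks (ResidueField P.O)).injective
  haveI : ExpChar (ResidueField P.O) q := expChar_of_injective_algebraMap (algebraMap k _).injective q
  -- every element of the residue ring is zero or a unit
  have hunit : ∀ ω : ks ⊗[k] ResidueField P.O, ω ≠ 0 → IsUnit ω := by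
    intro ω hω
    haveI : Nontrivial (ks ⊗[k] ResidueField P.O) :=
      (Algebra.TensorProduct.includeRight_injective (R := k) (A := ks) (B := ResidueField P.O)
        (algebraMap k ks).injective).nontrivial
    have hscalar : ∃ n : ℕ, 0 < n ∧ ((∃ a : ks, ω ^ n = a ⊗ₜ 1) ∨ ∃ r : ResidueField P.O, ω ^ n = 1 ⊗ₜ r) := by
      rcases hpi with hpi | hpi
      · haveI := hpi
        refine ⟨1, one_pos, Or.inr ?_⟩
        rw [pow_one]
        clear hω
        induction ω using TensorProduct.induction_on with
        | zero => exact ⟨0, by rw [tmul_zero]⟩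
        | tmul a c =>
          have hb : (a : k') ∈ (⊥ : IntermediateField k k') :=
            separableClosure.eq_bot_of_isPurelyInseparable k k' ▸ a.2
          obtain ⟨b, hb⟩ := IntermediateField.mem_bot.1 hb
          refine ⟨b • c, ?_⟩
          rw [show a = algebraMap k ks b from Subtype.ext hb.symm, Algebra.algebraMap_eq_smul_one, smul_tmul]
        | add x y hx hy =>
          obtain ⟨r, hr⟩ := hx; obtain ⟨s, hs⟩ := hy
          exact ⟨r + s, by rw [tmul_add, hr, hs]⟩
      · haveI := hpi
        haveI : ExpChar (ks ⊗[k] ResidueField P.O) q :=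
          expChar_of_injective_algebraMap (algebraMap k _).injective q
        suffices ∀ x : ks ⊗[k] ResidueField P.O, ∃ n : ℕ, ∃ a : ks, x ^ q ^ n = a ⊗ₜ 1 by
          obtain ⟨n, a, ha⟩ := this ω; exact ⟨q ^ n, Nat.pow_pos (expChar_pos k q), Or.inl ⟨a, ha⟩⟩
        intro x
        clear hω
        induction x using TensorProduct.induction_on with
        | zero => exact ⟨0, 0, by rw [pow_zero, pow_one, zero_tmul]⟩
        | tmul a c =>
          obtain ⟨n, b, hb⟩ := IsPurelyInseparable.pow_mem k q c
          exact ⟨n, b • a ^ q ^ n, by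
            rw [Algebra.TensorProduct.tmul_pow, ← hb, Algebra.algebraMap_eq_smul_one, ← smul_tmul]⟩
        | add x y hx hy =>
          obtain ⟨m, a, ha⟩ := hx; obtain ⟨n, b, hb⟩ := hy
          refine ⟨m + n, a ^ q ^ n + b ^ q ^ m, ?_⟩
          rw [add_pow_expChar_pow, add_tmul]
          congr 1
          · rw [pow_add, pow_mul, ha, Algebra.TensorProduct.tmul_pow, one_pow]
          · rw [pow_add, mul_comm, pow_mul, hb, Algebra.TensorProduct.tmul_pow, one_pow]
    obtain ⟨n, hn0, hn⟩ := hscalar
    have hne : ω ^ n ≠ 0 := fun e => hω (IsNilpotent.eq_zero ⟨n, e⟩)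
    refine (isUnit_pow_iff hn0.ne').1 ?_
    rcases hn with ⟨a, ha⟩ | ⟨r, hr⟩
    · have ha0 : a ≠ 0 := fun e => hne (by rw [ha, e, zero_tmul])
      rw [ha]
      exact (ha0.isUnit).map (Algebra.TensorProduct.includeLeft : ks →ₐ[k] ks ⊗[k] ResidueField P.O)
    · have hr0 : r ≠ 0 := fun e => hne (by rw [hr, e, tmul_zero])
      rw [hr]
      exact (hr0.isUnit).map (Algebra.TensorProduct.includeRight : ResidueField P.O →ₐ[k] ks ⊗[k] ResidueField P.O)
  obtain ⟨t₀, ht₀⟩ := exists_val P (-1)
  let t : P.O := ⟨t₀, by show P.1 t₀ ≤ 1; rw [ht₀, ← exp_zero, exp_le_exp]; omega⟩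
  have ht : P.1 (t : K) = exp (-1) := ht₀
  let inc : ks →ₐ[k] k' := ks.val
  let M : ks ⊗[k] P.O →ₐ[k] K' :=
    (modelMap k' K' P).comp (Algebra.TensorProduct.map inc (AlgHom.id k P.O))
  have hMinj : Function.Injective M := (modelMap_injective h P).comp
    (Module.Flat.rTensor_preserves_injective_linearMap (M := P.O) inc.toLinearMap Subtype.val_injective)
  have hMle : ∀ (Q : Place k K'), IsOver Q P → ∀ x, Q.1 (M x) ≤ 1 := fun Q hQ x => by
    have hz := modelMap_mem (K' := K') (k' := k') P (Algebra.TensorProduct.map inc (AlgHom.id k P.O) x)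
    exact (show Algebra.adjoin P.O (Set.range (algebraMap k' K')) ≤ Bring hK P K' from
      Algebra.adjoin_le (by rintro _ ⟨b, rfl⟩ R _; exact val_const_le R b)) hz Q ((mem_placesOver hK).2 hQ)
  set π : ks ⊗[k] P.O →ₐ[k] ks ⊗[k] ResidueField P.O := Algebra.TensorProduct.map (AlgHom.id k ks) (resA P)
  have hπsurj : Function.Surjective π :=
    LinearMap.lTensor_surjective (R := k) ks (g := (resA P).toLinearMap) (fun r => residue_surjective r)
  have hker : ∀ x, π x = 0 → ∃ y, x = ((1 : ks) ⊗ₜ[k] t) * y := fun x hx => by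
    have hk := Algebra.TensorProduct.lTensor_ker (R := k) (A := ks) (g := resA P)
      (fun r => residue_surjective r)
    have : x ∈ RingHom.ker π := hx
    rw [hk, ker_resA P ht, Ideal.map_span, Set.image_singleton, Algebra.TensorProduct.includeRight_apply] at this
    obtain ⟨y, hy⟩ := Ideal.mem_span_singleton.1 this
    exact ⟨y, hy⟩
  have hMt : M ((1 : ks) ⊗ₜ[k] t) = algebraMap K K' (t : K) := by
    show modelMap k' K' P (Algebra.TensorProduct.map inc (AlgHom.id k P.O) ((1 : ks) ⊗ₜ[k] t)) = _
    rw [Algebra.TensorProduct.map_tmul, modelMap_tmul, map_one, map_one, one_mul]; rfl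
  have htQ : ∀ (Q : Place k K'), IsOver Q P → Q.1 (algebraMap K K' (t : K)) ≤ exp (-1) := fun Q hQ => by
    rw [isOverWith_of_isOver hQ, ht, ← exp_nsmul, exp_le_exp]
    have := IsOverWith.pos (isOverWith_of_isOver hQ)
    simp only [nsmul_eq_mul, mul_neg, mul_one]; omega
  have hval1 : ∀ (Q : Place k K'), IsOver Q P → ∀ x, π x ≠ 0 → Q.1 (M x) = 1 := fun Q hQ x hx => by
    obtain ⟨u, hu⟩ := (hunit _ hx).exists_right_inv
    obtain ⟨y, rfl⟩ := hπsurj u
    obtain ⟨r, hr⟩ := hker (x * y - 1) (by rw [map_sub, map_mul, hu, map_one, sub_self])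
    refine le_antisymm (hMle Q hQ x) (le_of_not_gt fun hlt => ?_)
    have e : (1 : K') = M x * M y - algebraMap K K' (t : K) * M r := by
      rw [← hMt, ← map_mul, ← map_mul, ← hr, map_sub, map_one]; ring
    have h1 := congrArg Q.1 e
    rw [map_one] at h1
    refine h1.symm.not_lt (lt_of_le_of_lt (Valuation.map_sub _ _ _) (max_lt ?_ ?_))
    · rw [map_mul]; exact (mul_le_mul' le_rfl (hMle Q hQ y)).trans_lt (by rwa [mul_one])
    · rw [map_mul]
      refine (mul_le_mul' (htQ Q hQ) (hMle Q hQ r)).trans_lt ?_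
      rw [mul_one, ← exp_zero, exp_lt_exp]; omega
  obtain ⟨Q₀, hQ₀⟩ := exists_over (K' := K') hK P
  refine ⟨Q₀, hQ₀, fun R hR => ?_⟩
  refine eq_of_le fun z hz => ?_
  -- a purely inseparable power of `z` has a scaled model over `ks`
  obtain ⟨n, w, hw⟩ : ∃ (n : ℕ) (w : ks ⊗[k] K), z ^ q ^ n =
      Algebra.TensorProduct.productMap ((IsScalarTower.toAlgHom k k' K').comp inc) (IsScalarTower.toAlgHom k K K') w := by
    obtain ⟨v, rfl⟩ := h.2 z
    clear hz
    induction v using TensorProduct.induction_on with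
    | zero => exact ⟨0, 0, by rw [map_zero, map_zero, pow_zero, pow_one]⟩
    | tmul a c =>
      obtain ⟨n, b, hb⟩ := IsPurelyInseparable.pow_mem ks q a
      refine ⟨n, b ⊗ₜ[k] (c ^ q ^ n), ?_⟩
      rw [Algebra.TensorProduct.productMap_apply_tmul, Algebra.TensorProduct.productMap_apply_tmul, mul_pow,
        AlgHom.comp_apply, map_pow, ← map_pow, ← map_pow]
      congr 1
      rw [← hb]; rfl
    | add x y hx hy =>
      obtain ⟨m, a, ha⟩ := hx; obtain ⟨n, b, hb⟩ := hy
      refine ⟨m + n, a ^ q ^ n + b ^ q ^ m, ?_⟩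
      rw [map_add, map_add, add_pow_expChar_pow, map_pow, map_pow, ← ha, ← hb]
      congr 1
      · rw [← pow_mul, pow_add]
      · rw [← pow_mul, ← pow_add, add_comm n m]
  obtain ⟨j, x, hx⟩ : ∃ (j : ℕ) (x : ks ⊗[k] P.O), M x = algebraMap K K' (t : K) ^ j * z ^ q ^ n := by
    rw [hw]
    clear hw hz
    induction w using TensorProduct.induction_on with
    | zero => exact ⟨0, 0, by rw [map_zero, map_zero, mul_zero]⟩
    | tmul a c =>
      refine ⟨(-(P.ord c)).toNat, a ⊗ₜ[k] ⟨(t : K) ^ (-(P.ord c)).toNat * c, ?_⟩, ?_⟩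
      · show P.1 _ ≤ 1
        rcases eq_or_ne c 0 with rfl | hc
        · simp
        · rw [map_mul, map_pow, ht, val_eq_exp P hc, ← exp_nsmul, ← exp_add, ← exp_zero, exp_le_exp]
          simp only [nsmul_eq_mul, mul_neg, mul_one]
          omega
      · simp only [M, AlgHom.comp_apply]
        rw [Algebra.TensorProduct.map_tmul, modelMap_tmul, Algebra.TensorProduct.productMap_apply_tmul]
        simp only [AlgHom.coe_id, id_eq, AlgHom.comp_apply, IsScalarTower.coe_toAlgHom', map_mul, map_pow]
        ring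
    | add a b ha hb =>
      obtain ⟨i, x, hx⟩ := ha; obtain ⟨j, y, hy⟩ := hb
      refine ⟨i + j, ((1 : ks) ⊗ₜ[k] t) ^ j * x + ((1 : ks) ⊗ₜ[k] t) ^ i * y, ?_⟩
      rw [map_add, map_add, map_mul, map_mul, map_pow, map_pow, hMt, hx, hy, pow_add]
      ring
  have hqn : q ^ n ≠ 0 := pow_ne_zero _ (expChar_pos k q).ne'
  rw [← pow_le_one_iff hqn, ← map_pow] at hz ⊢
  clear hw
  induction j generalizing x with
  | zero => rw [pow_zero, one_mul] at hx; rw [← hx]; exact hMle Q₀ hQ₀ x
  | succ j ih =>
    by_cases hx0 : π x = 0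
    · obtain ⟨y, rfl⟩ := hker x hx0
      refine ih y ?_
      rw [map_mul, hMt, pow_succ', mul_assoc] at hx
      exact mul_left_cancel₀ ((map_ne_zero _).2 (ne_zero_of_val P ht)) hx
    · exfalso
      have h1 := hval1 R hR x hx0
      rw [hx, map_mul, map_pow] at h1
      refine h1.not_lt ?_
      refine (mul_le_mul' (pow_le_pow_left' (htQ R hR) (j + 1)) hz).trans_lt ?_
      rw [mul_one, ← exp_nsmul, ← exp_zero, exp_lt_exp]
      simp only [nsmul_eq_mul, mul_neg, mul_one]; omega

end Groth.Agent.FunFld
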