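import Groth.Agent.FunFld.QuadGenus
import Groth.Agent.FunFld.ClassNum

/-! Genus of `y² = f(x)` and of Artin–Schreier quadratic extensions. -/

namespace Groth.Agent.FunFld

open _root_.FunFld WithZero Polynomial

section sq

variable {k K : Type*} [Field k] [Field K] [Algebra k K] [Algebra (RatFunc k) K]
  [IsScalarTower k (RatFunc k) K]

theorem genus_sq (hK : IsFunctionField k K) (hdeg : Module.finrank (RatFunc k) K = 2) (h2 : ringChar k ≠ 2)
    {y : K} {f : k[X]} (hf : Squarefree f) (hd : 1 ≤ f.natDegree)
    (heq : y ^ 2 = algebraMap (RatFunc k) K (algebraMap k[X] (RatFunc k) f)) :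
    genus k K = (f.natDegree - 1) / 2 := by
  classical
  haveI : FiniteDimensional (RatFunc k) K := Module.finite_of_finrank_pos (by omega)
  obtain ⟨-, -, Pinf, hPdeg, hPord, hall⟩ :=
    rational_props (isFunctionField_ratFunc (k := k)) (RatFunc.adjoin_X (K := k))
  obtain ⟨-, -, hord⟩ := inf_props (P₀ := Pinf) (by omega)
  set F := algebraMap k[X] (RatFunc k) f
  have hF0 : F ≠ 0 := algebraMap_poly_ne_zero hf.ne_zero
  have hy := not_mem_range_of_sq hf hd heq
  have hy0 : y ≠ 0 := fun e => hy ⟨0, by rw [map_zero, e]⟩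
  have h4 : ∀ P : Place k (RatFunc k), P.1 (4 : RatFunc k) = 1 := fun P => by
    rw [← map_ofNat (algebraMap k (RatFunc k)) 4]
    refine val_algebraMap P ?_
    rw [show (4 : k) = 2 * 2 by norm_num]
    exact mul_ne_zero (Ring.two_ne_zero h2) (Ring.two_ne_zero h2)
  have hy2 : ∀ {P : Place k (RatFunc k)} {Q : Place k K}, IsOverWith Q P 2 → Q.ord y = P.ord F := by
    intro P Q h
    have := congrArg Q.ord heq
    rw [ord_pow, IsOverWith.ord h] at this
    push_cast at this
    omega
  set c : ℕ := (f.natDegree + 1) / 2 with hc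
  set C : Divisor k (RatFunc k) := Finsupp.single Pinf (c : ℤ) with hC
  have key : (genus k K : ℤ) = C.deg - 1 := by
    refine genus_of_split (y := y) isFunctionField_ratFunc genus_ratFunc hK hdeg hy C fun P u v n => ?_
    rcases eq_or_ne P Pinf with rfl | hne
    · rw [hC, Finsupp.single_eq_same]
      rcases Nat.even_or_odd f.natDegree with heven | hodd
      · obtain ⟨m, hm⟩ := heven
        have hcm : c = m := by omega
        set s : RatFunc k := RatFunc.X ^ m
        have hs : s ≠ 0 := pow_ne_zero _ RatFunc.X_ne_zero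
        set z : K := y / algebraMap (RatFunc k) K s
        have hs' : algebraMap (RatFunc k) K s ≠ 0 := (_root_.map_ne_zero _).2 hs
        have hz : z ∉ Set.range (algebraMap (RatFunc k) K) := fun ⟨r, hr⟩ =>
          hy ⟨r * s, by rw [map_mul, hr, div_mul_cancel₀ _ hs']⟩
        have hzz : z * z = algebraMap (RatFunc k) K (F / (s * s)) + algebraMap (RatFunc k) K 0 * z := by
          rw [map_zero, zero_mul, add_zero, map_div₀, map_mul, div_mul_div_comm, ← pow_two y, heq]
        have hsv : P.1 s = exp (m : ℤ) := by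
          rw [map_pow, val_eq_exp P RatFunc.X_ne_zero, hPord, neg_neg, ← exp_nsmul, nsmul_eq_mul, mul_one]
        have hg : P.1 (F / (s * s)) = 1 := by
          rw [map_div₀, map_mul, hsv, val_eq_exp P hF0, hord f hf.ne_zero, neg_neg, ← exp_add, ← exp_sub, ← exp_zero,
            exp_inj]
          omega
        have h := local_disc (K' := K) isFunctionField_ratFunc hdeg hz hzz hg.le (by rw [map_zero]; exact zero_le)
          (by rw [mul_zero, add_zero, map_mul, h4, hg, one_mul]) u (v * s) n
        rw [map_mul, mul_assoc, mul_div_cancel₀ _ hs'] at h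
        rw [h, map_mul, hsv, hcm]
        refine and_congr_right fun _ => ?_
        rcases eq_or_ne v 0 with rfl | hv
        · simp
        rw [val_eq_exp P hv, ← exp_add, exp_le_exp, exp_le_exp]; omega
      · have hodd' : Odd (P.ord F) := by rw [hord f hf.ne_zero, odd_neg, Int.odd_coe_nat]; exact hodd
        refine local_ramified (K' := K) isFunctionField_ratFunc hdeg hy0
          (fun Q hQ => two_dvd_of_sq hQ heq hodd') c (fun Q hQ => ?_) u v n
        have h := (tot_ram (K' := K) isFunctionField_ratFunc hdeg (fun Q hQ => two_dvd_of_sq hQ heq hodd')).2 Q hQ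
        rw [hy2 h.1, hord f hf.ne_zero]
        obtain ⟨j, hj⟩ := hodd
        omega
    · have hX := hall P hne
      rw [hC, Finsupp.single_eq_of_ne hne, sub_zero]
      rcases eq_or_ne (P.ord F) 0 with h0 | h0
      · have hg : P.1 F = 1 := by rw [val_eq_exp P hF0, h0, neg_zero, exp_zero]
        exact local_disc (K' := K) isFunctionField_ratFunc hdeg hy
          (c₀ := F) (d₀ := 0) (by rw [map_zero, zero_mul, add_zero, ← pow_two, heq]) hg.le
          (by rw [map_zero]; exact zero_le) (by rw [mul_zero, add_zero, map_mul, h4, hg, one_mul]) u v n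
      · have hpos : 0 < P.ord F := by
          have := (ord_nonneg_iff P hF0).2 (val_poly_le hX f)
          omega
        have h1 := ord_squarefree hf hX hpos
        have hodd' : Odd (P.ord F) := by rw [h1]; exact odd_one
        have h := local_ramified (K' := K) isFunctionField_ratFunc hdeg hy0
          (fun Q hQ => two_dvd_of_sq hQ heq hodd') 0 (fun Q hQ => by
            have h := (tot_ram (K' := K) isFunctionField_ratFunc hdeg (fun Q hQ => two_dvd_of_sq hQ heq hodd')).2 Q hQ
            rw [hy2 h.1, h1]; norm_num) u v n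
        rwa [sub_zero] at h
  rw [hC, deg_single, hPdeg] at key
  omega

/-- The same, for `K = k(x, y)` given by generators. -/
theorem genus_sq' {k K : Type*} [Field k] [Field K] [Algebra k K] (hK : IsFunctionField k K) (h2 : ringChar k ≠ 2)
    {x y : K} (hx : Transcendental k x) (hxy : IntermediateField.adjoin k ({x, y} : Set K) = ⊤) {f : k[X]}
    (hf : Squarefree f) (hd : 1 ≤ f.natDegree) (heq : y ^ 2 = Polynomial.aeval x f) :
    genus k K = (f.natDegree - 1) / 2 := by
  let φ : RatFunc k →ₐ[k] K :=
    (IntermediateField.val _).comp (RatFunc.algEquivOfTranscendental x hx).toAlgHom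
  letI : Algebra (RatFunc k) K := φ.toRingHom.toAlgebra
  haveI : IsScalarTower k (RatFunc k) K := IsScalarTower.of_algebraMap_eq fun c => (φ.commutes c).symm
  have hφX : algebraMap (RatFunc k) K RatFunc.X = x := RatFunc.algEquivOfTranscendental_X x hx
  have heq' : y ^ 2 = algebraMap (RatFunc k) K (algebraMap k[X] (RatFunc k) f) := by
    rw [heq, algebraMap_poly, ← Polynomial.aeval_algebraMap_apply, hφX]
  have hy := not_mem_range_of_sq hf hd heq'
  have htop : IntermediateField.adjoin (RatFunc k) ({y} : Set K) = ⊤ := by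
    refine (IntermediateField.restrictScalars_eq_top_iff (K := k)).1 (top_le_iff.1 ?_)
    rw [← hxy, IntermediateField.adjoin_le_iff]
    intro z hz
    show z ∈ IntermediateField.adjoin (RatFunc k) ({y} : Set K)
    rcases hz with rfl | hz
    · rw [← hφX]; exact IntermediateField.algebraMap_mem _ _
    · rw [Set.mem_singleton_iff.1 hz]; exact IntermediateField.mem_adjoin_simple_self _ _
  set m : (RatFunc k)[X] := Polynomial.X ^ 2 - Polynomial.C (algebraMap k[X] (RatFunc k) f)
  have hm : m.Monic := Polynomial.monic_X_pow_sub_C _ two_ne_zero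
  have hmy : Polynomial.aeval y m = 0 := by
    simp only [m, map_sub, map_pow, Polynomial.aeval_X, Polynomial.aeval_C, heq', sub_self]
  have hint : IsIntegral (RatFunc k) y := ⟨m, hm, hmy⟩
  have hdeg : Module.finrank (RatFunc k) K = 2 := by
    rw [← IntermediateField.finrank_top' (F := RatFunc k) (E := K), ← htop, IntermediateField.adjoin.finrank hint]
    refine le_antisymm ?_ ((minpoly.two_le_natDegree_iff hint).2 fun h => hy h)
    refine (Polynomial.natDegree_le_of_dvd (minpoly.dvd _ _ hmy) hm.ne_zero).trans ?_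
    rw [Polynomial.natDegree_X_pow_sub_C]
  exact genus_sq hK hdeg h2 hf hd heq'

end sq

theorem genus_as {k K : Type*} [Field k] [Field K] (h2 : ringChar k = 2) [Algebra k K] [Algebra (RatFunc k) K]
    [IsScalarTower k (RatFunc k) K] (hK : IsFunctionField k K) (hdeg : Module.finrank (RatFunc k) K = 2) {y : K}
    (hy : y ∉ Set.range (algebraMap (RatFunc k) K)) {f : RatFunc k}
    (heq : y ^ 2 + y = algebraMap (RatFunc k) K f)
    (hodd : ∀ P : Place k (RatFunc k), div k f P < 0 → Odd (div k f P)) :
    (genus k K : ℤ) = -1 + ∑ P ∈ (div k f).support with div k f P < 0, (1 - div k f P) / 2 * (P.deg : ℤ) := by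
  classical
  haveI : FiniteDimensional (RatFunc k) K := Module.finite_of_finrank_pos (by omega)
  haveI : CharP k 2 := ringChar.of_eq h2
  haveI : CharP (RatFunc k) 2 := charP_of_injective_algebraMap (algebraMap k (RatFunc k)).injective 2
  set s := (div k f).support.filter fun P => div k f P < 0
  set C : Divisor k (RatFunc k) := ∑ P ∈ s, Finsupp.single P ((1 - div k f P) / 2)
  have hCdeg : C.deg = ∑ P ∈ s, (1 - div k f P) / 2 * (P.deg : ℤ) := by
    rw [← degHom_apply, map_sum]
    exact Finset.sum_congr rfl fun P _ => by rw [degHom_apply, deg_single]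
  have hCap : ∀ P, C P = if P ∈ s then (1 - div k f P) / 2 else 0 := fun P => by
    rw [Finsupp.finsetSum_apply]
    simp [Finsupp.single_apply]
  have hy0 : y ≠ 0 := fun e => hy ⟨0, by rw [map_zero, e]⟩
  rw [← hCdeg, neg_add_eq_sub]
  refine genus_of_split (y := y) isFunctionField_ratFunc genus_ratFunc hK hdeg hy C fun P u v n => ?_
  rcases lt_or_ge (P.ord f) 0 with hneg | hpos
  · have hPs : P ∈ s := by
      rw [Finset.mem_filter, Finsupp.mem_support_iff, div_apply isFunctionField_ratFunc]
      exact ⟨hneg.ne, hneg⟩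
    rw [hCap, if_pos hPs]
    have hodd' := hodd P (Finset.mem_filter.1 hPs).2
    rw [div_apply isFunctionField_ratFunc] at hodd' ⊢
    refine local_ramified (K' := K) isFunctionField_ratFunc hdeg hy0
      (fun Q hQ => two_dvd_of_as hQ heq hneg hodd') _ (fun Q hQ => ?_) u v n
    have h := (tot_ram (K' := K) isFunctionField_ratFunc hdeg
      (fun Q hQ => two_dvd_of_as hQ heq hneg hodd')).2 Q hQ
    have hv : Q.1 (y ^ 2 + y) = exp (-(2 * P.ord f)) := by
      rw [heq, h.1, val_eq_exp P (fun e => by rw [e, ord_zero] at hneg; omega), ← exp_nsmul]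
      congr 1
      simp only [nsmul_eq_mul, Nat.cast_ofNat]
      ring
    have hyv := val_eq_exp Q hy0
    have hlt : Q.ord y < 0 := by
      by_contra hge
      have hle : Q.1 y ≤ 1 := (ord_nonneg_iff Q hy0).1 (not_lt.1 hge)
      have : Q.1 (y ^ 2 + y) ≤ 1 :=
        (Q.1.map_add _ _).trans (max_le (by rw [map_pow]; exact pow_le_one' hle 2) hle)
      rw [hv, ← exp_zero, exp_le_exp] at this
      omega
    rw [Valuation.map_add_eq_of_lt_left _ (by
      rw [map_pow, hyv, ← exp_nsmul, exp_lt_exp]; simp only [nsmul_eq_mul, Nat.cast_ofNat]; omega),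
      map_pow, hyv, ← exp_nsmul, exp_inj] at hv
    obtain ⟨j, hj⟩ := hodd'
    simp only [nsmul_eq_mul, Nat.cast_ofNat] at hv
    omega
  · have hPs : P ∉ s := fun h => by
      have := (Finset.mem_filter.1 h).2
      rw [div_apply isFunctionField_ratFunc] at this
      omega
    rw [hCap, if_neg hPs, sub_zero]
    have hfv : P.1 f ≤ 1 := by
      rcases eq_or_ne f 0 with rfl | hf0
      · simp
      · exact (ord_nonneg_iff P hf0).1 hpos
    refine local_disc (K' := K) isFunctionField_ratFunc hdeg hy (c₀ := f) (d₀ := -1) ?_ hfv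
      (by rw [Valuation.map_neg, map_one]) ?_ u v n
    · rw [← heq, map_neg, map_one]; ring
    · rw [show (4 : RatFunc k) = 2 * 2 by norm_num, CharTwo.two_eq_zero, mul_zero, zero_mul, zero_add,
        neg_mul_neg, one_mul, map_one]

end Groth.Agent.FunFld
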