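import Groth.Agent.FunFld.RatPlaces
import Groth.Agent.FunFld.Ext.Quad
import Groth.Agent.FunFld.QuadExt
import Mathlib.Algebra.CharP.Two

/-! Quadratic extensions of the rational function field. -/

namespace Groth.Agent.FunFld

open _root_.FunFld WithZero Polynomial

variable {k K : Type*} [Field k] [Field K] [Algebra k K] [Algebra (RatFunc k) K]
  [IsScalarTower k (RatFunc k) K] (hdeg : Module.finrank (RatFunc k) K = 2)
include hdeg

theorem sq_finite_place {y : K} {f : k[X]} (hf : Squarefree f)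
    (heq : y ^ 2 = algebraMap (RatFunc k) K (algebraMap k[X] (RatFunc k) f)) {p : k[X]}
    (hp : Irreducible p) (hpf : p ∣ f) {P₀ : Place k (RatFunc k)}
    (hP₀ : P₀.1 (algebraMap k[X] (RatFunc k) p) < 1) :
    (∃! P : Place k K, IsOver P P₀) ∧ ∀ P : Place k K, IsOver P P₀ → IsOverWith P P₀ 2 ∧ P.deg = P₀.deg := by
  haveI : FiniteDimensional (RatFunc k) K := Module.finite_of_finrank_pos (by omega)
  refine tot_ram isFunctionField_ratFunc hdeg fun P hP => two_dvd_of_sq hP heq ?_
  rw [ord_squarefree_of_dvd hp hP₀ hf hpf]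
  exact odd_one

theorem sq_zero_iff {y : K} {f : k[X]} (hf : Squarefree f) (hd : 1 ≤ f.natDegree)
    (heq : y ^ 2 = algebraMap (RatFunc k) K (algebraMap k[X] (RatFunc k) f)) (P : Place k K) :
    (0 < P.ord y → P.ord y = 1) ∧ (0 < P.ord y ↔ ∃ P₀ : Place k (RatFunc k), IsOver P P₀ ∧
      0 ≤ P₀.ord (RatFunc.X : RatFunc k) ∧ 0 < P₀.ord (algebraMap k[X] (RatFunc k) f)) := by
  haveI : FiniteDimensional (RatFunc k) K := Module.finite_of_finrank_pos (by omega)
  have key : ∀ P₀ : Place k (RatFunc k), IsOver P P₀ → 2 * P.ord y = ramIdx P P₀ * P₀.ord (algebraMap k[X] (RatFunc k) f) := by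
    intro P₀ h
    have := congrArg P.ord heq
    rw [ord_pow, IsOverWith.ord (isOverWith_of_isOver h)] at this
    exact_mod_cast this
  have hX : ∀ P₀ : Place k (RatFunc k), 0 < P₀.ord (algebraMap k[X] (RatFunc k) f) →
      0 ≤ P₀.ord (RatFunc.X : RatFunc k) := fun P₀ h => by
    by_contra hc
    have := (inf_props (not_le.1 hc)).2.2 f hf.ne_zero
    omega
  obtain ⟨P₀, hP₀⟩ := exists_below (K := RatFunc k) P
  have hepos : (0 : ℤ) < ramIdx P P₀ := by exact_mod_cast IsOverWith.pos (isOverWith_of_isOver hP₀)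
  have h0 := key P₀ hP₀
  refine ⟨fun h => ?_, fun h => ?_, ?_⟩
  · have hpos : 0 < P₀.ord (algebraMap k[X] (RatFunc k) f) := by nlinarith
    have h1 := ord_squarefree hf (hX P₀ hpos) hpos
    have h2 := (tot_ram (K' := K) isFunctionField_ratFunc hdeg (P := P₀)
      fun Q hQ => two_dvd_of_sq hQ heq (by rw [h1]; exact odd_one)).2 P hP₀
    rw [ramIdx_eq h2.1, h1] at h0
    omega
  · have hpos : 0 < P₀.ord (algebraMap k[X] (RatFunc k) f) := by nlinarith
    exact ⟨P₀, hP₀, hX P₀ hpos, hpos⟩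
  · rintro ⟨R, hR, -, hpos⟩
    have h1 := key R hR
    have : (0 : ℤ) < ramIdx P R := by exact_mod_cast IsOverWith.pos (isOverWith_of_isOver hR)
    nlinarith

theorem sq_infinity (h2 : ringChar k ≠ 2) {y : K} {f : k[X]} (hf : Squarefree f) (hd : 1 ≤ f.natDegree)
    (heq : y ^ 2 = algebraMap (RatFunc k) K (algebraMap k[X] (RatFunc k) f)) {Pinf : Place k (RatFunc k)}
    (hinf : Pinf.ord (RatFunc.X : RatFunc k) < 0) :
    (Odd f.natDegree → (∃! P : Place k K, IsOver P Pinf) ∧
      ∀ P : Place k K, IsOver P Pinf → IsOverWith P Pinf 2 ∧ P.deg = 1) ∧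
    (Even f.natDegree → (conorm K (Finsupp.single Pinf 1)).deg = 2 ∧
      ∀ P : Place k K, IsOver P Pinf → IsOverWith P Pinf 1) := by
  haveI : FiniteDimensional (RatFunc k) K := Module.finite_of_finrank_pos (by omega)
  obtain ⟨hX, hdeg1, hord⟩ := inf_props hinf
  have hf' := hord f hf.ne_zero
  refine ⟨fun hodd => ?_, fun heven => ⟨?_, fun P hP => ?_⟩⟩
  · have h := tot_ram (K' := K) isFunctionField_ratFunc hdeg (P := Pinf) fun Q hQ => two_dvd_of_sq hQ heq
      (by rw [hf', odd_neg, Int.odd_coe_nat]; exact hodd)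
    exact ⟨h.1, fun P hP => by rw [← hdeg1]; exact h.2 P hP⟩
  · rw [deg_conorm isFunctionField_ratFunc, hdeg, deg_single, hdeg1]; norm_num
  · obtain ⟨m, hm⟩ := heven
    set g : RatFunc k := algebraMap k[X] (RatFunc k) f / RatFunc.X ^ (2 * m) with hg
    set z : K := y / algebraMap (RatFunc k) K (RatFunc.X ^ m) with hz
    have hXm : (RatFunc.X : RatFunc k) ^ m ≠ 0 := pow_ne_zero _ RatFunc.X_ne_zero
    have hzz : z * z = algebraMap (RatFunc k) K g + algebraMap (RatFunc k) K 0 * z := by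
      rw [map_zero, zero_mul, add_zero, hz, hg, div_mul_div_comm, ← pow_two y, heq, ← map_mul, ← map_div₀,
        ← pow_add, two_mul]
    have hznot : z ∉ Set.range (algebraMap (RatFunc k) K) := fun ⟨r, hr⟩ =>
      not_mem_range_of_sq hf hd heq ⟨r * RatFunc.X ^ m, by
        rw [map_mul, hr, hz, div_mul_cancel₀ _ ((_root_.map_ne_zero _).2 hXm)]⟩
    have hgv : Pinf.1 g = 1 := by
      rw [hg, map_div₀, map_pow, val_eq_exp Pinf (algebraMap_poly_ne_zero hf.ne_zero),
        val_eq_exp Pinf RatFunc.X_ne_zero, hf', hX, neg_neg, neg_neg, ← exp_nsmul, ← exp_sub, nsmul_eq_mul, mul_one,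
        ← exp_zero, exp_inj]
      omega
    have h4 : Pinf.1 (4 : RatFunc k) = 1 := by
      have h4k : (4 : k) ≠ 0 := by
        have := Ring.two_ne_zero h2
        rw [show (4 : k) = 2 * 2 by norm_num]
        exact mul_ne_zero this this
      rw [← map_ofNat (algebraMap k (RatFunc k)) 4]
      exact val_algebraMap Pinf h4k
    refine unramified_quadratic isFunctionField_ratFunc hdeg hznot hzz hgv.le (by rw [map_zero]; exact zero_le) ?_ hP
    rw [mul_zero, add_zero, map_mul, h4, hgv, one_mul]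

theorem as_places (h2 : ringChar k = 2) {y : K} (hy : y ∉ Set.range (algebraMap (RatFunc k) K)) {f : RatFunc k}
    (heq : y ^ 2 + y = algebraMap (RatFunc k) K f) (P₀ : Place k (RatFunc k)) :
    ((P₀.ord f < 0 ∧ Odd (P₀.ord f)) → (∃! P : Place k K, IsOver P P₀) ∧
      ∀ P : Place k K, IsOver P P₀ → IsOverWith P P₀ 2 ∧ P.deg = P₀.deg) ∧
    (0 ≤ P₀.ord f → ∀ P : Place k K, IsOver P P₀ → IsOverWith P P₀ 1) := by
  haveI : FiniteDimensional (RatFunc k) K := Module.finite_of_finrank_pos (by omega)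
  refine ⟨fun h => tot_ram isFunctionField_ratFunc hdeg fun Q hQ => two_dvd_of_as hQ heq h.1 h.2,
    fun h P hP => ?_⟩
  haveI : CharP k 2 := ringChar.of_eq h2
  haveI : CharP (RatFunc k) 2 := charP_of_injective_algebraMap (algebraMap k (RatFunc k)).injective 2
  have hfv : P₀.1 f ≤ 1 := by
    rcases eq_or_ne f 0 with rfl | hf0
    · simp
    · exact (ord_nonneg_iff P₀ hf0).1 h
  have hyy : y * y = algebraMap (RatFunc k) K f + algebraMap (RatFunc k) K (-1) * y := by
    rw [← heq, map_neg, map_one]; ring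
  refine unramified_quadratic isFunctionField_ratFunc hdeg hy hyy hfv (by rw [Valuation.map_neg, map_one]) ?_ hP
  rw [show (4 : RatFunc k) = 2 * 2 by norm_num, CharTwo.two_eq_zero, mul_zero, zero_mul, zero_add,
    neg_mul_neg, one_mul, map_one]

end Groth.Agent.FunFld
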