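import Groth.Agent.FunFld.Place
import Mathlib.Algebra.Polynomial.Identities
import Mathlib.FieldTheory.Separable
import Mathlib.FieldTheory.Galois.Basic
import Mathlib.RingTheory.IntegralDomain

/-! Higher ramification groups of a place with separable residue field. -/

namespace Groth.Agent.FunFld.Ramify

open _root_.FunFld WithZero IsLocalRing Polynomial

variable {k K K' : Type*} [Field k] [Field K] [Field K'] [Algebra k K] [Algebra K K'] [Algebra k K']
  [IsScalarTower k K K'] (Q : Place k K')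

/-- `σ` lies in the `i`-th ramification group. -/
def G (i : ℤ) (σ : K' ≃ₐ[K] K') : Prop := ∀ x : K', Q.1 x ≤ 1 → Q.1 (σ x - x) ≤ exp (-i)

theorem G.mono {i j : ℤ} {σ : K' ≃ₐ[K] K'} (h : G Q i σ) (hji : j ≤ i) : G Q j σ := fun x hx =>
  (h x hx).trans (exp_le_exp.2 (by omega))

variable {t : K'} (ht : Q.1 t = exp (-1 : ℤ))

include ht in
theorem div_pow (n : ℕ) {y : K'} (hy : Q.1 y ≤ exp (-(n : ℤ))) :
    ∃ z, Q.1 z ≤ 1 ∧ y = t ^ n * z := by
  have ht0 : t ≠ 0 := ne_zero_of_val Q ht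
  refine ⟨y / t ^ n, ?_, by field_simp⟩
  rw [map_div₀, map_pow, ht, ← exp_nsmul, div_le_one₀ exp_pos]
  simpa using hy

include ht in
theorem val_t_le : Q.1 t ≤ 1 := by rw [ht, ← exp_zero, exp_le_exp]; omega

variable {σ τ : K' ≃ₐ[K] K'}

theorem val_apply_le_one {i : ℤ} (hi : 0 ≤ i) (h : G Q i σ) {x : K'} (hx : Q.1 x ≤ 1) :
    Q.1 (σ x) ≤ 1 := by
  rw [show σ x = (σ x - x) + x by ring]
  exact (Q.1.map_add _ _).trans (max_le ((h x hx).trans (by rw [← exp_zero, exp_le_exp]; omega)) hx)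

include ht in
theorem val_apply_le {i : ℤ} (hi : 1 ≤ i) (h : G Q i σ) (n : ℕ) {y : K'}
    (hy : Q.1 y ≤ exp (-(n : ℤ))) : Q.1 (σ y) ≤ exp (-(n : ℤ)) := by
  obtain ⟨z, hz, rfl⟩ := div_pow Q ht n hy
  have h1 : Q.1 (σ t) ≤ exp (-1 : ℤ) := by
    rw [show σ t = (σ t - t) + t by ring]
    exact (Q.1.map_add _ _).trans (max_le ((h t (val_t_le Q ht)).trans (exp_le_exp.2 (by omega))) ht.le)
  rw [map_mul, map_pow, map_mul, map_pow]
  refine (mul_le_mul' (pow_le_pow_left' h1 n) (val_apply_le_one Q (by omega) h hz)).trans ?_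
  rw [mul_one, ← exp_nsmul]
  simp

variable [Algebra.IsSeparable k (ResidueField Q.O)]

include ht in
/-- The induction step: a Galois element in `G_i` lies in `G_(i+1)` if it fixes `t` modulo
`Q^(i+1)`. -/
theorem step {i : ℤ} (hi : 1 ≤ i) (h : G Q i σ) (h' : Q.1 (σ t - t) ≤ exp (-(i + 1))) :
    G Q (i + 1) σ := by
  intro x hx
  let a : Q.O := ⟨x, hx⟩
  let f := minpoly k (residue Q.O a)
  have hint : IsIntegral k (residue Q.O a) := Algebra.IsIntegral.isIntegral _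
  have hsep : f.Separable := Algebra.IsSeparable.isSeparable k (residue Q.O a)
  have hres : ∀ g : k[X], residue Q.O (aeval a g) = aeval (residue Q.O a) g := fun g => by
    rw [aeval_def, Polynomial.hom_eval₂, aeval_def]; rfl
  have hcoe : ∀ g : k[X], ((aeval a g : Q.O) : K') = aeval x g := fun g => by
    have h1 := Polynomial.hom_eval₂ g (algebraMap k Q.O) Q.O.subtype a
    rw [aeval_def, aeval_def]
    exact h1
  have hlt : Q.1 (aeval x f) < 1 := by
    have h0 : resL Q ⟨aeval x f, val_aeval_le Q hx f⟩ = 0 := by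
      change residue Q.O _ = 0
      rw [show (⟨aeval x f, val_aeval_le Q hx f⟩ : Q.O) = aeval a f from Subtype.ext (hcoe f).symm,
        hres, minpoly.aeval]
    exact (resL_eq_zero Q _).1 h0
  have hunit : Q.1 (aeval x f.derivative) = 1 := by
    refine le_antisymm (val_aeval_le Q hx _) (not_lt.1 fun hc => ?_)
    have h0 := (resL_eq_zero Q ⟨aeval x f.derivative, val_aeval_le Q hx _⟩).2 hc
    change residue Q.O _ = 0 at h0
    rw [show (⟨aeval x f.derivative, val_aeval_le Q hx _⟩ : Q.O) = aeval a f.derivative from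
      Subtype.ext (hcoe _).symm, hres] at h0
    exact hsep.aeval_derivative_ne_zero (minpoly.aeval k _) h0
  obtain ⟨z, hz, hfz⟩ := div_pow Q ht 1 (y := aeval x f) (by simpa using (lt_one_iff_le Q).1 hlt)
  rw [pow_one] at hfz
  have hd : ((σ x - x) : K') = σ x - x := rfl
  -- Taylor expansion of `f` at `x`
  have hdO : Q.1 (σ x - x) ≤ 1 := (h x hx).trans (by rw [← exp_zero, exp_le_exp]; omega)
  let b : Q.O := ⟨σ x - x, hdO⟩
  obtain ⟨c, hc⟩ := Polynomial.binomExpansion (f.map (algebraMap k Q.O)) a b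
  rw [Polynomial.derivative_map, Polynomial.eval_map, Polynomial.eval_map, Polynomial.eval_map,
    ← aeval_def, ← aeval_def, ← aeval_def] at hc
  have hc' := congrArg Subtype.val hc
  have e1 : ((a + b : Q.O) : K') = σ x := by simp [a, b]
  have e2 : σ (aeval x f) = aeval x f + aeval x f.derivative * (σ x - x) + (c : K') * (σ x - x) ^ 2 := by
    have h2 : ((aeval (a + b) f : Q.O) : K') = aeval (σ x) f := by
      have h1 := Polynomial.hom_eval₂ f (algebraMap k Q.O) Q.O.subtype (a + b)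
      rw [aeval_def, aeval_def, ← e1]
      exact h1
    have h3 : σ (aeval x f) = aeval (σ x) f :=
      (Polynomial.aeval_algHom_apply (σ.toAlgHom.restrictScalars k) x f).symm
    rw [h3, ← h2, hc']
    push_cast
    rw [hcoe, hcoe]
  have e3 : aeval x f.derivative * (σ x - x) =
      (σ t * (σ z - z) + z * (σ t - t)) - (c : K') * (σ x - x) ^ 2 := by
    have : σ (aeval x f) = σ t * σ z := by rw [hfz, map_mul]
    rw [this, hfz] at e2
    linear_combination -e2
  have hσt : Q.1 (σ t) ≤ exp (-((1 : ℕ) : ℤ)) := val_apply_le Q ht hi h 1 (by simpa using ht.le)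
  calc Q.1 (σ x - x) = Q.1 (aeval x f.derivative * (σ x - x)) := by rw [map_mul, hunit, one_mul]
    _ ≤ exp (-(i + 1)) := by
      rw [e3]
      refine (Q.1.map_sub _ _).trans (max_le ((Q.1.map_add _ _).trans (max_le ?_ ?_)) ?_)
      · rw [map_mul]
        refine (mul_le_mul' hσt (h z hz)).trans ?_
        rw [← exp_add, exp_le_exp]; push_cast; omega
      · rw [map_mul]
        exact (mul_le_mul' hz h').trans (by rw [one_mul])
      · rw [map_mul, map_pow]
        refine (mul_le_mul' c.2 (pow_le_pow_left' (h x hx) 2)).trans ?_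
        rw [one_mul, ← exp_nsmul, exp_le_exp]; simp; omega

include ht in
theorem iff_apply (h1 : G Q 1 σ) (j : ℕ) (hj : 1 ≤ j) :
    G Q j σ ↔ Q.1 (σ t - t) ≤ exp (-(j : ℤ)) := by
  refine ⟨fun h => h t (val_t_le Q ht), fun h => ?_⟩
  induction j, hj using Nat.le_induction with
  | base => exact_mod_cast h1
  | succ j hj ih =>
    have h' := ih (h.trans (exp_le_exp.2 (by push_cast; omega)))
    have := step Q ht (i := (j : ℤ)) (by exact_mod_cast hj) h' (by exact_mod_cast h)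
    exact_mod_cast this

omit [Algebra.IsSeparable k (ResidueField Q.O)]

theorem G_one {i : ℤ} : G Q i (1 : K' ≃ₐ[K] K') := fun x _ => by simp

include ht in
theorem G_mul {i : ℤ} (hi : 1 ≤ i) (hs : G Q i σ) (hτ : G Q i τ) : G Q i (σ * τ) := by
  intro x hx
  rw [AlgEquiv.mul_apply, show σ (τ x) - x = σ (τ x - x) + (σ x - x) by rw [map_sub]; ring]
  refine (Q.1.map_add _ _).trans (max_le ?_ (hs x hx))
  have h1 : Q.1 (τ x - x) ≤ exp (-((i.toNat : ℕ) : ℤ)) :=
    (hτ x hx).trans (exp_le_exp.2 (by rw [Int.toNat_of_nonneg (by omega)]))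
  refine (val_apply_le Q ht hi hs _ h1).trans (exp_le_exp.2 ?_)
  rw [Int.toNat_of_nonneg (by omega)]

include ht in
theorem G_pow {i : ℤ} (hi : 1 ≤ i) (hs : G Q i σ) : ∀ n : ℕ, G Q i (σ ^ n)
  | 0 => by rw [pow_zero]; exact G_one Q
  | n + 1 => by rw [pow_succ]; exact G_mul Q ht hi (G_pow hi hs n) hs

include ht in
theorem G_inv [FiniteDimensional K K'] {i : ℤ} (hi : 1 ≤ i) (hs : G Q i σ) : G Q i σ⁻¹ := by
  rw [show σ⁻¹ = σ ^ (orderOf σ - 1) from ?_]
  · exact G_pow Q ht hi hs _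
  · rw [inv_eq_iff_mul_eq_one, ← pow_succ', Nat.sub_add_cancel (orderOf_pos σ), pow_orderOf_eq_one]

include ht in
/-- `σ ↦ σ t - t` is additive on `G_i` modulo `Q^(i+1)` for `i ≥ 2`. -/
theorem additive {i : ℕ} (hi : 2 ≤ i) (hs : G Q (i : ℤ) σ) (hτ : G Q (i : ℤ) τ) :
    Q.1 (((σ * τ) t - t) - ((σ t - t) + (τ t - t))) ≤ exp (-((i : ℤ) + 1)) := by
  obtain ⟨z, hz, hy⟩ := div_pow Q ht i (hτ t (val_t_le Q ht))
  have e : ((σ * τ) t - t) - ((σ t - t) + (τ t - t)) =
      (σ (t ^ i) - t ^ i) * σ z + t ^ i * (σ z - z) := by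
    have h1 := congrArg σ hy
    rw [map_sub, map_mul] at h1
    rw [AlgEquiv.mul_apply]
    linear_combination h1 - hy
  have hpow : ∀ m : ℕ, Q.1 (σ (t ^ (m + 1)) - t ^ (m + 1)) ≤ exp (-((m : ℤ) + i)) := by
    intro m
    induction m with
    | zero => simpa using hs t (val_t_le Q ht)
    | succ m ih =>
      rw [show σ (t ^ (m + 1 + 1)) - t ^ (m + 1 + 1) =
        σ t * (σ (t ^ (m + 1)) - t ^ (m + 1)) + t ^ (m + 1) * (σ t - t) by
          simp only [map_pow]; ring]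
      refine (Q.1.map_add _ _).trans (max_le ?_ ?_)
      · rw [map_mul]
        refine (mul_le_mul' (val_apply_le Q ht (by omega) hs 1 (by simpa using ht.le)) ih).trans ?_
        rw [← exp_add, exp_le_exp]; push_cast; omega
      · rw [map_mul, map_pow, ht, ← exp_nsmul]
        refine (mul_le_mul' le_rfl (hs t (val_t_le Q ht))).trans ?_
        rw [← exp_add, exp_le_exp]; simp
  obtain ⟨m, rfl⟩ : ∃ m, i = m + 1 := ⟨i - 1, by omega⟩
  rw [e]
  refine (Q.1.map_add _ _).trans (max_le ?_ ?_)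
  · rw [map_mul]
    refine (mul_le_mul' (hpow m) (val_apply_le_one Q (by omega) hs hz)).trans ?_
    rw [mul_one, exp_le_exp]; push_cast; omega
  · rw [map_mul, map_pow, ht, ← exp_nsmul]
    refine (mul_le_mul' le_rfl (hs z hz)).trans ?_
    rw [← exp_add, exp_le_exp]; simp; omega

variable [FiniteDimensional K K'] [Algebra.IsSeparable k (ResidueField Q.O)]

theorem quotient_props {i : ℕ} (hi : 2 ≤ i) (hs : G Q (i : ℤ) σ) (hτ : G Q (i : ℤ) τ) :
    G Q ((i : ℤ) + 1) (σ * τ * σ⁻¹ * τ⁻¹) ∧ (ringChar K = 0 → G Q ((i : ℤ) + 1) σ) ∧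
      ∀ p : ℕ, p.Prime → ringChar K = p → G Q ((i : ℤ) + 1) (σ ^ p) := by
  obtain ⟨t, ht⟩ := exists_val Q (-1)
  have hi' : (1 : ℤ) ≤ (i : ℤ) := by omega
  let a : (K' ≃ₐ[K] K') → K' := fun ρ => ρ t - t
  let B : WithZero (Multiplicative ℤ) := exp (-((i : ℤ) + 1))
  have hadd : ∀ {ρ π : K' ≃ₐ[K] K'}, G Q (i : ℤ) ρ → G Q (i : ℤ) π →
      Q.1 (a (ρ * π) - (a ρ + a π)) ≤ B := fun hρ hπ => additive Q ht hi hρ hπ
  have hsub : ∀ {u v : K'}, Q.1 u ≤ B → Q.1 v ≤ B → Q.1 (u + v) ≤ B :=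
    fun hu hv => (Q.1.map_add _ _).trans (max_le hu hv)
  have hneg : ∀ {u : K'}, Q.1 u ≤ B → Q.1 (-u) ≤ B := fun hu => by rwa [Valuation.map_neg]
  have hinv : ∀ {ρ : K' ≃ₐ[K] K'}, G Q (i : ℤ) ρ → Q.1 (a ρ + a ρ⁻¹) ≤ B := by
    intro ρ hρ
    have h := hadd hρ (G_inv Q ht hi' hρ)
    rw [mul_inv_cancel] at h
    convert hneg h using 2
    simp [a]
  have hpow : ∀ n : ℕ, Q.1 (a (σ ^ n) - n * a σ) ≤ B := by
    intro n
    induction n with
    | zero => simp [a]
    | succ n ih =>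
      have h := hsub (hadd (G_pow Q ht hi' hs n) hs) ih
      rw [pow_succ]
      convert h using 2
      push_cast; ring
  refine ⟨?_, fun h0 => ?_, fun p hp hchar => ?_⟩
  · refine step Q ht hi' (G_mul Q ht hi' (G_mul Q ht hi' (G_mul Q ht hi' hs hτ) (G_inv Q ht hi' hs))
      (G_inv Q ht hi' hτ)) ?_
    have h1 := hadd (G_mul Q ht hi' (G_mul Q ht hi' hs hτ) (G_inv Q ht hi' hs)) (G_inv Q ht hi' hτ)
    have h2 := hadd (G_mul Q ht hi' hs hτ) (G_inv Q ht hi' hs)
    have h := hsub (hsub (hsub (hsub h1 h2) (hadd hs hτ)) (hinv hs)) (hinv hτ)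
    change Q.1 (a (σ * τ * σ⁻¹ * τ⁻¹)) ≤ B
    convert h using 2
    ring
  · refine step Q ht hi' hs ?_
    have hn := orderOf_pos σ
    have h := hpow (orderOf σ)
    rw [pow_orderOf_eq_one] at h
    have h' : Q.1 ((orderOf σ : K') * a σ) ≤ B := by
      have := hneg h
      simpa [a] using this
    haveI : CharZero K := (CharP.ringChar_zero_iff_CharZero K).1 h0
    have hk : (orderOf σ : k) ≠ 0 := fun e => by
      have := congrArg (algebraMap k K) e
      rw [map_natCast, map_zero, Nat.cast_eq_zero] at this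
      omega
    rwa [map_mul, show Q.1 (orderOf σ : K') = 1 by
      rw [← map_natCast (algebraMap k K')]; exact val_algebraMap Q hk, one_mul] at h'
  · refine step Q ht hi' (G_pow Q ht hi' hs p) ?_
    have h := hpow p
    haveI : CharP K p := hchar ▸ ringChar.charP K
    haveI : CharP K' p := charP_of_injective_algebraMap (algebraMap K K').injective p
    simpa [a, B, CharP.cast_eq_zero] using h

theorem cyclic : ∃ σ₀ : K' ≃ₐ[K] K', G Q 1 σ₀ ∧ ∀ σ, G Q 1 σ →
    ∃ n : ℕ, G Q 2 ((σ₀ ^ n)⁻¹ * σ) := by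
  classical
  obtain ⟨t, ht⟩ := exists_val Q (-1)
  have ht0 : t ≠ 0 := ne_zero_of_val Q ht
  let H : Subgroup (K' ≃ₐ[K] K') :=
    { carrier := {σ | G Q 1 σ}
      one_mem' := G_one Q
      mul_mem' := G_mul Q ht le_rfl
      inv_mem' := G_inv Q ht le_rfl }
  have hH : ∀ σ : H, G Q 1 (σ : K' ≃ₐ[K] K') := fun σ => σ.2
  have hu : ∀ σ : H, Q.1 ((σ : K' ≃ₐ[K] K') t / t) ≤ 1 := fun σ => by
    rw [map_div₀, ht, div_le_one₀ exp_pos]
    simpa using val_apply_le Q ht le_rfl (hH σ) 1 (by simpa using ht.le)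
  let φ : H →* ResidueField Q.O :=
    { toFun := fun σ => residue Q.O ⟨_, hu σ⟩
      map_one' := by
        rw [← map_one (residue Q.O)]
        exact congrArg _ (Subtype.ext (by simp [ht0]))
      map_mul' := fun σ τ => by
        rw [← map_mul, ← sub_eq_zero, ← map_sub]
        set u := (τ : K' ≃ₐ[K] K') t / t
        refine (resL_eq_zero Q ⟨_, ((⟨_, hu (σ * τ)⟩ : Q.O) - ⟨_, hu σ⟩ * ⟨_, hu τ⟩).2⟩).2 ?_
        have e : ((σ * τ : H) : K' ≃ₐ[K] K') t / t - (σ : K' ≃ₐ[K] K') t / t * u =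
            (σ : K' ≃ₐ[K] K') t / t * ((σ : K' ≃ₐ[K] K') u - u) := by
          simp only [Subgroup.coe_mul, AlgEquiv.mul_apply, u, map_div₀]
          have : (σ : K' ≃ₐ[K] K') t ≠ 0 := by simpa using ht0
          field_simp
        change Q.1 (((σ * τ : H) : K' ≃ₐ[K] K') t / t - (σ : K' ≃ₐ[K] K') t / t * u) < 1
        rw [e, lt_one_iff_le Q, map_mul]
        exact (mul_le_mul' (hu σ) (hH σ u (hu τ))).trans (by rw [one_mul]) }
  haveI : Finite φ.toHomUnits.range := Finite.of_surjective _ φ.toHomUnits.rangeRestrict_surjective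
  haveI : IsCyclic φ.toHomUnits.range := inferInstance
  obtain ⟨g, hg⟩ := IsCyclic.exists_generator (α := φ.toHomUnits.range)
  obtain ⟨σ₀, hσ₀⟩ := g.2
  refine ⟨σ₀, σ₀.2, fun σ hσ => ?_⟩
  obtain ⟨n, hn⟩ := (mem_powers_iff_mem_zpowers).2 (hg ⟨_, ⟨⟨σ, hσ⟩, rfl⟩⟩)
  refine ⟨n, ?_⟩
  have hn' : φ.toHomUnits (σ₀ ^ n) = φ.toHomUnits ⟨σ, hσ⟩ := by
    rw [map_pow, hσ₀]
    exact congrArg Subtype.val hn
  set ρ : H := (σ₀ ^ n)⁻¹ * ⟨σ, hσ⟩
  have hρ : φ.toHomUnits ρ = 1 := by rw [map_mul, map_inv, hn', inv_mul_cancel]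
  have hρ' : φ ρ = 1 := congrArg Units.val hρ
  change G Q 2 (ρ : K' ≃ₐ[K] K')
  refine step Q ht (i := 1) le_rfl ρ.2 ?_
  have h0 : resL Q ⟨(ρ : K' ≃ₐ[K] K') t / t - 1, ((⟨_, hu ρ⟩ : Q.O) - 1).2⟩ = 0 := by
    change residue Q.O ((⟨_, hu ρ⟩ : Q.O) - 1) = 0
    rw [map_sub, map_one]
    exact sub_eq_zero.2 hρ'
  have h1 := (lt_one_iff_le Q).1 ((resL_eq_zero Q _).1 h0)
  rw [show (ρ : K' ≃ₐ[K] K') t - t = t * ((ρ : K' ≃ₐ[K] K') t / t - 1) by field_simp, map_mul, ht]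
  refine (mul_le_mul' le_rfl h1).trans ?_
  rw [← exp_add, exp_le_exp]; omega

end Groth.Agent.FunFld.Ramify
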