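import Groth.Agent.FunFld.Ext.Fundamental
import Groth.Agent.FunFld.Extra
import Groth.Agent.FunFld.Curve
import Groth.Agent.FunFld.Wr.DiffLocal

/-! The rational subfield generated by a transcendental element. -/

namespace Groth.Agent.FunFld

open _root_.FunFld WithZero

variable {k K : Type*} [Field k] [Field K] [Algebra k K] {x : K}

set_option quotPrecheck false in
local notation "K0" => IntermediateField.adjoin k ({x} : Set K)

/-- `x` as an element of `k(x)`. -/
noncomputable def genOf (k : Type*) {K : Type*} [Field k] [Field K] [Algebra k K] (x : K) :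
    IntermediateField.adjoin k ({x} : Set K) := ⟨x, IntermediateField.mem_adjoin_simple_self k x⟩

theorem adjoin_genOf : IntermediateField.adjoin k ({genOf k x} : Set (IntermediateField.adjoin k ({x} : Set K))) = ⊤ := by
  apply IntermediateField.lift_injective (IntermediateField.adjoin k ({x} : Set K))
  rw [IntermediateField.lift_adjoin_simple, IntermediateField.lift_top]
  rfl

theorem transcendental_genOf (hx : Transcendental k x) : Transcendental k (genOf k x) :=
  fun h => hx (by simpa [genOf] using h.algHom (IntermediateField.adjoin k ({x} : Set K)).val)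

theorem isFunctionField_rat (hK : IsFunctionField k K) (hx : Transcendental k x) :
    IsFunctionField k (IntermediateField.adjoin k ({x} : Set K)) := by
  refine ⟨⟨genOf k x, transcendental_genOf hx, ?_⟩, fun z hz => ?_⟩
  · rw [adjoin_genOf]
    exact Module.Finite.of_surjective (Algebra.linearMap
      (⊤ : IntermediateField k (IntermediateField.adjoin k ({x} : Set K))) _) fun z => ⟨⟨z, trivial⟩, rfl⟩
  · obtain ⟨c, hc⟩ := hK.2 (z : K) (by simpa using hz.algHom (IntermediateField.adjoin k ({x} : Set K)).val)
    exact ⟨c, Subtype.ext hc⟩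

theorem gen_sub_ne (hx : Transcendental k x) (c : k) :
    genOf k x - algebraMap k (IntermediateField.adjoin k ({x} : Set K)) c ≠ 0 := fun h =>
  transcendental_genOf hx (by rw [sub_eq_zero] at h; rw [h]; exact isAlgebraic_algebraMap c)

/-- A place of `k(x)` at which `x - c` vanishes has `x - c` as a uniformizer and is unique. -/
theorem rat_zero_props (hK : IsFunctionField k K) (hx : Transcendental k x) (c : k)
    {P : Place k (IntermediateField.adjoin k ({x} : Set K))}
    (hP : P.1 (genOf k x - algebraMap k _ c) < 1) :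
    P.1 (genOf k x - algebraMap k _ c) = exp (-1) ∧
      ∀ R : Place k (IntermediateField.adjoin k ({x} : Set K)), R.1 (genOf k x - algebraMap k _ c) < 1 → R = P := by
  set w := genOf k x - algebraMap k K0 c
  have hw : IntermediateField.adjoin k ({w⁻¹} : Set K0) = ⊤ := by
    rw [eq_top_iff, ← adjoin_genOf, IntermediateField.adjoin_simple_le_iff]
    have := inv_mem (IntermediateField.mem_adjoin_simple_self k w⁻¹)
    rw [inv_inv] at this
    have h := add_mem this ((IntermediateField.adjoin k ({w⁻¹} : Set K0)).algebraMap_mem c)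
    rwa [sub_add_cancel] at h
  obtain ⟨-, -, P1, -, h2, h3⟩ := rational_props (isFunctionField_rat hK hx) hw
  have huniq : ∀ R : Place k K0, R.1 w < 1 → R = P1 := fun R hR => by
    by_contra hne
    have := h3 R hne
    rw [ord_inv] at this
    have : 0 < R.ord w := (ord_pos_iff R (gen_sub_ne hx c)).2 hR
    omega
  refine ⟨?_, fun R hR => (huniq R hR).trans (huniq P hP).symm⟩
  rw [val_eq_exp P (gen_sub_ne hx c), huniq P hP]
  rw [ord_inv] at h2
  rw [show P1.ord w = 1 by omega]

theorem exists_rat_zero (hK : IsFunctionField k K) (hx : Transcendental k x) (c : k) :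
    ∃ P : Place k (IntermediateField.adjoin k ({x} : Set K)), P.1 (genOf k x - algebraMap k _ c) < 1 := by
  have hw : IntermediateField.adjoin k ({(genOf k x - algebraMap k K0 c)⁻¹} : Set K0) = ⊤ := by
    rw [eq_top_iff, ← adjoin_genOf, IntermediateField.adjoin_simple_le_iff]
    have := inv_mem (IntermediateField.mem_adjoin_simple_self k (genOf k x - algebraMap k K0 c)⁻¹)
    rw [inv_inv] at this
    have h := add_mem this ((IntermediateField.adjoin k ({(genOf k x - algebraMap k K0 c)⁻¹} : Set K0)).algebraMap_mem c)
    rwa [sub_add_cancel] at h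
  obtain ⟨-, -, P1, -, h2, -⟩ := rational_props (isFunctionField_rat hK hx) hw
  refine ⟨P1, (ord_pos_iff P1 (gen_sub_ne hx c)).1 ?_⟩
  rw [ord_inv] at h2
  omega

/-- An element of `k(x)` integral at every finite place is a polynomial in `x`. -/
theorem rat_polynomial [IsAlgClosed k] (hK : IsFunctionField k K) (hx : Transcendental k x)
    {a : IntermediateField.adjoin k ({x} : Set K)}
    (ha : ∀ P : Place k (IntermediateField.adjoin k ({x} : Set K)), P.1 (genOf k x) ≤ 1 → P.1 a ≤ 1) :
    ∃ r : Polynomial k, a = Polynomial.aeval (genOf k x) r := by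
  have hinj := transcendental_iff_injective.1 (transcendental_genOf hx)
  suffices h : ∀ (n : ℕ) (r s : Polynomial k), s.natDegree ≤ n → s ≠ 0 →
      a * Polynomial.aeval (genOf k x) s = Polynomial.aeval (genOf k x) r →
      ∃ r', a = Polynomial.aeval (genOf k x) r' by
    obtain ⟨r, s, hrs⟩ := (IntermediateField.mem_adjoin_simple_iff k a).1
      ((adjoin_genOf (k := k) (x := x)).symm ▸ IntermediateField.mem_top)
    rcases eq_or_ne (Polynomial.aeval (genOf k x) s) 0 with h0 | h0
    · exact ⟨0, by rw [hrs, h0, div_zero, map_zero]⟩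
    · exact h _ r s le_rfl (fun e => h0 (by rw [e, map_zero])) (by rw [hrs, div_mul_cancel₀ _ h0])
  intro n
  induction n with
  | zero =>
    intro r s hs hs0 he
    obtain ⟨c, rfl⟩ := Polynomial.natDegree_eq_zero.1 (Nat.le_zero.1 hs)
    have hc : c ≠ 0 := fun h => hs0 (by rw [h, map_zero])
    refine ⟨Polynomial.C c⁻¹ * r, ?_⟩
    rw [map_mul, ← he, Polynomial.aeval_C, Polynomial.aeval_C, mul_left_comm, ← map_mul, inv_mul_cancel₀ hc, map_one,
      mul_one]
  | succ n ih =>
    intro r s hs hs0 he
    rcases Nat.eq_zero_or_pos s.natDegree with h0 | h0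
    · exact ih r s (by omega) hs0 he
    obtain ⟨c, hc⟩ := IsAlgClosed.exists_root s (by rw [Polynomial.degree_eq_natDegree hs0]; exact_mod_cast h0.ne')
    obtain ⟨P, hP⟩ := exists_rat_zero hK hx c
    have hev : ∀ p : Polynomial k, P.1 (Polynomial.aeval (genOf k x) p - algebraMap k K0 (p.eval c)) < 1 :=
      val_aeval_sub_lt hP
    have hrc : r.eval c = 0 := by
      by_contra hne
      have h1 := val_eq_one_of_const (hev r) hne
      have h2 : P.1 (Polynomial.aeval (genOf k x) s) < 1 := by
        have := hev s
        rwa [hc.eq_zero, map_zero, sub_zero] at this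
      have h3 : P.1 a ≤ 1 := ha P (val_le_of_sub' hP)
      rw [← he, map_mul] at h1
      exact (lt_of_le_of_lt (mul_le_mul' h3 le_rfl) (by rwa [one_mul])).ne h1
    obtain ⟨s', rfl⟩ := Polynomial.dvd_iff_isRoot.2 hc
    obtain ⟨r', rfl⟩ := Polynomial.dvd_iff_isRoot.2 (show r.IsRoot c from hrc)
    have hs' : s' ≠ 0 := right_ne_zero_of_mul hs0
    refine ih r' s' ?_ hs' ?_
    · rw [Polynomial.natDegree_mul (Polynomial.X_sub_C_ne_zero c) hs', Polynomial.natDegree_X_sub_C] at hs
      omega
    · rw [map_mul, map_mul, mul_left_comm] at he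
      exact mul_left_cancel₀ (fun h => Polynomial.X_sub_C_ne_zero c (hinj (h.trans (map_zero _).symm))) he
where
  val_le_of_sub' {P : Place k (IntermediateField.adjoin k ({x} : Set K))} {c : k}
      (h : P.1 (genOf k x - algebraMap k _ c) < 1) : P.1 (genOf k x) ≤ 1 := by
    rw [← sub_add_cancel (genOf k x) (algebraMap k _ c)]
    exact (P.1.map_add _ _).trans (max_le h.le (P.2.1 c))

end Groth.Agent.FunFld
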