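import Groth.Agent.FunFld.Ext.Disc
import Groth.Agent.FunFld.Geometric2
import Mathlib.FieldTheory.SeparableDegree

/-! A geometric function field has infinitely many places with separable residue field. -/

namespace Groth.Agent.FunFld

open _root_.FunFld WithZero IsLocalRing

attribute [-instance] instModuleResidueFieldOfAlgebra

universe u v

variable {k : Type u} {K : Type v} [Field k] [Field K] [Algebra k K]

theorem places_infinite (hK : IsFunctionField k K) : (Set.univ : Set (Place k K)).Infinite := by
  classical
  intro hfin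
  obtain ⟨P₀⟩ := exists_place_any hK
  choose t ht using fun P : Place k K => exists_val P (-1)
  obtain ⟨y, hy⟩ := exists_approx hfin.toFinset t (-2)
  have hord : ∀ P : Place k K, P.ord y = 1 := fun P => by
    have h := hy P (hfin.mem_toFinset.2 trivial)
    have hv : P.1 y = exp (-1) := by
      rw [← ht P]
      refine Valuation.map_eq_of_sub_lt _ (h.trans_lt ?_)
      rw [ht P, exp_lt_exp]; omega
    rw [ord_eq_of_val P hv, neg_neg]
  have hdeg := deg_div hK y
  have hpos : (0 : ℤ) < (div k y).deg := by
    rw [Divisor.deg, Finsupp.sum]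
    refine Finset.sum_pos (fun P _ => ?_) ⟨P₀, ?_⟩
    · rw [div_apply hK, hord, one_mul]; exact_mod_cast deg_pos hK P
    · rw [Finsupp.mem_support_iff, div_apply hK, hord]; exact one_ne_zero
  omega

theorem separable_residue_infinite (hK : IsFunctionField k K) (hg : IsGeometric k K) :
    {P : Place k K | Algebra.IsSeparable k (ResidueField P.O)}.Infinite := by
  classical
  rcases finite_or_infinite k with hfk | hik
  · refine (places_infinite hK).mono fun P _ => ?_
    haveI hfin : @Module.Finite k (ResidueField P.O) _ _ Algebra.toModule := residue_finite hK P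
    haveI : Algebra.IsAlgebraic k (ResidueField P.O) := Algebra.IsAlgebraic.of_finite k _
    exact (inferInstance : Algebra.IsSeparable k (ResidueField P.O))
  obtain ⟨x, hx, hsep⟩ := exists_separating hK hg
  set L := IntermediateField.adjoin k ({x} : Set K)
  have hL : IsFunctionField k L :=
    isFunctionField_intermediate hK L ⟨x, IntermediateField.mem_adjoin_simple_self k x, hx⟩
  haveI : FiniteDimensional L K := finite_adjoin hK hx
  let x' : L := ⟨x, IntermediateField.mem_adjoin_simple_self k x⟩
  have hx'top : IntermediateField.adjoin k ({x'} : Set L) = ⊤ := by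
    refine IntermediateField.map_injective L.val ?_
    rw [IntermediateField.adjoin_map, Set.image_singleton, ← AlgHom.fieldRange_eq_map, IntermediateField.fieldRange_val]
    rfl
  obtain ⟨α, hα⟩ := Field.exists_primitive_element L K
  have hint : IsIntegral L α := IsIntegral.of_finite L α
  let pb : PowerBasis L K := (IntermediateField.adjoin.powerBasis hint).map
    ((IntermediateField.equivOfEq hα).trans IntermediateField.topEquiv)
  have hgen : pb.gen = α := rfl
  set g := minpoly L α
  have hg' : Polynomial.aeval α (Polynomial.derivative g) ≠ 0 :=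
    (Algebra.IsSeparable.isSeparable L α).aeval_derivative_ne_zero (minpoly.aeval L α)
  have hdet0 : (Algebra.traceMatrix L pb.basis).det ≠ 0 := det_traceMatrix_ne_zero' pb
  -- the finitely many bad places below
  set bad : Set (Place k L) := {P | P.1 (Algebra.traceMatrix L pb.basis).det ≠ 1} ∪
    (⋃ i ∈ g.support, {P | 1 < P.1 (g.coeff i)}) ∪
    {P | ∃ Q : Place k K, IsOver Q P ∧ (1 < Q.1 α ∨ Q.1 (Polynomial.aeval α (Polynomial.derivative g)) ≠ 1)}
  have hbad : bad.Finite := by
    refine ((((finite_support hL (Algebra.traceMatrix L pb.basis).det).subset fun P hP => ?_)).union (Set.Finite.biUnion (Finset.finite_toSet _)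
      fun i _ => (finite_support hL (g.coeff i)).subset fun P hP => ?_)).union ?_
    · show P.ord _ ≠ 0
      intro h0
      exact hP (by rw [val_eq_exp P hdet0, h0, neg_zero, exp_zero])
    · show P.ord _ ≠ 0
      intro h0
      have hne : g.coeff i ≠ 0 := fun e => by
        rw [Set.mem_setOf_eq, e, map_zero] at hP; exact not_lt_zero hP
      rw [Set.mem_setOf_eq, val_eq_exp P hne, h0, neg_zero, exp_zero] at hP
      exact lt_irrefl _ hP
    · refine (((finite_support hK α).union (finite_support hK (Polynomial.aeval α (Polynomial.derivative g)))).biUnion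
        fun Q _ => Set.Subsingleton.finite (s := {P : Place k L | IsOver Q P})
          fun P ⟨e, he⟩ P' ⟨e', he'⟩ => (IsOverWith.unique he he').1).subset ?_
      rintro P ⟨Q, hQ, h⟩
      refine Set.mem_biUnion (x := Q) ?_ hQ
      rcases h with h | h
      · left
        show Q.ord _ ≠ 0
        intro h0
        have hne : α ≠ 0 := fun e => by rw [e, map_zero] at h; exact not_lt_zero h
        rw [val_eq_exp Q hne, h0, neg_zero, exp_zero] at h
        exact lt_irrefl _ h
      · right
        show Q.ord _ ≠ 0
        intro h0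
        exact h (by rw [val_eq_exp Q hg', h0, neg_zero, exp_zero])
  -- the rational places below
  have hPc : ∀ c : k, ∃ P : Place k L, P.deg = 1 ∧ 0 < P.ord (x' - algebraMap k L c) := by
    intro c
    have h : IntermediateField.adjoin k ({(x' - algebraMap k L c)⁻¹} : Set L) = ⊤ := by
      rw [eq_top_iff, ← hx'top, IntermediateField.adjoin_simple_le_iff]
      have h1 : (x' - algebraMap k L c)⁻¹⁻¹ ∈ IntermediateField.adjoin k ({(x' - algebraMap k L c)⁻¹} : Set L) :=
        inv_mem (IntermediateField.mem_adjoin_simple_self k _)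
      rw [inv_inv] at h1
      simpa using add_mem h1 (IntermediateField.algebraMap_mem _ c)
    obtain ⟨-, -, P, hP, hord, -⟩ := rational_props hL h
    refine ⟨P, hP, ?_⟩
    rw [ord_inv] at hord
    omega
  choose P hPdeg hPord using hPc
  have hPinj : Function.Injective P := fun a b e => by
    by_contra hne
    have ha := hPord a
    have hb := hPord b
    rw [e] at ha
    have hne' : ∀ c : k, x' - algebraMap k L c ≠ 0 := fun c e0 => hx (by
      have : x = algebraMap k K c := congrArg Subtype.val (sub_eq_zero.1 e0)
      exact this ▸ isAlgebraic_algebraMap c)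
    rw [ord_pos_iff _ (hne' a)] at ha
    rw [ord_pos_iff _ (hne' b)] at hb
    have h1 : (P b).1 (algebraMap k L (b - a)) < 1 := by
      rw [map_sub, show algebraMap k L b - algebraMap k L a = (x' - algebraMap k L a) - (x' - algebraMap k L b) by ring]
      exact lt_of_le_of_lt (Valuation.map_sub _ _ _) (max_lt ha hb)
    rw [val_algebraMap _ (sub_ne_zero.2 (Ne.symm hne))] at h1
    exact lt_irrefl _ h1
  have hgood : ((Set.univ : Set k) \ P ⁻¹' bad).Infinite :=
    Set.infinite_univ.diff (hbad.preimage hPinj.injOn)
  choose Q hQ using fun c => exists_over (K' := K) hL (P c)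
  have hQinj : Function.Injective Q := fun a b e => hPinj (by
    obtain ⟨d, hd⟩ := hQ a
    obtain ⟨d', hd'⟩ := hQ b
    rw [← e] at hd'
    exact (IsOverWith.unique hd hd').1)
  refine (hgood.image hQinj.injOn).mono ?_
  rintro _ ⟨c, ⟨-, hc⟩, rfl⟩
  simp only [Set.mem_preimage, bad, Set.mem_union, Set.mem_iUnion, Set.mem_setOf_eq, not_or, not_exists, not_and,
    not_not, not_lt] at hc
  obtain ⟨⟨hdet, hcoef⟩, hQs⟩ := hc
  -- everything at `Q c`
  set P' := P c
  set Q' := Q c
  have hover : IsOver Q' P' := hQ c
  have hcoef' : ∀ i, P'.1 (g.coeff i) ≤ 1 := fun i => by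
    by_cases hi : i ∈ g.support
    · exact hcoef i hi
    · rw [Polynomial.notMem_support_iff.1 hi, map_zero]; exact zero_le
  have hbv : ∀ R : Place k K, IsOver R P' → ∀ i, R.1 (pb.basis i) ≤ 1 := fun R hR i => by
    rw [pb.basis_eq_pow, hgen, map_pow]
    exact pow_le_one' (hQs R hR).1 _
  haveI hfQ : @Module.Finite k (ResidueField Q'.O) _ _ Algebra.toModule := residue_finite hK Q'
  haveI hfP : @Module.Finite k (ResidueField P'.O) _ _ Algebra.toModule := residue_finite hL P'
  have hksurj : Function.Surjective (algebraMap k (ResidueField P'.O)) := by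
    intro r
    have h1 : Module.finrank k (ResidueField P'.O) = 1 := hPdeg c
    obtain ⟨d, hd⟩ := exists_smul_eq_of_finrank_eq_one h1 (one_ne_zero (α := ResidueField P'.O)) r
    exact ⟨d, by rw [← hd, Algebra.smul_def, mul_one]⟩
  have hlift : ∀ a : L, P'.1 a ≤ 1 → ∃ d : k, Q'.1 (algebraMap L K a - algebraMap k K d) < 1 := fun a ha => by
    obtain ⟨d, hd⟩ := hksurj (residue P'.O (⟨a, ha⟩ : P'.O))
    have h1 : P'.1 (a - algebraMap k L d) < 1 := by
      have h0 : residue P'.O ((⟨a, ha⟩ : P'.O) - algebraMap k P'.O d) = 0 := by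
        rw [map_sub, ← hd]; exact sub_self _
      rw [residue_eq_zero_iff, mem_maximalIdeal, mem_nonunits_iff] at h0
      exact (Valuation.Integer.not_isUnit_iff_valuation_lt_one (v := P'.1)
        (x := ((⟨a, ha⟩ : P'.O) - algebraMap k P'.O d : P'.O))).1 h0
    refine ⟨d, ?_⟩
    rw [IsScalarTower.algebraMap_apply k L K, ← map_sub]
    exact (val_lt_one_iff hover _).2 h1
  choose δ hδ using fun i => hlift (g.coeff i) (hcoef' i)
  set αO : Q'.O := ⟨α, (hQs Q' hover).1⟩
  set r : ResidueField Q'.O := residue Q'.O αO
  -- transport of polynomial values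
  have hres : ∀ (s : Finset ℕ) (a : ℕ → L) (d : ℕ → k), (∀ i, Q'.1 (algebraMap L K (a i) - algebraMap k K (d i)) < 1) →
      ∀ z : Q'.O, (z : K) = ∑ i ∈ s, algebraMap L K (a i) * α ^ i →
      residue Q'.O z = ∑ i ∈ s, algebraMap k (ResidueField Q'.O) (d i) * r ^ i := by
    intro s a d hd z hz
    have hw : residue Q'.O (∑ i ∈ s, algebraMap k Q'.O (d i) * αO ^ i) =
        ∑ i ∈ s, algebraMap k (ResidueField Q'.O) (d i) * r ^ i := by
      rw [map_sum]
      exact Finset.sum_congr rfl fun i _ => by rw [map_mul, map_pow]; rfl
    rw [← hw, ← sub_eq_zero, ← map_sub, residue_eq_zero_iff, mem_maximalIdeal, mem_nonunits_iff]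
    refine (Valuation.Integer.not_isUnit_iff_valuation_lt_one (v := Q'.1)
      (x := (z - ∑ i ∈ s, algebraMap k Q'.O (d i) * αO ^ i : Q'.O))).2 ?_
    show Q'.1 ((z : K) - Q'.O.subtype (∑ i ∈ s, algebraMap k Q'.O (d i) * αO ^ i)) < 1
    rw [hz, map_sum, ← Finset.sum_sub_distrib]
    refine Valuation.map_sum_lt _ one_ne_zero fun i _ => ?_
    rw [map_mul, map_pow, show Q'.O.subtype (algebraMap k Q'.O (d i)) = algebraMap k K (d i) from rfl,
      show Q'.O.subtype αO = α from rfl, ← sub_mul, map_mul, map_pow]
    exact (mul_le_mul' le_rfl (pow_le_one' (hQs Q' hover).1 i)).trans_lt (by rw [mul_one]; exact hd i)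
  set n := g.natDegree
  set gbar : Polynomial k := ∑ i ∈ Finset.range (n + 1), Polynomial.monomial i (δ i)
  have hgr : Polynomial.aeval r gbar = 0 := by
    rw [map_sum]
    simp only [Polynomial.aeval_monomial]
    rw [← hres (Finset.range (n + 1)) g.coeff δ hδ 0 (by
      rw [ZeroMemClass.coe_zero, ← minpoly.aeval L α, Polynomial.aeval_eq_sum_range]
      exact Finset.sum_congr rfl fun i _ => Algebra.smul_def _ _), map_zero]
  have hgder : Polynomial.aeval r (Polynomial.derivative gbar) ≠ 0 := by
    set zD : Q'.O := ⟨Polynomial.aeval α (Polynomial.derivative g), le_of_eq (hQs Q' hover).2⟩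
    have h1 : residue Q'.O zD = ∑ i ∈ Finset.range (n + 1),
        algebraMap k (ResidueField Q'.O) ((Polynomial.derivative gbar).coeff i) * r ^ i := by
      refine hres (Finset.range (n + 1)) (fun i => (Polynomial.derivative g).coeff i) _ (fun i => ?_) zD ?_
      · rw [Polynomial.coeff_derivative, Polynomial.coeff_derivative, map_mul, map_mul, map_add, map_add, map_natCast,
          map_natCast, map_one, map_one, ← sub_mul, map_mul]
        refine (mul_le_mul' le_rfl (show Q'.1 ((i : K) + 1) ≤ 1 from ?_)).trans_lt ?_
        · rw [← Nat.cast_one, ← Nat.cast_add, ← map_natCast (algebraMap k K)]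
          exact Q'.2.1 _
        rw [mul_one]
        by_cases hi : i + 1 ∈ Finset.range (n + 1)
        · have : gbar.coeff (i + 1) = δ (i + 1) := by
            simp only [gbar, Polynomial.finsetSum_coeff, Polynomial.coeff_monomial, Finset.sum_ite_eq', if_pos hi]
          rw [this]; exact hδ (i + 1)
        · have hi' : n < i + 1 := by rw [Finset.mem_range] at hi; omega
          have : gbar.coeff (i + 1) = 0 := by
            simp only [gbar, Polynomial.finsetSum_coeff, Polynomial.coeff_monomial, Finset.sum_ite_eq', if_neg hi]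
          rw [this, Polynomial.coeff_eq_zero_of_natDegree_lt hi', map_zero, map_zero, sub_zero, map_zero]
          exact zero_lt_one
      · show Polynomial.aeval α (Polynomial.derivative g) = _
        rw [Polynomial.aeval_eq_sum_range' (Nat.lt_succ_of_le ((Polynomial.natDegree_derivative_le g).trans (Nat.sub_le n 1)))]
        exact Finset.sum_congr rfl fun i _ => Algebra.smul_def _ _
    have hdegb : (Polynomial.derivative gbar).natDegree < n + 1 := by
      refine Nat.lt_succ_of_le (((Polynomial.natDegree_derivative_le gbar).trans (Nat.sub_le _ 1)).trans ?_)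
      refine Polynomial.natDegree_sum_le_of_forall_le _ _ fun i hi => (Polynomial.natDegree_monomial_le _).trans ?_
      rw [Finset.mem_range] at hi; omega
    rw [Polynomial.aeval_eq_sum_range' hdegb]
    simp only [Algebra.smul_def]
    rw [← h1, Ne, residue_eq_zero_iff, mem_maximalIdeal, mem_nonunits_iff]
    intro h0
    have h2 := (Valuation.Integer.not_isUnit_iff_valuation_lt_one (v := Q'.1) (x := zD)).1 h0
    rw [show Q'.1 (zD : K) = 1 from (hQs Q' hover).2] at h2
    exact lt_irrefl _ h2
  have hrsep : IsSeparable k r := by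
    have hrint : IsIntegral k r := IsIntegral.of_finite k r
    obtain ⟨h, hh⟩ := minpoly.dvd k r hgr
    refine (Polynomial.separable_iff_derivative_ne_zero (minpoly.irreducible hrint)).2 fun e => hgder ?_
    rw [hh, Polynomial.derivative_mul, e, zero_mul, zero_add, map_mul, minpoly.aeval, zero_mul]
  -- the residue field is generated by `r`
  have htop : IntermediateField.adjoin k ({r} : Set (ResidueField Q'.O)) = ⊤ := by
    refine top_le_iff.1 fun z _ => ?_
    obtain ⟨a, rfl⟩ := residue_surjective z
    obtain ⟨w, hw⟩ := exists_approx (placesOver hL K P') (fun R => if R = Q' then (a : K) else 0) (-1)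
    have hlt : exp (-1 : ℤ) < 1 := by rw [← exp_zero, exp_lt_exp]; omega
    have hwQ := hw Q' ((mem_placesOver hL).2 hover)
    rw [if_pos rfl] at hwQ
    have hwle : ∀ R, IsOver R P' → R.1 w ≤ 1 := fun R hR => by
      have h1 := hw R ((mem_placesOver hL).2 hR)
      by_cases hRQ : R = Q'
      · subst hRQ
        rw [← sub_add_cancel w (a : K)]
        exact (Valuation.map_add _ _ _).trans (max_le (hwQ.trans hlt.le) a.2)
      · rw [if_neg hRQ, sub_zero] at h1
        exact h1.trans hlt.le
    have hco := (coeff_of_disc hL pb.basis P' hbv hdet hwle).1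
    choose d hd using fun i => hlift _ (hco i)
    have hz : residue Q'.O a = ∑ i : Fin pb.dim, algebraMap k (ResidueField Q'.O) (d i) * r ^ (i : ℕ) := by
      have h1 : residue Q'.O a = residue Q'.O (⟨w, hwle Q' hover⟩ : Q'.O) := by
        rw [← sub_eq_zero, ← map_sub, residue_eq_zero_iff, mem_maximalIdeal, mem_nonunits_iff]
        refine (Valuation.Integer.not_isUnit_iff_valuation_lt_one (v := Q'.1)
          (x := (a - (⟨w, hwle Q' hover⟩ : Q'.O) : Q'.O))).2 ?_
        show Q'.1 ((a : K) - w) < 1
        rw [Valuation.map_sub_swap]; exact hwQ.trans_lt hlt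
      rw [h1, hres (Finset.range pb.dim) (fun i => if h : i < pb.dim then pb.basis.repr w ⟨i, h⟩ else 0)
        (fun i => if h : i < pb.dim then d ⟨i, h⟩ else 0) (fun i => ?_) ⟨w, hwle Q' hover⟩ ?_, ← Fin.sum_univ_eq_sum_range]
      · exact Finset.sum_congr rfl fun i _ => by rw [dif_pos i.2]
      · show w = _
        rw [← Fin.sum_univ_eq_sum_range]
        conv_lhs => rw [← pb.basis.sum_repr w]
        exact Finset.sum_congr rfl fun i _ => by
          rw [dif_pos i.2, pb.basis_eq_pow, hgen, Algebra.smul_def]
      · split_ifs with hi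
        · exact hd _
        · simp
    rw [hz]
    exact sum_mem fun i _ => mul_mem (IntermediateField.algebraMap_mem _ _)
      (pow_mem (IntermediateField.mem_adjoin_simple_self k r) _)
  show Algebra.IsSeparable k (ResidueField Q'.O)
  haveI := IntermediateField.isSeparable_adjoin_simple_iff_isSeparable (F := k) (x := r) |>.2 hrsep
  rw [htop] at this
  exact Algebra.IsSeparable.of_algHom k _ (IntermediateField.topEquiv (F := k) (E := ResidueField Q'.O)).symm.toAlgHom

end Groth.Agent.FunFld
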