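import Groth.Agent.FunFld.Extra
import Groth.Agent.FunFld.ConstExt
import Groth.Agent.FunFld.Ext.Fundamental
import Mathlib.FieldTheory.IsAlgClosed.AlgebraicClosure
import Mathlib.LinearAlgebra.Dual.Lemmas

/-! Constant extensions by algebraic extensions, fields of definition of places, splitting fields. -/

set_option autoImplicit false
set_option linter.style.haveILetI false
universe u v w

open WithZero _root_.FunFld TensorProduct Polynomial
open scoped TensorProduct

noncomputable section

attribute [-instance] IsLocalRing.instModuleResidueFieldOfAlgebra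

namespace Groth.Agent.FunFld

variable {k k' : Type u} {K : Type v} {K' : Type w} [Field k] [Field k'] [Field K] [Field K'] [Algebra k k']
  [Algebra k K] [Algebra K K'] [Algebra k' K'] [Algebra k K'] [IsScalarTower k k' K'] [IsScalarTower k K K']

theorem constExt_algebraic [Algebra.IsAlgebraic k k']
    (h : Function.Bijective (Algebra.TensorProduct.productMap (IsScalarTower.toAlgHom k k' K')
      (IsScalarTower.toAlgHom k K K')))
    {x : K} (hx : Transcendental k x) [FiniteDimensional (IntermediateField.adjoin k ({x} : Set K)) K] :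
    Transcendental k' (algebraMap K K' x) ∧
    FiniteDimensional (IntermediateField.adjoin k' ({algebraMap K K' x} : Set K')) K' ∧
    Module.finrank (IntermediateField.adjoin k' ({algebraMap K K' x} : Set K')) K' =
      Module.finrank (IntermediateField.adjoin k ({x} : Set K)) K := by
  classical
  set L := IntermediateField.adjoin k ({x} : Set K) with hL
  set x' := algebraMap K K' x with hx'
  set L' := IntermediateField.adjoin k' ({x'} : Set K') with hL'
  have hxt : Transcendental k' x' := fun halg =>
    ((transcendental_algebraMap_iff (algebraMap K K').injective).2 hx)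
      (isIntegral_trans x' halg.isIntegral).isAlgebraic
  set β := Module.Basis.ofVectorSpace k k'
  let b := Module.finBasis L K
  set Φ := Algebra.TensorProduct.productMap (IsScalarTower.toAlgHom k k' K') (IsScalarTower.toAlgHom k K K')
  have hΦ : ∀ (c : k') (a : K), Φ (c ⊗ₜ[k] a) = algebraMap k' K' c * algebraMap K K' a := fun c a => rfl
  have hli : LinearIndependent L' fun i => algebraMap K K' (b i) := by
    refine linearIndependent_adjoin hxt _ fun c g hcg => ?_
    set p : _ → k'[X] := fun i => C (c i) + X * g i with hp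
    have h1 : ∑ i, aeval x' (p i) * algebraMap K K' (b i) = 0 := by
      rw [← hcg, Finset.mul_sum, ← Finset.sum_add_distrib]
      refine Finset.sum_congr rfl fun i _ => ?_
      simp only [hp, map_add, map_mul, aeval_C, aeval_X, Algebra.smul_def]
      ring
    let T : k' ⊗[k] K := ∑ i, ∑ m ∈ Finset.range ((p i).natDegree + 1), (p i).coeff m ⊗ₜ[k] (x ^ m * b i)
    have hT : T = 0 := h.1 (by
      rw [map_zero, ← h1, map_sum]
      refine Finset.sum_congr rfl fun i _ => ?_
      rw [map_sum, aeval_eq_sum_range, Finset.sum_mul]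
      refine Finset.sum_congr rfl fun m _ => ?_
      rw [hΦ, map_mul, map_pow, Algebra.smul_def, mul_assoc])
    funext i
    refine β.ext_elem fun j => ?_
    let q : _ → k[X] := fun i => ∑ m ∈ Finset.range ((p i).natDegree + 1), monomial m (β.coord j ((p i).coeff m))
    have h2 : ∑ i, aeval x (q i) * b i = 0 := by
      have := congrArg (fun z => TensorProduct.lid k K (LinearMap.rTensor K (β.coord j) z)) hT
      simp only [T, map_sum, LinearMap.rTensor_tmul, TensorProduct.lid_tmul, map_zero] at this
      rw [← this]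
      refine Finset.sum_congr rfl fun i _ => ?_
      rw [map_sum, Finset.sum_mul]
      refine Finset.sum_congr rfl fun m _ => ?_
      rw [aeval_monomial, Algebra.smul_def, mul_assoc]
    have hmem : ∀ r : k[X], aeval x r ∈ L := fun r =>
      IntermediateField.algebra_adjoin_le_adjoin k _
        ((Algebra.adjoin_singleton_eq_range_aeval k x).ge ⟨r, rfl⟩)
    have h3 := Fintype.linearIndependent_iff.1 b.linearIndependent (fun i => ⟨_, hmem (q i)⟩) h2 i
    have h4 : q i = 0 := by
      by_contra hne
      exact hx ⟨q i, hne, congrArg Subtype.val h3⟩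
    have h5 := congrArg (fun r : k[X] => r.coeff 0) h4
    simp only [q, finsetSum_coeff, coeff_monomial, Finset.sum_ite_eq', Finset.mem_range, coeff_zero] at h5
    rw [if_pos (Nat.succ_pos _), hp] at h5
    simpa using h5
  have hmapL : ∀ a : K, a ∈ L → algebraMap K K' a ∈ L' := by
    intro a ha
    have hle : L.map (IsScalarTower.toAlgHom k K K') ≤ L'.restrictScalars k := by
      rw [hL, IntermediateField.adjoin_map, Set.image_singleton, IntermediateField.adjoin_simple_le_iff]
      exact IntermediateField.mem_adjoin_simple_self k' x'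
    exact hle ⟨a, ha, rfl⟩
  have hspan : ⊤ ≤ Submodule.span L' (Set.range fun i => algebraMap K K' (b i)) := by
    intro z _
    obtain ⟨u, rfl⟩ := h.2 z
    induction u using TensorProduct.induction_on with
    | zero => rw [map_zero]; exact zero_mem _
    | add a c ha hc => rw [map_add]; exact add_mem (ha trivial) (hc trivial)
    | tmul c a =>
      rw [hΦ, show algebraMap k' K' c * algebraMap K K' a =
        algebraMap k' L' c • algebraMap K K' a from (Algebra.smul_def (algebraMap k' L' c) _).symm]
      refine Submodule.smul_mem _ _ ?_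
      conv in algebraMap K K' a => rw [← b.sum_repr a]
      rw [map_sum]
      refine sum_mem fun i _ => ?_
      have : algebraMap K K' (b.repr a i • b i) = (⟨_, hmapL _ (b.repr a i).2⟩ : L') • algebraMap K K' (b i) := by
        rw [Algebra.smul_def, map_mul]; rfl
      rw [this]
      exact Submodule.smul_mem _ _ (Submodule.subset_span ⟨i, rfl⟩)
  let b' := Module.Basis.mk hli hspan
  exact ⟨hxt, Module.Finite.of_basis b', by rw [Module.finrank_eq_card_basis b', Fintype.card_fin]⟩

variable {kbar : Type u} {Kbar : Type w} [Field kbar] [Field Kbar] [Algebra k kbar] [Algebra K Kbar]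
  [Algebra kbar Kbar] [Algebra k Kbar] [IsScalarTower k kbar Kbar] [IsScalarTower k K Kbar]

theorem isFunctionField_algClosure [IsAlgClosed kbar] [Algebra.IsAlgebraic k kbar]
    (h : Function.Bijective (Algebra.TensorProduct.productMap (IsScalarTower.toAlgHom k kbar Kbar)
      (IsScalarTower.toAlgHom k K Kbar))) (hK : IsFunctionField k K) : IsFunctionField kbar Kbar := by
  obtain ⟨x, hx, hfin⟩ := hK.1
  obtain ⟨h1, h2, -⟩ := constExt_algebraic h hx
  exact ⟨⟨_, h1, h2⟩, fun y hy => minpoly.mem_range_of_degree_eq_one kbar y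
    (IsAlgClosed.degree_eq_one_of_irreducible kbar (minpoly.irreducible hy.isIntegral))⟩

theorem exists_coeffs (z : kbar ⊗[k] K) : ∃ S : Finset kbar, ∀ E : IntermediateField k kbar, (S : Set kbar) ⊆ E →
    z ∈ (Algebra.TensorProduct.map E.val (AlgHom.id k K)).range := by
  classical
  induction z using TensorProduct.induction_on with
  | zero => exact ⟨∅, fun E _ => zero_mem _⟩
  | tmul c a =>
    refine ⟨{c}, fun E hE => ⟨(⟨c, hE (by simp)⟩ : E) ⊗ₜ[k] a, ?_⟩⟩
    simp
  | add a c ha hc =>
    obtain ⟨S, hS⟩ := ha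
    obtain ⟨S', hS'⟩ := hc
    exact ⟨S ∪ S', fun E hE => add_mem (hS E fun y hy => hE (by simp [Finset.mem_coe.1 hy]))
      (hS' E fun y hy => hE (by simp [Finset.mem_coe.1 hy]))⟩

theorem finite_adjoin_finset [Algebra.IsAlgebraic k kbar] (S : Finset kbar) :
    FiniteDimensional k (IntermediateField.adjoin k (S : Set kbar)) := by
  haveI : Finite (S : Set kbar) := S.finite_toSet.to_subtype
  exact IntermediateField.finiteDimensional_adjoin fun c _ => Algebra.IsIntegral.isIntegral c

theorem place_defined_over_finite [IsAlgClosed kbar] [Algebra.IsAlgebraic k kbar]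
    (h : Function.Bijective (Algebra.TensorProduct.productMap (IsScalarTower.toAlgHom k kbar Kbar)
      (IsScalarTower.toAlgHom k K Kbar))) (hK : IsFunctionField k K) (Q : Place kbar Kbar) :
    ∃ E : IntermediateField k kbar, FiniteDimensional k E ∧
      (∃ z ∈ Algebra.adjoin K (Set.range fun c : E => algebraMap kbar Kbar c), Q.1 z = exp (-1)) ∧
      ∀ Q' : Place kbar Kbar,
        (∃ e : ℕ, ∀ z ∈ Algebra.adjoin K (Set.range fun c : E => algebraMap kbar Kbar c), Q'.1 z = Q.1 z ^ e) →
          Q' = Q := by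
  classical
  have hKbar := isFunctionField_algClosure h hK
  obtain ⟨z, hz⟩ := exists_val Q (-1)
  obtain ⟨w, hw, hw'⟩ := exists_single_zero hKbar Q
  obtain ⟨z', hz'⟩ := h.2 z
  obtain ⟨w', hw''⟩ := h.2 w
  obtain ⟨S, hS⟩ := exists_coeffs z'
  obtain ⟨S', hS'⟩ := exists_coeffs w'
  set E := IntermediateField.adjoin k ((S ∪ S' : Finset kbar) : Set kbar) with hE
  have hsub : ((S ∪ S' : Finset kbar) : Set kbar) ⊆ E := IntermediateField.subset_adjoin k _
  have hmem : ∀ u ∈ (Algebra.TensorProduct.map E.val (AlgHom.id k K)).range,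
      Algebra.TensorProduct.productMap (IsScalarTower.toAlgHom k kbar Kbar) (IsScalarTower.toAlgHom k K Kbar) u ∈
        Algebra.adjoin K (Set.range fun c : E => algebraMap kbar Kbar c) := by
    rintro _ ⟨u, rfl⟩
    induction u using TensorProduct.induction_on with
    | zero => simp only [map_zero]; exact zero_mem _
    | add a c ha hc => simp only [map_add]; exact add_mem ha hc
    | tmul c a =>
      exact mul_mem (Algebra.subset_adjoin ⟨c, rfl⟩) (Subalgebra.algebraMap_mem _ a)
  have hzE := hmem _ (hS E fun y hy => hsub (by simp [Finset.mem_coe.1 hy]))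
  have hwE := hmem _ (hS' E fun y hy => hsub (by simp [Finset.mem_coe.1 hy]))
  rw [hz'] at hzE
  rw [hw''] at hwE
  refine ⟨E, finite_adjoin_finset _, ⟨z, hzE, hz⟩, fun Q' hQ' => ?_⟩
  obtain ⟨e, he⟩ := hQ'
  have hw0 : w ≠ 0 := fun e0 => by rw [e0, ord_zero] at hw; exact lt_irrefl _ hw
  have he0 : e ≠ 0 := fun e0 => by
    have := he 0 (zero_mem _)
    simp [e0] at this
  by_contra hne
  have h1 : Q'.1 w < 1 := by
    rw [he w hwE]
    exact pow_lt_one₀ zero_le ((ord_pos_iff Q hw0).1 hw) he0
  exact absurd ((ord_pos_iff Q' hw0).2 h1) (not_lt.2 (hw' Q' hne))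

theorem isField_tensor_algebraic [Algebra.IsAlgebraic k kbar] (hg : IsGeometric k K) :
    IsField (kbar ⊗[k] K) := by
  classical
  haveI : Nontrivial (kbar ⊗[k] K) :=
    (Algebra.TensorProduct.includeRight_injective (R := k) (A := kbar) (B := K)
      (algebraMap k kbar).injective).nontrivial
  refine ⟨⟨0, 1, zero_ne_one⟩, mul_comm, fun {z} hz => ?_⟩
  obtain ⟨S, hS⟩ := exists_coeffs z
  set E := IntermediateField.adjoin k (S : Set kbar)
  haveI := finite_adjoin_finset (k := k) S
  obtain ⟨u, rfl⟩ := hS E (IntermediateField.subset_adjoin k _)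
  obtain ⟨u', hu'⟩ := (hg E inferInstance).mul_inv_cancel (a := u) fun e => hz (by rw [e]; exact map_zero _)
  refine ⟨Algebra.TensorProduct.map E.val (AlgHom.id k K) u', ?_⟩
  show Algebra.TensorProduct.map E.val (AlgHom.id k K) u * _ = 1
  rw [← map_mul, hu', map_one]

theorem exists_splitting {k : Type u} {K : Type v} [Field k] [Field K] [Algebra k K]
    (hK : IsFunctionField k K) (hg : IsGeometric k K) (P : Place k K) :
    ∃ (k' : Type u) (_ : Field k') (_ : Algebra k k'), FiniteDimensional k k' ∧
      ∀ (K' : Type v) [Field K'] [Algebra K K'] [Algebra k' K'] [Algebra k K']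
        [IsScalarTower k k' K'] [IsScalarTower k K K'],
        Function.Bijective (Algebra.TensorProduct.productMap
          (IsScalarTower.toAlgHom k k' K') (IsScalarTower.toAlgHom k K K')) →
        ∀ Q : Place k' K', (∀ a : K, P.1 a < 1 → Q.1 (algebraMap K K' a) < 1) → Q.deg = 1 := by
  classical
  obtain ⟨x, hx, -⟩ := exists_single_zero hK P
  have hx0 : x ≠ 0 := fun e => by rw [e, ord_zero] at hx; exact lt_irrefl _ hx
  have htr : Transcendental k x := mem_range_of_ord hK hx.ne'
  haveI := finite_adjoin hK htr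
  let kb := AlgebraicClosure k
  letI iF : Field (kb ⊗[k] K) := (isField_tensor_algebraic (k := k) (K := K) (kbar := kb) hg).toField
  letI : Algebra K (kb ⊗[k] K) :=
    (Algebra.TensorProduct.includeRight : K →ₐ[k] kb ⊗[k] K).toRingHom.toAlgebra
  haveI : IsScalarTower k K (kb ⊗[k] K) := IsScalarTower.of_algebraMap_eq fun c =>
    ((Algebra.TensorProduct.includeRight : K →ₐ[k] kb ⊗[k] K).commutes c).symm
  haveI : IsScalarTower k kb (kb ⊗[k] K) := IsScalarTower.of_algebraMap_eq fun _ => rfl
  have hid : ∀ u : kb ⊗[k] K, Algebra.TensorProduct.productMap (IsScalarTower.toAlgHom k kb (kb ⊗[k] K))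
      (IsScalarTower.toAlgHom k K (kb ⊗[k] K)) u = u := fun u => by
    induction u using TensorProduct.induction_on with
    | zero => exact map_zero _
    | add a c ha hc => rw [map_add, ha, hc]
    | tmul c a =>
      show (c ⊗ₜ[k] (1 : K)) * ((1 : kb) ⊗ₜ[k] a) = _
      rw [Algebra.TensorProduct.tmul_mul_tmul, mul_one, one_mul]
  have hb : Function.Bijective (Algebra.TensorProduct.productMap (IsScalarTower.toAlgHom k kb (kb ⊗[k] K))
      (IsScalarTower.toAlgHom k K (kb ⊗[k] K))) :=
    ⟨fun a c e => by rwa [hid, hid] at e, fun a => ⟨a, hid a⟩⟩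
  have hKb := isFunctionField_algClosure hb hK
  obtain ⟨htrb, -, hnb⟩ := constExt_algebraic hb htr
  set xb : kb ⊗[k] K := algebraMap K (kb ⊗[k] K) x
  set n := Module.finrank (IntermediateField.adjoin k ({x} : Set K)) K
  set Sb := {R ∈ (div kb xb).support | 0 < div kb xb R} with hSb
  have hmemS : ∀ R, R ∈ Sb ↔ 0 < R.ord xb := fun R => by
    rw [hSb, Finset.mem_filter, Finsupp.mem_support_iff, div_apply hKb]
    exact ⟨fun h => h.2, fun h => ⟨ne_of_gt h, h⟩⟩
  have hsumb : ∑ R ∈ Sb, R.ord xb = (n : ℤ) := by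
    have := zeros_sum hKb htrb
    rw [hnb] at this
    rw [← this]
    refine Finset.sum_congr rfl fun R _ => ?_
    rw [div_apply hKb, deg_eq_one hKb R, Nat.cast_one, mul_one]
  choose z hz using fun R : Place kb (kb ⊗[k] K) => exists_val R (-1)
  choose w hw hw' using fun R : Place kb (kb ⊗[k] K) => exists_single_zero hKb R
  choose cz hcz using fun R : Place kb (kb ⊗[k] K) => exists_coeffs (z R)
  choose cw hcw using fun R : Place kb (kb ⊗[k] K) => exists_coeffs (w R)
  set S := Sb.biUnion fun R => cz R ∪ cw R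
  set E := IntermediateField.adjoin k (S : Set kb)
  refine ⟨E, inferInstance, inferInstance, finite_adjoin_finset S, ?_⟩
  intro K' _ _ _ _ _ _ h Q hQ
  haveI := finite_adjoin_finset (k := k) S
  obtain ⟨hK', -⟩ := constExt (k := k) (k' := E) (K := K) (K' := K') h hK hg
  obtain ⟨htr', -, hn'⟩ := constExt_algebraic (k' := E) h htr
  let e := AlgEquiv.ofBijective _ h
  let j : K' →ₐ[k] kb ⊗[k] K := (Algebra.TensorProduct.map E.val (AlgHom.id k K)).comp e.symm.toAlgHom
  have hjE : ∀ c : E, j (algebraMap E K' c) = algebraMap kb (kb ⊗[k] K) (c : kb) := fun c => by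
    have h1 : e (c ⊗ₜ[k] (1 : K)) = algebraMap E K' c := by
      show algebraMap E K' c * algebraMap K K' 1 = _
      rw [map_one, mul_one]
    show Algebra.TensorProduct.map E.val (AlgHom.id k K) (e.symm (algebraMap E K' c)) = _
    rw [← h1, AlgEquiv.symm_apply_apply]
    rfl
  have hjK : ∀ a : K, j (algebraMap K K' a) = algebraMap K (kb ⊗[k] K) a := fun a => by
    have h1 : e ((1 : E) ⊗ₜ[k] a) = algebraMap K K' a := by
      show algebraMap E K' 1 * algebraMap K K' a = _
      rw [map_one, one_mul]
    show Algebra.TensorProduct.map E.val (AlgHom.id k K) (e.symm (algebraMap K K' a)) = _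
    rw [← h1, AlgEquiv.symm_apply_apply]
    rfl
  have hrange : ∀ u ∈ (Algebra.TensorProduct.map E.val (AlgHom.id k K)).range, ∃ y, j y = u := by
    rintro _ ⟨u, rfl⟩
    exact ⟨e u, by
      show Algebra.TensorProduct.map E.val (AlgHom.id k K) (e.symm (e u)) = _
      rw [AlgEquiv.symm_apply_apply]; rfl⟩
  have hsub : ∀ R ∈ Sb, (cz R : Set kb) ⊆ E ∧ (cw R : Set kb) ⊆ E := fun R hR => by
    constructor <;> intro c hc <;> refine IntermediateField.subset_adjoin k _ ?_ <;>
      exact Finset.mem_coe.2 (Finset.mem_biUnion.2 ⟨R, hR, by simp [Finset.mem_coe.1 hc]⟩)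
  have hres : ∀ R ∈ Sb, ∃ R₁ : Place E K', ∀ y, R₁.1 y = R.1 (j y) := by
    intro R hR
    obtain ⟨y, hy⟩ := hrange _ (hcz R E (hsub R hR).1)
    refine ⟨⟨R.1.comap j.toRingHom, fun c => ?_, fun v => ?_⟩, fun _ => rfl⟩
    · show R.1 (j (algebraMap E K' c)) ≤ 1
      rw [hjE]; exact R.2.1 _
    · rcases eq_or_ne v 0 with rfl | hv
      · exact ⟨0, map_zero _⟩
      · refine ⟨y ^ (-log v), ?_⟩
        show R.1 (j (y ^ (-log v))) = v
        rw [map_zpow₀, map_zpow₀, hy, hz, ← exp_zsmul, smul_eq_mul, neg_mul_neg, mul_one, exp_log hv]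
  choose res hres using fun R : Sb => hres R.1 R.2
  have hinj : Function.Injective res := fun R R' hRR' => by
    obtain ⟨y, hy⟩ := hrange _ (hcw R.1 E (hsub R.1 R.2).2)
    have hw0 : w R.1 ≠ 0 := fun e0 => by have := hw R.1; rw [e0, ord_zero] at this; exact lt_irrefl _ this
    have h1 : R'.1.1 (w R.1) < 1 := by
      rw [← hy, ← hres R' y, ← hRR', hres R y, hy]
      exact (ord_pos_iff R.1 hw0).1 (hw R.1)
    by_contra hne
    exact absurd ((ord_pos_iff R'.1 hw0).2 h1) (not_lt.2 (hw' R.1 R'.1 fun e => hne (Subtype.ext e.symm)))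
  set x' := algebraMap K K' x
  have hx'0 : x' ≠ 0 := (_root_.map_ne_zero _).2 hx0
  have hord : ∀ R : Sb, (res R).ord x' = R.1.ord xb := fun R => by
    rw [Place.ord, Place.ord, hres R x', hjK]
  have himg : ∀ R : Sb, (res R).1 x' < 1 := fun R => (ord_pos_iff _ hx'0).1 (by rw [hord]; exact (hmemS _).1 R.2)
  have hQx : Q.1 x' < 1 := hQ x ((ord_pos_iff P hx0).1 hx)
  set T := Finset.univ.image res
  have hle := sum_ord_mul_deg_le hK' htr' (insert Q T) fun R hR => by
    rcases Finset.mem_insert.1 hR with rfl | hR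
    · exact hQx
    · obtain ⟨R', -, rfl⟩ := Finset.mem_image.1 hR; exact himg R'
  rw [hn'] at hle
  have hTsum : ∑ R ∈ T, (R.ord x').toNat = n := by
    rw [Finset.sum_image fun a _ b _ hab => hinj hab]
    have : ((∑ R : Sb, ((res R).ord x').toNat : ℕ) : ℤ) = n := by
      rw [Nat.cast_sum, ← hsumb, ← Finset.sum_coe_sort Sb]
      exact Finset.sum_congr rfl fun R _ => by
        rw [hord, Int.toNat_of_nonneg ((hmemS _).1 R.2).le]
    exact_mod_cast this
  have hdpos := deg_pos hK'
  have hQo := (ord_pos_iff Q hx'0).2 hQx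
  by_cases hQT : Q ∈ T
  · rw [Finset.insert_eq_of_mem hQT] at hle
    have h2 : ∀ R ∈ T, (R.ord x').toNat ≤ (R.ord x').toNat * R.deg := fun R _ =>
      Nat.le_mul_of_pos_right _ (hdpos R)
    have h3 := (Finset.sum_eq_sum_iff_of_le h2).1 (le_antisymm (Finset.sum_le_sum h2) (by omega)) Q hQT
    exact Nat.eq_of_mul_eq_mul_left (show 0 < (Q.ord x').toNat by omega) (by rw [← h3, mul_one])
  · rw [Finset.sum_insert hQT] at hle
    have h2 : ∑ R ∈ T, (R.ord x').toNat ≤ ∑ R ∈ T, (R.ord x').toNat * R.deg :=
      Finset.sum_le_sum fun R _ => Nat.le_mul_of_pos_right _ (hdpos R)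
    have : 1 ≤ (Q.ord x').toNat * Q.deg := Nat.one_le_iff_ne_zero.2 (Nat.mul_ne_zero (by omega) (hdpos Q).ne')
    omega

end Groth.Agent.FunFld
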