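import Groth.Agent.FunFld.Ext.Galois
import Groth.Agent.FunFld.Weil
import Mathlib.FieldTheory.Finite.Basic
import Mathlib.Algebra.CharP.Lemmas

/-! Stepanov–Bombieri: an upper bound for twisted point counts. -/

namespace Groth.Agent.FunFld

open _root_.FunFld WithZero

set_option linter.style.haveILetI false

variable {k E : Type*} [Field k] [Field E] [Algebra k E]

/-- `σ` induces the `q`-power map on the residue field of `Q`. -/
def IsFrobAt (σ : E ≃ₐ[k] E) (Q : Place k E) : Prop :=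
  ∀ x : E, Q.1 x ≤ 1 → Q.1 (σ x - x ^ Nat.card k) < 1

theorem stepanov [Finite k] (hE : IsFunctionField k E) (σ : E ≃ₐ[k] E) {p b : ℕ} [hp : Fact p.Prime] [CharP k p]
    (hs : Nat.card k = (p ^ b) ^ 2) (hbig : (genus k E + 1) ^ 2 < p ^ b) {P₀ : Place k E} (hP₀ : P₀.deg = 1)
    (S : Finset (Place k E)) (hS : ∀ Q ∈ S, IsFrobAt σ Q) :
    ∑ Q ∈ S, Q.deg ≤ Nat.card k + (3 * genus k E + 2) * p ^ b := by
  classical
  set s := p ^ b with hsdef
  set g := genus k E with hg
  set q := Nat.card k with hq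
  have hs0 : 0 < s := pow_pos hp.out.pos _
  have hbig' : g * g + 2 * g + 1 < s := by ring_nf at hbig ⊢; omega
  haveI : CharP E p := charP_of_injective_algebraMap (algebraMap k E).injective p
  haveI := Fintype.ofFinite k
  -- the auxiliary functions
  set P₁ : Place k E := conjPlace (K := k) P₀ σ.symm with hP₁
  have hP₁d : P₁.deg = 1 := (deg_conjPlace (K := k) P₀ σ.symm).trans hP₀
  have hsingle : ∀ n : ℤ, Divisor.deg (Finsupp.single P₀ n : Divisor k E) = n := fun n => by
    rw [deg_single, hP₀, Nat.cast_one, mul_one]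
  have hell : ∀ n : ℤ, 2 * (g : ℤ) - 1 ≤ n → (ell (Finsupp.single P₀ n) : ℤ) = n + 1 - g := fun n hn => by
    rw [ell_eq_of_deg_ge hE (by rw [hsingle]; exact hn), hsingle]
  have hv : ∀ i : Fin (s + g + 2), ∃ v : E, v ∈ L (Finsupp.single P₀ ((2 * g + i : ℕ) : ℤ)) ∧
      P₀.1 v = exp ((2 * g + i : ℕ) : ℤ) := by
    intro i
    set n : ℤ := ((2 * g + i : ℕ) : ℤ) with hn
    have hne : ¬ L (Finsupp.single P₀ n) ≤ L (Finsupp.single P₀ (n - 1)) := fun h => by
      have := L_finite hE (Finsupp.single P₀ (n - 1))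
      have h1 : ell (Finsupp.single P₀ n) ≤ ell (Finsupp.single P₀ (n - 1)) := Submodule.finrank_mono h
      have h2 : (ell (Finsupp.single P₀ n) : ℤ) ≤ (ell (Finsupp.single P₀ (n - 1)) : ℤ) := by exact_mod_cast h1
      rw [hell n (by omega), hell (n - 1) (by omega)] at h2
      omega
    obtain ⟨v, hv, hv'⟩ := SetLike.not_le_iff_exists.1 hne
    refine ⟨v, hv, ?_⟩
    have hv0 : v ≠ 0 := fun e => hv' (e ▸ zero_mem _)
    have hle := hv P₀
    rw [Finsupp.single_eq_same, le_exp_iff P₀ hv0] at hle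
    rw [val_eq_exp P₀ hv0]
    congr 1
    by_contra hne2
    refine hv' fun R => ?_
    rcases eq_or_ne R P₀ with rfl | hR
    · rw [Finsupp.single_eq_same, le_exp_iff _ hv0]; omega
    · have := hv R
      rwa [Finsupp.single_eq_of_ne hR] at this ⊢
  choose v hvL hvP using hv
  set l : ℕ := s - 1 with hl
  set m : ℕ := 2 * g + (s + g + 1) with hm
  haveI := L_finite hE (Finsupp.single P₀ (l : ℤ))
  set t := Module.finBasis k (L (Finsupp.single P₀ (l : ℤ))) with ht
  set D : Divisor k E := Finsupp.single P₀ ((l * s : ℕ) : ℤ) + Finsupp.single P₁ (m : ℤ) with hD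
  have hmem : ∀ (i : Fin (s + g + 2)) (j), ((t j : E)) ^ s * σ (v i) ∈ L D := by
    intro i j R
    rw [hD, Finsupp.add_apply, exp_add, map_mul, map_pow]
    refine mul_le_mul' ?_ ?_
    · refine (pow_le_pow_left₀ zero_le ((t j).2 R) s).trans (le_of_eq ?_)
      rw [← exp_nsmul]
      congr 1
      rcases eq_or_ne R P₀ with rfl | hR
      · rw [Finsupp.single_eq_same, Finsupp.single_eq_same, nsmul_eq_mul]; push_cast; ring
      · rw [Finsupp.single_eq_of_ne hR, Finsupp.single_eq_of_ne hR, smul_zero]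
    · have h1 := hvL i (conjPlace (K := k) R σ)
      rw [conjPlace_apply] at h1
      refine h1.trans (exp_le_exp.2 ?_)
      rcases eq_or_ne R P₁ with rfl | hR
      · rw [Finsupp.single_eq_same]
        by_cases he : conjPlace (K := k) P₁ σ = P₀
        · rw [he, Finsupp.single_eq_same]; omega
        · rw [Finsupp.single_eq_of_ne he]; omega
      · rw [Finsupp.single_eq_of_ne hR, Finsupp.single_eq_of_ne]
        intro e
        refine hR (Subtype.ext (Valuation.ext fun x => ?_))
        rw [hP₁, conjPlace_apply, ← e, conjPlace_apply, σ.apply_symm_apply]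
  haveI := L_finite hE D
  have hcard : ¬ LinearIndependent k (fun x : Fin (s + g + 2) × Fin (Module.finrank k (L (Finsupp.single P₀ (l : ℤ)))) =>
      (⟨_, hmem x.1 x.2⟩ : L D)) := by
    intro h
    have h1 := h.fintype_card_le_finrank
    rw [Fintype.card_prod, Fintype.card_fin, Fintype.card_fin] at h1
    have h2 : ((s + g + 2) * ell (Finsupp.single P₀ (l : ℤ)) : ℤ) ≤ (ell D : ℤ) := by exact_mod_cast h1
    have hDdeg : D.deg = ((l * s + m : ℕ) : ℤ) := by
      rw [hD, deg_add, hsingle, deg_single, hP₁d]; push_cast; ring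
    rw [hell l (by omega), ell_eq_of_deg_ge hE (D := D) (by rw [hDdeg]; omega), hDdeg] at h2
    have hl' : (l : ℤ) = (s : ℤ) - 1 := by omega
    push_cast [hm] at h2
    rw [hl'] at h2
    nlinarith
  obtain ⟨c, hc, ⟨i₀, j₀⟩, hne⟩ := Fintype.not_linearIndependent_iff.1 hcard
  replace hc : ∑ x : Fin (s + g + 2) × _, c x • ((t x.2 : E) ^ s * σ (v x.1)) = 0 := by
    have := congrArg (fun z : L D => (z : E)) hc
    simpa using this
  let d := fun x => c x ^ s
  have hd : ∀ x, d x ^ s = c x := fun x => by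
    show (c x ^ s) ^ s = c x
    rw [← pow_mul, ← pow_two, ← hs, hq, Nat.card_eq_fintype_card, FiniteField.pow_card]
  let G : E := ∑ x, d x • ((t x.2 : E) * v x.1 ^ s)
  let Si : Fin (s + g + 2) → E := fun i => ∑ j, d (i, j) • (t j : E)
  have hG : G = ∑ i, Si i * v i ^ s := by
    simp only [G, Si, Fintype.sum_prod_type, Finset.sum_mul, smul_mul_assoc]
  have hSiL : ∀ i, Si i ∈ L (Finsupp.single P₀ (l : ℤ)) := fun i =>
    Submodule.sum_mem _ fun j _ => Submodule.smul_mem _ _ (t j).2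
  have hSi₀ : Si i₀ ≠ 0 := by
    intro e
    have hli : LinearIndependent k (fun j => (t j : E)) :=
      t.linearIndependent.map' (Submodule.subtype _) (Submodule.ker_subtype _)
    have := (Fintype.linearIndependent_iff.1 hli) _ e j₀
    exact hne (by rw [← hd, this, zero_pow hs0.ne'])
  have hordS : ∀ i, Si i ≠ 0 → ∃ a : ℤ, 0 ≤ a ∧ a ≤ l ∧ P₀.1 (Si i) = exp a := by
    intro i hi
    refine ⟨-P₀.ord (Si i), ?_, ?_, val_eq_exp P₀ hi⟩
    · by_contra hlt
      have hmem' : Si i ∈ L (Finsupp.single P₀ (-1 : ℤ)) := fun R => by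
        rcases eq_or_ne R P₀ with rfl | hR
        · rw [Finsupp.single_eq_same, le_exp_iff _ hi]; omega
        · have := hSiL i R
          rwa [Finsupp.single_eq_of_ne hR] at this ⊢
      rw [ell_eq_zero_of_deg_neg hE (by rw [hsingle]; omega)] at hmem'
      exact hi hmem'
    · have := hSiL i P₀
      rw [Finsupp.single_eq_same, le_exp_iff _ hi] at this
      omega
  have hG0 : G ≠ 0 := by
    obtain ⟨i₁, hi₁, hmax⟩ := Finset.exists_max_image (Finset.univ.filter fun i => Si i ≠ 0) (fun i => i)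
      ⟨i₀, by simp [hSi₀]⟩
    have hi₁' := (Finset.mem_filter.1 hi₁).2
    obtain ⟨a₁, ha₁, ha₁', e₁⟩ := hordS i₁ hi₁'
    have key := Valuation.map_sum_eq_of_lt P₀.1 (s := Finset.univ) (f := fun i => Si i * v i ^ s) (Finset.mem_univ i₁) ?_
    · intro e
      rw [hG] at e
      rw [e, map_zero, map_mul, map_pow, e₁, hvP, ← exp_nsmul, ← exp_add] at key
      exact exp_ne_zero key.symm
    · intro i hi
      rw [Finset.mem_sdiff, Finset.mem_singleton] at hi
      rw [map_mul, map_mul, map_pow, map_pow, e₁, hvP, hvP, ← exp_nsmul, ← exp_nsmul, ← exp_add]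
      rcases eq_or_ne (Si i) 0 with h0 | h0
      · rw [h0, map_zero, zero_mul]; exact exp_pos
      · obtain ⟨a, -, ha', e⟩ := hordS i h0
        have hlt : i < i₁ := lt_of_le_of_ne (hmax i (by simp [h0])) hi.2
        rw [e, ← exp_add, exp_lt_exp, nsmul_eq_mul, nsmul_eq_mul]
        have : (s : ℤ) * ((2 * g + i : ℕ) : ℤ) + s ≤ (s : ℤ) * ((2 * g + i₁ : ℕ) : ℤ) := by
          have : (s : ℤ) * (((2 * g + i : ℕ) : ℤ) + 1) ≤ (s : ℤ) * ((2 * g + i₁ : ℕ) : ℤ) :=
            mul_le_mul_of_nonneg_left (by have : (i : ℕ) < i₁ := hlt; omega) (by positivity)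
          linarith
        omega
  -- zeros
  have hzero : ∀ Q ∈ S, Q ≠ P₀ → Q.1 G < 1 := by
    intro Q hQ hne0
    have hGs : G ^ s = ∑ x, c x • ((t x.2 : E) ^ s * v x.1 ^ q) := by
      rw [show G ^ s = G ^ (p ^ b) from rfl, sum_pow_char_pow]
      refine Finset.sum_congr rfl fun x _ => ?_
      rw [smul_pow, ← hsdef, hd, mul_pow, ← pow_mul, hs, pow_two]
    have h1 : G ^ s = ∑ x, c x • ((t x.2 : E) ^ s * (v x.1 ^ q - σ (v x.1))) := by
      rw [hGs, ← sub_zero (∑ x, c x • ((t x.2 : E) ^ s * v x.1 ^ q)), ← hc, ← Finset.sum_sub_distrib]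
      exact Finset.sum_congr rfl fun x _ => by rw [← smul_sub, mul_sub]
    have h2 : Q.1 (G ^ s) < 1 := by
      rw [h1]
      refine Valuation.map_sum_lt _ one_ne_zero fun x _ => ?_
      refine (val_smul_le Q _ _).trans_lt ?_
      rw [map_mul, map_pow]
      have ht1 : Q.1 (t x.2 : E) ≤ 1 := by
        have := (t x.2).2 Q
        rwa [Finsupp.single_eq_of_ne hne0, exp_zero] at this
      have hv1 : Q.1 (v x.1) ≤ 1 := by
        have := hvL x.1 Q
        rwa [Finsupp.single_eq_of_ne hne0, exp_zero] at this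
      refine lt_of_le_of_lt (mul_le_mul' (pow_le_one₀ zero_le ht1) le_rfl) ?_
      rw [one_mul, Valuation.map_sub_swap]
      exact hS Q hQ _ hv1
    rw [map_pow] at h2
    exact (pow_lt_one_iff hs0.ne').1 h2
  set M : ℕ := l + s * m with hM
  have hGL : ∀ R, R.1 G ≤ exp (Finsupp.single P₀ (M : ℤ) R) := by
    intro R
    refine (show G ∈ L (Finsupp.single P₀ (M : ℤ)) from Submodule.sum_mem _ fun x _ => Submodule.smul_mem _ _ ?_) R
    intro R
    rw [map_mul, map_pow]
    refine (mul_le_mul' ((t x.2).2 R) (pow_le_pow_left₀ zero_le (hvL x.1 R) s)).trans ?_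
    rw [← exp_nsmul, ← exp_add, exp_le_exp]
    rcases eq_or_ne R P₀ with rfl | hR
    · simp only [Finsupp.single_eq_same, nsmul_eq_mul, hM]
      push_cast
      have : (x.1 : ℕ) ≤ s + g + 1 := by omega
      have : (s : ℤ) * (2 * g + (x.1 : ℕ)) ≤ (s : ℤ) * m := by
        refine mul_le_mul_of_nonneg_left ?_ (by positivity)
        rw [hm]; push_cast; omega
      linarith
    · simp only [Finsupp.single_eq_of_ne hR, smul_zero, add_zero, le_refl]
  have hsub : ∀ s' : Finset (Place k E),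
      Divisor.deg (∑ Q ∈ s', Finsupp.single Q (1 : ℤ)) = ((∑ Q ∈ s', Q.deg : ℕ) : ℤ) := by
    intro s'
    induction s' using Finset.induction_on with
    | empty => rw [Finset.sum_empty, Finset.sum_empty, deg_zero]; rfl
    | insert a s' ha ih => rw [Finset.sum_insert ha, Finset.sum_insert ha, deg_add, ih, deg_single]; push_cast; ring
  have hGdiv : G ∈ L (Finsupp.single P₀ (M : ℤ) - ∑ Q ∈ S.erase P₀, Finsupp.single Q (1 : ℤ)) := by
    intro R
    rw [Finsupp.sub_apply, Finsupp.finsetSum_apply]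
    by_cases hR : R ∈ S.erase P₀
    · rw [Finset.sum_eq_single R (fun Q _ h => Finsupp.single_eq_of_ne h.symm) (fun h => absurd hR h),
        Finsupp.single_eq_same, Finsupp.single_eq_of_ne (Finset.ne_of_mem_erase hR), zero_sub,
        ← lt_one_iff_le]
      exact hzero R (Finset.mem_of_mem_erase hR) (Finset.ne_of_mem_erase hR)
    · rw [Finset.sum_eq_zero (fun Q hQ => Finsupp.single_eq_of_ne (fun e => hR (by rw [e]; exact hQ))), sub_zero]
      exact hGL R
  have hdeg : (0 : ℤ) ≤ Divisor.deg (Finsupp.single P₀ (M : ℤ) - ∑ Q ∈ S.erase P₀, Finsupp.single Q (1 : ℤ) : Divisor k E) := by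
    by_contra h
    rw [ell_eq_zero_of_deg_neg hE (not_le.1 h)] at hGdiv
    exact hG0 hGdiv
  rw [deg_sub, hsingle, hsub] at hdeg
  have h3 : ∑ Q ∈ S, Q.deg ≤ (∑ Q ∈ S.erase P₀, Q.deg) + 1 := by
    by_cases h : P₀ ∈ S
    · rw [← Finset.sum_erase_add _ _ h, hP₀]
    · rw [Finset.erase_eq_of_notMem h]; omega
  have h4 : (∑ Q ∈ S.erase P₀, Q.deg) ≤ M := by omega
  have h5 : M + 1 = q + (3 * g + 2) * s := by
    rw [hM, hl, hm, hs, mul_add, pow_two]
    zify [show 1 ≤ s by omega]
    ring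
  omega

end Groth.Agent.FunFld
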