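import Groth.Agent.FunFld.CurveCrit
import Mathlib.Algebra.MvPolynomial.PDeriv
import Mathlib.RingTheory.MvPolynomial.EulerIdentity

/-! The Jacobian criterion for nonsingularity of the image curve of a projective map. -/

namespace Groth.Agent.FunFld

open _root_.FunFld WithZero IsLocalRing

open MvPolynomial in
/-- First order Taylor expansion. -/
theorem taylor_mem {k S : Type*} [CommRing k] [CommRing S] [Algebra k S] {σ : Type*} [Fintype σ]
    (b : σ → S) (c : σ → k) (W : MvPolynomial σ k) :
    aeval b W - algebraMap k S (eval c W) -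
        ∑ l, algebraMap k S (eval c (pderiv l W)) * (b l - algebraMap k S (c l)) ∈
      Ideal.span (Set.range fun l => b l - algebraMap k S (c l)) *
        Ideal.span (Set.range fun l => b l - algebraMap k S (c l)) := by
  classical
  set J := Ideal.span (Set.range fun l => b l - algebraMap k S (c l))
  induction W using MvPolynomial.induction_on with
  | C a => simp
  | add p q hp hq =>
    convert add_mem hp hq using 1
    simp only [map_add, add_mul, Finset.sum_add_distrib]
    ring
  | mul_X p i hp =>
    have hlin : ∑ l, algebraMap k S (eval c (pderiv l p)) * (b l - algebraMap k S (c l)) ∈ J :=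
      Ideal.sum_mem _ fun l _ => Ideal.mul_mem_left _ _ (Ideal.subset_span ⟨l, rfl⟩)
    have hi : b i - algebraMap k S (c i) ∈ J := Ideal.subset_span ⟨i, rfl⟩
    have hsum : ∑ l, algebraMap k S (eval c (pderiv l (p * X i))) * (b l - algebraMap k S (c l)) =
        (∑ l, algebraMap k S (eval c (pderiv l p)) * (b l - algebraMap k S (c l))) * algebraMap k S (c i) +
          algebraMap k S (eval c p) * (b i - algebraMap k S (c i)) := by
      simp only [pderiv_mul, map_add, map_mul, eval_X, add_mul, Finset.sum_add_distrib, Finset.sum_mul]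
      congr 1
      · exact Finset.sum_congr rfl fun l _ => by ring
      · rw [Finset.sum_eq_single i]
        · simp
        · intro l _ hl; simp [pderiv_X_of_ne (Ne.symm hl)]
        · simp
    convert add_mem (Ideal.mul_mem_right (b i) _ hp) (Ideal.mul_mem_mul hlin hi) using 1
    rw [map_mul, map_mul, eval_X, aeval_X, map_mul, hsum]
    ring

section

variable {k K : Type*} [Field k] [Field K] [Algebra k K] {n : ℕ} (j : Fin (n + 1))
  (c : Fin (n + 1) → k)

/-- The affine gradient at `c` in the chart `X j ≠ 0`. -/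
noncomputable def grad : MvPolynomial (Fin (n + 1)) k →ₗ[k] (Fin (n + 1) → k) where
  toFun W l := if l = j then 0 else MvPolynomial.eval c (MvPolynomial.pderiv l W)
  map_add' W W' := by ext l; by_cases hl : l = j <;> simp [hl]
  map_smul' a W := by ext l; by_cases hl : l = j <;> simp [hl, MvPolynomial.smul_eval]

theorem grad_apply (W : MvPolynomial (Fin (n + 1)) k) (l : Fin (n + 1)) :
    grad j c W l = if l = j then 0 else MvPolynomial.eval c (MvPolynomial.pderiv l W) := rfl

theorem grad_apply_self (W : MvPolynomial (Fin (n + 1)) k) : grad j c W j = 0 := by simp [grad_apply]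

theorem grad_mul (A B : MvPolynomial (Fin (n + 1)) k) :
    grad j c (A * B) = MvPolynomial.eval c B • grad j c A + MvPolynomial.eval c A • grad j c B := by
  ext l
  simp only [grad_apply, Pi.add_apply, Pi.smul_apply, MvPolynomial.pderiv_mul, map_add, map_mul,
    smul_eq_mul]
  split_ifs <;> ring

theorem grad_C (a : k) : grad j c (MvPolynomial.C a) = 0 := by
  ext l; simp [grad_apply]

theorem grad_X_sub (i : Fin (n + 1)) (hi : i ≠ j) (a : k) :
    grad j c (MvPolynomial.X i - MvPolynomial.C a) = Pi.single i 1 := by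
  rw [map_sub, grad_C, sub_zero]
  ext l
  rw [grad_apply]
  by_cases hl : l = i
  · subst hl; simp [hi]
  · by_cases hlj : l = j
    · simp [hlj, Ne.symm hi]
    · simp [hl, hlj, Ne.symm hl]

theorem grad_X_pow_self (e : ℕ) : grad j c (MvPolynomial.X j ^ e) = 0 := by
  ext l
  rw [grad_apply]
  by_cases hl : l = j
  · simp [hl]
  · simp [hl, MvPolynomial.pderiv_pow, MvPolynomial.pderiv_X_of_ne (Ne.symm hl)]

end

section

variable {k K : Type*} [Field k] [Field K] [Algebra k K] {n : ℕ} {φ : Fin (n + 1) → K}
  {P : Place k K} {j : Fin (n + 1)} {c : Fin (n + 1) → k}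

/-- The valuation estimate from the Taylor expansion. -/
theorem taylor_val (hc : ∀ i, P.1 (φ i / φ j - algebraMap k K (c i)) ≤ exp (-1))
    (W : MvPolynomial (Fin (n + 1)) k) :
    P.1 (MvPolynomial.aeval (fun i => φ i / φ j) W - algebraMap k K (MvPolynomial.eval c W) -
      ∑ l, algebraMap k K (MvPolynomial.eval c (MvPolynomial.pderiv l W)) *
        (φ l / φ j - algebraMap k K (c l))) ≤ exp (-2) := by
  classical
  have h1 : (exp (-1) : WithZero (Multiplicative ℤ)) ≤ 1 := by rw [← exp_zero, exp_le_exp]; omega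
  have hb : ∀ i, φ i / φ j ∈ valAlg P := fun i => by
    rw [mem_valAlg, ← sub_add_cancel (φ i / φ j) (algebraMap k K (c i))]
    exact (P.1.map_add _ _).trans (max_le ((hc i).trans h1) (P.2.1 _))
  let b : Fin (n + 1) → valAlg P := fun i => ⟨φ i / φ j, hb i⟩
  have h := taylor_mem b c W
  set J := Ideal.span (Set.range fun l => b l - algebraMap k (valAlg P) (c l))
  have hJ : ∀ x ∈ J, P.1 (x : K) ≤ exp (-1) := by
    intro x hx
    induction hx using Submodule.span_induction with
    | mem x hx => obtain ⟨i, rfl⟩ := hx; exact hc i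
    | zero => simp
    | add a a' _ _ ha ha' => exact (P.1.map_add _ _).trans (max_le ha ha')
    | smul a x _ hx =>
      show P.1 ((a : K) * (x : K)) ≤ _
      rw [map_mul]
      exact (mul_le_mul' a.2 hx).trans_eq (one_mul _)
  have hJ2 : ∀ x ∈ J * J, P.1 (x : K) ≤ exp (-2) := by
    intro x hx
    induction hx using Submodule.mul_induction_on' with
    | mem_mul_mem a ha a' ha' =>
      show P.1 ((a : K) * (a' : K)) ≤ _
      rw [map_mul, show (-2 : ℤ) = -1 + -1 by rfl, exp_add]
      exact mul_le_mul' (hJ a ha) (hJ a' ha')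
    | add a _ a' _ ha ha' => exact (P.1.map_add _ _).trans (max_le ha ha')
  have e : MvPolynomial.aeval (fun i => φ i / φ j) W = (valAlg P).val (MvPolynomial.aeval b W) := by
    rw [MvPolynomial.comp_aeval_apply]
    rfl
  have := hJ2 _ h
  simpa [e, b] using this

/-- The tangent linear form of a relation vanishes to order two. -/
theorem tangent_val (hc : ∀ i, P.1 (φ i / φ j - algebraMap k K (c i)) ≤ exp (-1))
    {W : MvPolynomial (Fin (n + 1)) k} (hW : MvPolynomial.aeval (fun i => φ i / φ j) W = 0)
    (hW0 : MvPolynomial.eval c W = 0) :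
    P.1 (∑ l, algebraMap k K (MvPolynomial.eval c (MvPolynomial.pderiv l W)) *
        (φ l / φ j - algebraMap k K (c l))) ≤ exp (-2) := by
  have h := taylor_val hc W
  rwa [hW, hW0, map_zero, sub_zero, zero_sub, Valuation.map_neg] at h

theorem eval_of_rel (hc : ∀ i, P.1 (φ i / φ j - algebraMap k K (c i)) ≤ exp (-1))
    (W : MvPolynomial (Fin (n + 1)) k) :
    P.1 (MvPolynomial.aeval (fun i => φ i / φ j) W - algebraMap k K (MvPolynomial.eval c W)) ≤
      exp (-1) := by
  have h := taylor_val hc W
  rw [← sub_add_cancel (MvPolynomial.aeval (fun i => φ i / φ j) W - algebraMap k K (MvPolynomial.eval c W))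
    (∑ l, algebraMap k K (MvPolynomial.eval c (MvPolynomial.pderiv l W)) *
      (φ l / φ j - algebraMap k K (c l)))]
  refine (P.1.map_add _ _).trans (max_le (h.trans (exp_le_exp.2 (by omega))) ?_)
  refine P.1.map_sum_le fun l _ => ?_
  rw [map_mul]
  exact (mul_le_mul' (P.2.1 _) (hc l)).trans_eq (one_mul _)

theorem eval_eq_zero_of_rel (hc : ∀ i, P.1 (φ i / φ j - algebraMap k K (c i)) ≤ exp (-1))
    {W : MvPolynomial (Fin (n + 1)) k} (h : P.1 (MvPolynomial.aeval (fun i => φ i / φ j) W) < 1) :
    MvPolynomial.eval c W = 0 := by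
  by_contra hne
  have h1 := val_eq_one_of_const ((eval_of_rel hc W).trans_lt
    (by rw [← exp_zero, exp_lt_exp]; omega)) hne
  exact h.ne h1

end

section

variable {k K : Type*} [Field k] [Field K] [Algebra k K] {n : ℕ}

theorem homogenise (φ : Fin (n + 1) → K) (j : Fin (n + 1)) (hj0 : φ j ≠ 0) (c : Fin (n + 1) → k)
    (hcj : c j = 1) (W : MvPolynomial (Fin (n + 1)) k) :
    ∃ H : MvPolynomial (Fin (n + 1)) k, H.IsHomogeneous W.totalDegree ∧
      MvPolynomial.aeval φ H = φ j ^ W.totalDegree * MvPolynomial.aeval (fun i => φ i / φ j) W ∧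
      grad j c H = grad j c W := by
  classical
  let H := ∑ m ∈ W.support,
    MvPolynomial.X j ^ (W.totalDegree - m.degree) * MvPolynomial.monomial m (W.coeff m)
  have hdeg : ∀ m ∈ W.support, m.degree ≤ W.totalDegree := fun m hm => by
    rw [Finsupp.degree_apply]; exact MvPolynomial.le_totalDegree hm
  refine ⟨H, ?_, ?_, ?_⟩
  · refine MvPolynomial.IsHomogeneous.sum _ _ _ fun m hm => ?_
    have h := (MvPolynomial.isHomogeneous_X_pow (R := k) j (W.totalDegree - m.degree)).mul
      (MvPolynomial.isHomogeneous_monomial (W.coeff m) (d := m) (n := m.degree) rfl)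
    rwa [Nat.sub_add_cancel (hdeg m hm)] at h
  · rw [show MvPolynomial.aeval (fun i => φ i / φ j) W = ∑ m ∈ W.support,
        MvPolynomial.aeval (fun i => φ i / φ j) (MvPolynomial.monomial m (W.coeff m)) by
      rw [← map_sum, ← W.as_sum], Finset.mul_sum]
    rw [map_sum]
    refine Finset.sum_congr rfl fun m hm => ?_
    rw [map_mul, map_pow, MvPolynomial.aeval_X, MvPolynomial.aeval_monomial, MvPolynomial.aeval_monomial,
      Finsupp.prod_fintype _ _ (fun _ => pow_zero _), Finsupp.prod_fintype _ _ (fun _ => pow_zero _)]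
    have e : ∏ i, φ i ^ m i = φ j ^ m.degree * ∏ i, (φ i / φ j) ^ m i := by
      rw [Finsupp.degree_eq_sum, ← Finset.prod_pow_eq_pow_sum, ← Finset.prod_mul_distrib]
      exact Finset.prod_congr rfl fun i _ => by rw [← mul_pow, mul_div_cancel₀ _ hj0]
    rw [e, mul_left_comm, ← mul_assoc (φ j ^ _) (φ j ^ _), ← pow_add, Nat.sub_add_cancel (hdeg m hm)]
    ring
  · conv_rhs => rw [W.as_sum, map_sum]
    rw [map_sum]
    refine Finset.sum_congr rfl fun m _ => ?_
    rw [grad_mul, grad_X_pow_self, smul_zero, zero_add, map_pow, MvPolynomial.eval_X, hcj, one_pow,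
      one_smul]

end

section

variable {k K : Type*} [Field k] [Field K] [Algebra k K] {n : ℕ}

/-- Nonsingularity of the image curve at a point in terms of the gradients of its equations. -/
theorem nonsingular_iff_finrank_grad (φ : Fin (n + 1) → K) (hφ : LinearIndependent k φ) (hn : 1 ≤ n)
    (hbir : IntermediateField.adjoin k (Set.range fun i => φ i / φ 0) = ⊤) (P : Place k K)
    (j : Fin (n + 1)) (hj : ∀ i, P.1 (φ i) ≤ P.1 (φ j)) (c : Fin (n + 1) → k)
    (hc : ∀ i, P.1 (φ i / φ j - algebraMap k K (c i)) ≤ exp (-1))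
    (F : Set (MvPolynomial (Fin (n + 1)) k))
    (hF : ∀ f ∈ F, MvPolynomial.aeval (fun i => φ i / φ j) f = 0)
    (hrel : ∀ (H : MvPolynomial (Fin (n + 1)) k) (D : ℕ), H.IsHomogeneous D →
      MvPolynomial.aeval φ H = 0 → H ∈ Ideal.span F) :
    IsNonsingularAt φ P ↔ Module.finrank k (Submodule.span k (grad j c '' F)) + 1 = n := by
  classical
  have h0 := fun i => hφ.ne_zero i
  have hb1 := fun i => ratio_val_le (P := P) (h0 j) hj i
  have hlt : (exp (-1) : WithZero (Multiplicative ℤ)) < 1 := by rw [← exp_zero, exp_lt_exp]; omega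
  have hcj : c j = 1 := by
    by_contra hne
    have h := hc j
    rw [div_self (h0 j), ← map_one (algebraMap k K), ← map_sub,
      val_algebraMap P (sub_ne_zero.2 (Ne.symm hne))] at h
    exact absurd h (not_le.2 hlt)
  set b : Fin (n + 1) → K := fun i => φ i / φ j with hb
  set V := Submodule.span k (grad j c '' F) with hV
  have hFc : ∀ f ∈ F, MvPolynomial.eval c f = 0 := fun f hf =>
    eval_eq_zero_of_rel hc (by rw [hF f hf]; simp)
  -- relations have gradient in `V`
  have hgrad : ∀ W, MvPolynomial.aeval b W = 0 → grad j c W ∈ V := by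
    intro W hW
    obtain ⟨H, hH1, hH2, hH3⟩ := homogenise φ j (h0 j) c hcj W
    rw [← hH3]
    have hHF := hrel H _ hH1 (by rw [hH2, hW, mul_zero])
    suffices H : ∀ x ∈ Ideal.span F, grad j c x ∈ V ∧ MvPolynomial.eval c x = 0 from (H _ hHF).1
    intro x hx
    induction hx using Submodule.span_induction with
    | mem x hx => exact ⟨Submodule.subset_span ⟨x, hx, rfl⟩, hFc x hx⟩
    | zero => simp
    | add a a' _ _ ha ha' => exact ⟨by rw [map_add]; exact add_mem ha.1 ha'.1, by simp [ha.2, ha'.2]⟩
    | smul a x _ hx =>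
      refine ⟨?_, by simp [hx.2]⟩
      rw [smul_eq_mul, grad_mul, hx.2, zero_smul, zero_add]
      exact V.smul_mem _ hx.1
  let Ej : Submodule k (Fin (n + 1) → k) := LinearMap.ker (LinearMap.proj j)
  have hEdim : Module.finrank k Ej = n := by
    have h := (LinearMap.proj (R := k) (φ := fun _ : Fin (n + 1) => k) j).finrank_range_add_finrank_ker
    rw [LinearMap.range_eq_top.2 (fun x => ⟨fun _ => x, rfl⟩), finrank_top, Module.finrank_self,
      Module.finrank_fin_fun] at h
    change Module.finrank k (LinearMap.ker (LinearMap.proj j)) = n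
    omega
  have hVE : V ≤ Ej := Submodule.span_le.2 (by rintro _ ⟨f, -, rfl⟩; exact grad_apply_self j c f)
  have hsingle : ∀ i, i ≠ j → (Pi.single i 1 : Fin (n + 1) → k) ∈ Ej := fun i hi => by
    show (Pi.single i 1 : Fin (n + 1) → k) j = 0
    simp [Ne.symm hi]
  have hEle : ∀ U : Submodule k (Fin (n + 1) → k),
      (∀ i, i ≠ j → (Pi.single i 1 : Fin (n + 1) → k) ∈ U) → Ej ≤ U := by
    intro U hU v hv
    rw [pi_eq_sum_univ' v]
    refine Submodule.sum_mem _ fun i _ => ?_
    by_cases hi : i = j
    · subst hi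
      rw [show v i = 0 from hv, zero_smul]
      exact zero_mem _
    · exact U.smul_mem _ (hU i hi)
  constructor
  · intro hns
    obtain ⟨t, ht⟩ := exists_val P (-1)
    have hloc : ∀ z, P.1 z ≤ 1 → ∃ U S : MvPolynomial (Fin (n + 1)) k,
        MvPolynomial.eval c S ≠ 0 ∧ z * MvPolynomial.aeval b S = MvPolynomial.aeval b U := by
      intro z hz
      obtain ⟨u, hu, w, hw, hw1, e⟩ := (inLocRing_iff (h0 j) hj).1 (hns z hz)
      rw [Algebra.adjoin_range_eq_range_aeval] at hu hw
      obtain ⟨U, rfl⟩ := hu
      obtain ⟨S, rfl⟩ := hw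
      exact ⟨U, S, val_const_ne_zero ((eval_of_rel hc S).trans_lt hlt) hw1, e⟩
    obtain ⟨T, S, hS, eT⟩ := hloc t (by rw [ht]; exact hlt.le)
    have hT0 : MvPolynomial.eval c T = 0 := eval_eq_zero_of_rel hc (by
      have h1 := val_eq_one_of_const ((eval_of_rel hc S).trans_lt hlt) hS
      show P.1 (MvPolynomial.aeval b T) < 1
      rw [← eT, map_mul, h1, mul_one, ht]; exact hlt)
    have ht0 : t ≠ 0 := fun e => by rw [e, map_zero] at ht; exact exp_ne_zero ht.symm
    have hone : ∀ i, i ≠ j →
        (Pi.single i 1 : Fin (n + 1) → k) ∈ V ⊔ Submodule.span k {grad j c T} := by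
      intro i hi
      obtain ⟨R, S', hS', eR⟩ := hloc ((b i - algebraMap k K (c i)) / t) (by
        rw [map_div₀, ht, div_le_one₀ exp_pos]; exact hc i)
      have hW : MvPolynomial.aeval b ((MvPolynomial.X i - MvPolynomial.C (c i)) * (S' * S) - R * T) = 0 := by
        simp only [map_sub, map_mul, MvPolynomial.aeval_X, MvPolynomial.aeval_C]
        rw [← eR, ← eT]
        field_simp
        ring
      have h := hgrad _ hW
      rw [map_sub, grad_mul, grad_mul j c R, hT0, zero_smul, zero_add, grad_X_sub j c i hi,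
        show MvPolynomial.eval c (MvPolynomial.X i - MvPolynomial.C (c i)) = 0 by simp, zero_smul,
        add_zero, map_mul] at h
      have h2 : MvPolynomial.eval c S' * MvPolynomial.eval c S ≠ 0 := mul_ne_zero hS' hS
      have e : (Pi.single i 1 : Fin (n + 1) → k) = (MvPolynomial.eval c S' * MvPolynomial.eval c S)⁻¹ •
          (((MvPolynomial.eval c S' * MvPolynomial.eval c S) • Pi.single i 1 -
            MvPolynomial.eval c R • grad j c T) + MvPolynomial.eval c R • grad j c T) := by
        rw [sub_add_cancel, inv_smul_smul₀ h2]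
      rw [e]
      exact Submodule.smul_mem _ _ (add_mem (Submodule.mem_sup_left h) (Submodule.smul_mem _ _
        (Submodule.mem_sup_right (Submodule.mem_span_singleton_self _))))
    have hup : n ≤ Module.finrank k V + 1 := by
      refine hEdim.symm.trans_le ?_
      refine (Submodule.finrank_mono (hEle _ hone)).trans ((Submodule.finrank_add_le_finrank_add_finrank _ _).trans ?_)
      exact Nat.add_le_add_left ((finrank_span_le_card _).trans (by simp)) _
    -- a tangent vector
    choose R S' hS' eR using fun i => hloc ((b i - algebraMap k K (c i)) / t) (by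
        rw [map_div₀, ht, div_le_one₀ exp_pos]; exact hc i)
    let lam : Fin (n + 1) → k := fun i => MvPolynomial.eval c (R i) / MvPolynomial.eval c (S' i)
    have hlam : ∀ i, P.1 (b i - algebraMap k K (c i) - algebraMap k K (lam i) * t) ≤ exp (-2) := by
      intro i
      have h1 := val_eq_one_of_const ((eval_of_rel hc (S' i)).trans_lt hlt) (hS' i)
      have h2 : P.1 ((b i - algebraMap k K (c i)) / t - algebraMap k K (lam i)) ≤ exp (-1) := by
        have e : ((b i - algebraMap k K (c i)) / t - algebraMap k K (lam i)) * MvPolynomial.aeval b (S' i) =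
            (MvPolynomial.aeval b (R i) - algebraMap k K (MvPolynomial.eval c (R i))) -
              algebraMap k K (lam i) *
                (MvPolynomial.aeval b (S' i) - algebraMap k K (MvPolynomial.eval c (S' i))) := by
          rw [sub_mul, eR i, mul_sub, ← map_mul, div_mul_cancel₀ _ (hS' i)]; ring
        have h := congrArg P.1 e
        rw [map_mul, h1, mul_one] at h
        rw [h]
        refine (P.1.map_sub _ _).trans (max_le (eval_of_rel hc _) ?_)
        rw [map_mul]
        exact (mul_le_mul' (P.2.1 _) (eval_of_rel hc _)).trans_eq (one_mul _)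
      have e : b i - algebraMap k K (c i) - algebraMap k K (lam i) * t =
          ((b i - algebraMap k K (c i)) / t - algebraMap k K (lam i)) * t := by
        rw [sub_mul, div_mul_cancel₀ _ ht0]
      rw [e, map_mul, ht, show (-2 : ℤ) = -1 + -1 by rfl, exp_add]
      exact mul_le_mul' h2 le_rfl
    let Λ : (Fin (n + 1) → k) →ₗ[k] k := ∑ l, lam l • LinearMap.proj l
    have hΛg : ∀ W, P.1 (∑ l, algebraMap k K (MvPolynomial.eval c (MvPolynomial.pderiv l W)) *
          (b l - algebraMap k K (c l)) - algebraMap k K (Λ (grad j c W)) * t) ≤ exp (-2) := by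
      intro W
      simp only [Λ, LinearMap.sum_apply, LinearMap.smul_apply, LinearMap.proj_apply, smul_eq_mul,
        map_sum, Finset.sum_mul, ← Finset.sum_sub_distrib, map_mul]
      refine P.1.map_sum_le fun l _ => ?_
      rw [grad_apply]
      split_ifs with hl
      · subst hl
        rw [map_zero, mul_zero, zero_mul, sub_zero, show b l = 1 from div_self (h0 l), hcj]
        simp
      · rw [mul_comm (algebraMap k K (lam l)), mul_assoc, ← mul_sub, map_mul]
        exact (mul_le_mul' (P.2.1 _) (hlam l)).trans_eq (one_mul _)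
    have hsmall : ∀ a : k, P.1 (algebraMap k K a * t) ≤ exp (-2) → a = 0 := fun a ha => by
      by_contra hne
      rw [map_mul, val_algebraMap P hne, one_mul, ht, exp_le_exp] at ha
      omega
    have hVΛ : V ≤ LinearMap.ker Λ := by
      refine Submodule.span_le.2 ?_
      rintro _ ⟨f, hf, rfl⟩
      refine hsmall _ ?_
      rw [← sub_sub_cancel (∑ l, algebraMap k K (MvPolynomial.eval c (MvPolynomial.pderiv l f)) *
          (b l - algebraMap k K (c l))) (algebraMap k K (Λ (grad j c f)) * t)]
      exact (P.1.map_sub _ _).trans (max_le (tangent_val hc (hF f hf) (hFc f hf)) (hΛg f))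
    have hTΛ : Λ (grad j c T) ≠ 0 := by
      intro hz
      have h1 := hΛg T
      rw [hz, map_zero, zero_mul, sub_zero] at h1
      have h2 := taylor_val hc T
      rw [hT0, map_zero, sub_zero] at h2
      have h3 : P.1 (MvPolynomial.aeval b T) ≤ exp (-2) := by
        rw [← sub_add_cancel (MvPolynomial.aeval b T) (∑ l, algebraMap k K (MvPolynomial.eval c
          (MvPolynomial.pderiv l T)) * (b l - algebraMap k K (c l)))]
        exact (P.1.map_add _ _).trans (max_le h2 h1)
      rw [← eT, map_mul, val_eq_one_of_const ((eval_of_rel hc S).trans_lt hlt) hS, mul_one, ht,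
        exp_le_exp] at h3
      omega
    have hlt' : V < Ej := lt_of_le_of_ne hVE fun e =>
      hTΛ (LinearMap.mem_ker.1 (hVΛ (e ▸ (grad_apply_self j c T : grad j c T ∈ Ej))))
    have := Submodule.finrank_lt_finrank_of_lt hlt'
    omega
  · intro hrank
    obtain ⟨i₀, hi₀, hi₀V⟩ : ∃ i, i ≠ j ∧ (Pi.single i 1 : Fin (n + 1) → k) ∉ V := by
      by_contra hcon
      push Not at hcon
      have := Submodule.finrank_mono (hEle V hcon)
      omega
    have hsup : V ⊔ Submodule.span k {(Pi.single i₀ 1 : Fin (n + 1) → k)} = Ej := by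
      have hle : V ⊔ Submodule.span k {(Pi.single i₀ 1 : Fin (n + 1) → k)} ≤ Ej :=
        sup_le hVE ((Submodule.span_singleton_le_iff_mem _ _).2 (hsingle i₀ hi₀))
      have hlt' : V < V ⊔ Submodule.span k {(Pi.single i₀ 1 : Fin (n + 1) → k)} :=
        lt_of_le_of_ne le_sup_left fun e => hi₀V (e ▸ Submodule.mem_sup_right (Submodule.mem_span_singleton_self _))
      have := Submodule.finrank_lt_finrank_of_lt hlt'
      exact Submodule.eq_of_le_of_finrank_le hle (by omega)
    let R := locRing b P
    have hbR : ∀ i, b i ∈ R := fun i => coord_mem_locRing i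
    let bR : Fin (n + 1) → R := fun i => ⟨b i, hbR i⟩
    let d : Fin (n + 1) → R := fun l => bR l - algebraMap k R (c l)
    let J : Ideal R := Ideal.span (Set.range d)
    have hval : ∀ W : MvPolynomial (Fin (n + 1)) k,
        ((MvPolynomial.aeval bR W : R) : K) = MvPolynomial.aeval b W := fun W => by
      show R.val (MvPolynomial.aeval bR W) = _
      rw [MvPolynomial.comp_aeval_apply]
      rfl
    have hd : ∀ x ∈ J, P.1 (x : K) < 1 := by
      intro x hx
      induction hx using Submodule.span_induction with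
      | mem x hx => obtain ⟨i, rfl⟩ := hx; exact (hc i).trans_lt hlt
      | zero => simp
      | add a a' _ _ ha ha' => exact (P.1.map_add _ _).trans_lt (max_lt ha ha')
      | smul a x _ hx =>
        show P.1 ((a : K) * (x : K)) < 1
        rw [map_mul]
        exact (mul_le_mul' (locRing_val_le hb1 a.2) le_rfl).trans_lt (by rwa [one_mul])
    have hunit : ∀ x : R, P.1 (x : K) = 1 → IsUnit x := fun x hx => by
      refine IsUnit.of_mul_eq_one (b := (⟨(x : K)⁻¹, inv_mem_locRing x.2 hx⟩ : R)) ?_
      ext
      exact mul_inv_cancel₀ fun e => by rw [e, map_zero] at hx; exact zero_ne_one hx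
    have hJbot : J ≤ (⊥ : Ideal R).jacobson := fun x hx => by
      rw [Ideal.mem_jacobson_bot]
      intro y
      refine hunit _ ?_
      rw [Subalgebra.coe_add, Subalgebra.coe_mul, Subalgebra.coe_one]
      refine P.1.map_add_eq_of_lt_right ?_ |>.trans (map_one _)
      rw [map_one, map_mul]
      exact (mul_le_mul' le_rfl (locRing_val_le hb1 y.2)).trans_lt (by rw [mul_one]; exact hd x hx)
    -- every coordinate difference is a multiple of one of them
    have hdj : d j = 0 := by
      ext
      show b j - algebraMap k K (c j) = 0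
      rw [hcj, show b j = 1 from div_self (h0 j), map_one, sub_self]
    have hkey : J ≤ Ideal.span {d i₀} ⊔ J * J := by
      refine Ideal.span_le.2 ?_
      rintro _ ⟨i, rfl⟩
      by_cases hi : i = j
      · subst hi; rw [hdj]; exact zero_mem _
      have hmem : (Pi.single i 1 : Fin (n + 1) → k) ∈ V ⊔ Submodule.span k {(Pi.single i₀ 1 : Fin (n + 1) → k)} :=
        hsup.symm ▸ hsingle i hi
      obtain ⟨v, hv, w, hw, hvw⟩ := Submodule.mem_sup.1 hmem
      obtain ⟨μ, rfl⟩ := Submodule.mem_span_singleton.1 hw
      rw [hV, ← Submodule.map_span] at hv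
      obtain ⟨W, hW, rfl⟩ := hv
      have hW1 : MvPolynomial.aeval b W = 0 ∧ MvPolynomial.eval c W = 0 := by
        clear hvw
        induction hW using Submodule.span_induction with
        | mem f hf => exact ⟨hF f hf, hFc f hf⟩
        | zero => simp
        | add a a' _ _ ha ha' => simp [ha.1, ha.2, ha'.1, ha'.2]
        | smul a x _ hx => simp [hx.1, hx.2, MvPolynomial.smul_eval]
      have h := taylor_mem bR c W
      rw [show MvPolynomial.aeval bR W = 0 from Subtype.ext ((hval W).trans hW1.1), hW1.2, map_zero,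
        sub_zero, zero_sub, neg_mem_iff] at h
      have e : ∑ l, algebraMap k R (MvPolynomial.eval c (MvPolynomial.pderiv l W)) * (bR l - algebraMap k R (c l)) =
          d i - algebraMap k R μ * d i₀ := by
        have e1 : ∀ l, algebraMap k R (MvPolynomial.eval c (MvPolynomial.pderiv l W)) * d l =
            algebraMap k R ((Pi.single i 1 - μ • Pi.single i₀ 1 : Fin (n + 1) → k) l) * d l := by
          intro l
          by_cases hl : l = j
          · subst hl; rw [hdj]; simp
          · rw [← eq_sub_of_add_eq hvw, grad_apply, if_neg hl]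
        rw [Finset.sum_congr rfl fun l _ => e1 l]
        simp [Pi.single_apply, sub_mul, Finset.sum_sub_distrib, apply_ite (algebraMap k R), ite_mul]
      rw [e] at h
      have := add_mem (Submodule.mem_sup_right h : d i - algebraMap k R μ * d i₀ ∈ Ideal.span {d i₀} ⊔ J * J)
        (Submodule.mem_sup_left (Ideal.mul_mem_left _ (algebraMap k R μ) (Ideal.mem_span_singleton_self _)))
      rwa [sub_add_cancel] at this
    have hJg : J ≤ Ideal.span {d i₀} :=
      Submodule.le_of_le_smul_of_le_jacobson_bot (Submodule.fg_span (Set.finite_range _)) hJbot hkey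
    have hmax : ∀ x : R, P.1 (x : K) < 1 → d i₀ ∣ x := by
      rintro ⟨x, u, hu, w, hw, hw1, e⟩ hx
      rw [Algebra.adjoin_range_eq_range_aeval] at hu hw
      obtain ⟨U, rfl⟩ := hu
      obtain ⟨S, rfl⟩ := hw
      have hU : MvPolynomial.eval c U = 0 := eval_eq_zero_of_rel hc (by
        show P.1 (MvPolynomial.aeval b U) < 1
        refine (congrArg P.1 e).symm.trans_lt ?_
        rw [map_mul, hw1, mul_one]
        exact hx)
      have h := taylor_mem bR c U
      rw [hU, map_zero, sub_zero] at h
      have h2 : MvPolynomial.aeval bR U ∈ J := by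
        have h3 := Ideal.mul_le_left (I := J) (J := J) h
        have h4 : ∑ l, algebraMap k R (MvPolynomial.eval c (MvPolynomial.pderiv l U)) *
            (bR l - algebraMap k R (c l)) ∈ J :=
          Ideal.sum_mem _ fun l _ => Ideal.mul_mem_left _ _ (Ideal.subset_span ⟨l, rfl⟩)
        simpa using add_mem h3 h4
      have h5 := Ideal.mem_span_singleton.1 (hJg h2)
      refine (IsUnit.dvd_mul_right (hunit (MvPolynomial.aeval bR S) ?_)).1 (h5.trans (dvd_of_eq ?_))
      · rw [hval]; exact hw1
      · ext
        show ((MvPolynomial.aeval bR U : R) : K) = x * ((MvPolynomial.aeval bR S : R) : K)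
        rw [hval, hval]; exact e.symm
    -- `g` generates
    have hg0 : (d i₀ : K) ≠ 0 := by
      intro e
      have hzero : ∀ i, b i = algebraMap k K (c i) := by
        intro i
        have := Ideal.mem_span_singleton.1 (hJg (Ideal.subset_span ⟨i, rfl⟩))
        rw [show d i₀ = 0 from Subtype.ext e, zero_dvd_iff] at this
        exact sub_eq_zero.1 (congrArg Subtype.val this)
      obtain ⟨i, hi⟩ : ∃ i, i ≠ j := ⟨i₀, hi₀⟩
      have h2 : φ i = c i • φ j := by
        rw [Algebra.smul_def, ← hzero i]
        exact (div_mul_cancel₀ _ (h0 j)).symm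
      have h3 := linearIndependent_iff'.1 hφ {i, j} (fun l => if l = i then 1 else - c i) (by
        rw [Finset.sum_pair hi, if_pos rfl, if_neg (Ne.symm hi), one_smul, neg_smul, ← h2, add_neg_cancel])
        i (by simp)
      simp at h3
    have hgval : P.1 (d i₀ : K) ≤ exp (-1) := hc i₀
    have hfac : ∀ (m : ℕ) (x : R), exp (-(m : ℤ)) ≤ P.1 (x : K) →
        ∃ (e : ℕ) (u : Rˣ), x = d i₀ ^ e * u := by
      intro m
      induction m with
      | zero =>
        intro x hx
        rw [Nat.cast_zero, neg_zero, exp_zero] at hx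
        exact ⟨0, (hunit x (le_antisymm (locRing_val_le hb1 x.2) hx)).unit, by simp⟩
      | succ m ih =>
        intro x hx
        rcases (locRing_val_le hb1 x.2).lt_or_eq with h | h
        · obtain ⟨y, rfl⟩ := hmax x h
          rw [Subalgebra.coe_mul, map_mul] at hx
          obtain ⟨e, u, rfl⟩ := ih y (by
            by_contra hcon
            push Not at hcon
            refine absurd hx (not_le.2 ((mul_le_mul' hgval le_rfl).trans_lt ?_))
            rw [show (-((m + 1 : ℕ) : ℤ)) = -1 + -(m : ℤ) by push_cast; ring, exp_add]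
            exact mul_lt_mul_of_pos_left hcon exp_pos)
          exact ⟨e + 1, u, by rw [pow_succ']; ring⟩
        · exact ⟨0, (hunit x h).unit, by simp⟩
    have hfac' : ∀ x : R, x ≠ 0 → ∃ (e : ℕ) (u : Rˣ), x = d i₀ ^ e * u := fun x hx => by
      refine hfac (P.ord (x : K)).toNat x ?_
      rw [val_eq_exp P (fun e => hx (Subtype.ext e)), exp_le_exp]
      have := Int.self_le_toNat (P.ord (x : K))
      omega
    intro z hz
    refine (inLocRing_iff (h0 j) hj).2 ?_
    show z ∈ R
    have htop : IntermediateField.adjoin k (Set.range b) = ⊤ := by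
      rw [eq_top_iff, ← hbir, IntermediateField.adjoin_le_iff]
      rintro _ ⟨i, rfl⟩
      show φ i / φ 0 ∈ IntermediateField.adjoin k (Set.range b)
      rw [show φ i / φ 0 = b i / b 0 from (div_div_div_cancel_right₀ (h0 j) _ _).symm]
      exact div_mem (IntermediateField.subset_adjoin k _ ⟨i, rfl⟩)
        (IntermediateField.subset_adjoin k _ ⟨0, rfl⟩)
    have hzmem : z ∈ IntermediateField.adjoin k (Set.range b) := by rw [htop]; trivial
    obtain ⟨A, hA, B, hB, rfl⟩ := IntermediateField.mem_adjoin_iff_div.1 hzmem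
    rcases eq_or_ne A 0 with rfl | hA0
    · simp
    rcases eq_or_ne B 0 with rfl | hB0
    · simp
    obtain ⟨e₁, u₁, h₁⟩ := hfac' ⟨A, mem_locRing_of_adjoin hA⟩ (fun e => hA0 (congrArg Subtype.val e))
    obtain ⟨e₂, u₂, h₂⟩ := hfac' ⟨B, mem_locRing_of_adjoin hB⟩ (fun e => hB0 (congrArg Subtype.val e))
    have hA' : A = (d i₀ : K) ^ e₁ * ((u₁ : R) : K) := congrArg Subtype.val h₁
    have hB' : B = (d i₀ : K) ^ e₂ * ((u₂ : R) : K) := congrArg Subtype.val h₂
    have hu : ∀ u : Rˣ, P.1 ((u : R) : K) = 1 := fun u => by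
      refine le_antisymm (locRing_val_le hb1 (u : R).2) ?_
      have h := mul_le_mul' (le_refl (P.1 ((u : R) : K))) (locRing_val_le hb1 ((↑u⁻¹ : R)).2)
      rwa [mul_one, ← map_mul, ← Subalgebra.coe_mul, Units.mul_inv, Subalgebra.coe_one, map_one] at h
    rcases le_or_gt e₂ e₁ with he | he
    · obtain ⟨e, rfl⟩ := Nat.exists_eq_add_of_le he
      have : A / B = (d i₀ : K) ^ e * ((u₁ : R) : K) / ((u₂ : R) : K) := by
        rw [hA', hB', pow_add]
        field_simp
      rw [this]
      exact mul_inv_mem_locRing (mul_mem (pow_mem (d i₀).2 e) (u₁ : R).2) (u₂ : R).2 (hu u₂)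
    · exfalso
      rw [hA', hB', map_div₀, map_mul, map_mul, hu, hu, mul_one, mul_one, map_pow, map_pow,
        div_le_one₀ (pow_pos (zero_lt_iff.2 (P.1.ne_zero_iff.2 hg0)) _)] at hz
      exact absurd hz (not_le.2 (pow_lt_pow_right_of_lt_one₀ (zero_lt_iff.2 (P.1.ne_zero_iff.2 hg0))
        (hgval.trans_lt hlt) he))

end

end Groth.Agent.FunFld
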