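import Groth.Agent.FunFld.CurveCrit

/-! Vanishing conditions of a linear system at two places. -/

namespace Groth.Agent.FunFld

open _root_.FunFld WithZero

variable {k K : Type*} [Field k] [IsAlgClosed k] [Field K] [Algebra k K]

omit [IsAlgClosed k] in
theorem L_inf (D E : Divisor k K) : L D ⊓ L E = L (D ⊓ E) := by
  refine le_antisymm (fun z hz R => ?_) (le_inf (L_mono inf_le_left) (L_mono inf_le_right))
  rw [Finsupp.inf_apply]
  rcases le_total (D R) (E R) with h | h
  · rw [inf_eq_left.2 h]; exact hz.1 R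
  · rw [inf_eq_right.2 h]; exact hz.2 R

theorem vanish_step (hK : IsFunctionField k K) (V : Submodule k K) [FiniteDimensional k V] (D : Divisor k K)
    (R : Place k K) :
    Module.finrank k ↥(V ⊓ L D) ≤ Module.finrank k ↥(V ⊓ L (D - Finsupp.single R 1)) + 1 := by
  have := L_finite hK D
  have := L_finite hK (D - Finsupp.single R 1)
  have hle : L (D - Finsupp.single R 1) ≤ L D := L_mono (sub_le_self _ (Finsupp.single_nonneg.2 zero_le_one))
  have h1 := Submodule.finrank_sup_add_finrank_inf_eq (V ⊓ L D) (L (D - Finsupp.single R 1))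
  rw [inf_assoc, inf_eq_right.2 hle] at h1
  have h2 : Module.finrank k ↥((V ⊓ L D) ⊔ L (D - Finsupp.single R 1)) ≤ ell D :=
    Submodule.finrank_mono (sup_le inf_le_right hle)
  have h3 := (ell_add_single_le hK (D - Finsupp.single R 1) R).2
  rw [sub_add_cancel, deg_eq_one hK R] at h3
  rw [ell] at h2 h3
  rw [ell] at h3
  omega

theorem vanish_grid_iff (hK : IsFunctionField k K) (V : Submodule k K) [FiniteDimensional k V] (D : Divisor k K)
    (P Q : Place k K) (hPQ : P ≠ Q) (a b : ℤ) :
    let W := fun i j : ℤ => Module.finrank k ↥(V ⊓ L (D - Finsupp.single P i - Finsupp.single Q j))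
    ((2 ≤ W a (b - 1) ∨ 1 ≤ W a (b + 1)) ∧ (2 ≤ W (a - 1) b ∨ 1 ≤ W (a + 1) b)) ↔
      (1 ≤ W (a + 1) (b + 1) ∨ 3 ≤ W (a - 1) (b - 1) ∨ (1 ≤ W a (b + 1) ∧ 2 ≤ W (a - 1) b) ∨
        (1 ≤ W (a + 1) b ∧ 2 ≤ W a (b - 1))) := by
  classical
  intro W
  set M : ℤ → ℤ → Submodule k K := fun i j => V ⊓ L (D - Finsupp.single P i - Finsupp.single Q j)
  have hMfin : ∀ i j, FiniteDimensional k (M i j) := fun i j => Submodule.finiteDimensional_inf_left _ _
  have happ : ∀ (i j : ℤ) (R : Place k K), (D - Finsupp.single P i - Finsupp.single Q j : Divisor k K) R =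
      D R - (if R = P then i else 0) - (if R = Q then j else 0) := fun i j R => by
    simp [Finsupp.single_apply, eq_comm]
  have hmono : ∀ {i j i' j' : ℤ}, i ≤ i' → j ≤ j' → M i' j' ≤ M i j := fun {i j i' j'} hi hj =>
    inf_le_inf_left V (L_mono fun R => by rw [happ, happ]; split_ifs <;> omega)
  have hWmono : ∀ {i j i' j' : ℤ}, i ≤ i' → j ≤ j' → W i' j' ≤ W i j := fun hi hj =>
    Submodule.finrank_mono (hmono hi hj)
  have hinf : ∀ i j i' j' : ℤ, M i j ⊓ M i' j' = M (max i i') (max j j') := fun i j i' j' => by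
    show V ⊓ _ ⊓ (V ⊓ _) = V ⊓ _
    rw [inf_inf_inf_comm, inf_idem, L_inf]
    congr 2
    ext R
    simp only [Finsupp.inf_apply, happ]
    split_ifs with h1 h2 h2
    · exact absurd (h1.symm.trans h2) hPQ
    all_goals simp only [sub_zero]; first | omega | (simp only [inf_idem]) | (rw [min_def]; split_ifs <;> omega)
  have hsup : ∀ i j i' j' i'' j'' : ℤ, i'' ≤ i → i'' ≤ i' → j'' ≤ j → j'' ≤ j' →
      W i j + W i' j' ≤ W i'' j'' + W (max i i') (max j j') := fun i j i' j' i'' j'' h1 h2 h3 h4 => by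
    have h := Submodule.finrank_sup_add_finrank_inf_eq (M i j) (M i' j')
    rw [hinf] at h
    have := Submodule.finrank_mono (sup_le (hmono h1 h3) (hmono h2 h4) : M i j ⊔ M i' j' ≤ M i'' j'')
    exact h.symm.le.trans (Nat.add_le_add_right this _)
  have hstepP : ∀ i j, W i j ≤ W (i + 1) j + 1 := fun i j => by
    have h := vanish_step hK V (D - Finsupp.single P i - Finsupp.single Q j) P
    rwa [show D - Finsupp.single P i - Finsupp.single Q j - Finsupp.single P 1 =
      D - Finsupp.single P (i + 1) - Finsupp.single Q j by rw [Finsupp.single_add]; abel] at h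
  have hstepQ : ∀ i j, W i j ≤ W i (j + 1) + 1 := fun i j => by
    have h := vanish_step hK V (D - Finsupp.single P i - Finsupp.single Q j) Q
    rwa [show D - Finsupp.single P i - Finsupp.single Q j - Finsupp.single Q 1 =
      D - Finsupp.single P i - Finsupp.single Q (j + 1) by rw [Finsupp.single_add]; abel] at h
  have s1 := hstepP (a - 1) (b - 1)
  have s2 := hstepQ (a - 1) (b - 1)
  have s3 := hstepQ a b
  have s4 := hstepP a b
  have s5 := hsup a (b - 1) (a - 1) b (a - 1) (b - 1) (by omega) le_rfl le_rfl (by omega)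
  have s6 := hsup a (b + 1) (a + 1) b a b le_rfl (by omega) (by omega) le_rfl
  rw [max_eq_left (by omega : a - 1 ≤ a), max_eq_right (by omega : b - 1 ≤ b)] at s5
  rw [max_eq_right (by omega : a ≤ a + 1), max_eq_left (by omega : b ≤ b + 1)] at s6
  rw [sub_add_cancel] at s1 s2
  have m1 := hWmono (le_refl a) (by omega : b - 1 ≤ b)
  have m2 := hWmono (by omega : a - 1 ≤ a) (le_refl b)
  have m3 := hWmono (by omega : a ≤ a + 1) (le_refl (b + 1))
  have m4 := hWmono (le_refl (a + 1)) (by omega : b ≤ b + 1)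
  omega

end Groth.Agent.FunFld
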