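import Groth.Agent.FunFld.Extra
import Mathlib.LinearAlgebra.FiniteDimensional.Lemmas

/-! Function fields of genus one with a rational place. -/

namespace Groth.Agent.FunFld

open _root_.FunFld WithZero IsLocalRing Finset

variable {k K : Type*} [Field k] [Field K] [Algebra k K]

theorem linearIndependent_of_ord {ι : Type*} (P : Place k K) (z : ι → K) (hz : ∀ i, z i ≠ 0)
    (h : Function.Injective fun i => P.ord (z i)) : LinearIndependent k z := by
  classical
  rw [linearIndependent_iff']
  intro s c hc i hi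
  by_contra hne
  set t := s.filter fun j => c j ≠ 0
  have ht : t.Nonempty := ⟨i, Finset.mem_filter.2 ⟨hi, hne⟩⟩
  obtain ⟨m, hm, hmin⟩ := Finset.exists_min_image t (fun j => P.ord (z j)) ht
  have hcm : c m ≠ 0 := (Finset.mem_filter.1 hm).2
  have hlt : ∀ j ∈ s \ {m}, P.1 (c j • z j) < P.1 (c m • z m) := by
    intro j hj
    obtain ⟨hjs, hjm⟩ := Finset.mem_sdiff.1 hj
    rw [Finset.mem_singleton] at hjm
    rw [val_smul P hcm, val_eq_exp P (hz m)]
    rcases eq_or_ne (c j) 0 with h0 | h0
    · rw [h0, zero_smul, map_zero]; exact exp_pos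
    · rw [val_smul P h0, val_eq_exp P (hz j), exp_lt_exp]
      have h1 := hmin j (Finset.mem_filter.2 ⟨hjs, h0⟩)
      have h2 : P.ord (z j) ≠ P.ord (z m) := fun e => hjm (h e)
      omega
  have := Valuation.map_sum_eq_of_lt P.1 (f := fun j => c j • z j) (Finset.mem_filter.1 hm).1 hlt
  rw [hc, map_zero, val_smul P hcm] at this
  exact (hz m) ((map_eq_zero P.1).1 this.symm)

theorem pow_mem_L {D : Divisor k K} {x : K} (hx : x ∈ L D) : ∀ i : ℕ, x ^ i ∈ L (i • D) := by
  intro i P
  rw [map_pow, Finsupp.smul_apply, exp_nsmul]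
  exact pow_le_pow_left' (hx P) i

theorem mul_mem_L {D E : Divisor k K} {x y : K} (hx : x ∈ L D) (hy : y ∈ L E) : x * y ∈ L (D + E) := by
  intro P
  rw [map_mul, Finsupp.add_apply, exp_add]
  exact mul_le_mul' (hx P) (hy P)

theorem pow_mem_L_single {P : Place k K} {a : ℤ} {x : K} (hx : x ∈ L (Finsupp.single P a)) (i : ℕ) :
    x ^ i ∈ L (Finsupp.single P ((i : ℤ) * a)) := by
  have := pow_mem_L hx i
  rwa [Finsupp.smul_single, nsmul_eq_mul] at this

variable (hK : IsFunctionField k K)
include hK

theorem L_single_mono {P : Place k K} {a b : ℤ} (h : a ≤ b) :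
    L (Finsupp.single P a) ≤ L (Finsupp.single P b) :=
  L_mono (Finsupp.single_mono h)

variable {P : Place k K} (hP : P.deg = 1) (hg : genus k K = 1)
include hP hg

theorem ell_single_nat {n : ℕ} (hn : 1 ≤ n) : ell (Finsupp.single P (n : ℤ)) = n := by
  have := ell_eq_of_deg_ge hK (D := Finsupp.single P (n : ℤ)) (by rw [deg_single, hP, hg]; omega)
  rw [deg_single, hP, hg] at this
  omega

theorem exists_pole_order {n : ℕ} (hn : 2 ≤ n) :
    ∃ x : K, x ∈ L (Finsupp.single P (n : ℤ)) ∧ P.ord x = -n ∧ x ≠ 0 := by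
  have h1 := ell_single_nat hK hP hg (n := n) (by omega)
  have h2 := ell_single_nat hK hP hg (n := n - 1) (by omega)
  have hle : ¬ L (Finsupp.single P (n : ℤ)) ≤ L (Finsupp.single P ((n - 1 : ℕ) : ℤ)) := fun h => by
    have := L_finite hK (Finsupp.single P ((n - 1 : ℕ) : ℤ))
    have := Submodule.finrank_mono h
    rw [← ell, ← ell, h1, h2] at this
    omega
  obtain ⟨x, hx, hx'⟩ := SetLike.not_le_iff_exists.1 hle
  have hx0 : x ≠ 0 := fun e => hx' (e ▸ zero_mem _)
  refine ⟨x, hx, ?_, hx0⟩
  obtain ⟨Q, hQ⟩ := not_forall.1 hx'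
  have := hx Q
  rw [le_exp_iff Q hx0] at this hQ
  rcases eq_or_ne Q P with rfl | hne
  · rw [Finsupp.single_eq_same] at this hQ; omega
  · rw [Finsupp.single_eq_of_ne hne] at this hQ; omega

theorem basis_pole_two_three {f g : K} (hf : f ∈ L (Finsupp.single P 2)) (hf2 : P.ord f = -2)
    (hg' : g ∈ L (Finsupp.single P 3)) (hg3 : P.ord g = -3) {n : ℕ} (hn : 2 ≤ n) :
    LinearIndependent k
        (Sum.elim (fun i : Fin (n / 2 + 1) => f ^ (i : ℕ)) (fun i : Fin ((n - 1) / 2) => f ^ (i : ℕ) * g)) ∧
      Submodule.span k (Set.range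
        (Sum.elim (fun i : Fin (n / 2 + 1) => f ^ (i : ℕ)) (fun i : Fin ((n - 1) / 2) => f ^ (i : ℕ) * g))) =
        L (Finsupp.single P (n : ℤ)) := by
  have hf0 : f ≠ 0 := fun e => by rw [e, ord_zero] at hf2; omega
  have hg0 : g ≠ 0 := fun e => by rw [e, ord_zero] at hg3; omega
  set z := Sum.elim (fun i : Fin (n / 2 + 1) => f ^ (i : ℕ)) (fun i : Fin ((n - 1) / 2) => f ^ (i : ℕ) * g)
  have hord : ∀ i, P.ord (z i) = Sum.elim (fun i : Fin (n / 2 + 1) => -2 * (i : ℤ))
      (fun i : Fin ((n - 1) / 2) => -2 * (i : ℤ) - 3) i := by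
    rintro (i | i)
    · simp only [z, Sum.elim_inl, ord_pow, hf2]; ring
    · simp only [z, Sum.elim_inr, ord_mul P (pow_ne_zero _ hf0) hg0, ord_pow, hf2, hg3]; ring
  have hli : LinearIndependent k z := by
    refine linearIndependent_of_ord P z ?_ fun i j hij => ?_
    · rintro (i | i)
      · exact pow_ne_zero _ hf0
      · exact mul_ne_zero (pow_ne_zero _ hf0) hg0
    · simp only [hord] at hij
      rcases i with i | i <;> rcases j with j | j <;> simp only [Sum.elim_inl, Sum.elim_inr] at hij
      · exact congrArg Sum.inl (Fin.ext (by omega))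
      · omega
      · omega
      · exact congrArg Sum.inr (Fin.ext (by omega))
  refine ⟨hli, ?_⟩
  have hle : Submodule.span k (Set.range z) ≤ L (Finsupp.single P (n : ℤ)) := by
    rw [Submodule.span_le]
    rintro _ ⟨i | i, rfl⟩
    · refine L_single_mono hK ?_ (pow_mem_L_single hf i)
      have := i.2; omega
    · have := mul_mem_L (pow_mem_L_single hf i) hg'
      rw [← Finsupp.single_add] at this
      refine L_single_mono hK ?_ this
      have := i.2; omega
  haveI := L_finite hK (Finsupp.single P (n : ℤ))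
  refine Submodule.eq_of_le_of_finrank_le hle ?_
  rw [finrank_span_eq_card hli, ← ell, ell_single_nat hK hP hg (by omega), Fintype.card_sum,
    Fintype.card_fin, Fintype.card_fin]
  omega

theorem poles_eq_of_single {x : K} {n : ℕ} (hx : x ∈ L (Finsupp.single P (n : ℤ)))
    (ho : P.ord x = -n) (hx0 : x ≠ 0) : poles k x = Finsupp.single P (n : ℤ) := by
  refine Finsupp.ext fun Q => ?_
  rw [poles_apply hK]
  rcases eq_or_ne Q P with rfl | hne
  · rw [Finsupp.single_eq_same, ho]; omega
  · have := hx Q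
    rw [le_exp_iff Q hx0, Finsupp.single_eq_of_ne hne] at this
    rw [Finsupp.single_eq_of_ne hne]; omega

theorem finrank_of_single {x : K} {n : ℕ} (hn : 1 ≤ n) (hx : x ∈ L (Finsupp.single P (n : ℤ)))
    (ho : P.ord x = -n) (hx0 : x ≠ 0) :
    Module.finrank (IntermediateField.adjoin k ({x} : Set K)) K = n := by
  have htr : Transcendental k x := mem_range_of_ord hK (P := P) (by omega)
  have := deg_poles hK htr
  rw [poles_eq_of_single hK hP hg hx ho hx0, deg_single, hP] at this
  omega

theorem weierstrass_form :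
    ∃ x y : K, x ∈ L (Finsupp.single P 2) ∧ y ∈ L (Finsupp.single P 3) ∧
      P.ord x = -2 ∧ P.ord y = -3 ∧
      IntermediateField.adjoin k ({x, y} : Set K) = ⊤ ∧
      ∃ f g : Polynomial k, f.natDegree ≤ 1 ∧ g.natDegree = 3 ∧
        y ^ 2 + Polynomial.aeval x f * y + Polynomial.aeval x g = 0 := by
  classical
  obtain ⟨x, hx, hox, hx0⟩ := exists_pole_order hK hP hg (n := 2) le_rfl
  obtain ⟨y, hy, hoy, hy0⟩ := exists_pole_order hK hP hg (n := 3) (by omega)
  have hx2 : x ∈ L (Finsupp.single P 2) := hx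
  have hy3 : y ∈ L (Finsupp.single P 3) := hy
  refine ⟨x, y, hx2, hy3, hox, hoy, ?_, ?_⟩
  · set F := IntermediateField.adjoin k ({x, y} : Set K)
    have key : ∀ z ∈ F, Module.finrank F K ∣
        Module.finrank (IntermediateField.adjoin k ({z} : Set K)) K := fun z hz => by
      have hle : IntermediateField.adjoin k ({z} : Set K) ≤ F := IntermediateField.adjoin_simple_le_iff.2 hz
      letI := (IntermediateField.inclusion hle).toRingHom.toAlgebra
      haveI : IsScalarTower (IntermediateField.adjoin k ({z} : Set K)) F K :=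
        IsScalarTower.of_algebraMap_eq fun _ => rfl
      exact Dvd.intro_left _ (Module.finrank_mul_finrank _ F K)
    have d2 := key x (IntermediateField.subset_adjoin _ _ (Set.mem_insert _ _))
    have d3 := key y (IntermediateField.subset_adjoin _ _ (Set.mem_insert_of_mem _ rfl))
    rw [finrank_of_single hK hP hg (by omega) hx hox hx0] at d2
    rw [finrank_of_single hK hP hg (by omega) hy hoy hy0] at d3
    have h1 : Module.finrank F K = 1 := Nat.dvd_one.1 (by simpa using Nat.dvd_gcd d2 d3)
    rw [eq_top_iff]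
    intro z _
    obtain ⟨c, hc⟩ := (finrank_eq_one_iff_of_nonzero' (K := F) (1 : K) one_ne_zero).1 h1 z
    rw [← hc]
    exact mul_mem c.2 (one_mem _)
  · obtain ⟨-, hspan⟩ := basis_pole_two_three hK hP hg hx2 hox hy3 hoy (n := 6) (by omega)
    have hy2 : y ^ 2 ∈ L (Finsupp.single P ((6 : ℕ) : ℤ)) := pow_mem_L_single hy3 2
    rw [← hspan, Submodule.mem_span_range_iff_exists_fun] at hy2
    obtain ⟨c, hc⟩ := hy2
    let a : Fin 4 → k := fun i => c (Sum.inl i)
    let b : Fin 2 → k := fun i => c (Sum.inr i)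
    have hc' : a 0 • (1 : K) + a 1 • x + a 2 • x ^ 2 + a 3 • x ^ 3 + (b 0 • y + b 1 • (x * y)) = y ^ 2 := by
      rw [← hc, Fintype.sum_sum_type]
      show _ = (∑ i : Fin 4, a i • x ^ (i : ℕ)) + ∑ i : Fin 2, b i • (x ^ (i : ℕ) * y)
      simp [Fin.sum_univ_four, Fin.sum_univ_two]
    refine ⟨-(Polynomial.C (b 0) + Polynomial.C (b 1) * Polynomial.X),
      -(Polynomial.C (a 0) + Polynomial.C (a 1) * Polynomial.X + Polynomial.C (a 2) * Polynomial.X ^ 2
        + Polynomial.C (a 3) * Polynomial.X ^ 3), ?_, ?_, ?_⟩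
    · rw [Polynomial.natDegree_neg]; compute_degree
    · rw [Polynomial.natDegree_neg]
      have ha3 : a 3 ≠ 0 := by
        intro h0
        rw [h0, zero_smul, add_zero] at hc'
        have h5 : y ^ 2 ∈ L (Finsupp.single P 5) := by
          rw [← hc']
          have h0 : (1 : K) ∈ L (Finsupp.single P 5) :=
            L_single_mono hK (by omega) (pow_zero x ▸ pow_mem_L_single hx2 0)
          have h1 : x ∈ L (Finsupp.single P 5) := L_single_mono hK (by omega) hx2
          have h2 : x ^ 2 ∈ L (Finsupp.single P 5) := L_single_mono hK (by omega) (pow_mem_L_single hx2 2)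
          have h3 : y ∈ L (Finsupp.single P 5) := L_single_mono hK (by omega) hy3
          have h4 : x * y ∈ L (Finsupp.single P 5) := by
            have := mul_mem_L hx2 hy3
            rwa [← Finsupp.single_add] at this
          exact add_mem (add_mem (add_mem (Submodule.smul_mem _ _ h0) (Submodule.smul_mem _ _ h1))
            (Submodule.smul_mem _ _ h2)) (add_mem (Submodule.smul_mem _ _ h3) (Submodule.smul_mem _ _ h4))
        have := h5 P
        rw [le_exp_iff P (pow_ne_zero _ hy0), ord_pow, hoy, Finsupp.single_eq_same] at this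
        norm_num at this
      compute_degree!
    · simp only [map_neg, map_add, map_mul, map_pow, Polynomial.aeval_C, Polynomial.aeval_X]
      simp only [Algebra.smul_def, mul_one] at hc'
      linear_combination -hc'

end Groth.Agent.FunFld
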